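import Cfsg.Agent.Lib.Helper16.ZJ2
import Cfsg.Prelude.Def_Local

set_option autoImplicit false

namespace Cfsg.Agent.Lib.Helper16

namespace ZJ

open scoped commutatorElement

variable {G : Type*} [Group G]

/-! ### the `p'`-core -/

theorem card_sup_dvd' (H K : Subgroup G) [K.Normal] :
    Nat.card (H ⊔ K : Subgroup G) ∣ Nat.card K * Nat.card H := by
  have h1 : (⊥ : Subgroup G).relIndex K * K.relIndex (H ⊔ K) = (⊥ : Subgroup G).relIndex (H ⊔ K) :=
    Subgroup.relIndex_mul_relIndex _ _ _ bot_le le_sup_right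
  rw [Subgroup.relIndex_bot_left, Subgroup.relIndex_bot_left, Subgroup.relIndex_sup_right] at h1
  rw [← h1]
  exact Nat.mul_dvd_mul_left _ (Subgroup.relIndex_dvd_card _ _)

theorem pPrimeCore_card_coprime (p : ℕ) (X : Type*) [Group X] [Finite X] :
    (Nat.card (Cfsg.pPrimeCore p X)).Coprime p := by
  unfold Cfsg.pPrimeCore
  have hfin : Set.Finite {N : Subgroup X | N.Normal ∧ (Nat.card N).Coprime p} := Set.toFinite _
  suffices h : ∀ s : Set (Subgroup X), s.Finite → (∀ N ∈ s, N.Normal ∧ (Nat.card N).Coprime p) →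
      (sSup s).Normal ∧ (Nat.card (sSup s : Subgroup X)).Coprime p from
    (h _ hfin (fun N hN => hN)).2
  intro s hs
  induction s, hs using Set.Finite.induction_on with
  | empty =>
    intro _
    refine ⟨by rw [sSup_empty]; infer_instance, ?_⟩
    simp
  | insert ha hs ih =>
    rename_i a s
    intro h
    obtain ⟨ih1, ih2⟩ := ih (fun N hN => h N (Set.mem_insert_of_mem _ hN))
    obtain ⟨ha1, ha2⟩ := h a (Set.mem_insert _ _)
    rw [sSup_insert]
    have := ih1
    have := ha1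
    exact ⟨inferInstance, Nat.Coprime.coprime_dvd_left (card_sup_dvd' a (sSup s))
      (Nat.Coprime.mul_left ih2 ha2)⟩

theorem pgroup_inf_pPrimeCore [Finite G] {p : ℕ} [Fact p.Prime] {P : Subgroup G}
    (hP : IsPGroup p ↥P) : P ⊓ Cfsg.pPrimeCore p G = ⊥ := by
  apply disjoint_iff.mp
  apply Subgroup.disjoint_of_coprime_natCard
  obtain ⟨n, hn⟩ := hP.exists_card_eq
  rw [hn]
  exact Nat.Coprime.pow_left n (pPrimeCore_card_coprime p G).symm

/-! ### homomorphisms injective on a subgroup -/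

section injOn

variable {H : Type*} [Group H] (f : G →* H) {R : Subgroup G}

theorem injOn_of_inf_ker (hinj : R ⊓ f.ker = ⊥) {x y : G} (hx : x ∈ R) (hy : y ∈ R)
    (h : f x = f y) : x = y := by
  have h0 : x⁻¹ * y ∈ f.ker := by
    rw [MonoidHom.mem_ker, map_mul, map_inv, h, inv_mul_cancel]
  have h1 : x⁻¹ * y ∈ R ⊓ f.ker := ⟨R.mul_mem (R.inv_mem hx) hy, h0⟩
  rw [hinj, Subgroup.mem_bot] at h1
  exact (inv_mul_eq_one.mp h1)

theorem card_map_of_inf_ker (hinj : R ⊓ f.ker = ⊥) {U : Subgroup G} (hU : U ≤ R) :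
    Nat.card ↥(U.map f) = Nat.card ↥U := by
  have hi : Function.Injective (f.domRestrict U) := by
    intro x y hxy
    apply Subtype.ext
    exact injOn_of_inf_ker f hinj (hU x.2) (hU y.2) hxy
  rw [← MonoidHom.domRestrict_range]
  exact (Nat.card_congr (MonoidHom.ofInjective hi).toEquiv).symm

theorem map_comap_inf_of_le {U : Subgroup H} (hU : U ≤ R.map f) :
    (U.comap f ⊓ R).map f = U := by
  apply le_antisymm
  · rintro _ ⟨x, ⟨hx, _⟩, rfl⟩
    exact hx
  · intro u hu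
    obtain ⟨r, hr, rfl⟩ := hU hu
    exact ⟨r, ⟨hu, hr⟩, rfl⟩

theorem comm_of_map_comm (hinj : R ⊓ f.ker = ⊥) {U : Subgroup G} (hU : U ≤ R)
    (h : IsMulCommutative ↥(U.map f)) : IsMulCommutative ↥U := by
  refine ⟨⟨fun x y => ?_⟩⟩
  apply Subtype.ext
  have h1 := h.is_comm.comm ⟨f x.1, Subgroup.mem_map_of_mem f x.2⟩
    ⟨f y.1, Subgroup.mem_map_of_mem f y.2⟩
  have h2 : f (x.1 * y.1) = f (y.1 * x.1) := by
    rw [map_mul, map_mul]
    exact congrArg Subtype.val h1
  exact injOn_of_inf_ker f hinj (R.mul_mem (hU x.2) (hU y.2)) (R.mul_mem (hU y.2) (hU x.2)) h2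

theorem Fam_comm_map_iff [Finite G] (hinj : R ⊓ f.ker = ⊥) (U : Subgroup H) :
    U ∈ Fam (fun V : Subgroup H => IsMulCommutative ↥V) (R.map f) ↔
      ∃ U₀ ∈ Fam (fun V : Subgroup G => IsMulCommutative ↥V) R, U₀.map f = U := by
  constructor
  · rintro ⟨hUR, hUc, hmax⟩
    have hmap := map_comap_inf_of_le f hUR
    refine ⟨U.comap f ⊓ R, ⟨inf_le_right, ?_, ?_⟩, hmap⟩
    · apply comm_of_map_comm f hinj inf_le_right
      rw [hmap]; exact hUc
    · intro V₀ hV₀ hV₀c
      have h1 := hmax (V₀.map f) (Subgroup.map_mono hV₀) (by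
        have := hV₀c
        exact Subgroup.map_isMulCommutative V₀ f)
      rw [card_map_of_inf_ker f hinj hV₀] at h1
      rw [← card_map_of_inf_ker f hinj (inf_le_right : U.comap f ⊓ R ≤ R), hmap]
      exact h1
  · rintro ⟨U₀, ⟨hU₀R, hU₀c, hmax⟩, rfl⟩
    refine ⟨Subgroup.map_mono hU₀R, ?_, ?_⟩
    · have := hU₀c
      exact Subgroup.map_isMulCommutative U₀ f
    · intro V hV hVc
      have hmap := map_comap_inf_of_le f hV
      have hc : IsMulCommutative ↥(V.comap f ⊓ R) := by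
        apply comm_of_map_comm f hinj inf_le_right
        rw [hmap]; exact hVc
      have h1 := hmax _ inf_le_right hc
      rw [← card_map_of_inf_ker f hinj (inf_le_right : V.comap f ⊓ R ≤ R), hmap] at h1
      rw [card_map_of_inf_ker f hinj hU₀R]
      exact h1

theorem WW_comm_map [Finite G] (hinj : R ⊓ f.ker = ⊥) :
    (WW (fun V : Subgroup G => IsMulCommutative ↥V) R).map f =
      WW (fun V : Subgroup H => IsMulCommutative ↥V) (R.map f) := by
  apply le_antisymm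
  · apply le_WW
    intro U hU
    obtain ⟨U₀, hU₀, rfl⟩ := (Fam_comm_map_iff f hinj U).mp hU
    exact Subgroup.map_mono (WW_le_of_mem hU₀)
  · intro x hx
    obtain ⟨A₀, hA₀⟩ := Fam_nonempty (Q := fun V : Subgroup G => IsMulCommutative ↥V)
      (goodPred_comm (G := G)).bot R
    have hx' : ∀ U₀ ∈ Fam (fun V : Subgroup G => IsMulCommutative ↥V) R, x ∈ U₀.map f :=
      fun U₀ hU₀ => WW_le_of_mem ((Fam_comm_map_iff f hinj _).mpr ⟨U₀, hU₀, rfl⟩) hx
    obtain ⟨r, hr, rfl⟩ := hx' A₀ hA₀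
    have hrR : r ∈ R := hA₀.1 hr
    refine ⟨r, ?_, rfl⟩
    change r ∈ (sInf (Fam (fun V : Subgroup G => IsMulCommutative ↥V) R) : Subgroup G)
    rw [Subgroup.mem_sInf]
    intro U₀ hU₀
    obtain ⟨u, hu, hur⟩ := hx' U₀ hU₀
    have : u = r := injOn_of_inf_ker f hinj (hU₀.1 hu) hrR hur
    rw [← this]; exact hu

end injOn

/-! ### normal `p`-subgroups of a quotient -/

section quot

variable [Finite G] {p : ℕ} [Fact p.Prime]

/-- the preimage of a normal `p`-subgroup `V` of `G/C` is `(P ∩ M) C` -/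
theorem exists_mul_of_mem_comap (P : Sylow p G) (C : Subgroup G) [C.Normal]
    (V : Subgroup (G ⧸ C)) [V.Normal] (hV : IsPGroup p ↥V) {m : G}
    (hm : m ∈ V.comap (QuotientGroup.mk' C)) :
    ∃ y ∈ (P : Subgroup G) ⊓ V.comap (QuotientGroup.mk' C), ∃ c ∈ C, m = y * c := by
  have hm' : (QuotientGroup.mk' C m) ∈ V := hm
  have hsyl := hV.le_sylow_of_normal (P.mapSurjective (QuotientGroup.mk'_surjective C)) hm'
  rw [Sylow.coe_mapSurjective] at hsyl
  obtain ⟨x, hxP, hxm⟩ := hsyl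
  have hxL : x ∈ V.comap (QuotientGroup.mk' C) := by
    rw [Subgroup.mem_comap, hxm]; exact hm'
  have hxc : x⁻¹ * m ∈ C := QuotientGroup.eq.mp hxm
  exact ⟨x, ⟨hxP, hxL⟩, x⁻¹ * m, hxc, by group⟩

theorem factor_of_normal_pgroup (P : Sylow p G) (C : Subgroup G) [C.Normal]
    (V : Subgroup (G ⧸ C)) [V.Normal] (hV : IsPGroup p ↥V) (g : G) :
    ∃ n ∈ Subgroup.normalizer (((P : Subgroup G) ⊓ V.comap (QuotientGroup.mk' C) :
        Subgroup G) : Set G), ∃ c ∈ C, g = n * c := by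
  have : (V.comap (QuotientGroup.mk' C)).Normal := Subgroup.Normal.comap inferInstance _
  obtain ⟨n, hn, l, hl, rfl⟩ := frattini_inf_normal P (V.comap (QuotientGroup.mk' C)) g
  obtain ⟨y, hy, c, hc, rfl⟩ := exists_mul_of_mem_comap P C V hV hl
  exact ⟨n * y, Subgroup.mul_mem _ hn (Subgroup.le_normalizer hy), c, hc, by group⟩

/-- `p`-constraint gives `C(O_p) ≤ O_p` in `G / O_{p'}(G)` -/
theorem centralizer_pCore_quot_le (hc : Cfsg.IsPConstrained p G) :
    Subgroup.centralizer (Cfsg.pCore p (G ⧸ Cfsg.pPrimeCore p G) : Set (G ⧸ Cfsg.pPrimeCore p G)) ≤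
      Cfsg.pCore p (G ⧸ Cfsg.pPrimeCore p G) := by
  obtain ⟨P⟩ : Nonempty (Sylow p G) := inferInstance
  have hLn : (Cfsg.pPrimePCore p G).Normal := by
    unfold Cfsg.pPrimePCore
    exact Subgroup.Normal.comap inferInstance _
  intro xb hxb
  obtain ⟨x, rfl⟩ := QuotientGroup.mk_surjective xb
  obtain ⟨n, hn, k, hk, rfl⟩ := factor_of_normal_pgroup P (Cfsg.pPrimeCore p G)
    (Cfsg.pCore p (G ⧸ Cfsg.pPrimeCore p G)) (pCore_isPGroup p) x
  have hPK : (P : Subgroup G) ⊓ Cfsg.pPrimeCore p G = ⊥ := pgroup_inf_pPrimeCore P.2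
  -- `n` centralizes `P ∩ L`
  have hnc : n ∈ Subgroup.centralizer (((P : Subgroup G) ⊓ Cfsg.pPrimePCore p G : Subgroup G) :
      Set G) := by
    rw [Subgroup.mem_centralizer_iff]
    intro y hy
    have hy' : n * y * n⁻¹ ∈ (P : Subgroup G) ⊓ Cfsg.pPrimePCore p G :=
      (Subgroup.mem_normalizer_iff.mp hn y).mp hy
    have hyL : (QuotientGroup.mk' (Cfsg.pPrimeCore p G) y) ∈
        Cfsg.pCore p (G ⧸ Cfsg.pPrimeCore p G) := hy.2
    have hcomm := Subgroup.mem_centralizer_iff.mp hxb _ hyL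
    have hkk : (QuotientGroup.mk' (Cfsg.pPrimeCore p G) k) = 1 :=
      (QuotientGroup.eq_one_iff k).mpr hk
    have h1 : n * y * n⁻¹ * y⁻¹ ∈ Cfsg.pPrimeCore p G := by
      rw [← QuotientGroup.eq_one_iff]
      have e1 : ((n * k : G) : G ⧸ Cfsg.pPrimeCore p G) =
          (QuotientGroup.mk' (Cfsg.pPrimeCore p G) n) := by
        change (QuotientGroup.mk' (Cfsg.pPrimeCore p G) (n * k)) = _
        rw [map_mul, hkk, mul_one]
      rw [e1] at hcomm
      change (QuotientGroup.mk' (Cfsg.pPrimeCore p G) (n * y * n⁻¹ * y⁻¹)) = 1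
      rw [map_mul, map_mul, map_mul, map_inv, map_inv, ← hcomm]
      group
    have h2 : n * y * n⁻¹ * y⁻¹ ∈ (P : Subgroup G) ⊓ Cfsg.pPrimeCore p G :=
      ⟨Subgroup.mul_mem _ hy'.1 (Subgroup.inv_mem _ hy.1), h1⟩
    rw [hPK, Subgroup.mem_bot] at h2
    have : n * y * n⁻¹ = y := by
      have := mul_inv_eq_one.mp h2
      exact this
    calc y * n = (n * y * n⁻¹) * n := by rw [this]
      _ = n * y := by group
  -- `p`-constraint
  obtain ⟨P₀, hP₀⟩ := exists_sylow_inf_normal P (Cfsg.pPrimePCore p G)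
  have hcon := hc P₀
  rw [hP₀, Subgroup.subgroupOf_map_subtype] at hcon
  have hnL : n ∈ Cfsg.pPrimePCore p G := hcon hnc
  have hkL : k ∈ Cfsg.pPrimePCore p G := by
    change (QuotientGroup.mk' (Cfsg.pPrimeCore p G) k) ∈ Cfsg.pCore p (G ⧸ Cfsg.pPrimeCore p G)
    have hkk : (QuotientGroup.mk' (Cfsg.pPrimeCore p G) k) = 1 :=
      (QuotientGroup.eq_one_iff k).mpr hk
    rw [hkk]
    exact Subgroup.one_mem _
  exact Subgroup.mul_mem _ hnL hkL

end quot

/-! ### transport of stability to `G / O_{p'}(G)` -/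

theorem commutator_le_of_le {H₁ H₂ P : Subgroup G} (h1 : H₁ ≤ P) (h2 : H₂ ≤ P) :
    ⁅H₁, H₂⁆ ≤ P := by
  rw [Subgroup.commutator_le]
  intro x hx y hy
  rw [commutatorElement_def]
  exact P.mul_mem (P.mul_mem (P.mul_mem (h1 hx) (h2 hy)) (P.inv_mem (h1 hx))) (P.inv_mem (h2 hy))

/-- membership in `O_p(N_G(P₁)/C_G(P₁))` gives membership in `O_p(Ḡ/C(V))` when `V = π(P₁)` is
normal in `Ḡ` and `N_G(P₁)` covers `Ḡ` -/
theorem mem_pCore_quot_of_section {p : ℕ} {Gb : Type*} [Group Gb] (π : G →* Gb)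
    (P₁ : Subgroup G) (V : Subgroup Gb) [hVn : V.Normal] (hPV : P₁.map π = V)
    (hsurj : ∀ g : Gb, ∃ n ∈ Subgroup.normalizer (P₁ : Set G), π n = g)
    (x : ↥(Subgroup.normalizer (P₁ : Set G)))
    (hx : (QuotientGroup.mk (s := (Subgroup.centralizer (P₁ : Set G)).subgroupOf
        (Subgroup.normalizer (P₁ : Set G))) x) ∈
      Cfsg.pCore p (↥(Subgroup.normalizer (P₁ : Set G)) ⧸
        (Subgroup.centralizer (P₁ : Set G)).subgroupOf (Subgroup.normalizer (P₁ : Set G)))) :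
    (QuotientGroup.mk (π (x : G)) : Gb ⧸ Subgroup.centralizer (V : Set Gb)) ∈
      Cfsg.pCore p (Gb ⧸ Subgroup.centralizer (V : Set Gb)) := by
  have hCn : (Subgroup.centralizer (V : Set Gb)).Normal := Subgroup.normal_centralizer
  have HN : (Subgroup.centralizer (P₁ : Set G)).subgroupOf (Subgroup.normalizer (P₁ : Set G)) ≤
      ((QuotientGroup.mk' (Subgroup.centralizer (V : Set Gb))).comp
        (π.comp (Subgroup.normalizer (P₁ : Set G)).subtype)).ker := by
    intro c hc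
    rw [MonoidHom.mem_ker]
    change (QuotientGroup.mk' (Subgroup.centralizer (V : Set Gb))) (π (c : G)) = 1
    rw [QuotientGroup.mk'_apply, QuotientGroup.eq_one_iff, Subgroup.mem_centralizer_iff]
    intro v hv
    rw [SetLike.mem_coe, ← hPV] at hv
    obtain ⟨y, hy, rfl⟩ := hv
    have hc' : (c : G) ∈ Subgroup.centralizer (P₁ : Set G) := Subgroup.mem_subgroupOf.mp hc
    have := Subgroup.mem_centralizer_iff.mp hc' y hy
    rw [← map_mul, ← map_mul, this]
  set φ : ↥(Subgroup.normalizer (P₁ : Set G)) ⧸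
      (Subgroup.centralizer (P₁ : Set G)).subgroupOf (Subgroup.normalizer (P₁ : Set G)) →*
      Gb ⧸ Subgroup.centralizer (V : Set Gb) :=
    QuotientGroup.lift _ _ HN with hφ
  have hsurjφ : Function.Surjective φ := by
    intro y
    obtain ⟨g, rfl⟩ := QuotientGroup.mk_surjective y
    obtain ⟨n, hn, rfl⟩ := hsurj g
    exact ⟨QuotientGroup.mk ⟨n, hn⟩, rfl⟩
  have hn : ((Cfsg.pCore p (↥(Subgroup.normalizer (P₁ : Set G)) ⧸
        (Subgroup.centralizer (P₁ : Set G)).subgroupOf (Subgroup.normalizer (P₁ : Set G)))).map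
      φ).Normal := (pCore_normal p).map φ hsurjφ
  have hpg : IsPGroup p ↥((Cfsg.pCore p (↥(Subgroup.normalizer (P₁ : Set G)) ⧸
        (Subgroup.centralizer (P₁ : Set G)).subgroupOf (Subgroup.normalizer (P₁ : Set G)))).map
      φ) := (pCore_isPGroup p).map φ
  exact le_pCore hn hpg ⟨_, hx, rfl⟩

theorem stableFor_quot [Finite G] {p : ℕ} [Fact p.Prime] (hs : Cfsg.IsPStable p G)
    (P : Sylow p G) :
    StableFor p ((P : Subgroup G).map (QuotientGroup.mk' (Cfsg.pPrimeCore p G))) := by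
  intro V hVn hV ab hab hquad
  obtain ⟨a, haP, rfl⟩ := hab
  have hMn : (V.comap (QuotientGroup.mk' (Cfsg.pPrimeCore p G))).Normal := hVn.comap _
  have hPK : (P : Subgroup G) ⊓ Cfsg.pPrimeCore p G = ⊥ := pgroup_inf_pPrimeCore P.2
  have hA : IsPGroup p ↥(Subgroup.zpowers a) := P.2.to_le ((Subgroup.zpowers_le).mpr haP)
  have hP₁ : IsPGroup p ↥((P : Subgroup G) ⊓ V.comap (QuotientGroup.mk' (Cfsg.pPrimeCore p G))) :=
    P.2.to_le inf_le_left
  have hnorm : ∀ a' ∈ Subgroup.zpowers a,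
      ∀ x ∈ (P : Subgroup G) ⊓ V.comap (QuotientGroup.mk' (Cfsg.pPrimeCore p G)),
      a' * x * a'⁻¹ ∈ (P : Subgroup G) ⊓ V.comap (QuotientGroup.mk' (Cfsg.pPrimeCore p G)) := by
    intro a' ha' x hx
    have ha'P : a' ∈ (P : Subgroup G) := ((Subgroup.zpowers_le).mpr haP) ha'
    exact ⟨Subgroup.mul_mem _ (Subgroup.mul_mem _ ha'P hx.1) (Subgroup.inv_mem _ ha'P),
      hMn.conj_mem x hx.2 a'⟩
  have hle : (P : Subgroup G) ⊓ V.comap (QuotientGroup.mk' (Cfsg.pPrimeCore p G)) ≤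
      Cfsg.pPrimePCore p G := by
    intro x hx
    exact le_pCore hVn hV hx.2
  have hPV : ((P : Subgroup G) ⊓ V.comap (QuotientGroup.mk' (Cfsg.pPrimeCore p G))).map
      (QuotientGroup.mk' (Cfsg.pPrimeCore p G)) = V := by
    apply le_antisymm
    · rintro _ ⟨x, hx, rfl⟩
      exact hx.2
    · intro v hv
      obtain ⟨m, rfl⟩ := QuotientGroup.mk'_surjective (Cfsg.pPrimeCore p G) v
      obtain ⟨y, hy, c, hc, rfl⟩ := exists_mul_of_mem_comap P (Cfsg.pPrimeCore p G) V hV hv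
      refine ⟨y, hy, ?_⟩
      have hcc : (QuotientGroup.mk' (Cfsg.pPrimeCore p G) c) = 1 :=
        (QuotientGroup.eq_one_iff c).mpr hc
      rw [map_mul, hcc, mul_one]
  have hsup : Cfsg.pPrimeCore p G ⊔
      ((P : Subgroup G) ⊓ V.comap (QuotientGroup.mk' (Cfsg.pPrimeCore p G))) =
      V.comap (QuotientGroup.mk' (Cfsg.pPrimeCore p G)) := by
    apply le_antisymm
    · apply sup_le
      · intro k hk
        change (QuotientGroup.mk' (Cfsg.pPrimeCore p G) k) ∈ V
        have hkk : (QuotientGroup.mk' (Cfsg.pPrimeCore p G) k) = 1 :=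
          (QuotientGroup.eq_one_iff k).mpr hk
        rw [hkk]
        exact V.one_mem
      · exact inf_le_right
    · intro m hm
      obtain ⟨y, hy, c, hc, rfl⟩ := exists_mul_of_mem_comap P (Cfsg.pPrimeCore p G) V hV hm
      exact Subgroup.mul_mem _ (Subgroup.mem_sup_right hy) (Subgroup.mem_sup_left hc)
  have hnormal : (Cfsg.pPrimeCore p G ⊔
      ((P : Subgroup G) ⊓ V.comap (QuotientGroup.mk' (Cfsg.pPrimeCore p G)))).Normal := by
    rw [hsup]; exact hMn
  have hquad' : ⁅⁅(P : Subgroup G) ⊓ V.comap (QuotientGroup.mk' (Cfsg.pPrimeCore p G)),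
      Subgroup.zpowers a⁆, Subgroup.zpowers a⁆ = ⊥ := by
    rw [eq_bot_iff, ← hPK]
    apply le_inf
    · exact commutator_le_of_le (commutator_le_of_le inf_le_left ((Subgroup.zpowers_le).mpr haP))
        ((Subgroup.zpowers_le).mpr haP)
    · have h1 : (⁅⁅(P : Subgroup G) ⊓ V.comap (QuotientGroup.mk' (Cfsg.pPrimeCore p G)),
          Subgroup.zpowers a⁆, Subgroup.zpowers a⁆).map
          (QuotientGroup.mk' (Cfsg.pPrimeCore p G)) = ⊥ := by
        rw [Subgroup.map_commutator, Subgroup.map_commutator, MonoidHom.map_zpowers, hPV]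
        exact hquad
      rw [Subgroup.map_eq_bot_iff, QuotientGroup.ker_mk'] at h1
      exact h1
  have hconc := hs.2.2 (Subgroup.zpowers a)
    ((P : Subgroup G) ⊓ V.comap (QuotientGroup.mk' (Cfsg.pPrimeCore p G))) hA hP₁ hnorm hle hnormal
    hquad'
  have haN : a ∈ Subgroup.normalizer
      (((P : Subgroup G) ⊓ V.comap (QuotientGroup.mk' (Cfsg.pPrimeCore p G)) : Subgroup G) :
        Set G) := by
    rw [Subgroup.mem_normalizer_iff]
    intro x
    constructor
    · intro hx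
      exact hnorm a (Subgroup.mem_zpowers a) x hx
    · intro hx
      have := hnorm a⁻¹ (Subgroup.inv_mem _ (Subgroup.mem_zpowers a)) _ hx
      have e : a⁻¹ * (a * x * a⁻¹) * a⁻¹⁻¹ = x := by group
      rwa [e] at this
  have hsurj : ∀ g : G ⧸ Cfsg.pPrimeCore p G, ∃ n ∈ Subgroup.normalizer
      (((P : Subgroup G) ⊓ V.comap (QuotientGroup.mk' (Cfsg.pPrimeCore p G)) : Subgroup G) :
        Set G), (QuotientGroup.mk' (Cfsg.pPrimeCore p G)) n = g := by
    intro g
    obtain ⟨g₀, rfl⟩ := QuotientGroup.mk'_surjective (Cfsg.pPrimeCore p G) g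
    obtain ⟨n, hn, c, hc, rfl⟩ := factor_of_normal_pgroup P (Cfsg.pPrimeCore p G) V hV g₀
    refine ⟨n, hn, ?_⟩
    have hcc : (QuotientGroup.mk' (Cfsg.pPrimeCore p G) c) = 1 :=
      (QuotientGroup.eq_one_iff c).mpr hc
    rw [map_mul, hcc, mul_one]
  exact mem_pCore_quot_of_section (QuotientGroup.mk' (Cfsg.pPrimeCore p G)) _ V hPV hsurj ⟨a, haN⟩
    (hconc ⟨⟨a, haN⟩, Subgroup.mem_subgroupOf.mpr (Subgroup.mem_zpowers a), rfl⟩)

/-! ### Glauberman's factorisation `G = O_{p'}(G) N_G(Z(J(P)))` -/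

theorem zj_factorization [Finite G] {p : ℕ} [Fact p.Prime] (hp : p ≠ 2)
    (hc : Cfsg.IsPConstrained p G) (hs : Cfsg.IsPStable p G) (P : Sylow p G) :
    Cfsg.pPrimeCore p G ⊔ Subgroup.normalizer
      (WW (fun V : Subgroup G => IsMulCommutative ↥V) (P : Subgroup G) : Set G) = ⊤ := by
  have hPK : (P : Subgroup G) ⊓ Cfsg.pPrimeCore p G = ⊥ := pgroup_inf_pPrimeCore P.2
  have hinj : (P : Subgroup G) ⊓ (QuotientGroup.mk' (Cfsg.pPrimeCore p G)).ker = ⊥ := by
    rw [QuotientGroup.ker_mk']; exact hPK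
  have hcb := centralizer_pCore_quot_le hc
  have hstb := stableFor_quot hs P
  have hcoe : ((P.mapSurjective (QuotientGroup.mk'_surjective (Cfsg.pPrimeCore p G)) :
      Sylow p (G ⧸ Cfsg.pPrimeCore p G)) : Subgroup (G ⧸ Cfsg.pPrimeCore p G)) =
      (P : Subgroup G).map (QuotientGroup.mk' (Cfsg.pPrimeCore p G)) :=
    Sylow.coe_mapSurjective _ _
  rw [← hcoe] at hstb
  have hZn := WW_normal_sc hp (goodPred_comm (G := G ⧸ Cfsg.pPrimeCore p G)) hcb
    (P.mapSurjective (QuotientGroup.mk'_surjective (Cfsg.pPrimeCore p G))) hstb _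
    (stronglyClosed_self _)
  rw [hcoe, ← WW_comm_map (QuotientGroup.mk' (Cfsg.pPrimeCore p G)) hinj] at hZn
  have hMn : (((WW (fun V : Subgroup G => IsMulCommutative ↥V) (P : Subgroup G)).map
      (QuotientGroup.mk' (Cfsg.pPrimeCore p G))).comap
      (QuotientGroup.mk' (Cfsg.pPrimeCore p G))).Normal := hZn.comap _
  have hZP : WW (fun V : Subgroup G => IsMulCommutative ↥V) (P : Subgroup G) ≤ P :=
    WW_le (goodPred_comm (G := G)).bot _
  have hPM : (P : Subgroup G) ⊓ ((WW (fun V : Subgroup G => IsMulCommutative ↥V)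
      (P : Subgroup G)).map (QuotientGroup.mk' (Cfsg.pPrimeCore p G))).comap
      (QuotientGroup.mk' (Cfsg.pPrimeCore p G)) =
      WW (fun V : Subgroup G => IsMulCommutative ↥V) (P : Subgroup G) := by
    apply le_antisymm
    · rintro x ⟨hxP, hxM⟩
      obtain ⟨z, hz, hzx⟩ := hxM
      have : z = x := injOn_of_inf_ker _ hinj (hZP hz) hxP hzx
      rw [← this]; exact hz
    · exact le_inf hZP (fun z hz => Subgroup.mem_map_of_mem _ hz)
  rw [eq_top_iff]
  intro g _
  obtain ⟨n, hn, m, hm, rfl⟩ := frattini_inf_normal P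
    (((WW (fun V : Subgroup G => IsMulCommutative ↥V) (P : Subgroup G)).map
      (QuotientGroup.mk' (Cfsg.pPrimeCore p G))).comap
      (QuotientGroup.mk' (Cfsg.pPrimeCore p G))) g
  rw [hPM] at hn
  obtain ⟨z, hz, hzm⟩ := hm
  have hk : z⁻¹ * m ∈ Cfsg.pPrimeCore p G := QuotientGroup.eq.mp hzm
  have h1 : n * z ∈ Subgroup.normalizer
      (WW (fun V : Subgroup G => IsMulCommutative ↥V) (P : Subgroup G) : Set G) :=
    Subgroup.mul_mem _ hn (Subgroup.le_normalizer hz)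
  have e2 : n * m = (n * z) * (z⁻¹ * m) := by group
  rw [e2, sup_comm]
  exact Subgroup.mul_mem_sup h1 hk

end ZJ

end Cfsg.Agent.Lib.Helper16
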