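import Cfsg.Agent.Lib.Helper16.ZJ
import Cfsg.Prelude.Def_TwoFusion
import Cfsg.Prelude.Def_LocalEven

set_option autoImplicit false

namespace Cfsg.Agent.Lib.Helper16

namespace ZJ

open scoped commutatorElement

variable {G : Type*} [Group G]

/-- `p`-stability of the action on the normal `p`-subgroups, for the elements of `P` only -/
def StableFor (p : ℕ) (P : Subgroup G) : Prop :=
  ∀ (V : Subgroup G) [V.Normal], IsPGroup p ↥V → ∀ a ∈ P,
    ⁅⁅V, Subgroup.zpowers a⁆, Subgroup.zpowers a⁆ = ⊥ →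
    (QuotientGroup.mk a : G ⧸ Subgroup.centralizer (V : Set G)) ∈
      Cfsg.pCore p (G ⧸ Subgroup.centralizer (V : Set G))

theorem stableFor_of_isPStableOn {p : ℕ}
    (hst : ∀ (V : Subgroup G) [V.Normal], IsPGroup p ↥V → Cfsg.IsPStableOn p V)
    (P : Subgroup G) : StableFor p P :=
  fun V _ hV a _ h => hst V hV a h

theorem stronglyClosed_self (P : Subgroup G) : Cfsg.IsStronglyClosed P P :=
  ⟨le_rfl, fun _ _ _ h => h⟩

theorem stronglyClosed_le_normalizer {D P : Subgroup G} (hD : Cfsg.IsStronglyClosed D P) :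
    P ≤ Subgroup.normalizer (D : Set G) := by
  intro g hg
  rw [Subgroup.mem_normalizer_iff]
  intro x
  constructor
  · intro hx
    exact hD.2 x hx g (P.mul_mem (P.mul_mem hg (hD.1 hx)) (P.inv_mem hg))
  · intro hx
    have h1 := hD.2 _ hx g⁻¹ (P.mul_mem (P.mul_mem (P.inv_mem hg) (hD.1 hx)) (P.inv_mem (P.inv_mem hg)))
    have : g⁻¹ * (g * x * g⁻¹) * g⁻¹⁻¹ = x := by group
    rwa [this] at h1

/-- the normalizer of `R ≤ P` normalizes `D ∩ R` when `D` is strongly closed in `P` -/
theorem stronglyClosed_inf_normalizer {D P R : Subgroup G} (hD : Cfsg.IsStronglyClosed D P)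
    (hRP : R ≤ P) :
    Subgroup.normalizer (R : Set G) ≤ Subgroup.normalizer ((D ⊓ R : Subgroup G) : Set G) := by
  intro n hn
  rw [Subgroup.mem_normalizer_iff] at hn ⊢
  intro x
  constructor
  · rintro ⟨hxD, hxR⟩
    have h1 := (hn x).mp hxR
    exact ⟨hD.2 x hxD n (hRP h1), h1⟩
  · rintro ⟨hxD, hxR⟩
    have h1 := (hn x).mpr hxR
    refine ⟨?_, h1⟩
    have h2 := hD.2 _ hxD n⁻¹ (by
      have : n⁻¹ * (n * x * n⁻¹) * n⁻¹⁻¹ = x := by group
      rw [this]; exact hRP h1)
    have : n⁻¹ * (n * x * n⁻¹) * n⁻¹⁻¹ = x := by group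
    rwa [this] at h2

theorem claimA_sc [Finite G] {p : ℕ} [Fact p.Prime] (hp : p ≠ 2) {Q : Subgroup G → Prop}
    (hQ : GoodPred Q) (P : Sylow p G) (hst : StableFor p (P : Subgroup G))
    (D : Subgroup G) (hD : Cfsg.IsStronglyClosed D (P : Subgroup G)) :
    ∀ (n : ℕ) (B : Subgroup G) [B.Normal], IsPGroup p ↥B → Nat.card ↥B ≤ n →
      (WW Q D ⊓ B).Normal := by
  have hDP : D ≤ P := hD.1
  have hDp : IsPGroup p ↥D := P.2.to_le hDP
  intro n
  induction n with
  | zero =>
    intro B _ _ hcard
    have := Nat.card_pos (α := ↥B)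
    omega
  | succ n ih =>
    intro B hBn hB hcard
    have hBP : B ≤ P := hB.le_sylow_of_normal P
    have hPW : (P : Subgroup G) ≤ Subgroup.normalizer (WW Q D : Set G) :=
      (stronglyClosed_le_normalizer hD).trans (normalizer_le_normalizer_WW hQ D)
    have hB₁B : Subgroup.normalClosure ((WW Q D ⊓ B : Subgroup G) : Set G) ≤ B :=
      Subgroup.normalClosure_le_normal (inf_le_right)
    have hZB₁ : WW Q D ⊓ B ≤ Subgroup.normalClosure ((WW Q D ⊓ B : Subgroup G) : Set G) :=
      Subgroup.subset_normalClosure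
    by_cases hlt : Subgroup.normalClosure ((WW Q D ⊓ B : Subgroup G) : Set G) = B
    swap
    · have hc1 : Nat.card ↥(Subgroup.normalClosure ((WW Q D ⊓ B : Subgroup G) : Set G)) ≤ n := by
        by_contra hcon
        push Not at hcon
        exact hlt (Subgroup.eq_of_le_of_card_ge hB₁B (by omega))
      have := ih _ (hB.to_le hB₁B) hc1
      have heq : WW Q D ⊓ Subgroup.normalClosure ((WW Q D ⊓ B : Subgroup G) : Set G) =
          WW Q D ⊓ B :=
        le_antisymm (inf_le_inf_left _ hB₁B) (le_inf inf_le_left hZB₁)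
      rw [heq] at this; exact this
    · suffices hBW : B ≤ WW Q D by
        have : WW Q D ⊓ B = B := inf_eq_right.mpr hBW
        rw [this]; exact hBn
      by_cases hbot : B = ⊥
      · rw [hbot]; exact bot_le
      -- `B ≤ D` by strong closure
      have hBD : B ≤ D := by
        conv_lhs => rw [← hlt]
        unfold Subgroup.normalClosure
        rw [Subgroup.closure_le]
        intro x hx
        obtain ⟨z, hz, hzx⟩ := Group.mem_conjugatesOfSet_iff.mp hx
        obtain ⟨g, rfl⟩ := isConj_iff.mp hzx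
        have hzD : z ∈ D := WW_le hQ.bot D hz.1
        exact hD.2 z hzD g (hBP (hBn.conj_mem z hz.2 g))
      have hB'lt : ⁅B, B⁆ < B := commutator_lt_self hB hbot
      have hB'B : ⁅B, B⁆ ≤ B := le_of_lt hB'lt
      have hc2 : Nat.card ↥⁅B, B⁆ ≤ n := by
        by_contra hcon
        push Not at hcon
        exact (ne_of_lt hB'lt) (Subgroup.eq_of_le_of_card_ge hB'B (by omega))
      have hN₀ : (WW Q D ⊓ ⁅B, B⁆).Normal := ih ⁅B, B⁆ (hB.to_le hB'B) hc2
      have h1 : ∀ z ∈ ((WW Q D ⊓ B : Subgroup G) : Set G), ∀ y ∈ B,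
          ⁅z, y⁆ ∈ WW Q D ⊓ ⁅B, B⁆ := by
        intro z hz y hy
        refine ⟨?_, Subgroup.commutator_mem_commutator hz.2 hy⟩
        have hyN := hPW (hBP hy)
        have : ⁅z, y⁆ = z * (y * z⁻¹ * y⁻¹) := by simp [commutatorElement_def, mul_assoc]
        rw [this]
        exact Subgroup.mul_mem _ hz.1
          ((Subgroup.mem_normalizer_iff.mp hyN _).mp (Subgroup.inv_mem _ hz.1))
      have h2 := comm_mem_of_normalClosure (N₀ := WW Q D ⊓ ⁅B, B⁆) (B := B) h1
      have hB'W : ⁅B, B⁆ ≤ WW Q D := by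
        rw [Subgroup.commutator_le]
        intro x hx y hy
        exact (h2 x (by rw [hlt]; exact hx) y hy).1
      by_contra hnot
      have hU : ∃ U ∈ Fam Q D, ⁅B, B⁆ ≤ U ∧ ¬ B ≤ U := by
        by_contra hcon
        push Not at hcon
        apply hnot
        apply le_WW
        intro A hA
        exact hcon A hA (hB'W.trans (WW_le_of_mem hA))
      obtain ⟨A, hAF, hA1, hA2, hA3⟩ := replacement_G hp hQ D hDp B hBD hU
      have hquad : ∀ a ∈ A, ⁅⁅B, Subgroup.zpowers a⁆, Subgroup.zpowers a⁆ = ⊥ := by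
        intro a ha
        have hza : Subgroup.zpowers a ≤ A := (Subgroup.zpowers_le).mpr ha
        have h3 : ⁅B, Subgroup.zpowers a⁆ ≤ A := by
          rw [Subgroup.commutator_le]
          intro b hb x hx
          have hbN := hA3 hb
          have : ⁅b, x⁆ = (b * x * b⁻¹) * x⁻¹ := by simp [commutatorElement_def]
          rw [this]
          exact A.mul_mem ((Subgroup.mem_normalizer_iff.mp hbN _).mp (hza hx))
            (A.inv_mem (hza hx))
        rw [eq_bot_iff]
        have hAc := hQ.comm A hAF.2.1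
        calc ⁅⁅B, Subgroup.zpowers a⁆, Subgroup.zpowers a⁆ ≤ ⁅A, A⁆ :=
              Subgroup.commutator_mono h3 hza
          _ = ⊥ := Subgroup.commutator_eq_bot_iff_le_centralizer.mpr (Subgroup.le_centralizer A)
      have hCn : (Subgroup.centralizer (B : Set G)).Normal := Subgroup.normal_centralizer
      have hAL : A ≤ (Cfsg.pCore p (G ⧸ Subgroup.centralizer (B : Set G))).comap
          (QuotientGroup.mk' (Subgroup.centralizer (B : Set G))) :=
        fun a ha => hst B hB a (hDP (hAF.1 ha)) (hquad a ha)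
      have hfac := factor_of_pCore P (Subgroup.centralizer (B : Set G))
      have hAR : A ≤ (P : Subgroup G) ⊓ (Cfsg.pCore p (G ⧸ Subgroup.centralizer (B : Set G))).comap
          (QuotientGroup.mk' (Subgroup.centralizer (B : Set G))) := le_inf (hAF.1.trans hDP) hAL
      have hRP : (P : Subgroup G) ⊓ (Cfsg.pCore p (G ⧸ Subgroup.centralizer (B : Set G))).comap
          (QuotientGroup.mk' (Subgroup.centralizer (B : Set G))) ≤ P := inf_le_left
      generalize (P : Subgroup G) ⊓ (Cfsg.pCore p (G ⧸ Subgroup.centralizer (B : Set G))).comap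
          (QuotientGroup.mk' (Subgroup.centralizer (B : Set G))) = R at hfac hAR hRP
      have hADR : A ≤ D ⊓ R := le_inf hAF.1 hAR
      have hDR : D ⊓ R ≤ D := inf_le_left
      have hAFR := (Fam_mono hDR hAF hADR).1
      have hWWR : WW Q D ≤ WW Q (D ⊓ R) := WW_mono hDR hAF hADR
      have : (WW Q (D ⊓ R) ⊓ B).Normal := by
        apply normal_of_factor
        intro g
        obtain ⟨n, hn, c, hc, rfl⟩ := hfac g
        refine ⟨n, ?_, c, ?_, rfl⟩
        · have hnW := normalizer_le_normalizer_WW hQ (D ⊓ R)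
            (stronglyClosed_inf_normalizer hD hRP hn)
          rw [Subgroup.mem_normalizer_iff] at hnW ⊢
          intro h
          constructor
          · rintro ⟨h1, h2⟩; exact ⟨(hnW h).mp h1, hBn.conj_mem h h2 n⟩
          · rintro ⟨h1, h2⟩
            refine ⟨(hnW h).mpr h1, ?_⟩
            have := hBn.conj_mem _ h2 n⁻¹
            simpa [mul_assoc] using this
        · exact Subgroup.centralizer_le (fun _ hx => hx.2) hc
      have : B ≤ WW Q (D ⊓ R) ⊓ B := by
        conv_lhs => rw [← hlt]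
        apply Subgroup.normalClosure_le_normal
        exact fun z hz => ⟨hWWR hz.1, hz.2⟩
      exact hA2 ((this.trans inf_le_left).trans (WW_le_of_mem hAFR))

theorem WW_le_pCore_sc [Finite G] {p : ℕ} [Fact p.Prime] {Q : Subgroup G → Prop}
    (hQ : GoodPred Q)
    (hc : Subgroup.centralizer (Cfsg.pCore p G : Set G) ≤ Cfsg.pCore p G)
    (P : Sylow p G) (hst : StableFor p (P : Subgroup G))
    (D : Subgroup G) (hD : Cfsg.IsStronglyClosed D (P : Subgroup G)) :
    WW Q D ≤ Cfsg.pCore p G := by
  have hKn := pCore_normal (G := G) p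
  have hKp := pCore_isPGroup (G := G) p
  have hKP := pCore_le_sylow P
  have hPW : (P : Subgroup G) ≤ Subgroup.normalizer (WW Q D : Set G) :=
    (stronglyClosed_le_normalizer hD).trans (normalizer_le_normalizer_WW hQ D)
  intro z hz
  have hquad : ⁅⁅Cfsg.pCore p G, Subgroup.zpowers z⁆, Subgroup.zpowers z⁆ = ⊥ := by
    have hzW : Subgroup.zpowers z ≤ WW Q D := (Subgroup.zpowers_le).mpr hz
    have h3 : ⁅Cfsg.pCore p G, Subgroup.zpowers z⁆ ≤ WW Q D := by
      rw [Subgroup.commutator_le]
      intro k hk x hx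
      have hkN := hPW (hKP hk)
      have : ⁅k, x⁆ = (k * x * k⁻¹) * x⁻¹ := by simp [commutatorElement_def]
      rw [this]
      exact Subgroup.mul_mem _ ((Subgroup.mem_normalizer_iff.mp hkN _).mp (hzW hx))
        (Subgroup.inv_mem _ (hzW hx))
    rw [eq_bot_iff, ← WW_commutator_eq_bot hQ D]
    exact Subgroup.commutator_mono h3 hzW
  have hmem := hst (Cfsg.pCore p G) hKp z (hD.1 (WW_le hQ.bot D hz)) hquad
  have hCn : (Subgroup.centralizer (Cfsg.pCore p G : Set G)).Normal := Subgroup.normal_centralizer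
  have hLp : IsPGroup p ↥((Cfsg.pCore p (G ⧸ Subgroup.centralizer (Cfsg.pCore p G : Set G))).comap
      (QuotientGroup.mk' (Subgroup.centralizer (Cfsg.pCore p G : Set G)))) := by
    apply IsPGroup.comap_of_ker_isPGroup (pCore_isPGroup p)
    rw [QuotientGroup.ker_mk']
    exact hKp.to_le hc
  have hLn : ((Cfsg.pCore p (G ⧸ Subgroup.centralizer (Cfsg.pCore p G : Set G))).comap
      (QuotientGroup.mk' (Subgroup.centralizer (Cfsg.pCore p G : Set G)))).Normal :=
    (pCore_normal p).comap _
  exact le_pCore hLn hLp hmem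

theorem WW_normal_sc [Finite G] {p : ℕ} [Fact p.Prime] (hp : p ≠ 2) {Q : Subgroup G → Prop}
    (hQ : GoodPred Q)
    (hc : Subgroup.centralizer (Cfsg.pCore p G : Set G) ≤ Cfsg.pCore p G)
    (P : Sylow p G) (hst : StableFor p (P : Subgroup G))
    (D : Subgroup G) (hD : Cfsg.IsStronglyClosed D (P : Subgroup G)) : (WW Q D).Normal := by
  have h1 := WW_le_pCore_sc hQ hc P hst D hD
  have hKn := pCore_normal (G := G) p
  have := claimA_sc hp hQ P hst D hD (Nat.card ↥(Cfsg.pCore p G)) (Cfsg.pCore p G)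
    (pCore_isPGroup p) le_rfl
  rwa [inf_eq_left.mpr h1] at this

/-! ### transport of stability from the normalizer form -/

/-- for a normal subgroup `V`, membership in `O_p(N_G(V)/C_G(V))` gives membership in
`O_p(G/C_G(V))` -/
theorem mem_pCore_quot_of_normalizer {p : ℕ} (V : Subgroup G) [V.Normal]
    (x : ↥(Subgroup.normalizer (V : Set G)))
    (hx : (QuotientGroup.mk (s := (Subgroup.centralizer (V : Set G)).subgroupOf
        (Subgroup.normalizer (V : Set G))) x) ∈
      Cfsg.pCore p (↥(Subgroup.normalizer (V : Set G)) ⧸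
        (Subgroup.centralizer (V : Set G)).subgroupOf (Subgroup.normalizer (V : Set G)))) :
    (QuotientGroup.mk (x : G) : G ⧸ Subgroup.centralizer (V : Set G)) ∈
      Cfsg.pCore p (G ⧸ Subgroup.centralizer (V : Set G)) := by
  have hCn : (Subgroup.centralizer (V : Set G)).Normal := Subgroup.normal_centralizer
  set φ : ↥(Subgroup.normalizer (V : Set G)) ⧸
      (Subgroup.centralizer (V : Set G)).subgroupOf (Subgroup.normalizer (V : Set G)) →*
      G ⧸ Subgroup.centralizer (V : Set G) :=
    QuotientGroup.map _ _ (Subgroup.normalizer (V : Set G)).subtype (le_refl _) with hφ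
  have hsurj : Function.Surjective φ := by
    intro y
    obtain ⟨g, rfl⟩ := QuotientGroup.mk_surjective y
    have hg : g ∈ Subgroup.normalizer (V : Set G) := by
      rw [Subgroup.normalizer_eq_top]; trivial
    exact ⟨QuotientGroup.mk ⟨g, hg⟩, rfl⟩
  have hn : ((Cfsg.pCore p (↥(Subgroup.normalizer (V : Set G)) ⧸
        (Subgroup.centralizer (V : Set G)).subgroupOf (Subgroup.normalizer (V : Set G)))).map
      φ).Normal := (pCore_normal p).map φ hsurj
  have hpg : IsPGroup p ↥((Cfsg.pCore p (↥(Subgroup.normalizer (V : Set G)) ⧸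
        (Subgroup.centralizer (V : Set G)).subgroupOf (Subgroup.normalizer (V : Set G)))).map
      φ) := (pCore_isPGroup p).map φ
  exact le_pCore hn hpg ⟨_, hx, rfl⟩

theorem stableFor_of_normalizerPStable {p : ℕ} (hst : Cfsg.IsNormalizerPStable p G)
    (P : Subgroup G) : StableFor p P := by
  intro V hVn hV a _ hquad
  have ha : a ∈ Subgroup.normalizer (V : Set G) := by
    rw [Subgroup.normalizer_eq_top]; trivial
  exact mem_pCore_quot_of_normalizer V ⟨a, ha⟩ (hst V hV a ha hquad)

end ZJ

end Cfsg.Agent.Lib.Helper16
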