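import Cfsg.Agent.Lib.Helper16.ReplProp
import Cfsg.Prelude.Def_PLocal

set_option autoImplicit false

namespace Cfsg.Agent.Lib.Helper16

namespace ZJ

open scoped commutatorElement

variable {G : Type*} [Group G]

/-! ### the `p`-core -/

theorem pCore_normal (p : ℕ) : (Cfsg.pCore p G).Normal :=
  Subgroup.sSup_normal _ (fun _ h => h.1)

theorem pCore_isPGroup (p : ℕ) : IsPGroup p ↥(Cfsg.pCore p G) :=
  Sylow.sSup_of_normal _ (fun _ h => h.2) (fun _ h => h.1)

theorem le_pCore {p : ℕ} {N : Subgroup G} (hN : N.Normal) (h : IsPGroup p ↥N) :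
    N ≤ Cfsg.pCore p G :=
  le_sSup ⟨hN, h⟩

theorem pCore_le_sylow {p : ℕ} (P : Sylow p G) : Cfsg.pCore p G ≤ (P : Subgroup G) :=
  have := pCore_normal (G := G) p
  (pCore_isPGroup p).le_sylow_of_normal P

/-! ### families of subgroups of largest order with a property -/

/-- a property of subgroups that behaves like "abelian" or "elementary abelian" -/
structure GoodPred (Q : Subgroup G → Prop) : Prop where
  bot : Q ⊥
  comm : ∀ U, Q U → IsMulCommutative ↥U
  map : ∀ (φ : G ≃* G) (U : Subgroup G), Q U → Q (U.map φ.toMonoidHom)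
  repl : ∀ A A' : Subgroup G, Q A → IsMulCommutative ↥A' →
    Monoid.exponent ↥A' ∣ Monoid.exponent ↥A → Q A'

/-- the subgroups of `R` with property `Q` of largest order -/
def Fam (Q : Subgroup G → Prop) (R : Subgroup G) : Set (Subgroup G) :=
  {U | U ≤ R ∧ Q U ∧ ∀ V : Subgroup G, V ≤ R → Q V → Nat.card V ≤ Nat.card U}

/-- the intersection of the family -/
def WW (Q : Subgroup G → Prop) (R : Subgroup G) : Subgroup G := sInf (Fam Q R)

theorem Fam_nonempty [Finite G] {Q : Subgroup G → Prop} (hQ : Q ⊥) (R : Subgroup G) :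
    (Fam Q R).Nonempty := by
  classical
  have hne : ({U : Subgroup G | U ≤ R ∧ Q U}).Nonempty := ⟨⊥, bot_le, hQ⟩
  obtain ⟨A, ⟨hAR, hAQ⟩, hmax⟩ := Set.exists_max_image _ (fun U : Subgroup G => Nat.card U)
    (Set.toFinite _) hne
  exact ⟨A, hAR, hAQ, fun V hV hVQ => hmax V ⟨hV, hVQ⟩⟩

theorem WW_le_of_mem {Q : Subgroup G → Prop} {R A : Subgroup G} (hA : A ∈ Fam Q R) :
    WW Q R ≤ A := sInf_le hA

theorem WW_le [Finite G] {Q : Subgroup G → Prop} (hQ : Q ⊥) (R : Subgroup G) : WW Q R ≤ R := by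
  obtain ⟨A, hA⟩ := Fam_nonempty hQ R
  exact (WW_le_of_mem hA).trans hA.1

theorem le_WW {Q : Subgroup G → Prop} {R B : Subgroup G} (h : ∀ A ∈ Fam Q R, B ≤ A) :
    B ≤ WW Q R := le_sInf h

theorem card_map_equiv (φ : G ≃* G) (U : Subgroup G) :
    Nat.card (U.map φ.toMonoidHom) = Nat.card U :=
  Subgroup.card_map_of_injective φ.injective

theorem Fam_map {Q : Subgroup G → Prop} (hQ : GoodPred Q) (φ : G ≃* G) {R U : Subgroup G}
    (hU : U ∈ Fam Q R) : U.map φ.toMonoidHom ∈ Fam Q (R.map φ.toMonoidHom) := by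
  obtain ⟨hUR, hUQ, hmax⟩ := hU
  refine ⟨Subgroup.map_mono hUR, hQ.map φ U hUQ, fun V hV hVQ => ?_⟩
  have h1 : V.map φ.symm.toMonoidHom ≤ R := by
    rintro _ ⟨v, hv, rfl⟩
    obtain ⟨r, hr, hrv⟩ := hV hv
    have : φ.symm.toMonoidHom v = r := by
      rw [← hrv]; simp
    rw [this]; exact hr
  have h2 := hmax _ h1 (hQ.map φ.symm V hVQ)
  rw [card_map_equiv] at h2 ⊢
  exact h2

theorem map_map_symm (φ : G ≃* G) (U : Subgroup G) :
    (U.map φ.toMonoidHom).map φ.symm.toMonoidHom = U := by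
  rw [Subgroup.map_map]
  have : φ.symm.toMonoidHom.comp φ.toMonoidHom = MonoidHom.id G := by
    ext x; simp
  rw [this, Subgroup.map_id]

theorem map_symm_map (φ : G ≃* G) (U : Subgroup G) :
    (U.map φ.symm.toMonoidHom).map φ.toMonoidHom = U := by
  rw [Subgroup.map_map]
  have : φ.toMonoidHom.comp φ.symm.toMonoidHom = MonoidHom.id G := by
    ext x; simp
  rw [this, Subgroup.map_id]

theorem WW_map {Q : Subgroup G → Prop} (hQ : GoodPred Q) (φ : G ≃* G) (R : Subgroup G) :
    (WW Q R).map φ.toMonoidHom = WW Q (R.map φ.toMonoidHom) := by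
  apply le_antisymm
  · apply le_sInf
    intro A hA
    have hA' := Fam_map hQ φ.symm hA
    rw [map_map_symm] at hA'
    have := Subgroup.map_mono (f := φ.toMonoidHom) (WW_le_of_mem hA')
    rw [map_symm_map] at this
    exact this
  · have h1 : (WW Q (R.map φ.toMonoidHom)).map φ.symm.toMonoidHom ≤ WW Q R := by
      apply le_sInf
      intro A hA
      have hA' := Fam_map hQ φ hA
      have := Subgroup.map_mono (f := φ.symm.toMonoidHom) (WW_le_of_mem hA')
      rw [map_map_symm] at this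
      exact this
    have := Subgroup.map_mono (f := φ.toMonoidHom) h1
    rw [map_symm_map] at this
    exact this

/-- the normalizer of `R` normalizes `WW Q R` -/
theorem normalizer_le_normalizer_WW {Q : Subgroup G → Prop} (hQ : GoodPred Q) (R : Subgroup G) :
    Subgroup.normalizer (R : Set G) ≤ Subgroup.normalizer (WW Q R : Set G) := by
  intro g hg
  rw [Subgroup.mem_normalizer_iff_map_conj_eq] at hg ⊢
  have := WW_map hQ (MulAut.conj g) R
  have hg' : R.map (MulAut.conj g).toMonoidHom = R := hg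
  rw [hg'] at this
  exact this

theorem Fam_mono {Q : Subgroup G → Prop} {P R A : Subgroup G} (hRP : R ≤ P)
    (hA : A ∈ Fam Q P) (hAR : A ≤ R) : A ∈ Fam Q R ∧ Fam Q R ⊆ Fam Q P := by
  obtain ⟨_, hAQ, hmax⟩ := hA
  refine ⟨⟨hAR, hAQ, fun V hV hVQ => hmax V (hV.trans hRP) hVQ⟩, ?_⟩
  rintro U ⟨hUR, hUQ, hUmax⟩
  refine ⟨hUR.trans hRP, hUQ, fun V hV hVQ => ?_⟩
  exact (hmax V hV hVQ).trans (hUmax A hAR hAQ)

theorem WW_mono {Q : Subgroup G → Prop} {P R A : Subgroup G} (hRP : R ≤ P)
    (hA : A ∈ Fam Q P) (hAR : A ≤ R) : WW Q P ≤ WW Q R :=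
  sInf_le_sInf (Fam_mono hRP hA hAR).2

/-! ### the replacement property inside `G` -/

theorem exponent_map_subtype (P : Subgroup G) (U' : Subgroup ↥P) :
    Monoid.exponent ↥(U'.map P.subtype) = Monoid.exponent ↥U' :=
  (Monoid.exponent_eq_of_mulEquiv
    (Subgroup.equivMapOfInjective U' P.subtype P.subtype_injective)).symm

theorem replacement_G [Finite G] {p : ℕ} [Fact p.Prime] (hp : p ≠ 2) {Q : Subgroup G → Prop}
    (hQ : GoodPred Q) (P : Subgroup G) (hP : IsPGroup p ↥P) (B : Subgroup G) [B.Normal]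
    (hBP : B ≤ P) (hU : ∃ U ∈ Fam Q P, ⁅B, B⁆ ≤ U ∧ ¬ B ≤ U) :
    ∃ A ∈ Fam Q P, ⁅B, B⁆ ≤ A ∧ ¬ B ≤ A ∧ B ≤ Subgroup.normalizer (A : Set G) := by
  have hinj : Function.Injective P.subtype := P.subtype_injective
  have hcm : ∀ A' : Subgroup ↥P, Nat.card (A'.map P.subtype) = Nat.card A' := fun A' =>
    Subgroup.card_map_of_injective hinj
  have hBmap : (B.subgroupOf P).map P.subtype = B := Subgroup.map_subgroupOf_eq_of_le hBP
  have hcomm : (⁅B.subgroupOf P, B.subgroupOf P⁆).map P.subtype = ⁅B, B⁆ := by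
    rw [Subgroup.map_commutator, hBmap]
  obtain ⟨A', hA'F, h1, h2, h3⟩ := GR.replacement_property (S := ↥P) hP hp
    {U' : Subgroup ↥P | U'.map P.subtype ∈ Fam Q P}
    (fun A' hA' => (GR.isMulCommutative_map_subtype_iff P A').mpr (hQ.comm _ hA'.2.1))
    (fun A' hA' b hc hcard hexp => by
      refine ⟨Subgroup.map_subtype_le _, ?_, fun V hV hVQ => ?_⟩
      · refine hQ.repl _ _ hA'.2.1 ((GR.isMulCommutative_map_subtype_iff P _).mp hc) ?_
        rw [exponent_map_subtype, exponent_map_subtype]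
        exact hexp
      · have := hA'.2.2 V hV hVQ
        rw [hcm] at this
        change Nat.card V ≤ Nat.card ((GR.Astar A' b).map P.subtype)
        rw [hcm, hcard]
        exact this)
    (B.subgroupOf P)
    (by
      obtain ⟨U, hUF, hU1, hU2⟩ := hU
      have hUmap : (U.subgroupOf P).map P.subtype = U := Subgroup.map_subgroupOf_eq_of_le hUF.1
      refine ⟨U.subgroupOf P, ?_, ?_, ?_⟩
      · change (U.subgroupOf P).map P.subtype ∈ Fam Q P
        rw [hUmap]; exact hUF
      · rw [← Subgroup.map_le_map_iff_of_injective hinj, hcomm, hUmap]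
        exact hU1
      · rw [← Subgroup.map_le_map_iff_of_injective hinj, hBmap, hUmap]
        exact hU2)
  refine ⟨A'.map P.subtype, hA'F, ?_, ?_, ?_⟩
  · rw [← hcomm]
    exact Subgroup.map_mono h1
  · rw [← hBmap, Subgroup.map_le_map_iff_of_injective hinj]
    exact h2
  · rw [← hBmap]
    exact (Subgroup.map_mono h3).trans (Subgroup.le_normalizer_map _)

/-! ### Sylow subgroups of normal subgroups and the Frattini argument -/

section frattini

open scoped Pointwise

variable [Finite G] {p : ℕ} [Fact p.Prime]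

/-- For `C` normal, `T ∩ C` is a Sylow `p`-subgroup of `C`. -/
theorem exists_sylow_inf_normal (T : Sylow p G) (C : Subgroup G) [C.Normal] :
    ∃ P : Sylow p C, (P : Subgroup C) = (T : Subgroup G).subgroupOf C := by
  obtain ⟨P₀⟩ : Nonempty (Sylow p C) := inferInstance
  obtain ⟨Q, hQ⟩ := P₀.exists_comap_subtype_eq
  obtain ⟨g, hg⟩ := MulAction.exists_smul_eq G Q T
  refine ⟨(MulAut.conjNormal g : MulAut C) • P₀, ?_⟩
  rw [Sylow.pointwise_smul_def]
  ext x
  rw [Subgroup.mem_pointwise_smul_iff_inv_smul_mem, ← hQ, Subgroup.mem_comap,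
    Subgroup.mem_subgroupOf, ← hg, Sylow.coe_subgroup_smul,
    Subgroup.mem_pointwise_smul_iff_inv_smul_mem]
  have : ((C.subtype) ((MulAut.conjNormal g : MulAut C)⁻¹ • x) : G) =
      (MulAut.conj g)⁻¹ • (x : G) := by
    rw [MulAut.smul_def, MulAut.smul_def, Subgroup.coe_subtype, MulAut.conjNormal_inv_apply]
    simp
  rw [this]

/-- Frattini argument for `T ∩ C`, elementwise. -/
theorem frattini_inf_normal (T : Sylow p G) (C : Subgroup G) [C.Normal] (g : G) :
    ∃ a ∈ Subgroup.normalizer (((T : Subgroup G) ⊓ C : Subgroup G) : Set G),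
      ∃ c ∈ C, g = a * c := by
  obtain ⟨P, hP⟩ := exists_sylow_inf_normal T C
  have h := Sylow.normalizer_sup_eq_top P
  have hmap : (P : Subgroup C).map C.subtype = (T : Subgroup G) ⊓ C := by
    rw [hP, Subgroup.subgroupOf_map_subtype]
  rw [hmap] at h
  have hg : g ∈ ((Subgroup.normalizer (((T : Subgroup G) ⊓ C : Subgroup G) : Set G) ⊔ C :
      Subgroup G) : Set G) := by
    rw [h]; trivial
  rw [Subgroup.mul_normal] at hg
  obtain ⟨a, ha, c, hc, rfl⟩ := hg
  exact ⟨a, ha, c, hc, rfl⟩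

end frattini

/-! ### small group-theoretic lemmas -/

theorem comm_mem_of_normalClosure {N₀ B : Subgroup G} [hN : N₀.Normal] [hBn : B.Normal]
    {Z : Set G} (h : ∀ z ∈ Z, ∀ y ∈ B, ⁅z, y⁆ ∈ N₀) :
    ∀ x ∈ Subgroup.normalClosure Z, ∀ y ∈ B, ⁅x, y⁆ ∈ N₀ := by
  intro x hx
  unfold Subgroup.normalClosure at hx
  induction hx using Subgroup.closure_induction with
  | mem x hx =>
    obtain ⟨z, hz, hzx⟩ := Group.mem_conjugatesOfSet_iff.mp hx
    obtain ⟨g, rfl⟩ := isConj_iff.mp hzx
    intro y hy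
    have h1 : ⁅g * z * g⁻¹, y⁆ = g * ⁅z, g⁻¹ * y * g⁆ * g⁻¹ := by
      simp only [commutatorElement_def]; group
    rw [h1]
    apply hN.conj_mem
    apply h z hz
    have := hBn.conj_mem y hy g⁻¹
    simpa using this
  | one => intro y hy; simp
  | mul x₁ x₂ _ _ h1 h2 =>
    intro y hy
    have : ⁅x₁ * x₂, y⁆ = x₁ * ⁅x₂, y⁆ * x₁⁻¹ * ⁅x₁, y⁆ := by
      simp only [commutatorElement_def]; group
    rw [this]
    exact N₀.mul_mem (hN.conj_mem _ (h2 y hy) _) (h1 y hy)
  | inv x _ h1 =>
    intro y hy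
    have : ⁅x⁻¹, y⁆ = x⁻¹ * ⁅x, y⁆⁻¹ * x⁻¹⁻¹ := by
      simp only [commutatorElement_def]; group
    rw [this]
    exact hN.conj_mem _ (N₀.inv_mem (h1 y hy)) _

theorem normal_of_factor {H : Subgroup G}
    (h : ∀ g : G, ∃ n ∈ Subgroup.normalizer (H : Set G),
      ∃ c ∈ Subgroup.centralizer (H : Set G), g = n * c) : H.Normal := by
  constructor
  intro x hx g
  obtain ⟨n, hn, c, hc, rfl⟩ := h g
  have h1 : c * x * c⁻¹ = x := by
    rw [Subgroup.mem_centralizer_iff] at hc
    have := hc x hx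
    rw [← this]; group
  have : n * c * x * (n * c)⁻¹ = n * (c * x * c⁻¹) * n⁻¹ := by group
  rw [this, h1]
  exact (Subgroup.mem_normalizer_iff.mp hn x).mp hx

theorem commutator_lt_self [Finite G] {p : ℕ} [Fact p.Prime] {B : Subgroup G}
    (hB : IsPGroup p ↥B) (hbot : B ≠ ⊥) : ⁅B, B⁆ < B := by
  have : Group.IsNilpotent ↥B := hB.isNilpotent
  have : Nontrivial ↥B := (Subgroup.nontrivial_iff_ne_bot B).mpr hbot
  have h := Group.IsSolvable.commutator_lt_top_of_nontrivial (G := ↥B)
  have hmap : (_root_.commutator ↥B).map B.subtype = ⁅B, B⁆ := by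
    rw [_root_.commutator_def, Subgroup.map_commutator, ← MonoidHom.range_eq_map,
      Subgroup.range_subtype]
  rw [← hmap]
  have : (_root_.commutator ↥B).map B.subtype < (⊤ : Subgroup ↥B).map B.subtype :=
    (Subgroup.map_lt_map_iff_of_injective B.subtype_injective).mpr h
  rwa [← MonoidHom.range_eq_map, Subgroup.range_subtype] at this

/-! ### the main induction -/

/-- factorisation `G = N_G(P ∩ L) C` where `L/C = O_p(G/C)` -/
theorem factor_of_pCore [Finite G] {p : ℕ} [Fact p.Prime] (P : Sylow p G) (C : Subgroup G)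
    [C.Normal] (g : G) :
    ∃ n ∈ Subgroup.normalizer (((P : Subgroup G) ⊓
        (Cfsg.pCore p (G ⧸ C)).comap (QuotientGroup.mk' C) : Subgroup G) : Set G),
      ∃ c ∈ C, g = n * c := by
  have : ((Cfsg.pCore p (G ⧸ C)).comap (QuotientGroup.mk' C)).Normal :=
    (pCore_normal p).comap _
  obtain ⟨n, hn, l, hl, rfl⟩ := frattini_inf_normal P
    ((Cfsg.pCore p (G ⧸ C)).comap (QuotientGroup.mk' C)) g
  have hl' : (QuotientGroup.mk' C l) ∈ Cfsg.pCore p (G ⧸ C) := hl
  have hsyl := pCore_le_sylow (P.mapSurjective (QuotientGroup.mk'_surjective C)) hl'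
  rw [Sylow.coe_mapSurjective] at hsyl
  obtain ⟨x, hxP, hxl⟩ := hsyl
  have hxL : x ∈ (Cfsg.pCore p (G ⧸ C)).comap (QuotientGroup.mk' C) := by
    rw [Subgroup.mem_comap, hxl]; exact hl'
  have hxc : x⁻¹ * l ∈ C := QuotientGroup.eq.mp hxl
  exact ⟨n * x, Subgroup.mul_mem _ hn (Subgroup.le_normalizer ⟨hxP, hxL⟩), x⁻¹ * l, hxc,
    by group⟩

theorem claimA [Finite G] {p : ℕ} [Fact p.Prime] (hp : p ≠ 2) {Q : Subgroup G → Prop}
    (hQ : GoodPred Q)
    (hst : ∀ (V : Subgroup G) [V.Normal], IsPGroup p ↥V → Cfsg.IsPStableOn p V)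
    (P : Sylow p G) :
    ∀ (n : ℕ) (B : Subgroup G) [B.Normal], IsPGroup p ↥B → Nat.card ↥B ≤ n →
      (WW Q (P : Subgroup G) ⊓ B).Normal := by
  intro n
  induction n with
  | zero =>
    intro B _ _ hcard
    have := Nat.card_pos (α := ↥B)
    omega
  | succ n ih =>
    intro B hBn hB hcard
    have hBP : B ≤ P := hB.le_sylow_of_normal P
    have hPW : (P : Subgroup G) ≤ Subgroup.normalizer (WW Q (P : Subgroup G) : Set G) :=
      Subgroup.le_normalizer.trans (normalizer_le_normalizer_WW hQ P)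
    have hB₁B : Subgroup.normalClosure ((WW Q (P : Subgroup G) ⊓ B : Subgroup G) : Set G) ≤ B :=
      Subgroup.normalClosure_le_normal (inf_le_right)
    have hZB₁ : WW Q (P : Subgroup G) ⊓ B ≤
        Subgroup.normalClosure ((WW Q (P : Subgroup G) ⊓ B : Subgroup G) : Set G) :=
      Subgroup.subset_normalClosure
    by_cases hlt : Subgroup.normalClosure ((WW Q (P : Subgroup G) ⊓ B : Subgroup G) : Set G) = B
    swap
    · have hc1 : Nat.card ↥(Subgroup.normalClosure
          ((WW Q (P : Subgroup G) ⊓ B : Subgroup G) : Set G)) ≤ n := by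
        by_contra hcon
        push Not at hcon
        exact hlt (Subgroup.eq_of_le_of_card_ge hB₁B (by omega))
      have := ih _ (hB.to_le hB₁B) hc1
      have heq : WW Q (P : Subgroup G) ⊓ Subgroup.normalClosure
          ((WW Q (P : Subgroup G) ⊓ B : Subgroup G) : Set G) = WW Q (P : Subgroup G) ⊓ B :=
        le_antisymm (inf_le_inf_left _ hB₁B) (le_inf inf_le_left hZB₁)
      rw [heq] at this; exact this
    · suffices hBW : B ≤ WW Q (P : Subgroup G) by
        have : WW Q (P : Subgroup G) ⊓ B = B := inf_eq_right.mpr hBW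
        rw [this]; exact hBn
      by_cases hbot : B = ⊥
      · rw [hbot]; exact bot_le
      have hB'lt : ⁅B, B⁆ < B := commutator_lt_self hB hbot
      have hB'B : ⁅B, B⁆ ≤ B := le_of_lt hB'lt
      have hc2 : Nat.card ↥⁅B, B⁆ ≤ n := by
        by_contra hcon
        push Not at hcon
        exact (ne_of_lt hB'lt) (Subgroup.eq_of_le_of_card_ge hB'B (by omega))
      have hN₀ : (WW Q (P : Subgroup G) ⊓ ⁅B, B⁆).Normal := ih ⁅B, B⁆ (hB.to_le hB'B) hc2
      have h1 : ∀ z ∈ ((WW Q (P : Subgroup G) ⊓ B : Subgroup G) : Set G), ∀ y ∈ B,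
          ⁅z, y⁆ ∈ WW Q (P : Subgroup G) ⊓ ⁅B, B⁆ := by
        intro z hz y hy
        refine ⟨?_, Subgroup.commutator_mem_commutator hz.2 hy⟩
        have hyN := hPW (hBP hy)
        have : ⁅z, y⁆ = z * (y * z⁻¹ * y⁻¹) := by simp [commutatorElement_def, mul_assoc]
        rw [this]
        exact Subgroup.mul_mem _ hz.1
          ((Subgroup.mem_normalizer_iff.mp hyN _).mp (Subgroup.inv_mem _ hz.1))
      have h2 := comm_mem_of_normalClosure (N₀ := WW Q (P : Subgroup G) ⊓ ⁅B, B⁆) (B := B) h1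
      have hB'W : ⁅B, B⁆ ≤ WW Q (P : Subgroup G) := by
        rw [Subgroup.commutator_le]
        intro x hx y hy
        exact (h2 x (by rw [hlt]; exact hx) y hy).1
      by_contra hnot
      have hU : ∃ U ∈ Fam Q (P : Subgroup G), ⁅B, B⁆ ≤ U ∧ ¬ B ≤ U := by
        by_contra hcon
        push Not at hcon
        apply hnot
        apply le_WW
        intro A hA
        exact hcon A hA (hB'W.trans (WW_le_of_mem hA))
      obtain ⟨A, hAF, hA1, hA2, hA3⟩ := replacement_G hp hQ (P : Subgroup G) P.2 B hBP hU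
      have hquad : ∀ a ∈ A, ⁅⁅B, Subgroup.zpowers a⁆, Subgroup.zpowers a⁆ = ⊥ := by
        intro a ha
        have hza : Subgroup.zpowers a ≤ A := (Subgroup.zpowers_le).mpr ha
        have h3 : ⁅B, Subgroup.zpowers a⁆ ≤ A := by
          rw [Subgroup.commutator_le]
          intro b hb x hx
          have hbN := hA3 hb
          have : ⁅b, x⁆ = (b * x * b⁻¹) * x⁻¹ := by simp [commutatorElement_def]
          rw [this]
          exact A.mul_mem ((Subgroup.mem_normalizer_iff.mp hbN _).mp (hza hx))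
            (A.inv_mem (hza hx))
        rw [eq_bot_iff]
        have hAc := hQ.comm A hAF.2.1
        calc ⁅⁅B, Subgroup.zpowers a⁆, Subgroup.zpowers a⁆ ≤ ⁅A, A⁆ :=
              Subgroup.commutator_mono h3 hza
          _ = ⊥ := Subgroup.commutator_eq_bot_iff_le_centralizer.mpr (Subgroup.le_centralizer A)
      have hCn : (Subgroup.centralizer (B : Set G)).Normal := Subgroup.normal_centralizer
      have hAL : A ≤ (Cfsg.pCore p (G ⧸ Subgroup.centralizer (B : Set G))).comap
          (QuotientGroup.mk' (Subgroup.centralizer (B : Set G))) :=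
        fun a ha => hst B hB a (hquad a ha)
      have hfac := factor_of_pCore P (Subgroup.centralizer (B : Set G))
      have hAR : A ≤ (P : Subgroup G) ⊓ (Cfsg.pCore p (G ⧸ Subgroup.centralizer (B : Set G))).comap
          (QuotientGroup.mk' (Subgroup.centralizer (B : Set G))) := le_inf hAF.1 hAL
      have hRP : (P : Subgroup G) ⊓ (Cfsg.pCore p (G ⧸ Subgroup.centralizer (B : Set G))).comap
          (QuotientGroup.mk' (Subgroup.centralizer (B : Set G))) ≤ P := inf_le_left
      generalize (P : Subgroup G) ⊓ (Cfsg.pCore p (G ⧸ Subgroup.centralizer (B : Set G))).comap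
          (QuotientGroup.mk' (Subgroup.centralizer (B : Set G))) = R at hfac hAR hRP
      have hAFR := (Fam_mono hRP hAF hAR).1
      have hWWR : WW Q (P : Subgroup G) ≤ WW Q R := WW_mono hRP hAF hAR
      have : (WW Q R ⊓ B).Normal := by
        apply normal_of_factor
        intro g
        obtain ⟨n, hn, c, hc, rfl⟩ := hfac g
        refine ⟨n, ?_, c, ?_, rfl⟩
        · have hnW := normalizer_le_normalizer_WW hQ R hn
          rw [Subgroup.mem_normalizer_iff] at hnW ⊢
          intro h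
          constructor
          · rintro ⟨h1, h2⟩; exact ⟨(hnW h).mp h1, hBn.conj_mem h h2 n⟩
          · rintro ⟨h1, h2⟩
            refine ⟨(hnW h).mpr h1, ?_⟩
            have := hBn.conj_mem _ h2 n⁻¹
            simpa [mul_assoc] using this
        · exact Subgroup.centralizer_le (fun _ hx => hx.2) hc
      have : B ≤ WW Q R ⊓ B := by
        conv_lhs => rw [← hlt]
        apply Subgroup.normalClosure_le_normal
        exact fun z hz => ⟨hWWR hz.1, hz.2⟩
      exact hA2 ((this.trans inf_le_left).trans (WW_le_of_mem hAFR))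

/-! ### the intersection lies in the `p`-core and is characteristic -/

theorem WW_commutator_eq_bot [Finite G] {Q : Subgroup G → Prop} (hQ : GoodPred Q)
    (R : Subgroup G) : ⁅WW Q R, WW Q R⁆ = ⊥ := by
  obtain ⟨A, hAF⟩ := Fam_nonempty hQ.bot R
  have hWA := WW_le_of_mem hAF
  have hAc := hQ.comm A hAF.2.1
  rw [eq_bot_iff]
  calc ⁅WW Q R, WW Q R⁆ ≤ ⁅A, A⁆ := Subgroup.commutator_mono hWA hWA
    _ = ⊥ := Subgroup.commutator_eq_bot_iff_le_centralizer.mpr (Subgroup.le_centralizer A)

theorem WW_le_pCore [Finite G] {p : ℕ} [Fact p.Prime] {Q : Subgroup G → Prop}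
    (hQ : GoodPred Q)
    (hc : Subgroup.centralizer (Cfsg.pCore p G : Set G) ≤ Cfsg.pCore p G)
    (hst : ∀ (V : Subgroup G) [V.Normal], IsPGroup p ↥V → Cfsg.IsPStableOn p V)
    (P : Sylow p G) : WW Q (P : Subgroup G) ≤ Cfsg.pCore p G := by
  have hKn := pCore_normal (G := G) p
  have hKp := pCore_isPGroup (G := G) p
  have hKP := pCore_le_sylow P
  have hPW : (P : Subgroup G) ≤ Subgroup.normalizer (WW Q (P : Subgroup G) : Set G) :=
    Subgroup.le_normalizer.trans (normalizer_le_normalizer_WW hQ P)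
  intro z hz
  have hquad : ⁅⁅Cfsg.pCore p G, Subgroup.zpowers z⁆, Subgroup.zpowers z⁆ = ⊥ := by
    have hzW : Subgroup.zpowers z ≤ WW Q (P : Subgroup G) := (Subgroup.zpowers_le).mpr hz
    have h3 : ⁅Cfsg.pCore p G, Subgroup.zpowers z⁆ ≤ WW Q (P : Subgroup G) := by
      rw [Subgroup.commutator_le]
      intro k hk x hx
      have hkN := hPW (hKP hk)
      have : ⁅k, x⁆ = (k * x * k⁻¹) * x⁻¹ := by simp [commutatorElement_def]
      rw [this]
      exact Subgroup.mul_mem _ ((Subgroup.mem_normalizer_iff.mp hkN _).mp (hzW hx))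
        (Subgroup.inv_mem _ (hzW hx))
    rw [eq_bot_iff, ← WW_commutator_eq_bot hQ (P : Subgroup G)]
    exact Subgroup.commutator_mono h3 hzW
  have hmem := hst (Cfsg.pCore p G) hKp z hquad
  have hCn : (Subgroup.centralizer (Cfsg.pCore p G : Set G)).Normal := Subgroup.normal_centralizer
  have hLp : IsPGroup p ↥((Cfsg.pCore p (G ⧸ Subgroup.centralizer (Cfsg.pCore p G : Set G))).comap
      (QuotientGroup.mk' (Subgroup.centralizer (Cfsg.pCore p G : Set G)))) := by
    apply IsPGroup.comap_of_ker_isPGroup (pCore_isPGroup p)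
    rw [QuotientGroup.ker_mk']
    exact hKp.to_le hc
  have hLn : ((Cfsg.pCore p (G ⧸ Subgroup.centralizer (Cfsg.pCore p G : Set G))).comap
      (QuotientGroup.mk' (Subgroup.centralizer (Cfsg.pCore p G : Set G)))).Normal :=
    (pCore_normal p).comap _
  exact le_pCore hLn hLp hmem

theorem WW_normal [Finite G] {p : ℕ} [Fact p.Prime] (hp : p ≠ 2) {Q : Subgroup G → Prop}
    (hQ : GoodPred Q)
    (hc : Subgroup.centralizer (Cfsg.pCore p G : Set G) ≤ Cfsg.pCore p G)
    (hst : ∀ (V : Subgroup G) [V.Normal], IsPGroup p ↥V → Cfsg.IsPStableOn p V)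
    (P : Sylow p G) : (WW Q (P : Subgroup G)).Normal := by
  have h1 := WW_le_pCore hQ hc hst P
  have hKn := pCore_normal (G := G) p
  have := claimA hp hQ hst P (Nat.card ↥(Cfsg.pCore p G)) (Cfsg.pCore p G) (pCore_isPGroup p) le_rfl
  rwa [inf_eq_left.mpr h1] at this

theorem WW_characteristic [Finite G] {p : ℕ} [Fact p.Prime] (hp : p ≠ 2) {Q : Subgroup G → Prop}
    (hQ : GoodPred Q)
    (hc : Subgroup.centralizer (Cfsg.pCore p G : Set G) ≤ Cfsg.pCore p G)
    (hst : ∀ (V : Subgroup G) [V.Normal], IsPGroup p ↥V → Cfsg.IsPStableOn p V)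
    (P : Sylow p G) : (WW Q (P : Subgroup G)).Characteristic := by
  rw [Subgroup.characteristic_iff_map_eq]
  intro φ
  rw [WW_map hQ φ]
  have hsurj : Function.Surjective φ.toMonoidHom := φ.surjective
  have hP' : ((P.mapSurjective hsurj : Sylow p G) : Subgroup G) =
      (P : Subgroup G).map φ.toMonoidHom := Sylow.coe_mapSurjective _ _
  rw [← hP']
  obtain ⟨g, hg⟩ := MulAction.exists_smul_eq G P (P.mapSurjective hsurj)
  rw [← hg]
  have h2 : ((g • P : Sylow p G) : Subgroup G) = (P : Subgroup G).map (MulAut.conj g).toMonoidHom :=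
    rfl
  rw [h2, ← WW_map hQ]
  have hn := WW_normal hp hQ hc hst P
  have : g ∈ Subgroup.normalizer (WW Q (P : Subgroup G) : Set G) := by
    rw [Subgroup.normalizer_eq_top]; trivial
  rw [Subgroup.mem_normalizer_iff_map_conj_eq] at this
  exact this

/-! ### the abelian version: `Z(J(P))` -/

theorem goodPred_comm : GoodPred (fun U : Subgroup G => IsMulCommutative ↥U) where
  bot := ⟨⟨fun a b => by
    have ha : a = 1 := Subsingleton.elim _ _
    have hb : b = 1 := Subsingleton.elim _ _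
    rw [ha, hb]⟩⟩
  comm := fun _ h => h
  map := fun φ U h => by
    have := h
    exact Subgroup.map_isMulCommutative U φ.toMonoidHom
  repl := fun _ _ _ h _ => h

theorem comm_sup_zpowers {A : Subgroup G} (hAc : IsMulCommutative ↥A) {x : G}
    (hc : ∀ a ∈ A, a * x = x * a) : IsMulCommutative ↥(A ⊔ Subgroup.zpowers x) := by
  have hgen : A ⊔ Subgroup.zpowers x = Subgroup.closure ((A : Set G) ∪ {x}) := by
    rw [Subgroup.closure_union, Subgroup.closure_eq, Subgroup.zpowers_eq_closure]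
  have hS : ∀ u ∈ ((A : Set G) ∪ {x}), ∀ v ∈ ((A : Set G) ∪ {x}), u * v = v * u := by
    intro u hu v hv
    rcases hu with hu | hu <;> rcases hv with hv | hv
    · have := hAc.is_comm.comm ⟨u, hu⟩ ⟨v, hv⟩
      exact congrArg Subtype.val this
    · rw [Set.mem_singleton_iff] at hv; subst hv; exact hc u hu
    · rw [Set.mem_singleton_iff] at hu; subst hu; exact (hc v hv).symm
    · rw [Set.mem_singleton_iff] at hu hv; rw [hu, hv]
  have hcomm : ∀ y ∈ A ⊔ Subgroup.zpowers x, ∀ z ∈ A ⊔ Subgroup.zpowers x, y * z = z * y := by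
    intro y hy z hz
    rw [hgen] at hy hz
    exact Subgroup.closure_induction₂ (p := fun y z _ _ => y * z = z * y)
      (fun u v hu hv => hS u hu v hv) (fun u _ => by simp) (fun u _ => by simp)
      (fun u v w _ _ _ h1 h2 => by rw [mul_assoc, h2, ← mul_assoc, h1, mul_assoc])
      (fun u v w _ _ _ h1 h2 => by rw [← mul_assoc, h1, mul_assoc, h2, ← mul_assoc])
      (fun u v _ _ h => by
        have : u⁻¹ * v = u⁻¹ * (v * u) * u⁻¹ := by group
        rw [this, ← h]; group)
      (fun u v _ _ h => by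
        have : u * v⁻¹ = v⁻¹ * (v * u) * v⁻¹ := by group
        rw [this, ← h]; group) hy hz
  exact ⟨⟨fun a b => Subtype.ext (hcomm a a.2 b b.2)⟩⟩

theorem mem_of_max_comm [Finite G] {R A : Subgroup G}
    (hA : A ∈ Fam (fun U : Subgroup G => IsMulCommutative ↥U) R) {x : G} (hxR : x ∈ R)
    (hc : ∀ a ∈ A, a * x = x * a) : x ∈ A := by
  obtain ⟨hAR, hAc, hmax⟩ := hA
  have hB := comm_sup_zpowers hAc hc
  have hBR : A ⊔ Subgroup.zpowers x ≤ R := sup_le hAR ((Subgroup.zpowers_le).mpr hxR)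
  have hcard := hmax _ hBR hB
  have hEq : A = A ⊔ Subgroup.zpowers x := Subgroup.eq_of_le_of_card_ge le_sup_left hcard
  rw [hEq]
  exact (le_sup_right : Subgroup.zpowers x ≤ _) (Subgroup.mem_zpowers x)

theorem Fam_comm_iff (P : Subgroup G) (U : Subgroup G) :
    U ∈ Set.image (fun A : Subgroup ↥P => A.map P.subtype) (Cfsg.maxAbelianSubgroups ↥P) ↔
      U ∈ Fam (fun U : Subgroup G => IsMulCommutative ↥U) P :=
  GR.mem_image_max_iff P (fun A' => IsMulCommutative ↥A') (fun U => IsMulCommutative ↥U)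
    (fun A' => GR.isMulCommutative_map_subtype_iff P A') U

theorem centerThompsonAOf_eq_WW [Finite G] (P : Subgroup G) :
    Cfsg.centerThompsonAOf P = WW (fun U : Subgroup G => IsMulCommutative ↥U) P := by
  have hJP : Cfsg.thompsonSubgroupAOf P ≤ P := Subgroup.map_subtype_le _
  have hle : ∀ A ∈ Fam (fun U : Subgroup G => IsMulCommutative ↥U) P,
      A ≤ Cfsg.thompsonSubgroupAOf P := by
    intro A hA
    obtain ⟨A', hA', rfl⟩ := (Fam_comm_iff P A).mpr hA
    exact Subgroup.map_mono (le_sSup hA')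
  apply le_antisymm
  · apply le_WW
    intro A hA x hx
    apply mem_of_max_comm hA (hJP hx.1)
    intro a ha
    have := Subgroup.mem_centralizer_iff.mp hx.2 a (hle A hA ha)
    exact this
  · intro x hx
    obtain ⟨A₀, hA₀⟩ := Fam_nonempty (Q := fun U : Subgroup G => IsMulCommutative ↥U)
      (goodPred_comm (G := G)).bot P
    have hx' : ∀ A ∈ Fam (fun U : Subgroup G => IsMulCommutative ↥U) P, x ∈ A := fun A hA =>
      WW_le_of_mem hA hx
    refine ⟨hle A₀ hA₀ (hx' A₀ hA₀), ?_⟩
    have hJ : Cfsg.thompsonSubgroupAOf P ≤ Subgroup.centralizer ({x} : Set G) := by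
      unfold Cfsg.thompsonSubgroupAOf Cfsg.thompsonSubgroupA
      rw [Subgroup.map_le_iff_le_comap]
      apply sSup_le
      intro A' hA' a ha
      rw [Subgroup.mem_comap, Subgroup.mem_centralizer_iff]
      intro y hy
      rw [Set.mem_singleton_iff] at hy
      subst hy
      have hAF := (Fam_comm_iff P (A'.map P.subtype)).mp ⟨A', hA', rfl⟩
      have hxA := hx' _ hAF
      have haA : P.subtype a ∈ A'.map P.subtype := Subgroup.mem_map_of_mem _ ha
      have := hAF.2.1.is_comm.comm ⟨y, hxA⟩ ⟨P.subtype a, haA⟩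
      exact congrArg Subtype.val this
    change x ∈ Subgroup.centralizer (Cfsg.thompsonSubgroupAOf P : Set G)
    rw [Subgroup.mem_centralizer_iff]
    intro y hy
    have h1 := hJ hy
    rw [Subgroup.mem_centralizer_iff] at h1
    exact (h1 x rfl).symm

end ZJ

end Cfsg.Agent.Lib.Helper16
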