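import Cfsg.Agent.Lib.Helper16.ZJ3
import Cfsg.Agent.Lib.Helper61.PPrimeCore

set_option autoImplicit false

namespace Cfsg.Agent.Lib.Helper16

namespace ZJ

open scoped commutatorElement

/-! ### transport of `O_p(N(P)/C(P))` along a homomorphism -/

section transport

variable {G Gb : Type*} [Group G] [Group Gb] (π : G →* Gb) (P : Subgroup G)

/-- `N_G(P) → N(π P)` -/
def normHom : ↥(Subgroup.normalizer (P : Set G)) →*
    ↥(Subgroup.normalizer ((P.map π : Subgroup Gb) : Set Gb)) :=
  (π.comp (Subgroup.normalizer (P : Set G)).subtype).codRestrict _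
    (fun x => Subgroup.le_normalizer_map π ⟨x.1, x.2, rfl⟩)

theorem normHom_coe (x : ↥(Subgroup.normalizer (P : Set G))) :
    ((normHom π P x : ↥(Subgroup.normalizer ((P.map π : Subgroup Gb) : Set Gb))) : Gb) =
      π (x : G) := rfl

theorem cent_le_comap :
    (Subgroup.centralizer (P : Set G)).subgroupOf (Subgroup.normalizer (P : Set G)) ≤
      ((Subgroup.centralizer ((P.map π : Subgroup Gb) : Set Gb)).subgroupOf
        (Subgroup.normalizer ((P.map π : Subgroup Gb) : Set Gb))).comap (normHom π P) := by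
  intro c hc
  rw [Subgroup.mem_comap, Subgroup.mem_subgroupOf, normHom_coe, Subgroup.mem_centralizer_iff]
  rintro _ ⟨y, hy, rfl⟩
  have hc' : (c : G) ∈ Subgroup.centralizer (P : Set G) := Subgroup.mem_subgroupOf.mp hc
  have := Subgroup.mem_centralizer_iff.mp hc' y hy
  rw [← map_mul, ← map_mul, this]

/-- `N_G(P)/C_G(P) → N(π P)/C(π P)` -/
def sectionHom : (↥(Subgroup.normalizer (P : Set G)) ⧸
      (Subgroup.centralizer (P : Set G)).subgroupOf (Subgroup.normalizer (P : Set G))) →*
    (↥(Subgroup.normalizer ((P.map π : Subgroup Gb) : Set Gb)) ⧸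
      (Subgroup.centralizer ((P.map π : Subgroup Gb) : Set Gb)).subgroupOf
        (Subgroup.normalizer ((P.map π : Subgroup Gb) : Set Gb))) :=
  QuotientGroup.map _ _ (normHom π P) (cent_le_comap π P)

theorem sectionHom_mk (x : ↥(Subgroup.normalizer (P : Set G))) :
    sectionHom π P (QuotientGroup.mk x) = QuotientGroup.mk (normHom π P x) := rfl

theorem mem_pCore_of_surj {p : ℕ} (hsurj : Function.Surjective (normHom π P))
    {x : ↥(Subgroup.normalizer (P : Set G))}
    (hx : (QuotientGroup.mk x : ↥(Subgroup.normalizer (P : Set G)) ⧸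
        (Subgroup.centralizer (P : Set G)).subgroupOf (Subgroup.normalizer (P : Set G))) ∈
      Cfsg.pCore p _) :
    (QuotientGroup.mk (normHom π P x) :
      ↥(Subgroup.normalizer ((P.map π : Subgroup Gb) : Set Gb)) ⧸
        (Subgroup.centralizer ((P.map π : Subgroup Gb) : Set Gb)).subgroupOf
          (Subgroup.normalizer ((P.map π : Subgroup Gb) : Set Gb))) ∈ Cfsg.pCore p _ := by
  have hs : Function.Surjective (sectionHom π P) := by
    intro y
    obtain ⟨y', rfl⟩ := QuotientGroup.mk_surjective y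
    obtain ⟨x', rfl⟩ := hsurj y'
    exact ⟨QuotientGroup.mk x', rfl⟩
  have hn : ((Cfsg.pCore p (↥(Subgroup.normalizer (P : Set G)) ⧸
      (Subgroup.centralizer (P : Set G)).subgroupOf (Subgroup.normalizer (P : Set G)))).map
      (sectionHom π P)).Normal := (pCore_normal p).map _ hs
  have hpg : IsPGroup p ↥((Cfsg.pCore p (↥(Subgroup.normalizer (P : Set G)) ⧸
      (Subgroup.centralizer (P : Set G)).subgroupOf (Subgroup.normalizer (P : Set G)))).map
      (sectionHom π P)) := (pCore_isPGroup p).map _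
  exact le_pCore hn hpg ⟨_, hx, rfl⟩

theorem mem_pCore_of_inj {p : ℕ}
    (hinj : ∀ x ∈ Subgroup.normalizer (P : Set G),
      π x ∈ Subgroup.centralizer ((P.map π : Subgroup Gb) : Set Gb) →
      x ∈ Subgroup.centralizer (P : Set G))
    {x : ↥(Subgroup.normalizer (P : Set G))}
    (hx : (QuotientGroup.mk (normHom π P x) :
      ↥(Subgroup.normalizer ((P.map π : Subgroup Gb) : Set Gb)) ⧸
        (Subgroup.centralizer ((P.map π : Subgroup Gb) : Set Gb)).subgroupOf
          (Subgroup.normalizer ((P.map π : Subgroup Gb) : Set Gb))) ∈ Cfsg.pCore p _) :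
    (QuotientGroup.mk x : ↥(Subgroup.normalizer (P : Set G)) ⧸
        (Subgroup.centralizer (P : Set G)).subgroupOf (Subgroup.normalizer (P : Set G))) ∈
      Cfsg.pCore p _ := by
  have hi : Function.Injective (sectionHom π P) := by
    rw [← MonoidHom.ker_eq_bot_iff, eq_bot_iff]
    intro y hy
    obtain ⟨y', rfl⟩ := QuotientGroup.mk_surjective y
    rw [MonoidHom.mem_ker, sectionHom_mk, QuotientGroup.eq_one_iff, Subgroup.mem_subgroupOf,
      normHom_coe] at hy
    rw [Subgroup.mem_bot, QuotientGroup.eq_one_iff, Subgroup.mem_subgroupOf]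
    exact hinj _ y'.2 hy
  have hn : ((Cfsg.pCore p (↥(Subgroup.normalizer ((P.map π : Subgroup Gb) : Set Gb)) ⧸
      (Subgroup.centralizer ((P.map π : Subgroup Gb) : Set Gb)).subgroupOf
        (Subgroup.normalizer ((P.map π : Subgroup Gb) : Set Gb)))).comap
      (sectionHom π P)).Normal := (pCore_normal p).comap _
  have hpg : IsPGroup p ↥((Cfsg.pCore p (↥(Subgroup.normalizer ((P.map π : Subgroup Gb) :
      Set Gb)) ⧸ (Subgroup.centralizer ((P.map π : Subgroup Gb) : Set Gb)).subgroupOf
        (Subgroup.normalizer ((P.map π : Subgroup Gb) : Set Gb)))).comap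
      (sectionHom π P)) := (pCore_isPGroup p).comap_of_injective _ hi
  exact le_pCore hn hpg hx

/-- image form, for a subgroup `Pb` given with `P.map π = Pb` -/
theorem map_le_pCore_of_surj {p : ℕ} (Pb : Subgroup Gb) (hPV : P.map π = Pb)
    (hsurj : ∀ y ∈ Subgroup.normalizer (Pb : Set Gb),
      ∃ n ∈ Subgroup.normalizer (P : Set G), π n = y)
    (A : Subgroup G) (Ab : Subgroup Gb)
    (hAb : ∀ y ∈ Ab, y ∈ Subgroup.normalizer (Pb : Set Gb) →
      ∃ a ∈ A, a ∈ Subgroup.normalizer (P : Set G) ∧ π a = y)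
    (h : (A.subgroupOf (Subgroup.normalizer (P : Set G))).map
        (QuotientGroup.mk' ((Subgroup.centralizer (P : Set G)).subgroupOf
          (Subgroup.normalizer (P : Set G)))) ≤ Cfsg.pCore p _) :
    (Ab.subgroupOf (Subgroup.normalizer (Pb : Set Gb))).map
        (QuotientGroup.mk' ((Subgroup.centralizer (Pb : Set Gb)).subgroupOf
          (Subgroup.normalizer (Pb : Set Gb)))) ≤ Cfsg.pCore p _ := by
  subst hPV
  rintro _ ⟨y, hy, rfl⟩
  obtain ⟨a, haA, haN, hay⟩ := hAb y.1 (Subgroup.mem_subgroupOf.mp hy) y.2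
  have hs : Function.Surjective (normHom π P) := by
    intro z
    obtain ⟨n, hn, hnz⟩ := hsurj z.1 z.2
    exact ⟨⟨n, hn⟩, Subtype.ext hnz⟩
  have hya : y = normHom π P ⟨a, haN⟩ := Subtype.ext hay.symm
  rw [hya]
  exact mem_pCore_of_surj π P hs (h ⟨⟨a, haN⟩, Subgroup.mem_subgroupOf.mpr haA, rfl⟩)

end transport

end ZJ

end Cfsg.Agent.Lib.Helper16
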