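import Mathlib

set_option autoImplicit false

/-!
# Counting in commutative-transitive groups (class equation pieces)

`G` finite, `Z` a central subgroup, commuting is transitive through non-central elements.
For `g ∉ Z`: `cls Z g` = non-central elements commuting with `g`, `sat Z g` = union of the conjugates of
`cls Z g`; `|sat g| * |N(C(g))| = |G| * |cls g|`, and the sets `sat g` are equal or disjoint.
-/

namespace Cfsg.Agent.Lib.Helper16.ClassEq

open Classical

variable {G : Type*} [Group G] [Fintype G]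

/-- commutative-transitive structure relative to a central subgroup -/
structure CT (Z : Subgroup G) : Prop where
  central : ∀ z ∈ Z, ∀ g : G, z * g = g * z
  trans : ∀ g h k : G, h ∉ Z → g * h = h * g → h * k = k * h → g * k = k * g

variable (Z : Subgroup G)

/-- non-central elements commuting with `g` -/
noncomputable def cls (g : G) : Finset G := Finset.univ.filter (fun h => h ∉ Z ∧ h * g = g * h)

/-- union of the conjugates of `cls Z g` -/
noncomputable def sat (g : G) : Finset G :=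
  Finset.univ.filter (fun y => ∃ l : G, l * y * l⁻¹ ∈ cls Z g)

/-- the normalizer of the centralizer of `g` -/
def Nm (g : G) : Subgroup G := Subgroup.normalizer (Subgroup.centralizer ({g} : Set G) : Set G)

variable {Z}

theorem mem_cls {g h : G} : h ∈ cls Z g ↔ h ∉ Z ∧ h * g = g * h := by
  simp [cls]

theorem mem_sat {g y : G} : y ∈ sat Z g ↔ ∃ l : G, l * y * l⁻¹ ∈ cls Z g := by
  simp [sat]

omit [Fintype G] in
theorem conj_not_mem (hct : CT Z) {h : G} (hh : h ∉ Z) (l : G) : l * h * l⁻¹ ∉ Z := by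
  intro hz
  apply hh
  have h1 := hct.central _ hz l
  -- (l h l⁻¹) l = l (l h l⁻¹)  ⇒ l h = l l h l⁻¹ ⇒ h = l h l⁻¹
  have h2 : l * h * l⁻¹ = h := by
    have : l * h = l * (l * h * l⁻¹) := by
      rw [← h1]; group
    have := mul_left_cancel this
    exact this.symm
  rw [← h2]; exact hz

theorem self_mem_cls {g : G} (hg : g ∉ Z) : g ∈ cls Z g := mem_cls.mpr ⟨hg, rfl⟩

theorem self_mem_sat {g : G} (hg : g ∉ Z) : g ∈ sat Z g :=
  mem_sat.mpr ⟨1, by simpa using self_mem_cls hg⟩

theorem not_mem_of_mem_sat (hct : CT Z) {g y : G} (hy : y ∈ sat Z g) : y ∉ Z := by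
  obtain ⟨l, hl⟩ := mem_sat.mp hy
  intro hz
  have := (mem_cls.mp hl).1
  apply this
  have h1 := hct.central _ hz l⁻¹
  have : l * y * l⁻¹ = y := by
    rw [mul_assoc, h1]; group
  rw [this]; exact hz

theorem cls_eq_of_mem (hct : CT Z) {g h : G} (hg : g ∉ Z) (hh : h ∈ cls Z g) :
    cls Z h = cls Z g := by
  obtain ⟨hhZ, hhg⟩ := mem_cls.mp hh
  ext k
  rw [mem_cls, mem_cls]
  constructor
  · rintro ⟨hk, hkh⟩
    exact ⟨hk, hct.trans k h g hhZ hkh hhg⟩
  · rintro ⟨hk, hkg⟩
    exact ⟨hk, hct.trans k g h hg hkg hhg.symm⟩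

theorem conj_mem_cls (hct : CT Z) {g h : G} (hh : h ∈ cls Z g) (l : G) :
    l * h * l⁻¹ ∈ cls Z (l * g * l⁻¹) := by
  obtain ⟨hhZ, hhg⟩ := mem_cls.mp hh
  refine mem_cls.mpr ⟨conj_not_mem hct hhZ l, ?_⟩
  have e1 : l * h * l⁻¹ * (l * g * l⁻¹) = l * (h * g) * l⁻¹ := by group
  have e2 : l * g * l⁻¹ * (l * h * l⁻¹) = l * (g * h) * l⁻¹ := by group
  rw [e1, e2, hhg]

/-- centralizers of commuting non-central elements agree -/
theorem centralizer_eq_of_mem (hct : CT Z) {g h : G} (hg : g ∉ Z) (hh : h ∈ cls Z g) :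
    Subgroup.centralizer ({h} : Set G) = Subgroup.centralizer ({g} : Set G) := by
  obtain ⟨hhZ, hhg⟩ := mem_cls.mp hh
  ext k
  rw [Subgroup.mem_centralizer_singleton_iff, Subgroup.mem_centralizer_singleton_iff]
  constructor
  · intro hkh
    exact hct.trans k h g hhZ hkh hhg
  · intro hkg
    exact hct.trans k g h hg hkg hhg.symm

theorem mem_Nm_of_conj_mem (hct : CT Z) {g h : G} (hg : g ∉ Z) (hh : h ∈ cls Z g) (l : G)
    (hl : l * h * l⁻¹ ∈ cls Z g) : l ∈ Nm g := by
  unfold Nm
  rw [Subgroup.mem_normalizer_iff]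
  intro k
  have e1 := centralizer_eq_of_mem hct hg hh
  have e2 := centralizer_eq_of_mem hct hg hl
  have e3 : l * k * l⁻¹ * (l * h * l⁻¹) = l * (k * h) * l⁻¹ := by group
  have e4 : l * h * l⁻¹ * (l * k * l⁻¹) = l * (h * k) * l⁻¹ := by group
  constructor
  · intro hk
    rw [← e1] at hk
    rw [← e2]
    rw [Subgroup.mem_centralizer_singleton_iff] at hk ⊢
    rw [e3, e4, hk]
  · intro hk
    rw [← e2] at hk
    rw [← e1]
    rw [Subgroup.mem_centralizer_singleton_iff] at hk ⊢
    rw [e3, e4] at hk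
    exact mul_left_cancel (mul_right_cancel hk)

theorem conj_mem_cls_of_mem_Nm (hct : CT Z) {g h : G} (hh : h ∈ cls Z g) (n : G)
    (hn : n ∈ Nm g) : n * h * n⁻¹ ∈ cls Z g := by
  obtain ⟨hhZ, hhg⟩ := mem_cls.mp hh
  refine mem_cls.mpr ⟨conj_not_mem hct hhZ n, ?_⟩
  have h1 : h ∈ Subgroup.centralizer ({g} : Set G) :=
    Subgroup.mem_centralizer_singleton_iff.mpr hhg
  have h2 := (Subgroup.mem_normalizer_iff.mp hn h).mp h1
  exact Subgroup.mem_centralizer_singleton_iff.mp h2

/-- the counting lemma -/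
theorem card_sat_mul (hct : CT Z) {g : G} (hg : g ∉ Z) :
    (sat Z g).card * Nat.card (Nm g) = Fintype.card G * (cls Z g).card := by
  have key := Finset.sum_card_bipartiteAbove_eq_sum_card_bipartiteBelow
    (fun (y l : G) => l * y * l⁻¹ ∈ cls Z g) (s := sat Z g) (t := (Finset.univ : Finset G))
  have hL : ∀ y ∈ sat Z g,
      (Finset.bipartiteAbove (fun (y l : G) => l * y * l⁻¹ ∈ cls Z g) Finset.univ y).card
        = Nat.card (Nm g) := by
    intro y hy
    obtain ⟨l₀, hl₀⟩ := mem_sat.mp hy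
    rw [Nat.card_eq_fintype_card, ← Finset.card_univ]
    symm
    apply Finset.card_bij (fun (n : Nm g) _ => (n : G) * l₀)
    · intro n _
      simp only [Finset.bipartiteAbove, Finset.mem_filter, Finset.mem_univ, true_and]
      have := conj_mem_cls_of_mem_Nm hct hl₀ n n.2
      have e : (n : G) * l₀ * y * ((n : G) * l₀)⁻¹ = (n : G) * (l₀ * y * l₀⁻¹) * (n : G)⁻¹ := by group
      rw [e]; exact this
    · intro a _ b _ hab
      exact Subtype.ext (mul_right_cancel hab)
    · intro l hl
      simp only [Finset.bipartiteAbove, Finset.mem_filter, Finset.mem_univ, true_and] at hl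
      have hmem : l * l₀⁻¹ ∈ Nm g := by
        apply mem_Nm_of_conj_mem hct hg hl₀
        have e : l * l₀⁻¹ * (l₀ * y * l₀⁻¹) * (l * l₀⁻¹)⁻¹ = l * y * l⁻¹ := by group
        rw [e]; exact hl
      exact ⟨⟨l * l₀⁻¹, hmem⟩, Finset.mem_univ _, by simp⟩
  have hR : ∀ l ∈ (Finset.univ : Finset G),
      (Finset.bipartiteBelow (fun (y l : G) => l * y * l⁻¹ ∈ cls Z g) (sat Z g) l).card
        = (cls Z g).card := by
    intro l _
    apply Finset.card_bij (fun y _ => l * y * l⁻¹)
    · intro y hy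
      simp only [Finset.bipartiteBelow, Finset.mem_filter] at hy
      exact hy.2
    · intro a _ b _ hab
      exact mul_left_cancel (mul_right_cancel hab)
    · intro h hh
      refine ⟨l⁻¹ * h * l, ?_, by group⟩
      simp only [Finset.bipartiteBelow, Finset.mem_filter]
      have e : l * (l⁻¹ * h * l) * l⁻¹ = h := by group
      refine ⟨mem_sat.mpr ⟨l, by rw [e]; exact hh⟩, by rw [e]; exact hh⟩
  rw [Finset.sum_congr rfl hL, Finset.sum_congr rfl hR] at key
  simpa [Finset.sum_const, smul_eq_mul] using key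

/-- the saturations are equal or disjoint -/
theorem sat_subset_of_mem (hct : CT Z) {g g' y : G} (hg : g ∉ Z) (hg' : g' ∉ Z)
    (hy : y ∈ sat Z g) (hy' : y ∈ sat Z g') : sat Z g ⊆ sat Z g' := by
  obtain ⟨l, hl⟩ := mem_sat.mp hy
  obtain ⟨l', hl'⟩ := mem_sat.mp hy'
  intro w hw
  obtain ⟨l'', hl''⟩ := mem_sat.mp hw
  rw [← cls_eq_of_mem hct hg hl] at hl''
  have h1 := conj_mem_cls hct hl'' (l' * l⁻¹)
  have e : l' * l⁻¹ * (l * y * l⁻¹) * (l' * l⁻¹)⁻¹ = l' * y * l'⁻¹ := by group
  rw [e, cls_eq_of_mem hct hg' hl'] at h1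
  refine mem_sat.mpr ⟨l' * l⁻¹ * l'', ?_⟩
  have e2 : l' * l⁻¹ * l'' * w * (l' * l⁻¹ * l'')⁻¹ = l' * l⁻¹ * (l'' * w * l''⁻¹) * (l' * l⁻¹)⁻¹ := by
    group
  rw [e2]; exact h1

theorem sat_eq_of_mem (hct : CT Z) {g g' y : G} (hg : g ∉ Z) (hg' : g' ∉ Z)
    (hy : y ∈ sat Z g) (hy' : y ∈ sat Z g') : sat Z g = sat Z g' :=
  Finset.Subset.antisymm (sat_subset_of_mem hct hg hg' hy hy') (sat_subset_of_mem hct hg' hg hy' hy)

theorem disjoint_sat (hct : CT Z) {g g' : G} (hg : g ∉ Z) (hg' : g' ∉ Z) (h : g' ∉ sat Z g) :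
    Disjoint (sat Z g) (sat Z g') := by
  rw [Finset.disjoint_left]
  intro y hy hy'
  apply h
  rw [sat_eq_of_mem hct hg hg' hy hy']
  exact self_mem_sat hg'

/-- `|cls g| + |Z| = |C(g)|` -/
theorem card_cls_add (hct : CT Z) {g : G} :
    (cls Z g).card + Nat.card Z = Nat.card (Subgroup.centralizer ({g} : Set G)) := by
  rw [Nat.card_eq_fintype_card, Nat.card_eq_fintype_card, ← Finset.card_univ, ← Finset.card_univ]
  have h1 : (Finset.univ : Finset Z).card = (Finset.univ.filter (fun h : G => h ∈ Z)).card := by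
    apply Finset.card_bij (fun (z : Z) _ => (z : G))
    · intro z _; simp
    · intro a _ b _ hab; exact Subtype.ext hab
    · intro h hh
      simp only [Finset.mem_filter, Finset.mem_univ, true_and] at hh
      exact ⟨⟨h, hh⟩, Finset.mem_univ _, rfl⟩
  have h2 : (Finset.univ : Finset (Subgroup.centralizer ({g} : Set G))).card =
      (Finset.univ.filter (fun h : G => h * g = g * h)).card := by
    apply Finset.card_bij (fun (z : Subgroup.centralizer ({g} : Set G)) _ => (z : G))
    · intro z _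
      simp only [Finset.mem_filter, Finset.mem_univ, true_and]
      exact Subgroup.mem_centralizer_singleton_iff.mp z.2
    · intro a _ b _ hab; exact Subtype.ext hab
    · intro h hh
      simp only [Finset.mem_filter, Finset.mem_univ, true_and] at hh
      exact ⟨⟨h, Subgroup.mem_centralizer_singleton_iff.mpr hh⟩, Finset.mem_univ _, rfl⟩
  rw [h1, h2, ← Finset.card_union_of_disjoint]
  · congr 1
    ext h
    simp only [cls, Finset.mem_union, Finset.mem_filter, Finset.mem_univ, true_and]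
    constructor
    · rintro (⟨-, hc⟩ | hz)
      · exact hc
      · exact hct.central h hz g
    · intro hc
      by_cases hz : h ∈ Z
      · exact Or.inr hz
      · exact Or.inl ⟨hz, hc⟩
  · rw [Finset.disjoint_left]
    intro h hh hz
    simp only [cls, Finset.mem_filter, Finset.mem_univ, true_and] at hh hz
    exact hh.1 hz

end Cfsg.Agent.Lib.Helper16.ClassEq
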