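import Mathlib
import Cfsg.Agent.Lib.Helper16.ClassEq

set_option autoImplicit false

/-!
# Class equation for commutative-transitive groups: the remainder after two classes
-/

namespace Cfsg.Agent.Lib.Helper16.ClassEq

open Classical

variable {G : Type*} [Group G] [Fintype G]
variable (Z : Subgroup G)

/-- elements outside `Z` and outside the saturations of `g₁` and `g₂` -/
noncomputable def rest (g₁ g₂ : G) : Finset G :=
  Finset.univ.filter (fun y => y ∉ Z ∧ y ∉ sat Z g₁ ∧ y ∉ sat Z g₂)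

variable {Z}

theorem mem_rest {g₁ g₂ y : G} :
    y ∈ rest Z g₁ g₂ ↔ y ∉ Z ∧ y ∉ sat Z g₁ ∧ y ∉ sat Z g₂ := by
  simp [rest]

theorem card_total (hct : CT Z) {g₁ g₂ : G} (hg₁ : g₁ ∉ Z) (hg₂ : g₂ ∉ Z)
    (h12 : g₂ ∉ sat Z g₁) :
    Fintype.card G =
      Nat.card Z + (sat Z g₁).card + (sat Z g₂).card + (rest Z g₁ g₂).card := by
  have hZ : Nat.card Z = (Finset.univ.filter (fun h : G => h ∈ Z)).card := by
    rw [Nat.card_eq_fintype_card, ← Finset.card_univ]
    apply Finset.card_bij (fun (z : Z) _ => (z : G))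
    · intro z _; simp
    · intro a _ b _ hab; exact Subtype.ext hab
    · intro h hh
      simp only [Finset.mem_filter, Finset.mem_univ, true_and] at hh
      exact ⟨⟨h, hh⟩, Finset.mem_univ _, rfl⟩
  have hd1 : Disjoint (Finset.univ.filter (fun h : G => h ∈ Z)) (sat Z g₁) := by
    rw [Finset.disjoint_left]
    intro y hy hy'
    simp only [Finset.mem_filter, Finset.mem_univ, true_and] at hy
    exact not_mem_of_mem_sat hct hy' hy
  have hd2 : Disjoint (Finset.univ.filter (fun h : G => h ∈ Z) ∪ sat Z g₁) (sat Z g₂) := by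
    rw [Finset.disjoint_left]
    intro y hy hy'
    rcases Finset.mem_union.mp hy with h | h
    · simp only [Finset.mem_filter, Finset.mem_univ, true_and] at h
      exact not_mem_of_mem_sat hct hy' h
    · exact (Finset.disjoint_left.mp (disjoint_sat hct hg₁ hg₂ h12)) h hy'
  have hd3 : Disjoint (Finset.univ.filter (fun h : G => h ∈ Z) ∪ sat Z g₁ ∪ sat Z g₂)
      (rest Z g₁ g₂) := by
    rw [Finset.disjoint_left]
    intro y hy hy'
    obtain ⟨h1, h2, h3⟩ := mem_rest.mp hy'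
    rcases Finset.mem_union.mp hy with h | h
    · rcases Finset.mem_union.mp h with h | h
      · simp only [Finset.mem_filter, Finset.mem_univ, true_and] at h
        exact h1 h
      · exact h2 h
    · exact h3 h
  rw [hZ, ← Finset.card_union_of_disjoint hd1, ← Finset.card_union_of_disjoint hd2,
    ← Finset.card_union_of_disjoint hd3, ← Finset.card_univ]
  congr 1
  ext y
  simp only [Finset.mem_univ, Finset.mem_union, Finset.mem_filter, true_and, mem_rest, true_iff]
  by_cases h1 : y ∈ Z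
  · exact Or.inl (Or.inl (Or.inl h1))
  · by_cases h2 : y ∈ sat Z g₁
    · exact Or.inl (Or.inl (Or.inr h2))
    · by_cases h3 : y ∈ sat Z g₂
      · exact Or.inl (Or.inr h3)
      · exact Or.inr ⟨h1, h2, h3⟩

theorem sat_subset_rest (hct : CT Z) {g₁ g₂ g : G} (hg₁ : g₁ ∉ Z) (hg₂ : g₂ ∉ Z)
    (hg : g ∈ rest Z g₁ g₂) : sat Z g ⊆ rest Z g₁ g₂ := by
  obtain ⟨h1, h2, h3⟩ := mem_rest.mp hg
  intro y hy
  refine mem_rest.mpr ⟨not_mem_of_mem_sat hct hy, ?_, ?_⟩
  · intro hy'
    apply h2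
    rw [← sat_eq_of_mem hct h1 hg₁ hy hy']
    exact self_mem_sat h1
  · intro hy'
    apply h3
    rw [← sat_eq_of_mem hct h1 hg₂ hy hy']
    exact self_mem_sat h1

theorem two_sat_le (hct : CT Z) {g₁ g₂ g g' : G} (hg₁ : g₁ ∉ Z) (hg₂ : g₂ ∉ Z)
    (hg : g ∈ rest Z g₁ g₂) (hg' : g' ∈ rest Z g₁ g₂) (hne : g' ∉ sat Z g) :
    (sat Z g).card + (sat Z g').card ≤ (rest Z g₁ g₂).card := by
  have hd := disjoint_sat hct (mem_rest.mp hg).1 (mem_rest.mp hg').1 hne
  rw [← Finset.card_union_of_disjoint hd]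
  apply Finset.card_le_card
  exact Finset.union_subset (sat_subset_rest hct hg₁ hg₂ hg) (sat_subset_rest hct hg₁ hg₂ hg')

theorem rest_eq_sat (hct : CT Z) {g₁ g₂ g : G} (hg₁ : g₁ ∉ Z) (hg₂ : g₂ ∉ Z)
    (hg : g ∈ rest Z g₁ g₂) (hall : ∀ g' ∈ rest Z g₁ g₂, g' ∈ sat Z g) :
    rest Z g₁ g₂ = sat Z g :=
  Finset.Subset.antisymm hall (sat_subset_rest hct hg₁ hg₂ hg)

end Cfsg.Agent.Lib.Helper16.ClassEq
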