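import Mathlib

set_option autoImplicit false

/-!
# Arithmetic of the class equation of a non-`p`-closed subgroup of `SL₂`
-/

namespace Cfsg.Agent.Lib.Helper16.DicksonArith

/-- a class with centralizer of order `C ≥ 2z`, normalizer of order `≤ 2C` has a saturation of
size at least `n / 4` -/
theorem le_four_mul {z n S C N c : ℕ} (hc : c + z = C) (hz : 2 * z ≤ C) (hz1 : 1 ≤ z)
    (hN : N = C ∨ N = 2 * C) (hS : S * N = n * c) : n ≤ 4 * S := by
  have hC : 0 < C := by omega
  have h2c : C ≤ 2 * c := by omega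
  have hNle : N ≤ 2 * C := by rcases hN with h | h <;> omega
  have h1 : n * C ≤ n * (2 * c) := Nat.mul_le_mul_left _ h2c
  have h2 : S * N ≤ S * (2 * C) := Nat.mul_le_mul_left _ hNle
  have h3 : n * C ≤ (4 * S) * C := by nlinarith
  exact Nat.le_of_mul_le_mul_right h3 hC

theorem le_two_mul {z n S C c : ℕ} (hc : c + z = C) (hz : 2 * z ≤ C) (hz1 : 1 ≤ z)
    (hS : S * C = n * c) : n ≤ 2 * S := by
  have hC : 0 < C := by omega
  have h2c : C ≤ 2 * c := by omega
  have h1 : n * C ≤ n * (2 * c) := Nat.mul_le_mul_left _ h2c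
  have h3 : n * C ≤ (2 * S) * C := by nlinarith
  exact Nat.le_of_mul_le_mul_right h3 hC

/-- the remainder when the torus is self-normalizing modulo its centralizer -/
theorem rest_e1 {z q t m Sx cx Sh ch Rc : ℤ} (hcx : cx + z = z * q) (hSx : Sx = m * cx)
    (hch : ch + z = z * t) (hSh : Sh = m * q * ch)
    (htot : m * q * z * t = z + Sx + Sh + Rc) : Rc = m * z - z := by
  subst hSx hSh
  have h1 : cx = z * q - z := by linarith
  have h2 : ch = z * t - z := by linarith
  subst h1 h2
  linear_combination (-1 : ℤ) * htot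

theorem e1_contra {z q t m Rc Sg : ℤ} (hz : 1 ≤ z) (hq : 3 ≤ q) (ht : 2 ≤ t) (hm : 2 ≤ m)
    (hR : Rc = m * z - z) (hS : Sg ≤ Rc) (hn : m * q * z * t ≤ 4 * Sg) : False := by
  have h1 : 0 < m * z := by positivity
  have h2 : 6 ≤ q * t := by nlinarith
  have h3 : m * z * 6 ≤ m * z * (q * t) := by nlinarith
  nlinarith

/-- twice the remainder when the torus has index two in its normalizer -/
theorem rest_e2 {z q t m Sx cx Sh ch Rc : ℤ} (hcx : cx + z = z * q) (hSx : Sx = m * cx)
    (hch : ch + z = z * t) (hSh : 2 * Sh = m * q * ch)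
    (htot : m * q * z * t = z + Sx + Sh + Rc) :
    2 * Rc = m * q * z * t - m * q * z + 2 * m * z - 2 * z := by
  subst hSx
  have h1 : cx = z * q - z := by linarith
  have h2 : ch = z * t - z := by linarith
  subst h1 h2
  linear_combination (-2 : ℤ) * htot - hSh

theorem e2_lt {z q t m Rc : ℤ} (hz : 1 ≤ z) (hq : 3 ≤ q) (hm : 2 ≤ m)
    (hR : 2 * Rc = m * q * z * t - m * q * z + 2 * m * z - 2 * z) :
    2 * Rc < m * q * z * t := by
  have h1 : 0 < m * z := by positivity
  have h2 : m * z * 3 ≤ m * z * q := by nlinarith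
  nlinarith

/-- the single remaining class determines an equation -/
theorem one_class_eq {z q t m a Rc Sg : ℤ} (hz : 1 ≤ z)
    (hR : 2 * Rc = m * q * z * t - m * q * z + 2 * m * z - 2 * z) (hRS : Rc = Sg)
    (hS : Sg * (2 * (z * a)) = (m * q * z * t) * (z * a - z)) :
    m * q * t = a * (m * q - 2 * m + 2) := by
  subst hRS
  have hz0 : z ≠ 0 := by omega
  have h1 : z * z * (m * q * t) = z * z * (a * (m * q - 2 * m + 2)) := by
    linear_combination hS - (z * a) * hR
  exact mul_left_cancel₀ (mul_ne_zero hz0 hz0) h1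

/-- the final arithmetic: either the index is `q + 1` or we are in the icosahedral case -/
theorem final {m q t a : ℤ} (hq : 3 ≤ q) (ht : 2 ≤ t) (htq : t + 1 ≤ q) (hm : 2 ≤ m)
    (ha : 2 ≤ a) (hcop : IsCoprime q (2 * a))
    (heq : m * q * t = a * (m * q - 2 * m + 2)) :
    m = q + 1 ∨ (q = 3 ∧ m = 10 ∧ t = 2 ∧ a = 5) := by
  have hdvd : q ∣ (2 * a) * (m - 1) := ⟨m * (a - t), by linear_combination heq⟩
  obtain ⟨k, hk⟩ := hcop.dvd_of_dvd_mul_left hdvd
  have hm' : m = 1 + q * k := by linarith
  subst hm'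
  have hk1 : 1 ≤ k := by
    by_contra hlt
    push Not at hlt
    have : k ≤ 0 := by omega
    nlinarith
  have hq0 : q ≠ 0 := by omega
  have h1 : q * ((1 + q * k) * t) = q * (a * (1 + q * k - 2 * k)) := by
    linear_combination heq
  have h2 : (1 + q * k) * t = a * (1 + q * k - 2 * k) := mul_left_cancel₀ hq0 h1
  -- `w = 1 + k (q - 2)`
  have hw : 2 ≤ 1 + q * k - 2 * k := by nlinarith
  have h3 : (a - t) * (1 + q * k - 2 * k) = 2 * k * t := by linear_combination (-1 : ℤ) * h2
  have hd : 0 < a - t := by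
    by_contra hle
    push Not at hle
    have : (a - t) * (1 + q * k - 2 * k) ≤ 0 := by nlinarith
    nlinarith
  -- `d = k δ`
  have h4 : a - t = k * (2 * t - (a - t) * (q - 2)) := by linear_combination h3
  set δ := 2 * t - (a - t) * (q - 2) with hδ
  have hδ1 : 1 ≤ δ := by
    by_contra hlt
    push Not at hlt
    have : δ ≤ 0 := by omega
    nlinarith
  have hk0 : k ≠ 0 := by omega
  have h5 : k * (δ * (1 + q * k - 2 * k)) = k * (2 * t) := by
    rw [h4] at h3
    linear_combination h3
  have h6 : δ * (1 + q * k - 2 * k) = 2 * t := mul_left_cancel₀ hk0 h5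
  by_cases hk' : k = 1
  · left
    rw [hk']; ring
  · right
    have hk2 : 2 ≤ k := by omega
    have hw2 : 2 * q - 3 ≤ 1 + q * k - 2 * k := by nlinarith
    have hδeq : δ = 1 := by
      by_contra hne
      have : 2 ≤ δ := by omega
      nlinarith
    rw [hδeq, one_mul] at h6
    have hk4 : k ≤ 3 := by
      by_contra hgt
      push Not at hgt
      have : 4 ≤ k := by omega
      nlinarith
    have hk3 : k = 2 ∨ k = 3 := by omega
    rcases hk3 with rfl | rfl
    · omega
    · have hq3 : q = 3 := by omega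
      subst hq3
      have ht2 : t = 2 := by omega
      subst ht2
      have : a - 2 = 3 * δ := h4
      rw [hδeq] at this
      refine ⟨rfl, by norm_num, rfl, by omega⟩

end Cfsg.Agent.Lib.Helper16.DicksonArith
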