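import Mathlib
import Cfsg.Agent.Lib.Helper99.TwoByTwo
import Cfsg.Agent.Lib.Helper60.SL2

set_option autoImplicit false

/-!
# `p'`-subgroups of `SL₂(F)` normalized by a unipotent element (part 1: matrix lemmas)
-/

namespace Cfsg.Agent.Lib.Helper16.SL2Q

open Matrix

variable {F : Type*} [Field F]

local notation "SL2" => Matrix.SpecialLinearGroup (Fin 2) F
local notation "M2" => Matrix (Fin 2) (Fin 2) F

/-- the trace of an element of `SL₂` -/
def tr (g : SL2) : F := (g : M2).trace

theorem tr_def (g : SL2) : tr g = (g : M2) 0 0 + (g : M2) 1 1 := by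
  simp [tr, Matrix.trace_fin_two]

theorem det_eq (g : SL2) : (g : M2) 0 0 * (g : M2) 1 1 - (g : M2) 0 1 * (g : M2) 1 0 = 1 := by
  have := g.2
  rwa [Matrix.det_fin_two] at this

theorem coe_inv_eq (g : SL2) :
    ((g⁻¹ : SL2) : M2) = !![(g : M2) 1 1, -(g : M2) 0 1; -(g : M2) 1 0, (g : M2) 0 0] := by
  rw [Matrix.SpecialLinearGroup.coe_inv, Matrix.adjugate_fin_two]

theorem tr_inv (g : SL2) : tr g⁻¹ = tr g := by
  rw [tr_def, tr_def, coe_inv_eq]
  simp [add_comm]

theorem tr_conj (g s : SL2) : tr (g * s * g⁻¹) = tr s := by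
  unfold tr
  rw [Matrix.SpecialLinearGroup.coe_mul, Matrix.SpecialLinearGroup.coe_mul, Matrix.trace_mul_comm,
    ← Matrix.mul_assoc, ← Matrix.SpecialLinearGroup.coe_mul, inv_mul_cancel]
  simp

theorem tr_one : tr (1 : SL2) = 2 := by
  rw [tr_def]; simp; norm_num

theorem tr_neg_one : tr (-1 : SL2) = -2 := by
  rw [tr_def]; simp; norm_num

/-- Cayley–Hamilton in `SL₂`. -/
theorem coe_mul_self (g : SL2) : (g : M2) * (g : M2) = tr g • (g : M2) - 1 := by
  have := Cfsg.Agent.Lib.Helper99.sq_eq_trace_smul_sub_det (g : M2)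
  rw [g.2, one_smul] at this
  exact this

theorem coe_inv_eq' (g : SL2) : ((g⁻¹ : SL2) : M2) = tr g • (1 : M2) - (g : M2) := by
  rw [coe_inv_eq, tr_def]
  ext i j
  fin_cases i <;> fin_cases j <;> simp

/-- scalar elements of `SL₂` are `±1` -/
theorem eq_one_or_neg_one_of_scalar (g : SL2) (c : F) (h : (g : M2) = c • (1 : M2)) :
    g = 1 ∨ g = -1 := by
  have hd := det_eq g
  rw [h] at hd
  simp at hd
  have hc : (c - 1) * (c + 1) = 0 := by linear_combination hd
  rcases mul_eq_zero.mp hc with h1 | h1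
  · left
    apply Subtype.ext
    rw [h, sub_eq_zero.mp h1, one_smul]; rfl
  · right
    apply Subtype.ext
    rw [h, eq_neg_of_add_eq_zero_left h1, Matrix.SpecialLinearGroup.coe_neg]
    simp

theorem not_scalar_of_ne (g : SL2) (h1 : g ≠ 1) (h2 : g ≠ -1) :
    ∀ c : F, (g : M2) ≠ c • (1 : M2) := by
  intro c hc
  rcases eq_one_or_neg_one_of_scalar g c hc with h | h
  · exact h1 h
  · exact h2 h

/-- determinant of `α + β z` for a `2 × 2` matrix -/
theorem det_add_smul (z : M2) (α β : F) :
    (α • (1 : M2) + β • z).det = α ^ 2 + α * β * z.trace + β ^ 2 * z.det := by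
  simp [Matrix.det_fin_two, Matrix.trace_fin_two]
  ring

theorem trace_add_smul (z : M2) (α β : F) :
    (α • (1 : M2) + β • z).trace = 2 * α + β * z.trace := by
  simp [Matrix.trace_fin_two]
  ring

/-- An element commuting with a non-scalar `s` (with `tr s ^ 2 ≠ 4`) and having the same trace is
`s` or `s⁻¹`. -/
theorem eq_or_eq_inv_of_commute (h2 : (2 : F) ≠ 0) (s m : SL2)
    (hs : ∀ c : F, (s : M2) ≠ c • (1 : M2)) (hτ : tr s ^ 2 ≠ 4)
    (hcomm : m * s = s * m) (htr : tr m = tr s) : m = s ∨ m = s⁻¹ := by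
  have hc : (m : M2) * (s : M2) = (s : M2) * (m : M2) := by
    rw [← Matrix.SpecialLinearGroup.coe_mul, ← Matrix.SpecialLinearGroup.coe_mul, hcomm]
  obtain ⟨α, β, hαβ⟩ := Cfsg.Agent.Lib.Helper99.exists_eq_add_smul_of_commute hs hc
  have htr' : 2 * α + β * tr s = tr s := by
    have h1 : tr m = 2 * α + β * tr s := by
      show (m : M2).trace = _
      rw [hαβ, trace_add_smul]; rfl
    rw [← h1, htr]
  have hdet' : α ^ 2 + α * β * tr s + β ^ 2 = 1 := by
    have := det_add_smul (s : M2) α β
    rw [← hαβ, m.2, s.2, mul_one] at this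
    exact this.symm
  have h4 : (4 : F) ≠ 0 := by
    have : (4 : F) = 2 * 2 := by norm_num
    rw [this]; exact mul_ne_zero h2 h2
  have key : (1 - β ^ 2) * (tr s ^ 2 - 4) = 0 := by
    have hα : α = tr s * (1 - β) / 2 := by
      field_simp
      linear_combination htr'
    rw [hα] at hdet'
    field_simp at hdet'
    linear_combination hdet'
  rcases mul_eq_zero.mp key with hb | hb
  · have hb' : (1 - β) * (1 + β) = 0 := by linear_combination hb
    rcases mul_eq_zero.mp hb' with h1 | h1
    · -- β = 1, α = 0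
      have hβ : β = 1 := by linear_combination -h1
      have hα : α = 0 := by
        have : 2 * α = 0 := by rw [hβ] at htr'; linear_combination htr'
        rcases mul_eq_zero.mp this with h | h
        · exact absurd h h2
        · exact h
      left
      apply Subtype.ext
      rw [hαβ, hα, hβ]; simp
    · have hβ : β = -1 := by linear_combination h1
      have hα : α = tr s := by
        have : 2 * α = 2 * tr s := by rw [hβ] at htr'; linear_combination htr'
        exact mul_left_cancel₀ h2 this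
      right
      apply Subtype.ext
      rw [hαβ, hα, hβ, coe_inv_eq']
      simp [sub_eq_add_neg]
  · exact absurd (sub_eq_zero.mp hb) hτ


theorem tr_sq (g : SL2) : tr (g ^ 2) = tr g ^ 2 - 2 := by
  unfold tr
  rw [pow_two, Matrix.SpecialLinearGroup.coe_mul, coe_mul_self]
  simp [Matrix.trace_sub, Matrix.trace_smul, tr, Matrix.trace_fin_two]
  ring

section charp

variable {p : ℕ} [hpF : Fact p.Prime] [CharP F p]

omit hpF in
theorem two_ne_zero_of_char (hp : p ≠ 2) [Fact p.Prime] : (2 : F) ≠ 0 := by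
  intro h
  have h2 : ((2 : ℕ) : F) = 0 := by exact_mod_cast h
  rw [CharP.cast_eq_zero_iff F p] at h2
  have := (Nat.prime_dvd_prime_iff_eq (Fact.out : p.Prime) Nat.prime_two).mp h2
  exact hp this

/-- unipotent elements have order dividing `p` -/
theorem pow_char_of_tr_eq_two (g : SL2) (hg : tr g = 2) : g ^ p = 1 := by
  have hn : ((g : M2) - 1) * ((g : M2) - 1) = 0 := by
    have := coe_mul_self g
    rw [hg] at this
    rw [sub_mul, mul_sub, this]
    simp only [mul_one, one_mul]
    rw [two_smul]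
    abel
  have hcomm : Commute ((g : M2) - 1) (1 : M2) := Commute.one_right _
  have h1 : ((g : M2) - 1 + 1) ^ p = ((g : M2) - 1) ^ p + 1 ^ p :=
    add_pow_char_of_commute p hcomm
  have hp2 : 2 ≤ p := (Fact.out : p.Prime).two_le
  have h2 : ((g : M2) - 1) ^ p = 0 := by
    obtain ⟨k, hk⟩ := Nat.exists_eq_add_of_le hp2
    rw [hk, pow_add, pow_two, hn, zero_mul]
  rw [sub_add_cancel, h2, one_pow, zero_add] at h1
  apply Subtype.ext
  rw [Matrix.SpecialLinearGroup.coe_pow, h1]
  rfl

/-- a `p'`-element other than `±1` has `tr ^ 2 ≠ 4` -/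
theorem tr_sq_ne_four (hp : p ≠ 2) (s : SL2) (k : ℕ) (hk : k.Coprime p) (hsk : s ^ k = 1)
    (h1 : s ≠ 1) (h2 : s ≠ -1) : tr s ^ 2 ≠ 4 := by
  intro h4
  have h2F : (2 : F) ≠ 0 := two_ne_zero_of_char (p := p) hp
  have hcases : (tr s - 2) * (tr s + 2) = 0 := by linear_combination h4
  have key : ∀ g : SL2, tr g = 2 → ∀ m : ℕ, m.Coprime p → g ^ m = 1 → g = 1 := by
    intro g hg m hm hgm
    have hgp := pow_char_of_tr_eq_two (p := p) g hg
    have h3 : orderOf g ∣ Nat.gcd m p :=
      Nat.dvd_gcd (orderOf_dvd_of_pow_eq_one hgm) (orderOf_dvd_of_pow_eq_one hgp)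
    rw [hm] at h3
    exact orderOf_eq_one_iff.mp (Nat.dvd_one.mp h3)
  rcases mul_eq_zero.mp hcases with h | h
  · exact h1 (key s (by linear_combination h) k hk hsk)
  · have htr : tr (-s) = 2 := by
      rw [tr_def, Matrix.SpecialLinearGroup.coe_neg]
      have := tr_def s
      simp only [Matrix.neg_apply]
      linear_combination -h + this
    have hpow : (-s) ^ (2 * k) = 1 := by
      have hneg : (-s) ^ 2 = s ^ 2 := by
        apply Subtype.ext
        simp [pow_two]
      rw [pow_mul, hneg, ← pow_mul, mul_comm, pow_mul, hsk, one_pow]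
    have hco : (2 * k).Coprime p := by
      apply Nat.Coprime.mul_left _ hk
      rw [Nat.coprime_comm]
      exact (Nat.coprime_primes (Fact.out : p.Prime) Nat.prime_two).mpr hp
    have := key (-s) htr (2 * k) hco hpow
    apply h2
    rw [← this, neg_neg]

/-- an element commuting with a nontrivial unipotent element has `tr ^ 2 = 4` -/
theorem tr_sq_eq_four_of_commute (hp : p ≠ 2) (y s : SL2) (hy1 : y ≠ 1) (hyt : tr y = 2)
    (hcomm : s * y = y * s) : tr s ^ 2 = 4 := by
  have h2F : (2 : F) ≠ 0 := two_ne_zero_of_char (p := p) hp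
  have hy2 : y ≠ -1 := by
    intro h
    rw [h, tr_neg_one] at hyt
    apply h2F
    have : (2 : F) * 2 = 0 := by linear_combination -hyt
    rcases mul_eq_zero.mp this with h | h <;> exact h
  have hc : (s : M2) * (y : M2) = (y : M2) * (s : M2) := by
    rw [← Matrix.SpecialLinearGroup.coe_mul, ← Matrix.SpecialLinearGroup.coe_mul, hcomm]
  obtain ⟨α, β, hαβ⟩ := Cfsg.Agent.Lib.Helper99.exists_eq_add_smul_of_commute
    (not_scalar_of_ne y hy1 hy2) hc
  have h1 : tr s = 2 * α + β * 2 := by
    show (s : M2).trace = _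
    rw [hαβ, trace_add_smul]
    congr 2
  have h2 : α ^ 2 + α * β * 2 + β ^ 2 = 1 := by
    have := det_add_smul (y : M2) α β
    rw [← hαβ, s.2, y.2, mul_one] at this
    have hyt' : (y : M2).trace = 2 := hyt
    rw [hyt'] at this
    exact this.symm
  rw [h1]
  linear_combination 4 * h2

end charp


section invariant

variable {p : ℕ} [hpF : Fact p.Prime] [CharP F p]

/-- data: a nontrivial unipotent element -/
structure Unip (x : SL2) : Prop where
  ne_one : x ≠ 1
  tr_eq : tr x = 2

theorem Unip.sq (hp : p ≠ 2) {x : SL2} (hx : Unip x) : Unip (x ^ 2) := by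
  refine ⟨?_, ?_⟩
  · intro h
    have hxp := pow_char_of_tr_eq_two (p := p) x hx.tr_eq
    have h3 : orderOf x ∣ Nat.gcd 2 p :=
      Nat.dvd_gcd (orderOf_dvd_of_pow_eq_one h) (orderOf_dvd_of_pow_eq_one hxp)
    have hco : Nat.gcd 2 p = 1 := by
      have := (Nat.coprime_primes Nat.prime_two (Fact.out : p.Prime)).mpr (Ne.symm hp)
      exact this
    rw [hco] at h3
    exact hx.ne_one (orderOf_eq_one_iff.mp (Nat.dvd_one.mp h3))
  · rw [tr_sq, hx.tr_eq]; norm_num

/-- Every abelian `p'`-subgroup normalized by a nontrivial unipotent element consists of `±1`. -/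
theorem scalar_of_abelian_invariant (hp : p ≠ 2) {x : SL2} (hx : Unip x)
    (A : Subgroup SL2) [Finite A] (hA : (Nat.card A).Coprime p)
    (hcomm : ∀ s ∈ A, ∀ t ∈ A, s * t = t * s) (hinv : ∀ s ∈ A, x * s * x⁻¹ ∈ A) :
    ∀ s ∈ A, s = 1 ∨ s = -1 := by
  intro s hs
  by_contra hcon
  push Not at hcon
  obtain ⟨hs1, hs2⟩ := hcon
  have h2F : (2 : F) ≠ 0 := two_ne_zero_of_char (p := p) hp
  have hsk : s ^ Nat.card A = 1 := by
    have := pow_card_eq_one' (G := A) (x := ⟨s, hs⟩)
    exact congrArg Subtype.val this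
  have hτ := tr_sq_ne_four (p := p) hp s (Nat.card A) hA hsk hs1 hs2
  have hns := not_scalar_of_ne s hs1 hs2
  have hm := eq_or_eq_inv_of_commute h2F s (x * s * x⁻¹) hns hτ
    (hcomm _ (hinv s hs) _ hs) (tr_conj x s)
  rcases hm with hm | hm
  · have hc : s * x = x * s := by
      have := congrArg (· * x) hm
      simp only [inv_mul_cancel_right] at this
      exact this.symm
    exact hτ (tr_sq_eq_four_of_commute (p := p) hp x s hx.ne_one hx.tr_eq hc)
  · have h2 : x ^ 2 * s * (x ^ 2)⁻¹ = s := by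
      have e : x ^ 2 * s * (x ^ 2)⁻¹ = x * (x * s * x⁻¹) * x⁻¹ := by
        rw [pow_two]; group
      rw [e, hm]
      have : x * s⁻¹ * x⁻¹ = (x * s * x⁻¹)⁻¹ := by group
      rw [this, hm, inv_inv]
    have hc : s * x ^ 2 = x ^ 2 * s := by
      have := congrArg (· * x ^ 2) h2
      simp only [inv_mul_cancel_right] at this
      exact this.symm
    have hx2 := hx.sq (p := p) hp
    exact hτ (tr_sq_eq_four_of_commute (p := p) hp (x ^ 2) s hx2.ne_one hx2.tr_eq hc)

end invariant

end Cfsg.Agent.Lib.Helper16.SL2Q
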