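import Mathlib
import Cfsg.Agent.Lib.Helper16.SL2Quad
import Cfsg.Agent.Lib.Helper97.UniqueOrderP

set_option autoImplicit false

/-!
# `p'`-subgroups of `SL₂(F)` normalized by a unipotent element (part 2: group theory)
-/

namespace Cfsg.Agent.Lib.Helper16.SL2Q

open Matrix Pointwise

section general

variable {G : Type*} [Group G]

/-- conjugation by a normalizing element, as an automorphism of the subgroup -/
def conjAut (R : Subgroup G) (x : G) (hx : x ∈ Subgroup.normalizer (R : Set G)) : MulAut R where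
  toFun r := ⟨x * r * x⁻¹, (Subgroup.mem_normalizer_iff.mp hx r).mp r.2⟩
  invFun r := ⟨x⁻¹ * r * x, by
    have := (Subgroup.mem_normalizer_iff.mp hx (x⁻¹ * r * x)).mpr (by
      have e : x * (x⁻¹ * r * x) * x⁻¹ = r := by group
      rw [e]; exact r.2)
    exact this⟩
  left_inv r := by ext; simp [mul_assoc]
  right_inv r := by ext; simp [mul_assoc]
  map_mul' a b := by ext; simp [mul_assoc]

@[simp] theorem conjAut_apply (R : Subgroup G) (x : G) (hx : x ∈ Subgroup.normalizer (R : Set G))
    (r : R) : ((conjAut R x hx r : R) : G) = x * r * x⁻¹ := rfl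

theorem conjAut_pow (R : Subgroup G) (x : G) (hx : x ∈ Subgroup.normalizer (R : Set G)) (n : ℕ)
    (r : R) : (((conjAut R x hx) ^ n) r : G) = x ^ n * r * (x ^ n)⁻¹ := by
  induction n generalizing r with
  | zero => simp
  | succ n ih =>
    rw [pow_succ, MulAut.mul_apply, ih, conjAut_apply, pow_succ]
    group

theorem conjAut_pow_eq_one (R : Subgroup G) (x : G) (hx : x ∈ Subgroup.normalizer (R : Set G))
    (n : ℕ) (hxn : x ^ n = 1) : (conjAut R x hx) ^ n = 1 := by
  ext r
  rw [conjAut_pow, hxn]
  simp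

theorem isPGroup_zpowers_conjAut (R : Subgroup G) (x : G)
    (hx : x ∈ Subgroup.normalizer (R : Set G)) (p : ℕ) [Fact p.Prime] (hxp : x ^ p = 1) :
    IsPGroup p (Subgroup.zpowers (conjAut R x hx)) := by
  intro g
  refine ⟨1, ?_⟩
  obtain ⟨g, hg⟩ := g
  obtain ⟨j, rfl⟩ := Subgroup.mem_zpowers_iff.mp hg
  apply Subtype.ext
  simp only [pow_one, Subgroup.coe_pow, Subgroup.coe_one]
  rw [← zpow_natCast, ← _root_.zpow_mul, mul_comm, _root_.zpow_mul, zpow_natCast,
    conjAut_pow_eq_one R x hx p hxp, _root_.one_zpow]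

/-- coprime action: an invariant Sylow subgroup -/
theorem exists_invariant_sylow (R : Subgroup G) [Finite R] (x : G)
    (hx : x ∈ Subgroup.normalizer (R : Set G)) (p : ℕ) [Fact p.Prime] (hxp : x ^ p = 1)
    (hR : (Nat.card R).Coprime p) (r : ℕ) [Fact r.Prime] :
    ∃ P : Sylow r R, ∀ s : R, s ∈ P ↔ conjAut R x hx s ∈ P := by
  have hP := isPGroup_zpowers_conjAut R x hx p hxp
  have hnd : ¬ p ∣ Nat.card (Sylow r R) := by
    intro hd
    have P : Sylow r R := default
    have h1 : Nat.card (Sylow r R) ∣ Nat.card R :=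
      (Sylow.card_dvd_index P).trans (Subgroup.index_dvd_card _)
    have h2 : p ∣ Nat.card R := hd.trans h1
    have := Nat.Coprime.eq_one_of_dvd hR.symm h2
    exact (Fact.out : p.Prime).one_lt.ne' this
  obtain ⟨P, hPfix⟩ := hP.nonempty_fixed_point_of_prime_not_dvd_card (Sylow r R) hnd
  refine ⟨P, ?_⟩
  intro s
  have h1 : (⟨conjAut R x hx, Subgroup.mem_zpowers _⟩ : Subgroup.zpowers (conjAut R x hx)) • P = P :=
    hPfix _
  have h2 : conjAut R x hx • P = P := h1
  have h3 : conjAut R x hx • s ∈ conjAut R x hx • (P : Subgroup R) ↔ s ∈ (P : Subgroup R) :=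
    Subgroup.smul_mem_pointwise_smul_iff
  rw [← Sylow.pointwise_smul_def, h2] at h3
  exact h3.symm

end general


section sl2

variable {F : Type*} [Field F] {p : ℕ} [hpF : Fact p.Prime] [CharP F p]

local notation "SL2" => Matrix.SpecialLinearGroup (Fin 2) F

omit hpF in
theorem neg_one_ne_one (hp : p ≠ 2) [Fact p.Prime] : (-1 : SL2) ≠ 1 := by
  intro h
  have h2F : (2 : F) ≠ 0 := two_ne_zero_of_char (p := p) hp
  have := congrArg tr h
  rw [tr_neg_one, tr_one] at this
  apply h2F
  have h4 : (2 : F) * 2 = 0 := by linear_combination -this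
  rcases mul_eq_zero.mp h4 with h | h <;> exact h

/-- the centre of an invariant `p'`-subgroup consists of `±1` -/
theorem center_scalar (hp : p ≠ 2) {x : SL2} (hx : Unip x) (S : Subgroup SL2) [Finite S]
    (hS : (Nat.card S).Coprime p) (hxS : x ∈ Subgroup.normalizer (S : Set SL2)) :
    ∀ s ∈ S ⊓ Subgroup.centralizer (S : Set SL2), s = 1 ∨ s = -1 := by
  have hfin : Finite ↥(S ⊓ Subgroup.centralizer (S : Set SL2)) :=
    Finite.of_injective (Subgroup.inclusion (inf_le_left : S ⊓ Subgroup.centralizer (S : Set SL2) ≤ S))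
      (Subgroup.inclusion_injective _)
  apply scalar_of_abelian_invariant (p := p) hp hx (S ⊓ Subgroup.centralizer (S : Set SL2))
  · exact Nat.Coprime.coprime_dvd_left (Subgroup.card_dvd_of_le inf_le_left) hS
  · intro s hs t ht
    exact (Subgroup.mem_centralizer_iff.mp ht.2) s hs.1
  · intro s hs
    refine ⟨(Subgroup.mem_normalizer_iff.mp hxS s).mp hs.1, ?_⟩
    change x * s * x⁻¹ ∈ Subgroup.centralizer (S : Set SL2)
    rw [Subgroup.mem_centralizer_iff]
    intro h hh
    have hh' : x⁻¹ * h * x ∈ S := by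
      have := (Subgroup.mem_normalizer_iff.mp hxS (x⁻¹ * h * x)).mpr (by
        have e : x * (x⁻¹ * h * x) * x⁻¹ = h := by group
        rw [e]; exact hh)
      exact this
    have hc := (Subgroup.mem_centralizer_iff.mp hs.2) _ hh'
    have e1 : h * (x * s * x⁻¹) = x * ((x⁻¹ * h * x) * s) * x⁻¹ := by group
    have e2 : x * s * x⁻¹ * h = x * (s * (x⁻¹ * h * x)) * x⁻¹ := by group
    rw [e1, e2, hc]

/-- an invariant `r`-subgroup, `r` odd, `r ≠ p`, is trivial -/
theorem eq_bot_of_odd (hp : p ≠ 2) {x : SL2} (hx : Unip x) (S : Subgroup SL2) [Finite S]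
    (r : ℕ) [Fact r.Prime] (hr2 : r ≠ 2) (hrp : r ≠ p) (hS : IsPGroup r S)
    (hxS : x ∈ Subgroup.normalizer (S : Set SL2)) : S = ⊥ := by
  by_contra hne
  have hnt : Nontrivial S := (Subgroup.nontrivial_iff_ne_bot S).mpr hne
  have hco : (Nat.card S).Coprime p := by
    obtain ⟨n, hn⟩ := hS.exists_card_eq
    rw [hn]
    apply Nat.Coprime.pow_left
    exact (Nat.coprime_primes (Fact.out : r.Prime) (Fact.out : p.Prime)).mpr hrp
  have hcen := hS.center_nontrivial
  obtain ⟨z, hz⟩ := exists_ne (1 : Subgroup.center S)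
  have hz' : ((z : S) : SL2) ∈ S ⊓ Subgroup.centralizer (S : Set SL2) := by
    refine ⟨(z : S).2, ?_⟩
    change ((z : S) : SL2) ∈ Subgroup.centralizer (S : Set SL2)
    rw [Subgroup.mem_centralizer_iff]
    intro h hh
    have := (Subgroup.mem_center_iff.mp z.2) ⟨h, hh⟩
    exact congrArg Subtype.val this
  have hz1 : ((z : S) : SL2) ≠ 1 := by
    intro h
    apply hz
    apply Subtype.ext
    apply Subtype.ext
    exact h
  rcases center_scalar (p := p) hp hx S hco hxS _ hz' with h | h
  · exact hz1 h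
  · -- `-1` has order 2 in an `r`-group
    obtain ⟨k, hk⟩ := hS (z : S)
    have hk' : ((z : S) : SL2) ^ r ^ k = 1 := by
      have := congrArg Subtype.val hk
      simpa using this
    rw [h] at hk'
    have hodd : Odd (r ^ k) := by
      apply Odd.pow
      exact (Fact.out : r.Prime).odd_of_ne_two hr2
    rw [Odd.neg_one_pow hodd] at hk'
    exact neg_one_ne_one (F := F) (p := p) hp hk'

/-- An invariant `p'`-subgroup is a `2`-group. -/
theorem isPGroup_two (hp : p ≠ 2) {x : SL2} (hx : Unip x) (R : Subgroup SL2) [Finite R]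
    (hR : (Nat.card R).Coprime p) (hxR : x ∈ Subgroup.normalizer (R : Set SL2)) :
    IsPGroup 2 R := by
  have hxp := pow_char_of_tr_eq_two (p := p) x hx.tr_eq
  have hcard : Nat.card R = 2 ^ (Nat.card R).primeFactorsList.length := by
    apply Nat.eq_prime_pow_of_unique_prime_dvd Nat.card_pos.ne'
    intro d hd hdvd
    by_contra hd2
    have : Fact d.Prime := ⟨hd⟩
    have hdp : d ≠ p := by
      rintro rfl
      have := Nat.Coprime.eq_one_of_dvd hR.symm hdvd
      exact hd.one_lt.ne' this
    obtain ⟨P, hP⟩ := exists_invariant_sylow R x hxR p hxp hR d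
    set S : Subgroup SL2 := (P : Subgroup R).map R.subtype with hSdef
    have hSle : S ≤ R := by
      rw [hSdef]
      rintro _ ⟨t, -, rfl⟩
      exact t.2
    have hSfin : Finite S :=
      Finite.of_injective (Subgroup.inclusion hSle) (Subgroup.inclusion_injective hSle)
    have hSd : IsPGroup d S := by
      rw [hSdef]
      exact P.2.map R.subtype
    have hxS : x ∈ Subgroup.normalizer (S : Set SL2) := by
      rw [Subgroup.mem_normalizer_iff]
      intro h
      constructor
      · rintro ⟨t, ht, rfl⟩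
        exact ⟨conjAut R x hxR t, (hP t).mp ht, rfl⟩
      · rintro ⟨t, ht, hte⟩
        have hhR : h ∈ R := by
          have : x * h * x⁻¹ ∈ R := by rw [← hte]; exact t.2
          exact (Subgroup.mem_normalizer_iff.mp hxR h).mpr this
        have : conjAut R x hxR ⟨h, hhR⟩ = t := by
          apply Subtype.ext
          rw [conjAut_apply]
          exact hte.symm
        exact ⟨⟨h, hhR⟩, (hP _).mpr (by rw [this]; exact ht), rfl⟩
    have hbot := eq_bot_of_odd (p := p) hp hx S d hd2 hdp hSd hxS
    have hPbot : (P : Subgroup R) = ⊥ := by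
      rw [hSdef] at hbot
      exact (Subgroup.map_eq_bot_iff_of_injective _ (Subgroup.subtype_injective R)).mp hbot
    exact P.ne_bot_of_dvd_card hdvd hPbot
  exact IsPGroup.of_card hcard


theorem conj_neg_one (x : SL2) : x * (-1) * x⁻¹ = -1 := by
  rw [mul_neg, mul_one, neg_mul, mul_inv_cancel]

/-- if every element of `R` is `±1` then `x` centralizes `R` -/
theorem conj_eq_of_scalar (x : SL2) (R : Subgroup SL2) (h : ∀ s ∈ R, s = 1 ∨ s = -1) :
    ∀ r ∈ R, x * r * x⁻¹ = r := by
  intro r hr
  rcases h r hr with rfl | rfl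
  · simp
  · exact conj_neg_one x

open Cfsg.Agent.Lib.Helper97 in
/-- An invariant `p'`-subgroup that is not centralized is a quaternion group of order 8. -/
theorem exists_equiv_quaternion (hp : p ≠ 2) {x : SL2} (hx : Unip x) (R : Subgroup SL2) [Finite R]
    (hR : (Nat.card R).Coprime p) (hxR : x ∈ Subgroup.normalizer (R : Set SL2))
    (hnc : ∃ r ∈ R, x * r * x⁻¹ ≠ r) : Nonempty (R ≃* QuaternionGroup 2) := by
  have h2F : (2 : F) ≠ 0 := two_ne_zero_of_char (p := p) hp
  have h2 := isPGroup_two (p := p) hp hx R hR hxR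
  have hinvol : ∀ a : R, orderOf a = 2 → (a : SL2) = -1 := by
    intro a ha
    have h1 : (a : SL2) ^ 2 = 1 := by
      have := pow_orderOf_eq_one a
      rw [ha] at this
      have := congrArg Subtype.val this
      simpa using this
    rcases Cfsg.Agent.Lib.Helper60.sl2_sq_eq_one h2F (a : SL2) h1 with h | h
    · exfalso
      have : a = 1 := Subtype.ext h
      rw [this, orderOf_one] at ha
      omega
    · exact h
  have hU : UniqueOrderP 2 R := by
    intro a b ha hb
    have : b = a := Subtype.ext (by rw [hinvol a ha, hinvol b hb])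
    rw [this]
    exact Subgroup.mem_zpowers a
  have habel : (∀ s ∈ R, ∀ t ∈ R, s * t = t * s) → False := by
    intro hcomm
    obtain ⟨r, hr, hne⟩ := hnc
    have hsc := scalar_of_abelian_invariant (p := p) hp hx R hR hcomm
      (fun s hs => (Subgroup.mem_normalizer_iff.mp hxR s).mp hs)
    exact hne (conj_eq_of_scalar x R hsc r hr)
  have hncyc : ¬ IsCyclic R := by
    intro hc
    apply habel
    intro s hs t ht
    have := hc.isMulCommutative.is_comm.comm (⟨s, hs⟩ : R) ⟨t, ht⟩
    exact congrArg Subtype.val this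
  obtain ⟨n, ⟨e⟩⟩ := quaternion_of_uniqueOrderP_two h2 hU hncyc
  have hcardR : Nat.card R = 4 * 2 ^ n := by
    rw [Nat.card_congr e.toEquiv, Nat.card_eq_fintype_card, QuaternionGroup.card]
  rcases Nat.lt_or_ge n 1 with hn | hn
  · -- n = 0: order 4, abelian
    exfalso
    have hn0 : n = 0 := by omega
    subst hn0
    have h4 : Nat.card R = 2 ^ 2 := by rw [hcardR]; norm_num
    have hc := IsPGroup.isMulCommutative_of_card_eq_prime_sq h4
    apply habel
    intro s hs t ht
    exact congrArg Subtype.val (hc.is_comm.comm (⟨s, hs⟩ : R) ⟨t, ht⟩)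
  rcases Nat.lt_or_ge 1 n with hn2 | hn2
  · -- n ≥ 2: characteristic cyclic subgroup
    exfalso
    set A : Subgroup SL2 := Subgroup.closure {r : SL2 | r ∈ R ∧ r ^ 4 ≠ 1} with hA
    have hAR : A ≤ R := by
      rw [hA, Subgroup.closure_le]
      intro r hr
      exact hr.1
    have hAfin : Finite A :=
      Finite.of_injective (Subgroup.inclusion hAR) (Subgroup.inclusion_injective hAR)
    have hgen : ∀ r : R, (r : SL2) ^ 4 ≠ 1 → ∃ i, e r = QuaternionGroup.a i := by
      intro r hr
      rcases h : e r with i | i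
      · exact ⟨i, rfl⟩
      · exfalso
        apply hr
        have h4 : (e r) ^ 4 = 1 := by rw [h]; exact QuaternionGroup.xa_pow_four i
        rw [← map_pow] at h4
        have : r ^ 4 = 1 := e.injective (by rw [h4, map_one])
        have := congrArg Subtype.val this
        simpa using this
    have hAcomm : ∀ s ∈ A, ∀ t ∈ A, s * t = t * s := by
      have hk : ∀ s ∈ {r : SL2 | r ∈ R ∧ r ^ 4 ≠ 1}, ∀ t ∈ {r : SL2 | r ∈ R ∧ r ^ 4 ≠ 1},
          s * t = t * s := by
        intro s hs t ht
        obtain ⟨i, hi⟩ := hgen ⟨s, hs.1⟩ hs.2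
        obtain ⟨j, hj⟩ := hgen ⟨t, ht.1⟩ ht.2
        have : (⟨s, hs.1⟩ : R) * ⟨t, ht.1⟩ = ⟨t, ht.1⟩ * ⟨s, hs.1⟩ := by
          apply e.injective
          rw [map_mul, map_mul, hi, hj, QuaternionGroup.a_mul_a, QuaternionGroup.a_mul_a, add_comm]
        exact congrArg Subtype.val this
      have hinst := Subgroup.isMulCommutative_closure hk
      intro s hs t ht
      have := hinst.is_comm.comm (⟨s, hs⟩ : A) ⟨t, ht⟩
      exact congrArg Subtype.val this
    have hAinv : ∀ s ∈ A, x * s * x⁻¹ ∈ A := by
      intro s hs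
      have hmap : A.map (MulAut.conj x).toMonoidHom ≤ A := by
        rw [hA, MonoidHom.map_closure, Subgroup.closure_le]
        rintro _ ⟨r, hr, rfl⟩
        apply Subgroup.subset_closure
        refine ⟨(Subgroup.mem_normalizer_iff.mp hxR r).mp hr.1, ?_⟩
        intro h4
        apply hr.2
        have : (x * r * x⁻¹) ^ 4 = x * r ^ 4 * x⁻¹ := by
          rw [conj_pow]
        simp only [MulEquiv.coe_toMonoidHom, MulAut.conj_apply] at h4
        rw [this] at h4
        have := congrArg (fun g => x⁻¹ * g * x) h4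
        simpa [mul_assoc] using this
      exact hmap ⟨s, hs, rfl⟩
    have hAco : (Nat.card A).Coprime p :=
      Nat.Coprime.coprime_dvd_left (Subgroup.card_dvd_of_le hAR) hR
    have hsc := scalar_of_abelian_invariant (p := p) hp hx A hAco hAcomm hAinv
    -- the element a 1
    set r₀ : R := e.symm (QuaternionGroup.a 1) with hr₀
    have hr₀4 : (r₀ : SL2) ^ 4 ≠ 1 := by
      intro h
      have h' : r₀ ^ 4 = 1 := Subtype.ext (by simpa using h)
      have h'' := congrArg e h'
      rw [map_pow, hr₀, MulEquiv.apply_symm_apply, map_one] at h''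
      have h4 : (QuaternionGroup.a 1 : QuaternionGroup (2 ^ n)) ^ 4 = QuaternionGroup.a 4 := by
        have : (4 : ℕ) = 1 + 1 + 1 + 1 := rfl
        rw [this, pow_add, pow_add, pow_add, pow_one, QuaternionGroup.a_mul_a,
          QuaternionGroup.a_mul_a, QuaternionGroup.a_mul_a]
        congr 1
        norm_num
      rw [h4, QuaternionGroup.one_def] at h''
      have h5 : (4 : ZMod (2 * 2 ^ n)) = 0 := by injection h''
      have h6 : ((4 : ℕ) : ZMod (2 * 2 ^ n)) = 0 := by exact_mod_cast h5
      rw [ZMod.natCast_eq_zero_iff] at h6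
      have hle : 2 * 2 ^ n ≤ 4 := Nat.le_of_dvd (by norm_num) h6
      have h22 : 2 ^ 2 ≤ 2 ^ n := Nat.pow_le_pow_right (by norm_num) hn2
      omega
    have hr₀A : (r₀ : SL2) ∈ A := Subgroup.subset_closure ⟨r₀.2, hr₀4⟩
    rcases hsc _ hr₀A with h | h
    · apply hr₀4; rw [h]; simp
    · apply hr₀4; rw [h]
      have : (4 : ℕ) = 2 * 2 := rfl
      rw [this, pow_mul, neg_one_sq, one_pow]
  · have hn1 : n = 1 := by omega
    subst hn1
    exact ⟨e⟩


/-- `p = 3` -/
theorem char_eq_three (hp : p ≠ 2) {x : SL2} (hx : Unip x) (R : Subgroup SL2) [Finite R]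
    (hR : (Nat.card R).Coprime p) (hxR : x ∈ Subgroup.normalizer (R : Set SL2))
    (hnc : ∃ r ∈ R, x * r * x⁻¹ ≠ r) : p = 3 := by
  classical
  have h2F : (2 : F) ≠ 0 := two_ne_zero_of_char (p := p) hp
  obtain ⟨e⟩ := exists_equiv_quaternion (p := p) hp hx R hR hxR hnc
  have hcardR : Nat.card R = 8 := by
    rw [Nat.card_congr e.toEquiv, Nat.card_eq_fintype_card, QuaternionGroup.card]
  have hxp := pow_char_of_tr_eq_two (p := p) x hx.tr_eq
  set φ := conjAut R x hxR with hφ
  -- the fixed subgroup
  let C : Subgroup R :=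
    { carrier := {r | φ r = r}
      mul_mem' := by
        intro a b ha hb
        simp only [Set.mem_setOf_eq] at ha hb ⊢
        rw [map_mul, ha, hb]
      one_mem' := by simp
      inv_mem' := by
        intro a ha
        simp only [Set.mem_setOf_eq] at ha ⊢
        rw [map_inv, ha] }
  have hCmem : ∀ r : R, r ∈ C ↔ φ r = r := fun r => Iff.rfl
  letI : Fintype R := Fintype.ofFinite R
  let f : Function.End R := fun r => φ r
  have hpow : ∀ n : ℕ, ∀ r, (f ^ n) r = (φ ^ n) r := by
    intro n
    induction n with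
    | zero => intro r; rfl
    | succ n ih =>
      intro r
      rw [pow_succ, pow_succ]
      show (f ^ n) (f r) = (φ ^ n) (φ r)
      exact ih _
  have hf : f ^ p ^ 1 = 1 := by
    funext r
    rw [pow_one, hpow, conjAut_pow_eq_one R x hxR p hxp]
    rfl
  have hmod := Equiv.Perm.card_fixedPoints_modEq (p := p) (n := 1) hf
  have hfix : Fintype.card (Function.fixedPoints f) = Nat.card C := by
    rw [← Nat.card_eq_fintype_card]
    apply Nat.card_congr
    exact Equiv.subtypeEquivRight (fun r => by
      rw [Function.mem_fixedPoints, Function.IsFixedPt]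
      exact (hCmem r).symm)
  rw [hfix, ← Nat.card_eq_fintype_card, hcardR] at hmod
  -- `-1 ∈ R`
  have hneg : (-1 : SL2) ∈ R := by
    have h2dvd : 2 ∣ Nat.card R := by rw [hcardR]; norm_num
    obtain ⟨a, ha⟩ := exists_prime_orderOf_dvd_card' (G := R) 2 h2dvd
    have h1 : (a : SL2) ^ 2 = 1 := by
      have := pow_orderOf_eq_one a
      rw [ha] at this
      have := congrArg Subtype.val this
      simpa using this
    rcases Cfsg.Agent.Lib.Helper60.sl2_sq_eq_one h2F (a : SL2) h1 with h | h
    · exfalso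
      have : a = 1 := Subtype.ext h
      rw [this, orderOf_one] at ha
      omega
    · rw [← h]; exact a.2
  have hnegC : (⟨-1, hneg⟩ : R) ∈ C := by
    rw [hCmem]
    apply Subtype.ext
    rw [hφ, conjAut_apply]
    exact conj_neg_one x
  have hCdvd : Nat.card C ∣ 8 := by
    rw [← hcardR]; exact Subgroup.card_subgroup_dvd_card C
  have hCne1 : Nat.card C ≠ 1 := by
    intro h1
    have hbot := Subgroup.card_eq_one.mp h1
    rw [hbot, Subgroup.mem_bot] at hnegC
    have := congrArg Subtype.val hnegC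
    exact neg_one_ne_one (F := F) (p := p) hp this
  have hCne8 : Nat.card C ≠ 8 := by
    intro h8
    have htop : C = ⊤ := by
      apply Subgroup.eq_top_of_card_eq
      rw [h8, hcardR]
    obtain ⟨r, hr, hne⟩ := hnc
    apply hne
    have : (⟨r, hr⟩ : R) ∈ C := by rw [htop]; exact Subgroup.mem_top _
    rw [hCmem] at this
    have := congrArg Subtype.val this
    rw [hφ, conjAut_apply] at this
    exact this
  have hCle : Nat.card C ≤ 8 := Nat.le_of_dvd (by norm_num) hCdvd
  have hdvd : p ∣ 8 - Nat.card C := (Nat.modEq_iff_dvd' hCle).mp hmod.symm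
  have hpp : p.Prime := Fact.out
  have hcases : Nat.card C = 2 ∨ Nat.card C = 4 := by
    have : Nat.card C ∈ Nat.divisors 8 := Nat.mem_divisors.mpr ⟨hCdvd, by norm_num⟩
    have h8 : Nat.divisors 8 = {1, 2, 4, 8} := by decide
    rw [h8] at this
    simp only [Finset.mem_insert, Finset.mem_singleton] at this
    rcases this with h | h | h | h
    · exact absurd h hCne1
    · exact Or.inl h
    · exact Or.inr h
    · exact absurd h hCne8
  rcases hcases with h | h
  · rw [h] at hdvd
    have h6 : p ∣ 2 * 3 := by simpa using hdvd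
    rcases (Nat.Prime.dvd_mul hpp).mp h6 with h' | h'
    · exact absurd ((Nat.prime_dvd_prime_iff_eq hpp Nat.prime_two).mp h') hp
    · exact (Nat.prime_dvd_prime_iff_eq hpp Nat.prime_three).mp h'
  · rw [h] at hdvd
    have h4 : p ∣ 2 * 2 := by simpa using hdvd
    rcases (Nat.Prime.dvd_mul hpp).mp h4 with h' | h' <;>
      exact absurd ((Nat.prime_dvd_prime_iff_eq hpp Nat.prime_two).mp h') hp

end sl2

end Cfsg.Agent.Lib.Helper16.SL2Q
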