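import Mathlib
import Cfsg.Agent.Lib.Helper16.SL2Quad2

set_option autoImplicit false

/-!
# Pairs of unipotent elements of `SL₂(F)`: normal form, and `Q₈ ⋊ 3 ≅ SL₂(3)`
-/

namespace Cfsg.Agent.Lib.Helper16.SL2Q

open Matrix

variable {F : Type*} [Field F]

local notation "SL2" => Matrix.SpecialLinearGroup (Fin 2) F
local notation "M2" => Matrix (Fin 2) (Fin 2) F

omit [Field F] in
theorem mat_eq {a b c d a' b' c' d' : F} (h1 : a = a') (h2 : b = b') (h3 : c = c') (h4 : d = d') :
    !![a, b; c, d] = !![a', b'; c', d'] := by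
  subst h1 h2 h3 h4; rfl

/-- Normal form of a pair of unipotent elements with `tr (x y) = 2 + c`, `c ≠ 0`. -/
theorem pair_normal_form (x y : SL2) (hx : tr x = 2) (hy : tr y = 2) (c : F)
    (hc : tr (x * y) = 2 + c) (hc0 : c ≠ 0) :
    ∃ G G' : M2, G * G' = 1 ∧ G' * G = 1 ∧ (x : M2) * G = G * !![1, c; 0, 1] ∧
      (y : M2) * G = G * !![1, 0; 1, 1] := by
  -- entries
  set x00 := (x : M2) 0 0 with hx00
  set x01 := (x : M2) 0 1 with hx01
  set x10 := (x : M2) 1 0 with hx10
  set x11 := (x : M2) 1 1 with hx11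
  set y00 := (y : M2) 0 0 with hy00
  set y01 := (y : M2) 0 1 with hy01
  set y10 := (y : M2) 1 0 with hy10
  set y11 := (y : M2) 1 1 with hy11
  have hxt : x00 + x11 = 2 := by rw [← hx, tr_def]
  have hyt : y00 + y11 = 2 := by rw [← hy, tr_def]
  have hxd : x00 * x11 - x01 * x10 = 1 := det_eq x
  have hyd : y00 * y11 - y01 * y10 = 1 := det_eq y
  have hct : x00 * y00 + x01 * y10 + (x10 * y01 + x11 * y11) = 2 + c := by
    rw [← hc, tr_def, Matrix.SpecialLinearGroup.coe_mul]
    simp only [Matrix.mul_apply, Fin.sum_univ_two]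
    rfl
  have hxM : (x : M2) = !![x00, x01; x10, x11] := by
    ext i j; fin_cases i <;> fin_cases j <;> rfl
  have hyM : (y : M2) = !![y00, y01; y10, y11] := by
    ext i j; fin_cases i <;> fin_cases j <;> rfl
  -- a = x00 - 1, d = y00 - 1
  by_cases h10 : x10 = 0
  · -- then x00 = x11 = 1, x01 ≠ 0
    have hx00' : x00 = 1 := by
      have h1 : (x00 - 1) ^ 2 = 0 := by
        have : x11 = 2 - x00 := by linear_combination hxt
        rw [this, h10] at hxd
        linear_combination -hxd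
      have := pow_eq_zero_iff (n := 2) (by norm_num) |>.mp h1
      linear_combination this
    have hx11' : x11 = 1 := by linear_combination hxt - hx00'
    have hcc : c = x01 * y10 := by
      rw [hx00', hx11', h10] at hct
      linear_combination -hct + hyt
    have hb : x01 ≠ 0 := by
      intro h; rw [h, zero_mul] at hcc; exact hc0 hcc
    have hf : y10 ≠ 0 := by
      intro h; rw [h, mul_zero] at hcc; exact hc0 hcc
    set G : M2 := !![x01, (y00 - 1) * x01; 0, y10 * x01] with hG
    have hdet : G.det = x01 * x01 * y10 := by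
      rw [hG, Matrix.det_fin_two_of]; ring
    have hunit : IsUnit G.det := by
      rw [hdet]
      exact (mul_ne_zero (mul_ne_zero hb hb) hf).isUnit
    refine ⟨G, G⁻¹, Matrix.mul_nonsing_inv G hunit, Matrix.nonsing_inv_mul G hunit, ?_, ?_⟩
    · rw [hxM, hG, hx00', hx11', h10, hcc, Matrix.mul_fin_two, Matrix.mul_fin_two]
      exact mat_eq (by ring) (by ring) (by ring) (by ring)
    · rw [hyM, hG, Matrix.mul_fin_two, Matrix.mul_fin_two]
      have hy11' : y11 = 2 - y00 := by linear_combination hyt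
      rw [hy11'] at hyd ⊢
      exact mat_eq (by ring) (by linear_combination -x01 * hyd) (by ring) (by ring)
  · -- x10 ≠ 0
    have hx11' : x11 = 2 - x00 := by linear_combination hxt
    have hy11' : y11 = 2 - y00 := by linear_combination hyt
    have hn : (x00 - 1) ^ 2 + x01 * x10 = 0 := by
      rw [hx11'] at hxd; linear_combination -hxd
    have hm : (y00 - 1) ^ 2 + y01 * y10 = 0 := by
      rw [hy11'] at hyd; linear_combination -hyd
    have hcc : c = 2 * (x00 - 1) * (y00 - 1) + x01 * y10 + x10 * y01 := by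
      rw [hx11', hy11'] at hct
      linear_combination -hct
    set G : M2 := !![x00 - 1, (y00 - 1) * (x00 - 1) + y01 * x10;
      x10, y10 * (x00 - 1) - (y00 - 1) * x10] with hG
    have hdet : G.det = -(x10 * c) := by
      rw [hG, Matrix.det_fin_two_of, hcc]
      linear_combination y10 * hn
    have hunit : IsUnit G.det := by
      rw [hdet]
      exact (neg_ne_zero.mpr (mul_ne_zero h10 hc0)).isUnit
    refine ⟨G, G⁻¹, Matrix.mul_nonsing_inv G hunit, Matrix.nonsing_inv_mul G hunit, ?_, ?_⟩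
    · rw [hxM, hG, hx11', hcc, Matrix.mul_fin_two, Matrix.mul_fin_two]
      exact mat_eq (by linear_combination hn) (by linear_combination (-(y00 - 1)) * hn) (by ring)
        (by linear_combination (-y10) * hn)
    · rw [hyM, hG, hy11', Matrix.mul_fin_two, Matrix.mul_fin_two]
      exact mat_eq (by ring) (by linear_combination (x00 - 1) * hm) (by ring)
        (by linear_combination x10 * hm)


/-- conjugation by an invertible matrix, as an endomorphism of `SL₂` -/
def conjHom (G G' : M2) (h1 : G * G' = 1) (h2 : G' * G = 1) : SL2 →* SL2 where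
  toFun M := ⟨G * (M : M2) * G', by
    rw [Matrix.det_mul, Matrix.det_mul, M.2, mul_one, ← Matrix.det_mul, h1, Matrix.det_one]⟩
  map_one' := by
    apply Subtype.ext
    simp [h1]
  map_mul' A B := by
    apply Subtype.ext
    simp only [Matrix.SpecialLinearGroup.coe_mul]
    calc G * ((A : M2) * (B : M2)) * G' = G * (A : M2) * 1 * (B : M2) * G' := by
          simp [Matrix.mul_assoc]
      _ = G * (A : M2) * (G' * G) * (B : M2) * G' := by rw [h2]
      _ = G * (A : M2) * G' * (G * (B : M2) * G') := by simp [Matrix.mul_assoc]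

@[simp] theorem conjHom_coe (G G' : M2) (h1 : G * G' = 1) (h2 : G' * G = 1) (M : SL2) :
    ((conjHom G G' h1 h2 M : SL2) : M2) = G * (M : M2) * G' := rfl

theorem conjHom_injective (G G' : M2) (h1 : G * G' = 1) (h2 : G' * G = 1) :
    Function.Injective (conjHom G G' h1 h2) := by
  intro A B hAB
  have h := congrArg (fun M : SL2 => G' * (M : M2) * G) hAB
  simp only [conjHom_coe] at h
  have e : ∀ M : M2, G' * (G * M * G') * G = M := by
    intro M
    calc G' * (G * M * G') * G = (G' * G) * M * (G' * G) := by simp [Matrix.mul_assoc]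
      _ = M := by rw [h2]; simp
  rw [e, e] at h
  exact Subtype.ext h

/-- standard unipotent elements -/
def uu (c : F) : SL2 := ⟨!![1, c; 0, 1], by simp [Matrix.det_fin_two_of]⟩
def ll (c : F) : SL2 := ⟨!![1, 0; c, 1], by simp [Matrix.det_fin_two_of]⟩

@[simp] theorem uu_coe (c : F) : ((uu c : SL2) : M2) = !![1, c; 0, 1] := rfl
@[simp] theorem ll_coe (c : F) : ((ll c : SL2) : M2) = !![1, 0; c, 1] := rfl

/-- group version of the normal form -/
theorem pair_normal_form' (x y : SL2) (hx : tr x = 2) (hy : tr y = 2) (c : F)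
    (hc : tr (x * y) = 2 + c) (hc0 : c ≠ 0) :
    ∃ (G G' : M2) (h1 : G * G' = 1) (h2 : G' * G = 1),
      conjHom G G' h1 h2 (uu c) = x ∧ conjHom G G' h1 h2 (ll 1) = y := by
  obtain ⟨G, G', h1, h2, hxG, hyG⟩ := pair_normal_form x y hx hy c hc hc0
  refine ⟨G, G', h1, h2, ?_, ?_⟩
  · apply Subtype.ext
    rw [conjHom_coe, uu_coe, ← hxG, Matrix.mul_assoc, h1, Matrix.mul_one]
  · apply Subtype.ext
    rw [conjHom_coe, ll_coe, ← hyG, Matrix.mul_assoc, h1, Matrix.mul_one]


section gen

variable {G₀ : Type*} [Group G₀]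

/-- `|H ⊔ K|` divides `|K| |H|` when `H` normalizes `K` -/
theorem card_sup_dvd_of_le_normalizer (H K : Subgroup G₀)
    (h : H ≤ Subgroup.normalizer (K : Set G₀)) :
    Nat.card (H ⊔ K : Subgroup G₀) ∣ Nat.card K * Nat.card H := by
  set N := Subgroup.normalizer (K : Set G₀) with hN
  have hKN : K ≤ N := Subgroup.le_normalizer
  have hnorm : (K.subgroupOf N).Normal := Subgroup.normal_in_normalizer
  have h1 : (⊥ : Subgroup N).relIndex (K.subgroupOf N) *
      (K.subgroupOf N).relIndex (H.subgroupOf N ⊔ K.subgroupOf N) =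
      (⊥ : Subgroup N).relIndex (H.subgroupOf N ⊔ K.subgroupOf N) :=
    Subgroup.relIndex_mul_relIndex _ _ _ bot_le le_sup_right
  rw [Subgroup.relIndex_bot_left, Subgroup.relIndex_bot_left, Subgroup.relIndex_sup_right] at h1
  have h2 : Nat.card (H.subgroupOf N ⊔ K.subgroupOf N : Subgroup N) = Nat.card (H ⊔ K : Subgroup G₀) := by
    rw [← Subgroup.subgroupOf_sup h hKN]
    exact Nat.card_congr (Subgroup.subgroupOfEquivOfLe (sup_le h hKN)).toEquiv
  have h3 : Nat.card (K.subgroupOf N) = Nat.card K :=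
    Nat.card_congr (Subgroup.subgroupOfEquivOfLe hKN).toEquiv
  have h4 : Nat.card (H.subgroupOf N) = Nat.card H :=
    Nat.card_congr (Subgroup.subgroupOfEquivOfLe h).toEquiv
  rw [← h2, ← h1, h3]
  apply Nat.mul_dvd_mul_left
  rw [← h4]
  exact Subgroup.relIndex_dvd_card _ _

end gen

section three

variable [CharP F 3]

/-- the natural embedding `SL₂(𝔽₃) → SL₂(F)` -/
noncomputable def emb3 : Matrix.SpecialLinearGroup (Fin 2) (ZMod 3) →* SL2 :=
  Matrix.SpecialLinearGroup.map (ZMod.castHom (dvd_refl 3) F)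

theorem emb3_injective : Function.Injective (emb3 (F := F)) := by
  intro A B hAB
  apply Subtype.ext
  ext i j
  have h := congrArg (fun M : SL2 => (M : M2) i j) hAB
  simp only [emb3, Matrix.SpecialLinearGroup.map_apply_coe, RingHom.mapMatrix_apply,
    Matrix.map_apply] at h
  exact (ZMod.castHom (dvd_refl 3) F).injective h

theorem emb3_uu : emb3 (F := F) (uu 1) = uu 1 := by
  apply Subtype.ext
  ext i j
  fin_cases i <;> fin_cases j <;>
    simp [emb3, Matrix.SpecialLinearGroup.map_apply_coe, RingHom.mapMatrix_apply]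

theorem emb3_ll : emb3 (F := F) (ll 1) = ll 1 := by
  apply Subtype.ext
  ext i j
  fin_cases i <;> fin_cases j <;>
    simp [emb3, Matrix.SpecialLinearGroup.map_apply_coe, RingHom.mapMatrix_apply]

set_option maxRecDepth 100000 in
theorem gen3 : ∀ M : Matrix.SpecialLinearGroup (Fin 2) (ZMod 3), ∃ i j k l : Fin 3,
    M = uu 1 ^ i.val * ll 1 ^ j.val * uu 1 ^ k.val * ll 1 ^ l.val := by decide

theorem card_sl23 : Nat.card (Matrix.SpecialLinearGroup (Fin 2) (ZMod 3)) = 24 := by
  rw [Nat.card_eq_fintype_card]; decide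

theorem q8_pow_four : ∀ g : QuaternionGroup 2, g ^ 4 = 1 := by decide

/-- `R ⋊ ⟨x⟩ ≅ SL₂(3)`. -/
theorem exists_equiv_sl23 {x : SL2} (hx : Unip x) (R : Subgroup SL2) [Finite R]
    (hR : (Nat.card R).Coprime 3) (hxR : x ∈ Subgroup.normalizer (R : Set SL2))
    (hnc : ∃ r ∈ R, x * r * x⁻¹ ≠ r) :
    Nonempty (↥(R ⊔ Subgroup.zpowers x) ≃* Matrix.SpecialLinearGroup (Fin 2) (ZMod 3)) := by
  have : Fact (Nat.Prime 3) := ⟨Nat.prime_three⟩
  have hp : (3 : ℕ) ≠ 2 := by norm_num
  have h2F : (2 : F) ≠ 0 := two_ne_zero_of_char (p := 3) hp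
  have h3F : (3 : F) = 0 := by
    have := CharP.cast_eq_zero F 3
    exact_mod_cast this
  obtain ⟨e⟩ := exists_equiv_quaternion (p := 3) hp hx R hR hxR hnc
  have hcardR : Nat.card R = 8 := by
    rw [Nat.card_congr e.toEquiv, Nat.card_eq_fintype_card, QuaternionGroup.card]
  have hx3 : x ^ 3 = 1 := pow_char_of_tr_eq_two (p := 3) x hx.tr_eq
  obtain ⟨a, haR, hane⟩ := hnc
  set c₀ := x * a * x⁻¹ * a⁻¹ with hc₀
  have hc₀R : c₀ ∈ R :=
    R.mul_mem ((Subgroup.mem_normalizer_iff.mp hxR a).mp haR) (R.inv_mem haR)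
  have hc₀1 : c₀ ≠ 1 := by
    intro h
    apply hane
    rw [hc₀, mul_inv_eq_one] at h
    exact h
  have hc₀2 : c₀ ≠ -1 := by
    intro h
    have h1 : x * a * x⁻¹ = -a := by
      rw [hc₀, mul_inv_eq_iff_eq_mul] at h
      rw [h, neg_mul, one_mul]
    -- then x^2 commutes with a
    have h2 : x ^ 2 * a * (x ^ 2)⁻¹ = a := by
      have e : x ^ 2 * a * (x ^ 2)⁻¹ = x * (x * a * x⁻¹) * x⁻¹ := by
        rw [pow_two]; group
      rw [e, h1, mul_neg, neg_mul, h1, neg_neg]
    have h4 : x ^ 4 * a * (x ^ 4)⁻¹ = a := by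
      have e : x ^ 4 * a * (x ^ 4)⁻¹ = x ^ 2 * (x ^ 2 * a * (x ^ 2)⁻¹) * (x ^ 2)⁻¹ := by
        have : x ^ 4 = x ^ 2 * x ^ 2 := by rw [← pow_add]
        rw [this]; group
      rw [e, h2, h2]
    have hx4 : x ^ 4 = x := by
      have : x ^ 4 = x ^ 3 * x := by rw [← pow_succ]
      rw [this, hx3, one_mul]
    rw [hx4] at h4
    exact hane h4
  have hc₀4 : c₀ ^ 4 = 1 := by
    have := q8_pow_four (e ⟨c₀, hc₀R⟩)
    rw [← map_pow] at this
    have h' : (⟨c₀, hc₀R⟩ : R) ^ 4 = 1 := e.injective (by rw [this, map_one])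
    have := congrArg Subtype.val h'
    simpa using this
  have hc₀sq : c₀ ^ 2 = -1 := by
    have h22 : (c₀ ^ 2) ^ 2 = 1 := by rw [← pow_mul]; exact hc₀4
    rcases Cfsg.Agent.Lib.Helper60.sl2_sq_eq_one h2F (c₀ ^ 2) h22 with h | h
    · exfalso
      rcases Cfsg.Agent.Lib.Helper60.sl2_sq_eq_one h2F c₀ h with h' | h'
      · exact hc₀1 h'
      · exact hc₀2 h'
    · exact h
  have htrc : tr c₀ = 0 := by
    have := tr_sq c₀
    rw [hc₀sq, tr_neg_one] at this
    have h0 : tr c₀ ^ 2 = 0 := by linear_combination -this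
    exact pow_eq_zero_iff (n := 2) (by norm_num) |>.mp h0
  set y := a * x⁻¹ * a⁻¹ with hy
  have hxy : x * y = c₀ := by rw [hy, hc₀]; group
  have htry : tr y = 2 := by rw [hy, tr_conj, tr_inv, hx.tr_eq]
  have hc : tr (x * y) = 2 + 1 := by
    rw [hxy, htrc]
    linear_combination -h3F
  obtain ⟨G, G', h1, h2, hGx, hGy⟩ := pair_normal_form' x y hx.tr_eq htry 1 hc one_ne_zero
  set ψ : Matrix.SpecialLinearGroup (Fin 2) (ZMod 3) →* SL2 :=
    (conjHom G G' h1 h2).comp emb3 with hψ
  have hψinj : Function.Injective ψ := by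
    rw [hψ]
    exact (conjHom_injective G G' h1 h2).comp emb3_injective
  have hψu : ψ (uu 1) = x := by
    rw [hψ, MonoidHom.comp_apply, emb3_uu, hGx]
  have hψl : ψ (ll 1) = y := by
    rw [hψ, MonoidHom.comp_apply, emb3_ll, hGy]
  set N := R ⊔ Subgroup.zpowers x with hN
  have hxN : x ∈ N := (le_sup_right : Subgroup.zpowers x ≤ N) (Subgroup.mem_zpowers x)
  have haN : a ∈ N := (le_sup_left : R ≤ N) haR
  have hyN : y ∈ N := N.mul_mem (N.mul_mem haN (N.inv_mem hxN)) (N.inv_mem haN)
  have hrange : ψ.range ≤ N := by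
    rintro _ ⟨M, rfl⟩
    obtain ⟨i, j, k, l, rfl⟩ := gen3 M
    rw [map_mul, map_mul, map_mul, map_pow, map_pow, map_pow, map_pow, hψu, hψl]
    exact N.mul_mem (N.mul_mem (N.mul_mem (N.pow_mem hxN _) (N.pow_mem hyN _)) (N.pow_mem hxN _))
      (N.pow_mem hyN _)
  have hzx : Nat.card (Subgroup.zpowers x) ∣ 3 := by
    rw [Nat.card_zpowers]
    exact orderOf_dvd_of_pow_eq_one hx3
  have hzn : Subgroup.zpowers x ≤ Subgroup.normalizer (R : Set SL2) := by
    rw [Subgroup.zpowers_le]; exact hxR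
  have hcardN : Nat.card N ∣ 24 := by
    have h := card_sup_dvd_of_le_normalizer (Subgroup.zpowers x) R hzn
    rw [sup_comm, ← hN, hcardR] at h
    exact h.trans (by
      have : (24 : ℕ) = 8 * 3 := by norm_num
      rw [this]; exact Nat.mul_dvd_mul_left 8 hzx)
  have hNfin : Finite N := by
    apply Nat.finite_of_card_ne_zero
    intro h0
    rw [h0] at hcardN
    simp at hcardN
  have hcardrange : Nat.card ψ.range = 24 := by
    rw [← Nat.card_congr (MonoidHom.ofInjective hψinj).toEquiv, card_sl23]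
  have hEq : ψ.range = N := by
    apply Subgroup.eq_of_le_of_card_ge hrange
    rw [hcardrange]
    exact Nat.le_of_dvd (by norm_num) hcardN
  exact ⟨((MonoidHom.ofInjective hψinj).trans (MulEquiv.subgroupCongr hEq)).symm⟩

end three


section pelement

variable {p : ℕ} [hpF : Fact p.Prime] [CharP F p]

/-- a `p`-element of `SL₂(F)` has trace `2` -/
theorem tr_eq_two_of_pow (g : SL2) (k : ℕ) (hg : g ^ p ^ k = 1) : tr g = 2 := by
  have hcomm : Commute (g : M2) (1 : M2) := Commute.one_right _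
  have h1 : ((g : M2) - 1) ^ p ^ k = (g : M2) ^ p ^ k - 1 ^ p ^ k :=
    sub_pow_char_pow_of_commute p k hcomm
  have h2 : (g : M2) ^ p ^ k = 1 := by
    rw [← Matrix.SpecialLinearGroup.coe_pow, hg]; rfl
  rw [h2, one_pow, sub_self] at h1
  have hnil : IsNilpotent ((g : M2) - 1) := ⟨p ^ k, h1⟩
  have htr := Matrix.isNilpotent_trace_of_isNilpotent hnil
  have h0 : ((g : M2) - 1).trace = 0 := htr.eq_zero
  rw [Matrix.trace_sub, Matrix.trace_one] at h0
  have : tr g = (g : M2).trace := rfl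
  rw [this]
  simp at h0
  linear_combination h0

/-- Main theorem: a `p'`-subgroup of `SL₂(F)` normalized but not centralized by a `p`-element. -/
theorem main_sl2_pprime (hp : p ≠ 2) (a : SL2) (ha : IsPGroup p ↥(Subgroup.zpowers a))
    (R : Subgroup SL2) [Finite R] (hR : (Nat.card R).Coprime p)
    (haR : a ∈ Subgroup.normalizer (R : Set SL2)) (hnt : ⁅R, Subgroup.zpowers a⁆ ≠ ⊥) :
    p = 3 ∧ Nonempty (↥R ≃* QuaternionGroup 2) ∧
      Nonempty (↥(R ⊔ Subgroup.zpowers a) ≃* Matrix.SpecialLinearGroup (Fin 2) (ZMod 3)) := by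
  have hnc : ∃ r ∈ R, a * r * a⁻¹ ≠ r := by
    by_contra hcon
    push Not at hcon
    apply hnt
    rw [Subgroup.commutator_eq_bot_iff_le_centralizer]
    intro r hr
    rw [Subgroup.mem_centralizer_iff]
    intro h hh
    obtain ⟨j, rfl⟩ := Subgroup.mem_zpowers_iff.mp hh
    have hc : Commute a r := by
      have := hcon r hr
      rw [mul_inv_eq_iff_eq_mul] at this
      exact this
    exact (hc.zpow_left j).eq
  have ha1 : a ≠ 1 := by
    rintro rfl
    obtain ⟨r, -, hr⟩ := hnc
    simp at hr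
  obtain ⟨k, hk⟩ := ha ⟨a, Subgroup.mem_zpowers a⟩
  have hak : a ^ p ^ k = 1 := by
    have := congrArg Subtype.val hk
    simpa using this
  have hx : Unip a := ⟨ha1, tr_eq_two_of_pow (p := p) a k hak⟩
  have hp3 := char_eq_three (p := p) hp hx R hR haR hnc
  refine ⟨hp3, exists_equiv_quaternion (p := p) hp hx R hR haR hnc, ?_⟩
  subst hp3
  exact exists_equiv_sl23 hx R hR haR hnc

end pelement

end Cfsg.Agent.Lib.Helper16.SL2Q
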