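import Mathlib
import Cfsg.Agent.Lib.Helper16.SL2Quad3
import Cfsg.Agent.Lib.Helper16.ClassEq

set_option autoImplicit false

/-!
# Dickson-lite, part 1: Borel-type subgroups of `SL₂(F)` and the commutative-transitive structure
-/

namespace Cfsg.Agent.Lib.Helper16.SL2Q

open Matrix

variable {F : Type*} [Field F]

local notation "SL2" => Matrix.SpecialLinearGroup (Fin 2) F
local notation "M2" => Matrix (Fin 2) (Fin 2) F

theorem coe_mul_apply (g h : SL2) (i j : Fin 2) :
    ((g * h : SL2) : M2) i j = (g : M2) i 0 * (h : M2) 0 j + (g : M2) i 1 * (h : M2) 1 j := by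
  rw [Matrix.SpecialLinearGroup.coe_mul, Matrix.mul_apply, Fin.sum_univ_two]

theorem inv_apply_00 (g : SL2) : ((g⁻¹ : SL2) : M2) 0 0 = (g : M2) 1 1 := by
  rw [coe_inv_eq]; rfl
theorem inv_apply_01 (g : SL2) : ((g⁻¹ : SL2) : M2) 0 1 = -(g : M2) 0 1 := by
  rw [coe_inv_eq]; rfl
theorem inv_apply_10 (g : SL2) : ((g⁻¹ : SL2) : M2) 1 0 = -(g : M2) 1 0 := by
  rw [coe_inv_eq]; rfl
theorem inv_apply_11 (g : SL2) : ((g⁻¹ : SL2) : M2) 1 1 = (g : M2) 0 0 := by
  rw [coe_inv_eq]; rfl

theorem ext_entries {g h : SL2} (h00 : (g : M2) 0 0 = (h : M2) 0 0) (h01 : (g : M2) 0 1 = (h : M2) 0 1)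
    (h10 : (g : M2) 1 0 = (h : M2) 1 0) (h11 : (g : M2) 1 1 = (h : M2) 1 1) : g = h := by
  apply Subtype.ext
  ext i j
  fin_cases i <;> fin_cases j
  · exact h00
  · exact h01
  · exact h10
  · exact h11

/-- upper triangular matrices -/
def borel : Subgroup SL2 where
  carrier := {g | (g : M2) 1 0 = 0}
  one_mem' := by simp
  mul_mem' := by
    intro a b ha hb
    simp only [Set.mem_ofPred_eq] at ha hb ⊢
    rw [coe_mul_apply, ha, hb]; ring
  inv_mem' := by
    intro a ha
    simp only [Set.mem_ofPred_eq] at ha ⊢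
    rw [inv_apply_10, ha, neg_zero]

theorem mem_borel {g : SL2} : g ∈ borel (F := F) ↔ (g : M2) 1 0 = 0 := Iff.rfl

theorem borel_diag {g : SL2} (hg : g ∈ borel (F := F)) : (g : M2) 0 0 * (g : M2) 1 1 = 1 := by
  have := det_eq g
  rw [mem_borel.mp hg, mul_zero, sub_zero] at this
  exact this

/-- `± unipotent upper triangular` -/
def pmU : Subgroup SL2 where
  carrier := {g | (g : M2) 1 0 = 0 ∧ (g : M2) 0 0 = (g : M2) 1 1}
  one_mem' := by simp
  mul_mem' := by
    intro a b ha hb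
    simp only [Set.mem_ofPred_eq] at ha hb ⊢
    refine ⟨?_, ?_⟩
    · rw [coe_mul_apply, ha.1, hb.1]; ring
    · rw [coe_mul_apply, coe_mul_apply, ha.1, hb.1, ha.2, hb.2]; ring
  inv_mem' := by
    intro a ha
    simp only [Set.mem_ofPred_eq] at ha ⊢
    refine ⟨?_, ?_⟩
    · rw [inv_apply_10, ha.1, neg_zero]
    · rw [inv_apply_00, inv_apply_11, ha.2]

theorem mem_pmU {g : SL2} :
    g ∈ pmU (F := F) ↔ (g : M2) 1 0 = 0 ∧ (g : M2) 0 0 = (g : M2) 1 1 := Iff.rfl

/-- unipotent upper triangular -/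
def unipU : Subgroup SL2 where
  carrier := {g | (g : M2) 1 0 = 0 ∧ (g : M2) 0 0 = 1 ∧ (g : M2) 1 1 = 1}
  one_mem' := by simp
  mul_mem' := by
    intro a b ha hb
    simp only [Set.mem_ofPred_eq] at ha hb ⊢
    refine ⟨?_, ?_, ?_⟩
    · rw [coe_mul_apply, ha.1, hb.1]; ring
    · rw [coe_mul_apply, ha.2.1, hb.2.1, hb.1]; ring
    · rw [coe_mul_apply, ha.1, ha.2.2, hb.2.2]; ring
  inv_mem' := by
    intro a ha
    simp only [Set.mem_ofPred_eq] at ha ⊢
    refine ⟨?_, ?_, ?_⟩
    · rw [inv_apply_10, ha.1, neg_zero]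
    · rw [inv_apply_00, ha.2.2]
    · rw [inv_apply_11, ha.2.1]

theorem mem_unipU {g : SL2} :
    g ∈ unipU (F := F) ↔ (g : M2) 1 0 = 0 ∧ (g : M2) 0 0 = 1 ∧ (g : M2) 1 1 = 1 := Iff.rfl

theorem unipU_le_pmU : unipU (F := F) ≤ pmU := by
  intro g hg
  exact ⟨hg.1, by rw [hg.2.1, hg.2.2]⟩

theorem pmU_le_borel : pmU (F := F) ≤ borel := fun _ hg => hg.1

theorem uu_mem_unipU (μ : F) : uu μ ∈ unipU (F := F) := by
  refine ⟨?_, ?_, ?_⟩ <;> simp [uu]

theorem eq_uu_of_mem_unipU {g : SL2} (hg : g ∈ unipU (F := F)) : g = uu ((g : M2) 0 1) := by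
  apply ext_entries
  · rw [hg.2.1]; simp [uu]
  · simp [uu]
  · rw [hg.1]; simp [uu]
  · rw [hg.2.2]; simp [uu]

theorem uu_mul (a b : F) : uu a * uu b = uu (a + b) := by
  apply ext_entries <;> rw [coe_mul_apply] <;> simp [uu]
  ring

theorem ll_mul (a b : F) : ll a * ll b = ll (a + b) := by
  apply ext_entries <;> rw [coe_mul_apply] <;> simp [ll]

theorem uu_zero : uu (0 : F) = 1 := by
  apply ext_entries <;> simp [uu]

theorem ll_zero : ll (0 : F) = 1 := by
  apply ext_entries <;> simp [ll]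

theorem uu_inv (a : F) : (uu a)⁻¹ = uu (-a) := by
  rw [inv_eq_iff_mul_eq_one, uu_mul, add_neg_cancel, uu_zero]

theorem ll_inv (a : F) : (ll a)⁻¹ = ll (-a) := by
  rw [inv_eq_iff_mul_eq_one, ll_mul, add_neg_cancel, ll_zero]

theorem uu_pow (a : F) (k : ℕ) : uu a ^ k = uu (k * a) := by
  induction k with
  | zero => simp [uu_zero]
  | succ k ih => rw [pow_succ, ih, uu_mul]; congr 1; push_cast; ring

theorem ll_pow (a : F) (k : ℕ) : ll a ^ k = ll (k * a) := by
  induction k with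
  | zero => simp [ll_zero]
  | succ k ih => rw [pow_succ, ih, ll_mul]; congr 1; push_cast; ring

theorem tr_uu (a : F) : tr (uu a) = 2 := by
  rw [tr_def]; simp [uu]; norm_num

theorem tr_ll (a : F) : tr (ll a) = 2 := by
  rw [tr_def]; simp [ll]; norm_num

theorem uu_ne_one {c : F} (hc : c ≠ 0) : uu c ≠ 1 := by
  intro h
  have := congrArg (fun g : SL2 => (g : M2) 0 1) h
  simp [uu] at this
  exact hc this

theorem unip_uu {c : F} (hc : c ≠ 0) : Unip (uu c) := ⟨uu_ne_one hc, tr_uu c⟩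

theorem ll_ne_one {c : F} (hc : c ≠ 0) : ll c ≠ 1 := by
  intro h
  have := congrArg (fun g : SL2 => (g : M2) 1 0) h
  simp [ll] at this
  exact hc this

theorem unip_ll {c : F} (hc : c ≠ 0) : Unip (ll c) := ⟨ll_ne_one hc, tr_ll c⟩

/-- commuting with `uu c` -/
theorem commute_uu_iff {c : F} (hc : c ≠ 0) (g : SL2) : g * uu c = uu c * g ↔ g ∈ pmU := by
  constructor
  · intro h
    have h00 := congrArg (fun x : SL2 => (x : M2) 0 0) h
    have h01 := congrArg (fun x : SL2 => (x : M2) 0 1) h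
    simp only [coe_mul_apply] at h00 h01
    simp [uu] at h00 h01
    have h10 : (g : M2) 1 0 = 0 := by
      rcases h00 with h | h
      · exact absurd h hc
      · exact h
    refine ⟨h10, ?_⟩
    have : c * ((g : M2) 0 0 - (g : M2) 1 1) = 0 := by linear_combination h01
    rcases mul_eq_zero.mp this with h | h
    · exact absurd h hc
    · exact sub_eq_zero.mp h
  · intro hg
    apply ext_entries <;> simp only [coe_mul_apply] <;> simp [uu, hg.1, hg.2]
    ring

/-- conjugating `uu c` into `pmU` forces upper triangular -/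
theorem mem_borel_of_conj_uu {c : F} (hc : c ≠ 0) (l : SL2) (h : l * uu c * l⁻¹ ∈ pmU (F := F)) :
    l ∈ borel := by
  have h10 := h.1
  rw [coe_mul_apply, coe_mul_apply, coe_mul_apply, inv_apply_00, inv_apply_10] at h10
  simp [uu] at h10
  have : c * (l : M2) 1 0 * (l : M2) 1 0 = 0 := by linear_combination -h10
  rw [mem_borel]
  rcases mul_eq_zero.mp this with h | h
  · rcases mul_eq_zero.mp h with h | h
    · exact absurd h hc
    · exact h
  · exact h

/-- `borel` normalizes `pmU` -/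
theorem conj_mem_pmU {l g : SL2} (hl : l ∈ borel (F := F)) (hg : g ∈ pmU (F := F)) :
    l * g * l⁻¹ ∈ pmU := by
  have hd := borel_diag hl
  rw [mem_borel] at hl
  refine ⟨?_, ?_⟩
  · rw [coe_mul_apply, coe_mul_apply, coe_mul_apply, inv_apply_00, inv_apply_10, hl, hg.1]; ring
  · rw [coe_mul_apply, coe_mul_apply, coe_mul_apply, coe_mul_apply, coe_mul_apply, coe_mul_apply,
      inv_apply_00, inv_apply_10, inv_apply_01, inv_apply_11, hl, hg.1, hg.2]
    ring

/-- `borel` normalizes `unipU`, scaling by the square of the diagonal entry -/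
theorem conj_uu_of_mem_borel {l : SL2} (hl : l ∈ borel (F := F)) (μ : F) :
    l * uu μ * l⁻¹ = uu ((l : M2) 0 0 ^ 2 * μ) := by
  have hd := borel_diag hl
  rw [mem_borel] at hl
  apply ext_entries
  · rw [coe_mul_apply, coe_mul_apply, coe_mul_apply, inv_apply_00, inv_apply_10, hl]
    simp [uu]; linear_combination hd
  · rw [coe_mul_apply, coe_mul_apply, coe_mul_apply, inv_apply_01, inv_apply_11]
    simp [uu]; ring
  · rw [coe_mul_apply, coe_mul_apply, coe_mul_apply, inv_apply_00, inv_apply_10, hl]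
    simp [uu]
  · rw [coe_mul_apply, coe_mul_apply, coe_mul_apply, inv_apply_01, inv_apply_11, hl]
    simp [uu]; linear_combination hd


/-- `{1, -1}` -/
def pm : Subgroup SL2 where
  carrier := {g | g = 1 ∨ g = -1}
  one_mem' := Or.inl rfl
  mul_mem' := by
    rintro a b (rfl | rfl) (rfl | rfl)
    · left; simp
    · right; simp
    · right; simp
    · left; simp
  inv_mem' := by
    rintro a (rfl | rfl)
    · left; simp
    · right
      rw [inv_eq_iff_mul_eq_one]; simp

theorem mem_pm {g : SL2} : g ∈ pm (F := F) ↔ g = 1 ∨ g = -1 := Iff.rfl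

theorem neg_one_mul_comm (g : SL2) : (-1 : SL2) * g = g * (-1) := by
  rw [neg_mul, one_mul, mul_neg, mul_one]

theorem pm_central {z : SL2} (hz : z ∈ pm (F := F)) (g : SL2) : z * g = g * z := by
  rcases hz with rfl | rfl
  · simp
  · exact neg_one_mul_comm g

/-- commuting is transitive through non-scalar elements -/
theorem commute_trans {g h k : SL2} (hh : h ∉ pm (F := F)) (hgh : g * h = h * g)
    (hhk : h * k = k * h) : g * k = k * g := by
  have hns : ∀ c : F, (h : M2) ≠ c • (1 : M2) :=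
    not_scalar_of_ne h (fun e => hh (Or.inl e)) (fun e => hh (Or.inr e))
  have h1 : (g : M2) * (h : M2) = (h : M2) * (g : M2) := by
    rw [← Matrix.SpecialLinearGroup.coe_mul, ← Matrix.SpecialLinearGroup.coe_mul, hgh]
  have h2 : (k : M2) * (h : M2) = (h : M2) * (k : M2) := by
    rw [← Matrix.SpecialLinearGroup.coe_mul, ← Matrix.SpecialLinearGroup.coe_mul, hhk]
  obtain ⟨α, β, hg⟩ := Cfsg.Agent.Lib.Helper99.exists_eq_add_smul_of_commute hns h1
  obtain ⟨α', β', hk⟩ := Cfsg.Agent.Lib.Helper99.exists_eq_add_smul_of_commute hns h2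
  apply Subtype.ext
  rw [Matrix.SpecialLinearGroup.coe_mul, Matrix.SpecialLinearGroup.coe_mul, hg, hk]
  simp only [add_mul, mul_add, Matrix.smul_mul, Matrix.mul_smul, Matrix.one_mul, Matrix.mul_one,
    smul_smul]
  rw [mul_comm α' α, mul_comm β' β, mul_comm β' α, mul_comm α' β]
  abel

end Cfsg.Agent.Lib.Helper16.SL2Q
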