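import Mathlib
import Cfsg.Agent.Lib.Helper16.SL2Dickson1

set_option autoImplicit false

/-!
# Dickson-lite, part 2: a finite subgroup `L ≤ SL₂(F)` containing `uu c`: centralizer, normalizer,
Sylow `p`-subgroup.
-/

namespace Cfsg.Agent.Lib.Helper16.SL2Q

open Matrix

variable {F : Type*} [Field F]

local notation "SL2" => Matrix.SpecialLinearGroup (Fin 2) F
local notation "M2" => Matrix (Fin 2) (Fin 2) F

variable (L : Subgroup (Matrix.SpecialLinearGroup (Fin 2) F))

/-- the central part of `L` -/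
def ZL : Subgroup L := (pm (F := F)).subgroupOf L

theorem mem_ZL {g : L} : g ∈ ZL L ↔ (g : SL2) = 1 ∨ (g : SL2) = -1 := by
  unfold ZL
  rw [Subgroup.mem_subgroupOf, mem_pm]

theorem ct_L [Fintype L] : Cfsg.Agent.Lib.Helper16.ClassEq.CT (ZL L) where
  central := by
    intro z hz g
    apply Subtype.ext
    rw [Subgroup.coe_mul, Subgroup.coe_mul]
    exact pm_central (Subgroup.mem_subgroupOf.mp hz) _
  trans := by
    intro g h k hh hgh hhk
    apply Subtype.ext
    rw [Subgroup.coe_mul, Subgroup.coe_mul]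
    have hh' : (h : SL2) ∉ pm (F := F) := fun e => hh (Subgroup.mem_subgroupOf.mpr e)
    exact commute_trans hh' (by rw [← Subgroup.coe_mul, hgh, Subgroup.coe_mul])
      (by rw [← Subgroup.coe_mul, hhk, Subgroup.coe_mul])

variable {L}

/-- centralizer of `uu c` in `L` -/
theorem centralizer_uu {c : F} (hc : c ≠ 0) (hu : uu c ∈ L) :
    Subgroup.centralizer ({(⟨uu c, hu⟩ : L)} : Set L) = (pmU (F := F)).subgroupOf L := by
  ext g
  rw [Subgroup.mem_centralizer_singleton_iff, Subgroup.mem_subgroupOf, ← commute_uu_iff hc]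
  constructor
  · intro h
    have := congrArg Subtype.val h
    simpa using this
  · intro h
    apply Subtype.ext
    simpa using h

/-- the normalizer of the centralizer of `uu c` in `L` -/
theorem Nm_uu {c : F} (hc : c ≠ 0) (hu : uu c ∈ L) :
    Cfsg.Agent.Lib.Helper16.ClassEq.Nm (⟨uu c, hu⟩ : L) = (borel (F := F)).subgroupOf L := by
  unfold Cfsg.Agent.Lib.Helper16.ClassEq.Nm
  rw [centralizer_uu hc hu]
  ext l
  rw [Subgroup.mem_normalizer_iff, Subgroup.mem_subgroupOf]
  constructor
  · intro h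
    have h1 := (h ⟨uu c, hu⟩).mp (by
      rw [Subgroup.mem_subgroupOf]; exact unipU_le_pmU (uu_mem_unipU c))
    rw [Subgroup.mem_subgroupOf] at h1
    exact mem_borel_of_conj_uu hc (l : SL2) (by simpa using h1)
  · intro hl g
    rw [Subgroup.mem_subgroupOf, Subgroup.mem_subgroupOf]
    constructor
    · intro hg
      have := conj_mem_pmU hl hg
      simpa using this
    · intro hg
      have hl' : (l : SL2)⁻¹ ∈ borel (F := F) := (borel (F := F)).inv_mem hl
      have := conj_mem_pmU hl' (by simpa using hg)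
      have e : (l : SL2)⁻¹ * ((l : SL2) * (g : SL2) * (l : SL2)⁻¹) * ((l : SL2)⁻¹)⁻¹ = (g : SL2) := by
        group
      rw [e] at this
      exact this

section charp

variable {p : ℕ} [hpF : Fact p.Prime] [CharP F p]

theorem mem_unipU_of_mem_pmU (hp : p ≠ 2) {g : SL2} (hg : g ∈ pmU (F := F)) (ht : tr g = 2) :
    g ∈ unipU := by
  have h2F : (2 : F) ≠ 0 := two_ne_zero_of_char (p := p) hp
  rw [tr_def, ← hg.2] at ht
  have h00 : (g : M2) 0 0 = 1 := by
    have : 2 * ((g : M2) 0 0 - 1) = 0 := by linear_combination ht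
    rcases mul_eq_zero.mp this with h | h
    · exact absurd h h2F
    · exact sub_eq_zero.mp h
  exact ⟨hg.1, h00, by rw [← hg.2, h00]⟩

/-- `unipU ∩ L` is a `p`-group -/
theorem isPGroup_unipU : IsPGroup p ((unipU (F := F)).subgroupOf L) := by
  intro g
  refine ⟨1, ?_⟩
  rw [pow_one]
  apply Subtype.ext
  apply Subtype.ext
  have hg : ((g : L) : SL2) ∈ unipU (F := F) := Subgroup.mem_subgroupOf.mp g.2
  have := pow_char_of_tr_eq_two (p := p) ((g : L) : SL2) (by
    rw [eq_uu_of_mem_unipU hg, tr_uu])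
  simpa using this

/-- a `p`-subgroup of `L` containing `uu c` lies in `unipU` -/
theorem le_unipU_of_isPGroup (hp : p ≠ 2) [Finite L] {c : F} (hc : c ≠ 0) (hu : uu c ∈ L)
    (Q : Subgroup L) (hQ : IsPGroup p Q) (hxQ : (⟨uu c, hu⟩ : L) ∈ Q) :
    Q ≤ (unipU (F := F)).subgroupOf L := by
  have hnt : Nontrivial Q := by
    refine ⟨⟨⟨⟨uu c, hu⟩, hxQ⟩, 1, ?_⟩⟩
    intro h
    have := congrArg (fun q : Q => ((q : L) : SL2)) h
    exact uu_ne_one hc this
  have hcen := hQ.center_nontrivial
  obtain ⟨w, hw⟩ := exists_ne (1 : Subgroup.center Q)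
  -- w commutes with x₀
  have hwx : (((w : Q) : L) : SL2) * uu c = uu c * (((w : Q) : L) : SL2) := by
    have := (Subgroup.mem_center_iff.mp w.2) ⟨⟨uu c, hu⟩, hxQ⟩
    have := congrArg (fun q : Q => ((q : L) : SL2)) this
    simpa using this.symm
  have hw_pmU := (commute_uu_iff hc _).mp hwx
  have hw_tr : tr (((w : Q) : L) : SL2) = 2 := by
    obtain ⟨k, hk⟩ := hQ (w : Q)
    apply tr_eq_two_of_pow (p := p) _ k
    have := congrArg (fun q : Q => ((q : L) : SL2)) hk
    simpa using this
  have hw_unip := mem_unipU_of_mem_pmU (p := p) hp hw_pmU hw_tr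
  have hw_eq := eq_uu_of_mem_unipU hw_unip
  have hμ : ((((w : Q) : L) : SL2) : M2) 0 1 ≠ 0 := by
    intro h0
    rw [h0, uu_zero] at hw_eq
    apply hw
    apply Subtype.ext
    apply Subtype.ext
    apply Subtype.ext
    exact hw_eq
  intro s hs
  rw [Subgroup.mem_subgroupOf]
  have hsw : (s : SL2) * uu (((((w : Q) : L) : SL2) : M2) 0 1) =
      uu (((((w : Q) : L) : SL2) : M2) 0 1) * (s : SL2) := by
    rw [← hw_eq]
    have := (Subgroup.mem_center_iff.mp w.2) ⟨s, hs⟩
    have := congrArg (fun q : Q => ((q : L) : SL2)) this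
    simpa using this
  have hs_pmU := (commute_uu_iff hμ _).mp hsw
  have hs_tr : tr (s : SL2) = 2 := by
    obtain ⟨k, hk⟩ := hQ ⟨s, hs⟩
    apply tr_eq_two_of_pow (p := p) _ k
    have := congrArg (fun q : Q => ((q : L) : SL2)) hk
    simpa using this
  exact mem_unipU_of_mem_pmU (p := p) hp hs_pmU hs_tr


theorem one_mem_pmU : (1 : SL2) ∈ pmU (F := F) := (pmU (F := F)).one_mem

theorem neg_one_mem_pmU : (-1 : SL2) ∈ pmU (F := F) := by
  refine ⟨?_, ?_⟩ <;> simp [Matrix.SpecialLinearGroup.coe_neg]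

theorem pm_le_pmU : pm (F := F) ≤ pmU := by
  rintro g (rfl | rfl)
  · exact one_mem_pmU
  · exact neg_one_mem_pmU

/-- an element of `pmU ∩ L` with diagonal entry `-1` forces `-1 ∈ L` -/
theorem neg_one_mem_of_mem_pmU (hp : p ≠ 2) {g : SL2} (hgL : g ∈ L) (hg : g ∈ pmU (F := F))
    (h00 : (g : M2) 0 0 = -1) : (-1 : SL2) ∈ L ∧ -g ∈ unipU (F := F) := by
  have hneg : -g ∈ unipU (F := F) := by
    refine ⟨?_, ?_, ?_⟩
    · simp [Matrix.SpecialLinearGroup.coe_neg, hg.1]
    · simp [Matrix.SpecialLinearGroup.coe_neg, h00]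
    · simp [Matrix.SpecialLinearGroup.coe_neg, ← hg.2, h00]
  refine ⟨?_, hneg⟩
  have h1 : (-g) ^ p = 1 := pow_char_of_tr_eq_two (p := p) (-g) (by
    rw [eq_uu_of_mem_unipU hneg, tr_uu])
  have hodd : Odd p := (Fact.out : p.Prime).odd_of_ne_two hp
  have h2 : g ^ p = -1 := by
    have : g = -(-g) := (neg_neg g).symm
    rw [this, Odd.neg_pow hodd, h1]
  rw [← h2]
  exact L.pow_mem hgL p

theorem card_pmU (hp : p ≠ 2) [Finite L] :
    Nat.card ((pmU (F := F)).subgroupOf L) =
      Nat.card (ZL L) * Nat.card ((unipU (F := F)).subgroupOf L) := by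
  have h2F : (2 : F) ≠ 0 := two_ne_zero_of_char (p := p) hp
  rw [← Nat.card_prod]
  symm
  let f : (ZL L) × ((unipU (F := F)).subgroupOf L) → (pmU (F := F)).subgroupOf L :=
    fun x => ⟨(x.1 : L) * (x.2 : L), by
      rw [Subgroup.mem_subgroupOf, Subgroup.coe_mul]
      exact (pmU (F := F)).mul_mem (pm_le_pmU (Subgroup.mem_subgroupOf.mp x.1.2))
        (unipU_le_pmU (Subgroup.mem_subgroupOf.mp x.2.2))⟩
  have h00 : ∀ x : (ZL L) × ((unipU (F := F)).subgroupOf L),
      ((((f x : (pmU (F := F)).subgroupOf L) : L) : SL2) : M2) 0 0 = (((x.1 : L) : SL2) : M2) 0 0 := by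
    intro x
    have hu : ((x.2 : L) : SL2) ∈ unipU (F := F) := Subgroup.mem_subgroupOf.mp x.2.2
    show (((x.1 : L) * (x.2 : L) : L) : SL2).1 0 0 = _
    rw [Subgroup.coe_mul, coe_mul_apply, hu.1, hu.2.1]
    ring
  apply Nat.card_congr
  apply Equiv.ofBijective f
  constructor
  · intro x y hxy
    have e1 := h00 x
    have e2 := h00 y
    rw [hxy] at e1
    have hz : x.1 = y.1 := by
      apply Subtype.ext
      apply Subtype.ext
      rcases (mem_ZL L).mp x.1.2 with hx | hx <;> rcases (mem_ZL L).mp y.1.2 with hy | hy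
      · rw [hx, hy]
      · exfalso
        rw [hx] at e1
        rw [hy] at e2
        rw [e1] at e2
        simp [Matrix.SpecialLinearGroup.coe_neg] at e2
        apply h2F
        linear_combination e2
      · exfalso
        rw [hx] at e1
        rw [hy] at e2
        rw [e1] at e2
        simp [Matrix.SpecialLinearGroup.coe_neg] at e2
        apply h2F
        linear_combination -e2
      · rw [hx, hy]
    have hu : x.2 = y.2 := by
      have := congrArg (fun g : (pmU (F := F)).subgroupOf L => (g : L)) hxy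
      simp only [f] at this
      rw [hz] at this
      exact Subtype.ext (mul_left_cancel this)
    exact Prod.ext hz hu
  · intro g
    have hg : ((g : L) : SL2) ∈ pmU (F := F) := Subgroup.mem_subgroupOf.mp g.2
    have hd := borel_diag (pmU_le_borel hg)
    rw [← hg.2] at hd
    have hcases : (((g : L) : SL2) : M2) 0 0 = 1 ∨ (((g : L) : SL2) : M2) 0 0 = -1 := by
      have : ((((g : L) : SL2) : M2) 0 0 - 1) * ((((g : L) : SL2) : M2) 0 0 + 1) = 0 := by
        linear_combination hd
      rcases mul_eq_zero.mp this with h | h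
      · left; linear_combination h
      · right; linear_combination h
    rcases hcases with h1 | h1
    · refine ⟨⟨1, ⟨(g : L), ?_⟩⟩, ?_⟩
      · rw [Subgroup.mem_subgroupOf]
        exact ⟨hg.1, h1, by rw [← hg.2, h1]⟩
      · apply Subtype.ext
        simp [f]
    · obtain ⟨hnegL, hnegU⟩ := neg_one_mem_of_mem_pmU (p := p) hp (g : L).2 hg h1
      refine ⟨⟨⟨⟨-1, hnegL⟩, (mem_ZL L).mpr (Or.inr rfl)⟩,
        ⟨⟨-((g : L) : SL2), by
          have : -((g : L) : SL2) = (-1) * ((g : L) : SL2) := by simp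
          rw [this]; exact L.mul_mem hnegL (g : L).2⟩, ?_⟩⟩, ?_⟩
      · rw [Subgroup.mem_subgroupOf]; exact hnegU
      · apply Subtype.ext
        apply Subtype.ext
        simp [f]

end charp

end Cfsg.Agent.Lib.Helper16.SL2Q
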