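import Mathlib
import Cfsg.Agent.Lib.Helper16.SL2Dickson2

set_option autoImplicit false

/-!
# Dickson-lite, part 3: Sylow conjugacy, semisimple classes
-/

namespace Cfsg.Agent.Lib.Helper16.SL2Q

open Matrix Pointwise

variable {F : Type*} [Field F]

local notation "SL2" => Matrix.SpecialLinearGroup (Fin 2) F
local notation "M2" => Matrix (Fin 2) (Fin 2) F

variable {L : Subgroup (Matrix.SpecialLinearGroup (Fin 2) F)}
variable {p : ℕ} [hpF : Fact p.Prime] [CharP F p]

/-- `unipU ∩ L` as a Sylow `p`-subgroup of `L` -/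
def sylU (hp : p ≠ 2) [Finite L] {c : F} (hc : c ≠ 0) (hu : uu c ∈ L) : Sylow p L where
  toSubgroup := (unipU (F := F)).subgroupOf L
  isPGroup' := isPGroup_unipU
  is_maximal' := by
    intro Q hQ hle
    apply le_antisymm _ hle
    apply le_unipU_of_isPGroup (p := p) hp hc hu Q hQ
    apply hle
    rw [Subgroup.mem_subgroupOf]
    exact uu_mem_unipU c

/-- every element of `L` of trace `2` is `L`-conjugate into `unipU` -/
theorem exists_conj_mem_unipU (hp : p ≠ 2) [Finite L] {c : F} (hc : c ≠ 0) (hu : uu c ∈ L)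
    (g : L) (hg : tr (g : SL2) = 2) : ∃ l : L, ((l * g * l⁻¹ : L) : SL2) ∈ unipU (F := F) := by
  have hgp : g ^ p = 1 := by
    apply Subtype.ext
    have := pow_char_of_tr_eq_two (p := p) (g : SL2) hg
    simpa using this
  have hZ : IsPGroup p (Subgroup.zpowers g) := by
    intro y
    refine ⟨1, ?_⟩
    obtain ⟨y, hy⟩ := y
    obtain ⟨j, rfl⟩ := Subgroup.mem_zpowers_iff.mp hy
    apply Subtype.ext
    simp only [pow_one, Subgroup.coe_pow, Subgroup.coe_one]
    rw [← zpow_natCast, ← _root_.zpow_mul, mul_comm, _root_.zpow_mul, zpow_natCast, hgp,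
      _root_.one_zpow]
  obtain ⟨S', hS'⟩ := hZ.exists_le_sylow
  obtain ⟨l, hl⟩ := MulAction.exists_smul_eq L S' (sylU (p := p) hp hc hu)
  refine ⟨l, ?_⟩
  have h1 : g ∈ (S' : Subgroup L) := hS' (Subgroup.mem_zpowers g)
  have h2 : MulAut.conj l • g ∈ MulAut.conj l • (S' : Subgroup L) :=
    Subgroup.smul_mem_pointwise_smul _ _ _ h1
  have h3 : (MulAut.conj l • (S' : Subgroup L)) = ((l • S' : Sylow p L) : Subgroup L) := rfl
  rw [h3, hl] at h2
  have h4 : MulAut.conj l • g = l * g * l⁻¹ := rfl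
  rw [h4] at h2
  exact Subgroup.mem_subgroupOf.mp h2

/-- elements of `L` with `tr ^ 2 = 4` outside the centre are conjugate into `pmU` -/
theorem exists_conj_mem_pmU (hp : p ≠ 2) [Finite L] {c : F} (hc : c ≠ 0) (hu : uu c ∈ L)
    (g : L) (hg : tr (g : SL2) ^ 2 = 4) : ∃ l : L, ((l * g * l⁻¹ : L) : SL2) ∈ pmU (F := F) := by
  have hcases : (tr (g : SL2) - 2) * (tr (g : SL2) + 2) = 0 := by linear_combination hg
  rcases mul_eq_zero.mp hcases with h | h
  · obtain ⟨l, hl⟩ := exists_conj_mem_unipU (p := p) hp hc hu g (by linear_combination h)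
    exact ⟨l, unipU_le_pmU hl⟩
  · -- `-g` has trace 2 and `-1 ∈ L`
    have htr : tr (-(g : SL2)) = 2 := by
      rw [tr_def, Matrix.SpecialLinearGroup.coe_neg]
      have := tr_def (g : SL2)
      simp only [Matrix.neg_apply]
      linear_combination -h + this
    have h1 : (-(g : SL2)) ^ p = 1 := pow_char_of_tr_eq_two (p := p) _ htr
    have hodd : Odd p := (Fact.out : p.Prime).odd_of_ne_two hp
    have h2 : (g : SL2) ^ p = -1 := by
      have : (g : SL2) = -(-(g : SL2)) := (neg_neg _).symm
      rw [this, Odd.neg_pow hodd, h1]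
    have hnegL : (-1 : SL2) ∈ L := by
      rw [← h2]; exact L.pow_mem g.2 p
    have hnegg : -(g : SL2) ∈ L := by
      have : -(g : SL2) = (-1) * (g : SL2) := by simp
      rw [this]; exact L.mul_mem hnegL g.2
    obtain ⟨l, hl⟩ := exists_conj_mem_unipU (p := p) hp hc hu ⟨-(g : SL2), hnegg⟩ htr
    refine ⟨l, ?_⟩
    have e : ((l * g * l⁻¹ : L) : SL2) = (-1) * ((l * ⟨-(g : SL2), hnegg⟩ * l⁻¹ : L) : SL2) := by
      simp
    rw [e]
    exact (pmU (F := F)).mul_mem neg_one_mem_pmU (unipU_le_pmU hl)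

/-- for a semisimple non-central `g`, elements normalizing `C(g)` fix or invert `g` -/
theorem conj_eq_or_inv_of_mem_Nm (hp : p ≠ 2) (g : L) (hgZ : g ∉ ZL L)
    (hτ : tr (g : SL2) ^ 2 ≠ 4) (l : L) (hl : l ∈ Cfsg.Agent.Lib.Helper16.ClassEq.Nm g) :
    l * g * l⁻¹ = g ∨ l * g * l⁻¹ = g⁻¹ := by
  have h2F : (2 : F) ≠ 0 := two_ne_zero_of_char (p := p) hp
  have h1 : g ∈ Subgroup.centralizer ({g} : Set L) := Subgroup.mem_centralizer_singleton_iff.mpr rfl
  have h2 := (Subgroup.mem_normalizer_iff.mp hl g).mp h1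
  have h3 := Subgroup.mem_centralizer_singleton_iff.mp h2
  have hns := not_scalar_of_ne (g : SL2) (fun e => hgZ ((mem_ZL L).mpr (Or.inl e)))
    (fun e => hgZ ((mem_ZL L).mpr (Or.inr e)))
  have h4 := eq_or_eq_inv_of_commute h2F (g : SL2) ((l : SL2) * (g : SL2) * (l : SL2)⁻¹) hns hτ
    (by
      have := congrArg Subtype.val h3
      simpa using this) (tr_conj _ _)
  rcases h4 with h | h
  · left; apply Subtype.ext; simpa using h
  · right; apply Subtype.ext; simpa using h

/-- the index of `C(g)` in its normalizer is at most two -/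
theorem card_Nm_semisimple (hp : p ≠ 2) [Finite L] (g : L) (hgZ : g ∉ ZL L)
    (hτ : tr (g : SL2) ^ 2 ≠ 4) :
    Nat.card (Cfsg.Agent.Lib.Helper16.ClassEq.Nm g) = Nat.card (Subgroup.centralizer ({g} : Set L)) ∨
    Nat.card (Cfsg.Agent.Lib.Helper16.ClassEq.Nm g) =
      2 * Nat.card (Subgroup.centralizer ({g} : Set L)) := by
  set N := Cfsg.Agent.Lib.Helper16.ClassEq.Nm g with hN
  set C := Subgroup.centralizer ({g} : Set L) with hC
  have hCN : C ≤ N := Subgroup.le_normalizer
  set K := C.subgroupOf N with hK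
  have hcardK : Nat.card K = Nat.card C :=
    Nat.card_congr (Subgroup.subgroupOfEquivOfLe hCN).toEquiv
  have hmul : Nat.card K * K.index = Nat.card N := Subgroup.card_mul_index K
  have hmemK : ∀ a : N, a ∈ K ↔ (a : L) * g * (a : L)⁻¹ = g := by
    intro a
    rw [hK, Subgroup.mem_subgroupOf, hC, Subgroup.mem_centralizer_singleton_iff]
    constructor
    · intro h; rw [h]; group
    · intro h
      have := congrArg (· * (a : L)) h
      simpa using this
  by_cases htop : K = ⊤
  · left
    rw [htop, Subgroup.index_top, mul_one] at hmul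
    rw [← hmul, ← hcardK, htop]
  · right
    obtain ⟨a, -, haK⟩ := SetLike.exists_of_lt (lt_top_iff_ne_top.mpr htop)
    have hidx : K.index = 2 := by
      rw [Subgroup.index_eq_two_iff]
      refine ⟨a, ?_⟩
      intro b
      have ha := conj_eq_or_inv_of_mem_Nm (p := p) hp g hgZ hτ (a : L) a.2
      have ha' : (a : L) * g * (a : L)⁻¹ = g⁻¹ := by
        rcases ha with h | h
        · exact absurd ((hmemK a).mpr h) haK
        · exact h
      have hb := conj_eq_or_inv_of_mem_Nm (p := p) hp g hgZ hτ (b : L) b.2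
      by_cases hbK : b ∈ K
      · refine Or.inr ⟨hbK, ?_⟩
        intro hba
        apply haK
        have := K.mul_mem (K.inv_mem hbK) hba
        simpa using this
      · refine Or.inl ⟨?_, hbK⟩
        have hb' : (b : L) * g * (b : L)⁻¹ = g⁻¹ := by
          rcases hb with h | h
          · exact absurd ((hmemK b).mpr h) hbK
          · exact h
        rw [hmemK]
        have e : ((b * a : N) : L) * g * ((b * a : N) : L)⁻¹ =
            (b : L) * ((a : L) * g * (a : L)⁻¹) * (b : L)⁻¹ := by
          simp only [Subgroup.coe_mul]; group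
        rw [e, ha']
        have : (b : L) * g⁻¹ * (b : L)⁻¹ = ((b : L) * g * (b : L)⁻¹)⁻¹ := by group
        rw [this, hb', inv_inv]
    rw [hidx] at hmul
    rw [← hmul, hcardK, mul_comm]

/-- the centralizer of a semisimple element has order prime to `p` -/
theorem coprime_card_centralizer (hp : p ≠ 2) [Finite L] (g : L)
    (hτ : tr (g : SL2) ^ 2 ≠ 4) :
    (Nat.card (Subgroup.centralizer ({g} : Set L))).Coprime p := by
  rw [Nat.coprime_comm, Nat.Prime.coprime_iff_not_dvd (Fact.out : p.Prime)]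
  intro hdvd
  obtain ⟨w, hw⟩ := exists_prime_orderOf_dvd_card' (G := Subgroup.centralizer ({g} : Set L)) p hdvd
  have hw1 : ((w : L) : SL2) ≠ 1 := by
    intro h
    have : w = 1 := by
      apply Subtype.ext; apply Subtype.ext; exact h
    rw [this, orderOf_one] at hw
    exact (Fact.out : p.Prime).one_lt.ne hw
  have hwp : ((w : L) : SL2) ^ p ^ 1 = 1 := by
    have := pow_orderOf_eq_one w
    rw [hw] at this
    have := congrArg (fun y : Subgroup.centralizer ({g} : Set L) => ((y : L) : SL2)) this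
    simpa using this
  have hwt : tr ((w : L) : SL2) = 2 := tr_eq_two_of_pow (p := p) _ 1 hwp
  have hcomm : (g : SL2) * ((w : L) : SL2) = ((w : L) : SL2) * (g : SL2) := by
    have := Subgroup.mem_centralizer_singleton_iff.mp w.2
    have := congrArg Subtype.val this
    simpa using this.symm
  exact hτ (tr_sq_eq_four_of_commute (p := p) hp _ _ hw1 hwt hcomm)

/-- for non-central `g`, `|C(g)| ≥ 2 |Z|` -/
theorem two_mul_card_ZL_le [Finite L] (g : L) (hgZ : g ∉ ZL L) :
    2 * Nat.card (ZL L) ≤ Nat.card (Subgroup.centralizer ({g} : Set L)) := by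
  set C := Subgroup.centralizer ({g} : Set L) with hC
  have hZC : ZL L ≤ C := by
    intro z hz
    rw [hC, Subgroup.mem_centralizer_singleton_iff]
    apply Subtype.ext
    rw [Subgroup.coe_mul, Subgroup.coe_mul]
    exact pm_central (Subgroup.mem_subgroupOf.mp hz) _
  set K := (ZL L).subgroupOf C with hK
  have hcardK : Nat.card K = Nat.card (ZL L) :=
    Nat.card_congr (Subgroup.subgroupOfEquivOfLe hZC).toEquiv
  have hmul : Nat.card K * K.index = Nat.card C := Subgroup.card_mul_index K
  have hidx : K.index ≠ 1 := by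
    intro h1
    rw [Subgroup.index_eq_one] at h1
    apply hgZ
    have hg : (⟨g, Subgroup.mem_centralizer_singleton_iff.mpr rfl⟩ : C) ∈ K := by
      rw [h1]; exact Subgroup.mem_top _
    exact Subgroup.mem_subgroupOf.mp hg
  have hidx0 : K.index ≠ 0 := Subgroup.index_ne_zero_of_finite
  have h2 : 2 ≤ K.index := by omega
  rw [← hmul, hcardK, mul_comm]
  exact Nat.mul_le_mul_left _ h2

end Cfsg.Agent.Lib.Helper16.SL2Q
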