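import Mathlib
import Cfsg.Agent.Lib.Helper16.SL2Dickson3

set_option autoImplicit false

/-!
# Dickson-lite, part 4: the torus of the Borel part of `L`
-/

namespace Cfsg.Agent.Lib.Helper16.SL2Q

open Matrix Pointwise

variable {F : Type*} [Field F]

local notation "SL2" => Matrix.SpecialLinearGroup (Fin 2) F
local notation "M2" => Matrix (Fin 2) (Fin 2) F

/-- an element commuting with a non-`pmU` element of the Borel group lies in the Borel group -/
theorem mem_borel_of_commute {h g : SL2} (hh : h ∈ borel (F := F)) (hh' : h ∉ pmU (F := F))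
    (hc : g * h = h * g) : g ∈ borel (F := F) := by
  rw [mem_borel] at hh ⊢
  have h1 := congrArg (fun x : SL2 => (x : M2) 1 0) hc
  simp only [coe_mul_apply, hh] at h1
  have hne : (h : M2) 0 0 ≠ (h : M2) 1 1 := fun e => hh' (mem_pmU.mpr ⟨hh, e⟩)
  have h2 : (g : M2) 1 0 * ((h : M2) 0 0 - (h : M2) 1 1) = 0 := by linear_combination h1
  rcases mul_eq_zero.mp h2 with h3 | h3
  · exact h3
  · exact absurd (sub_eq_zero.mp h3) hne

/-- a unipotent upper triangular element commuting with a non-`pmU` Borel element is trivial -/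
theorem eq_one_of_commute_of_mem_unipU {h g : SL2} (hh' : h ∉ pmU (F := F))
    (hg : g ∈ unipU (F := F)) (hc : g * h = h * g) : g = 1 := by
  rw [eq_uu_of_mem_unipU hg] at hc ⊢
  by_cases hμ : (g : M2) 0 1 = 0
  · rw [hμ, uu_zero]
  · exact absurd ((commute_uu_iff hμ h).mp hc.symm) hh'

/-- Borel elements outside `pmU` are semisimple -/
theorem tr_sq_ne_four_of_not_mem_pmU {h : SL2} (hh : h ∈ borel (F := F)) (hh' : h ∉ pmU (F := F)) :
    tr h ^ 2 ≠ 4 := by
  intro h4
  apply hh'
  refine mem_pmU.mpr ⟨hh, ?_⟩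
  have hd := borel_diag hh
  rw [tr_def] at h4
  have : ((h : M2) 0 0 - (h : M2) 1 1) ^ 2 = 0 := by linear_combination h4 - 4 * hd
  exact sub_eq_zero.mp ((pow_eq_zero_iff (two_ne_zero)).mp this)

variable (L : Subgroup (Matrix.SpecialLinearGroup (Fin 2) F))

/-- the character `g ↦ g₀₀` on the Borel part of `L` -/
def chiL : (borel (F := F)).subgroupOf L →* Fˣ where
  toFun g := ⟨(((g : L) : SL2) : M2) 0 0, (((g : L) : SL2) : M2) 1 1,
    borel_diag (Subgroup.mem_subgroupOf.mp g.2),
    by rw [mul_comm]; exact borel_diag (Subgroup.mem_subgroupOf.mp g.2)⟩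
  map_one' := by
    apply Units.ext
    simp
  map_mul' a b := by
    apply Units.ext
    have hb : (((b : L) : SL2) : M2) 1 0 = 0 := mem_borel.mp (Subgroup.mem_subgroupOf.mp b.2)
    simp only [Subgroup.coe_mul, coe_mul_apply, hb, Units.val_mul]
    ring

theorem chiL_coe (g : (borel (F := F)).subgroupOf L) :
    ((chiL L g : Fˣ) : F) = (((g : L) : SL2) : M2) 0 0 := rfl

theorem mem_ker_chiL {g : (borel (F := F)).subgroupOf L} :
    g ∈ (chiL L).ker ↔ ((g : L) : SL2) ∈ unipU (F := F) := by
  rw [MonoidHom.mem_ker, Units.ext_iff, chiL_coe, Units.val_one, mem_unipU]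
  have hg := Subgroup.mem_subgroupOf.mp g.2
  have hd := borel_diag hg
  constructor
  · intro h
    refine ⟨mem_borel.mp hg, h, ?_⟩
    rw [h, one_mul] at hd
    exact hd
  · intro h
    exact h.2.1

/-- the character `g ↦ g₀₀ ^ 2` -/
def psiL : (borel (F := F)).subgroupOf L →* Fˣ := (powMonoidHom 2).comp (chiL L)

theorem psiL_coe (g : (borel (F := F)).subgroupOf L) :
    ((psiL L g : Fˣ) : F) = ((((g : L) : SL2) : M2) 0 0) ^ 2 := by
  simp [psiL, chiL_coe]

theorem mem_ker_psiL {g : (borel (F := F)).subgroupOf L} :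
    g ∈ (psiL L).ker ↔ ((g : L) : SL2) ∈ pmU (F := F) := by
  rw [MonoidHom.mem_ker, Units.ext_iff, psiL_coe, Units.val_one, mem_pmU]
  have hg := Subgroup.mem_subgroupOf.mp g.2
  have hd := borel_diag hg
  have h0 : (((g : L) : SL2) : M2) 0 0 ≠ 0 := by
    intro h
    rw [h, zero_mul] at hd
    exact zero_ne_one hd
  constructor
  · intro h
    refine ⟨mem_borel.mp hg, ?_⟩
    apply mul_left_cancel₀ h0
    rw [hd, ← sq, h]
  · intro h
    rw [sq]
    nth_rewrite 2 [h.2]
    exact hd

variable {L}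

theorem card_ker_chiL [Finite L] :
    Nat.card (chiL L).ker = Nat.card ((unipU (F := F)).subgroupOf L) := by
  have hle : (unipU (F := F)).subgroupOf L ≤ (borel (F := F)).subgroupOf L := by
    intro g hg
    exact Subgroup.mem_subgroupOf.mpr (pmU_le_borel (unipU_le_pmU (Subgroup.mem_subgroupOf.mp hg)))
  have h1 : (chiL L).ker = ((unipU (F := F)).subgroupOf L).subgroupOf
      ((borel (F := F)).subgroupOf L) := by
    ext g
    rw [mem_ker_chiL, Subgroup.mem_subgroupOf, Subgroup.mem_subgroupOf]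
  rw [h1]
  exact Nat.card_congr (Subgroup.subgroupOfEquivOfLe hle).toEquiv

theorem card_ker_psiL [Finite L] :
    Nat.card (psiL L).ker = Nat.card ((pmU (F := F)).subgroupOf L) := by
  have hle : (pmU (F := F)).subgroupOf L ≤ (borel (F := F)).subgroupOf L := by
    intro g hg
    exact Subgroup.mem_subgroupOf.mpr (pmU_le_borel (Subgroup.mem_subgroupOf.mp hg))
  have h1 : (psiL L).ker = ((pmU (F := F)).subgroupOf L).subgroupOf
      ((borel (F := F)).subgroupOf L) := by
    ext g
    rw [mem_ker_psiL, Subgroup.mem_subgroupOf, Subgroup.mem_subgroupOf]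
  rw [h1]
  exact Nat.card_congr (Subgroup.subgroupOfEquivOfLe hle).toEquiv

theorem card_borel_chi [Finite L] :
    Nat.card ((borel (F := F)).subgroupOf L) =
      Nat.card ((unipU (F := F)).subgroupOf L) * Nat.card (chiL L).range := by
  rw [← card_ker_chiL, ← Subgroup.index_ker, Subgroup.card_mul_index]

theorem card_borel_psi [Finite L] :
    Nat.card ((borel (F := F)).subgroupOf L) =
      Nat.card ((pmU (F := F)).subgroupOf L) * Nat.card (psiL L).range := by
  rw [← card_ker_psiL, ← Subgroup.index_ker, Subgroup.card_mul_index]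


theorem uu_injective : Function.Injective (uu : F → SL2) := by
  intro a b h
  have := congrArg (fun x : SL2 => (x : M2) 0 1) h
  simpa [uu] using this

/-- the torus part acts semiregularly on the nontrivial unipotent elements -/
theorem card_range_psiL_lt [Finite L] {c : F} (hc : c ≠ 0) (hu : uu c ∈ L) :
    Nat.card (psiL L).range + 1 ≤ Nat.card ((unipU (F := F)).subgroupOf L) := by
  have hfin : Finite (psiL L).range :=
    Finite.of_surjective (psiL L).rangeRestrict (psiL L).rangeRestrict_surjective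
  rw [← Finite.card_option]
  have hmem : ∀ s : (psiL L).range, uu (((s : Fˣ) : F) * c) ∈ L := by
    rintro ⟨s, ⟨l, rfl⟩⟩
    have := conj_uu_of_mem_borel (Subgroup.mem_subgroupOf.mp l.2) c
    rw [psiL_coe, ← this]
    exact L.mul_mem (L.mul_mem (l : L).2 hu) (L.inv_mem (l : L).2)
  let f : Option (psiL L).range → (unipU (F := F)).subgroupOf L := fun o =>
    match o with
    | none => 1
    | some s => ⟨⟨uu (((s : Fˣ) : F) * c), hmem s⟩, Subgroup.mem_subgroupOf.mpr (uu_mem_unipU _)⟩
  apply Nat.card_le_card_of_injective f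
  have hval : ∀ s : (psiL L).range, (((f (some s) : (unipU (F := F)).subgroupOf L) : L) : SL2) =
      uu (((s : Fˣ) : F) * c) := fun s => rfl
  have hnone : (((f none : (unipU (F := F)).subgroupOf L) : L) : SL2) = 1 := rfl
  intro a b hab
  have hab' : (((f a : (unipU (F := F)).subgroupOf L) : L) : SL2) =
      (((f b : (unipU (F := F)).subgroupOf L) : L) : SL2) := by rw [hab]
  have hsne : ∀ s : (psiL L).range, ((s : Fˣ) : F) * c ≠ 0 :=
    fun s => mul_ne_zero (Units.ne_zero _) hc
  rcases a with _ | a <;> rcases b with _ | b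
  · rfl
  · rw [hnone, hval] at hab'
    exact absurd hab'.symm (uu_ne_one (hsne b))
  · rw [hnone, hval] at hab'
    exact absurd hab' (uu_ne_one (hsne a))
  · rw [hval, hval] at hab'
    have h1 := uu_injective hab'
    have h2 : ((a : Fˣ) : F) = ((b : Fˣ) : F) := mul_right_cancel₀ hc h1
    congr 1
    exact Subtype.ext (Units.ext h2)

/-- the torus: a semisimple element of the Borel part whose centralizer is a full complement -/
theorem exists_torus [Finite L]
    (hN : ∃ g : L, (g : SL2) ∈ borel (F := F) ∧ (g : SL2) ∉ pmU (F := F)) :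
    ∃ h₀ : L, (h₀ : SL2) ∈ borel (F := F) ∧ (h₀ : SL2) ∉ pmU (F := F) ∧
      Nat.card (Subgroup.centralizer ({h₀} : Set L)) = Nat.card (chiL L).range := by
  have hfin : Finite (chiL L).range :=
    Finite.of_surjective (chiL L).rangeRestrict (chiL L).rangeRestrict_surjective
  have hcyc : IsCyclic (chiL L).range := isCyclic_subgroup_units _
  obtain ⟨⟨s, hs⟩, hgen⟩ := hcyc.exists_generator
  obtain ⟨h₀, rfl⟩ := hs
  have hgen' : ∀ l : (borel (F := F)).subgroupOf L, ∃ k : ℤ, chiL L l = chiL L (h₀ ^ k) := by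
    intro l
    have := hgen ⟨chiL L l, ⟨l, rfl⟩⟩
    obtain ⟨k, hk⟩ := Subgroup.mem_zpowers_iff.mp this
    refine ⟨k, ?_⟩
    have := congrArg Subtype.val hk
    rw [map_zpow]
    simpa using this.symm
  have hh₀B : ((h₀ : L) : SL2) ∈ borel (F := F) := Subgroup.mem_subgroupOf.mp h₀.2
  have hh₀ : ((h₀ : L) : SL2) ∉ pmU (F := F) := by
    intro hmem
    obtain ⟨g, hgB, hgU⟩ := hN
    apply hgU
    have hk := (mem_ker_psiL L (g := h₀)).mpr hmem
    obtain ⟨k, hk'⟩ := hgen' ⟨g, Subgroup.mem_subgroupOf.mpr hgB⟩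
    have : (⟨g, Subgroup.mem_subgroupOf.mpr hgB⟩ : (borel (F := F)).subgroupOf L) ∈ (psiL L).ker := by
      rw [MonoidHom.mem_ker] at hk ⊢
      unfold psiL at hk ⊢
      rw [MonoidHom.comp_apply] at hk ⊢
      rw [hk', map_zpow, map_zpow, hk, _root_.one_zpow]
    exact (mem_ker_psiL L).mp this
  refine ⟨(h₀ : L), hh₀B, hh₀, ?_⟩
  -- the bijection `C(h₀) ≃ range χ`
  have hCB : ∀ g : Subgroup.centralizer ({(h₀ : L)} : Set L),
      (g : L) ∈ (borel (F := F)).subgroupOf L := by
    intro g
    rw [Subgroup.mem_subgroupOf]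
    apply mem_borel_of_commute hh₀B hh₀
    have := Subgroup.mem_centralizer_singleton_iff.mp g.2
    have := congrArg Subtype.val this
    simpa using this
  let φ : Subgroup.centralizer ({(h₀ : L)} : Set L) → (chiL L).range :=
    fun g => ⟨chiL L ⟨(g : L), hCB g⟩, ⟨_, rfl⟩⟩
  have hφ : Function.Bijective φ := by
    constructor
    · intro a b hab
      have h1 : chiL L ⟨(a : L), hCB a⟩ = chiL L ⟨(b : L), hCB b⟩ := congrArg Subtype.val hab
      have h2 : (⟨(a : L), hCB a⟩ * ⟨(b : L), hCB b⟩⁻¹ : (borel (F := F)).subgroupOf L) ∈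
          (chiL L).ker := by
        rw [MonoidHom.mem_ker, map_mul, map_inv, h1, mul_inv_cancel]
      rw [mem_ker_chiL] at h2
      have h3 : ((a * b⁻¹ : Subgroup.centralizer ({(h₀ : L)} : Set L)) : L) ∈
          Subgroup.centralizer ({(h₀ : L)} : Set L) := (a * b⁻¹).2
      have h4 := Subgroup.mem_centralizer_singleton_iff.mp h3
      have h5 : (((a : L) * (b : L)⁻¹ : L) : SL2) = 1 := by
        apply eq_one_of_commute_of_mem_unipU hh₀ (by simpa using h2)
        have := congrArg Subtype.val h4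
        simpa using this
      have h6 : (a : L) * (b : L)⁻¹ = 1 := Subtype.ext h5
      apply Subtype.ext
      exact mul_inv_eq_one.mp h6
    · rintro ⟨s, ⟨l, rfl⟩⟩
      obtain ⟨k, hk⟩ := hgen' l
      have hmem : ((h₀ : L)) ^ k ∈ Subgroup.centralizer ({(h₀ : L)} : Set L) :=
        Subgroup.zpow_mem _ (Subgroup.mem_centralizer_singleton_iff.mpr rfl) k
      refine ⟨⟨(h₀ : L) ^ k, hmem⟩, ?_⟩
      apply Subtype.ext
      change chiL L ⟨(h₀ : L) ^ k, _⟩ = chiL L l
      rw [hk]
      congr 1
  exact Nat.card_congr (Equiv.ofBijective φ hφ)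

end Cfsg.Agent.Lib.Helper16.SL2Q
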