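import Mathlib
import Cfsg.Agent.Lib.Helper16.SL2Dickson4

set_option autoImplicit false

/-!
# Dickson-lite, part 5: the case without torus (Burnside transfer)
-/

namespace Cfsg.Agent.Lib.Helper16.SL2Q

open Matrix Pointwise

variable {F : Type*} [Field F]

local notation "SL2" => Matrix.SpecialLinearGroup (Fin 2) F
local notation "M2" => Matrix (Fin 2) (Fin 2) F

variable {L : Subgroup (Matrix.SpecialLinearGroup (Fin 2) F)}
variable {p : ℕ} [hpF : Fact p.Prime] [CharP F p]

/-- elements of `pmU` commute with elements of `unipU` -/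
theorem commute_of_mem_pmU_of_mem_unipU {g u : SL2} (hg : g ∈ pmU (F := F))
    (hu : u ∈ unipU (F := F)) : g * u = u * g := by
  rw [eq_uu_of_mem_unipU hu]
  by_cases hμ : (u : M2) 0 1 = 0
  · rw [hμ, uu_zero, mul_one, one_mul]
  · exact (commute_uu_iff hμ g).mpr hg

theorem ll_one_not_mem_borel : ll (1 : F) ∉ borel (F := F) := by
  intro h
  rw [mem_borel] at h
  simp [ll] at h

theorem isPGroup_zpowers_uu (c : F) : IsPGroup p (Subgroup.zpowers (uu c)) := by
  rintro ⟨g, hg⟩
  refine ⟨1, ?_⟩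
  obtain ⟨k, rfl⟩ := Subgroup.mem_zpowers_iff.mp hg
  apply Subtype.ext
  simp only [pow_one, Subgroup.coe_pow, Subgroup.coe_one]
  rw [← zpow_natCast, ← _root_.zpow_mul, mul_comm, _root_.zpow_mul, zpow_natCast, uu_pow,
    CharP.cast_eq_zero, zero_mul, uu_zero, _root_.one_zpow]

/-- the normalizer of the Sylow subgroup lies in the Borel part -/
theorem normalizer_sylU_le (hp : p ≠ 2) [Finite L] {c : F} (hc : c ≠ 0) (hu : uu c ∈ L) :
    Subgroup.normalizer (((sylU (p := p) hp hc hu : Sylow p L) : Subgroup L) : Set L) ≤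
      (borel (F := F)).subgroupOf L := by
  intro l hl
  rw [Subgroup.mem_subgroupOf]
  apply mem_borel_of_conj_uu hc
  have hx : (⟨uu c, hu⟩ : L) ∈ ((sylU (p := p) hp hc hu : Sylow p L) : Subgroup L) := by
    change (⟨uu c, hu⟩ : L) ∈ (unipU (F := F)).subgroupOf L
    rw [Subgroup.mem_subgroupOf]
    exact uu_mem_unipU c
  have h1 := (Subgroup.mem_normalizer_iff.mp hl _).mp hx
  have h2 : (l * ⟨uu c, hu⟩ * l⁻¹ : L) ∈ (unipU (F := F)).subgroupOf L := h1
  rw [Subgroup.mem_subgroupOf] at h2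
  exact unipU_le_pmU (by simpa using h2)

/-- if the Borel part of `L` has no torus, then `L` contains `SL₂(3)` and `p = 3` -/
theorem case_no_torus (hp : p ≠ 2) [Finite L] {c : F} (hc : c ≠ 0) (hu : uu c ∈ L)
    (hl : ll (1 : F) ∈ L)
    (hN : ∀ g : L, (g : SL2) ∈ borel (F := F) → (g : SL2) ∈ pmU (F := F)) :
    p = 3 ∧ ∃ S : Subgroup SL2, S ≤ L ∧
      Nonempty (S ≃* Matrix.SpecialLinearGroup (Fin 2) (ZMod 3)) := by
  set P : Sylow p L := sylU (p := p) hp hc hu with hPdef
  have hPmem : ∀ g : L, g ∈ (P : Subgroup L) ↔ (g : SL2) ∈ unipU (F := F) := by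
    intro g
    change g ∈ (unipU (F := F)).subgroupOf L ↔ _
    rw [Subgroup.mem_subgroupOf]
  have hP : Subgroup.normalizer ((P : Subgroup L) : Set L) ≤
      Subgroup.centralizer ((P : Subgroup L) : Set L) := by
    intro l hl'
    have h1 := normalizer_sylU_le (p := p) hp hc hu hl'
    rw [Subgroup.mem_subgroupOf] at h1
    have h2 := hN l h1
    rw [Subgroup.mem_centralizer_iff]
    intro u hu'
    have h3 := (hPmem u).mp hu'
    apply Subtype.ext
    rw [Subgroup.coe_mul, Subgroup.coe_mul]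
    exact (commute_of_mem_pmU_of_mem_unipU h2 h3).symm
  have hcompl := MonoidHom.ker_transferSylow_isComplement' P hP
  set K : Subgroup L := (MonoidHom.transferSylow P hP).ker with hK
  have hKn : K.Normal := MonoidHom.normal_ker _
  have hKcard : (Nat.card K).Coprime p := by
    have h1 := P.card_coprime_index
    rw [hcompl.index_eq_card] at h1
    have hPpow := P.2.exists_card_eq
    obtain ⟨n, hn⟩ := hPpow
    have hn0 : n ≠ 0 := by
      rintro rfl
      rw [pow_zero] at hn
      have : (⟨uu c, hu⟩ : L) ∈ (P : Subgroup L) := (hPmem _).mpr (uu_mem_unipU c)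
      have h2 : (⟨⟨uu c, hu⟩, this⟩ : (P : Subgroup L)) = 1 :=
        (Nat.card_eq_one_iff_unique.mp hn).1.elim _ _
      have := congrArg (fun y : (P : Subgroup L) => ((y : L) : SL2)) h2
      exact uu_ne_one hc this
    rw [hn] at h1
    exact ((Nat.coprime_pow_left_iff (Nat.pos_of_ne_zero hn0) _ _).mp h1).symm
  set R : Subgroup SL2 := K.map L.subtype with hR
  have hRL : R ≤ L := by
    rintro _ ⟨k, _, rfl⟩
    exact k.2
  have hRcard : Nat.card R = Nat.card K :=
    Subgroup.card_map_of_injective L.subtype_injective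
  have hRfin : Finite R := by
    apply Nat.finite_of_card_ne_zero
    rw [hRcard]
    exact Nat.card_pos.ne'
  have hmemR : ∀ g : SL2, g ∈ R ↔ ∃ h : g ∈ L, (⟨g, h⟩ : L) ∈ K := by
    intro g
    constructor
    · rintro ⟨k, hk, rfl⟩
      exact ⟨k.2, hk⟩
    · rintro ⟨h, hk⟩
      exact ⟨⟨g, h⟩, hk, rfl⟩
  have haR : uu c ∈ Subgroup.normalizer (R : Set SL2) := by
    rw [Subgroup.mem_normalizer_iff]
    intro g
    rw [hmemR, hmemR]
    constructor
    · rintro ⟨h, hk⟩
      refine ⟨L.mul_mem (L.mul_mem hu h) (L.inv_mem hu), ?_⟩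
      exact hKn.conj_mem _ hk ⟨uu c, hu⟩
    · rintro ⟨h, hk⟩
      have hg : g ∈ L := by
        have := L.mul_mem (L.mul_mem (L.inv_mem hu) h) hu
        simpa [mul_assoc] using this
      refine ⟨hg, ?_⟩
      have := hKn.conj_mem _ hk (⟨uu c, hu⟩ : L)⁻¹
      convert this using 1
      apply Subtype.ext
      simp [mul_assoc]
  have hnt : ⁅R, Subgroup.zpowers (uu c)⁆ ≠ ⊥ := by
    intro hbot
    rw [Subgroup.commutator_eq_bot_iff_le_centralizer] at hbot
    -- then `K ≤ pmU`, hence `L ≤ pmU`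
    have hKU : ∀ k : L, k ∈ K → (k : SL2) ∈ pmU (F := F) := by
      intro k hk
      have h1 : (k : SL2) ∈ R := (hmemR _).mpr ⟨k.2, hk⟩
      have h2 := hbot h1
      rw [Subgroup.mem_centralizer_iff] at h2
      have h3 := h2 (uu c) (Subgroup.mem_zpowers _)
      exact (commute_uu_iff hc _).mp h3.symm
    have htop := hcompl.sup_eq_top
    have hLU : ∀ g : L, (g : SL2) ∈ pmU (F := F) := by
      intro g
      have hg : g ∈ K ⊔ (P : Subgroup L) := by rw [htop]; exact Subgroup.mem_top g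
      have hle : K ⊔ (P : Subgroup L) ≤ (pmU (F := F)).subgroupOf L := by
        apply sup_le
        · intro k hk
          exact Subgroup.mem_subgroupOf.mpr (hKU k hk)
        · intro u hu'
          exact Subgroup.mem_subgroupOf.mpr (unipU_le_pmU ((hPmem u).mp hu'))
      exact Subgroup.mem_subgroupOf.mp (hle hg)
    exact ll_one_not_mem_borel (pmU_le_borel (hLU ⟨ll 1, hl⟩))
  have hap : IsPGroup p (Subgroup.zpowers (uu c)) := isPGroup_zpowers_uu c
  obtain ⟨h3, -, ⟨e⟩⟩ := main_sl2_pprime (p := p) hp (uu c) hap R (by rw [hRcard]; exact hKcard)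
    haR hnt
  refine ⟨h3, R ⊔ Subgroup.zpowers (uu c), ?_, ⟨e⟩⟩
  apply sup_le hRL
  rw [Subgroup.zpowers_le]
  exact hu

end Cfsg.Agent.Lib.Helper16.SL2Q
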