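import Mathlib
import Cfsg.Agent.Lib.Helper16.SL2Dickson5
import Cfsg.Agent.Lib.Helper07.SLGen

set_option autoImplicit false

/-!
# Dickson-lite, part 6: the big cell and the prime subfield
-/

namespace Cfsg.Agent.Lib.Helper16.SL2Q

open Matrix Pointwise

variable {F : Type*} [Field F]

local notation "SL2" => Matrix.SpecialLinearGroup (Fin 2) F
local notation "M2" => Matrix (Fin 2) (Fin 2) F

variable {L : Subgroup (Matrix.SpecialLinearGroup (Fin 2) F)}
variable {p : ℕ} [hpF : Fact p.Prime] [CharP F p]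

local notation "PL" => Subgroup.subgroupOf (unipU (F := F)) L
local notation "NL" => Subgroup.subgroupOf (borel (F := F)) L

/-- entries of `u * ll 1 * b` -/
theorem big_cell_entries {u b : SL2} (hu : u ∈ unipU (F := F)) (hb : b ∈ borel (F := F)) :
    ((u * ll 1 * b : SL2) : M2) 1 0 = (b : M2) 0 0 ∧
    ((u * ll 1 * b : SL2) : M2) 0 0 = (1 + (u : M2) 0 1) * (b : M2) 0 0 := by
  rw [mem_borel] at hb
  obtain ⟨h10, h00, h11⟩ := mem_unipU.mp hu
  constructor
  · rw [coe_mul_apply, coe_mul_apply, coe_mul_apply, hb, h10, h11]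
    simp [ll]
  · rw [coe_mul_apply, coe_mul_apply, coe_mul_apply, hb, h00]
    simp [ll]

/-- when the index of the Borel part is `q + 1`, `uu 1 ∈ L` -/
theorem uu_one_mem (hp : p ≠ 2) [Finite L] {c : F} (hc : c ≠ 0) (hu : uu c ∈ L)
    (hl : ll (1 : F) ∈ L)
    (hcard : Nat.card L = (Nat.card ((unipU (F := F)).subgroupOf L) + 1) *
      Nat.card ((borel (F := F)).subgroupOf L)) : uu (1 : F) ∈ L := by
  classical
  have hb0 : ∀ b : NL, (((b : L) : SL2) : M2) 0 0 ≠ 0 := by
    intro b h
    have := borel_diag (Subgroup.mem_subgroupOf.mp b.2)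
    rw [h, zero_mul] at this
    exact zero_ne_one this
  have hnot : ∀ (u : PL) (b : NL), ((u : L) * ⟨ll 1, hl⟩ * (b : L)) ∉ NL := by
    intro u b hmem
    rw [Subgroup.mem_subgroupOf, mem_borel] at hmem
    have := (big_cell_entries (Subgroup.mem_subgroupOf.mp u.2) (Subgroup.mem_subgroupOf.mp b.2)).1
    rw [Subgroup.coe_mul, Subgroup.coe_mul] at hmem
    rw [this] at hmem
    exact hb0 b hmem
  let f : PL × NL → {l : L // l ∉ NL} := fun x => Subtype.mk ((x.1 : L) * (⟨ll 1, hl⟩ : L) * (x.2 : L)) (hnot x.1 x.2)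
  have hinj : Function.Injective f := by
    rintro ⟨u, b⟩ ⟨u', b'⟩ h
    have h1 : (u : L) * ⟨ll 1, hl⟩ * (b : L) = (u' : L) * ⟨ll 1, hl⟩ * (b' : L) :=
      congrArg Subtype.val h
    have h2 : ((u : L) : SL2) * ll 1 * ((b : L) : SL2) = ((u' : L) : SL2) * ll 1 * ((b' : L) : SL2) := by
      have := congrArg Subtype.val h1
      simpa using this
    have e := big_cell_entries (Subgroup.mem_subgroupOf.mp u.2) (Subgroup.mem_subgroupOf.mp b.2)
    have e' := big_cell_entries (Subgroup.mem_subgroupOf.mp u'.2) (Subgroup.mem_subgroupOf.mp b'.2)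
    rw [h2] at e
    have hb : (((b : L) : SL2) : M2) 0 0 = (((b' : L) : SL2) : M2) 0 0 := by rw [← e.1, ← e'.1]
    have hμ : (((u : L) : SL2) : M2) 0 1 = (((u' : L) : SL2) : M2) 0 1 := by
      have h3 := e.2.symm.trans e'.2
      rw [hb] at h3
      have := mul_right_cancel₀ (hb0 b') h3
      linear_combination this
    have huu : ((u : L) : SL2) = ((u' : L) : SL2) := by
      rw [eq_uu_of_mem_unipU (Subgroup.mem_subgroupOf.mp u.2),
        eq_uu_of_mem_unipU (Subgroup.mem_subgroupOf.mp u'.2), hμ]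
    have huu' : u = u' := Subtype.ext (Subtype.ext huu)
    subst huu'
    have hbb : (b : L) = (b' : L) := mul_left_cancel h1
    rw [Subtype.ext hbb]
  have hcard2 : Nat.card {l : L // l ∉ NL} ≤ Nat.card (PL × NL) := by
    have hfin : Fintype L := Fintype.ofFinite L
    rw [Nat.card_prod, Nat.card_eq_fintype_card, Fintype.card_subtype_compl,
      ← Nat.card_eq_fintype_card, ← Nat.card_eq_fintype_card, hcard]
    have : Nat.card {x // x ∈ NL} = Nat.card NL := rfl
    rw [this, Nat.add_mul, one_mul, Nat.add_sub_cancel]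
  have hbij := hinj.bijective_of_nat_card_le hcard2
  -- an element of `L` with vanishing `00` entry
  obtain ⟨l, hl'⟩ := exists_conj_mem_unipU (p := p) hp hc hu ⟨ll 1, hl⟩ (tr_ll 1)
  have hl11 : (((l : L) : SL2) : M2) 1 1 = 0 := by
    have h10 := (mem_unipU.mp hl').1
    rw [Subgroup.coe_mul, Subgroup.coe_mul, coe_mul_apply, coe_mul_apply, coe_mul_apply,
      Subgroup.coe_inv, inv_apply_00, inv_apply_10] at h10
    simp [ll] at h10
    have h11 : (((l : L) : SL2) : M2) 1 1 ^ 2 = 0 := by linear_combination h10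
    exact (pow_eq_zero_iff two_ne_zero).mp h11
  have hw00 : (((l⁻¹ : L) : SL2) : M2) 0 0 = 0 := by
    rw [Subgroup.coe_inv, inv_apply_00, hl11]
  have hwN : l⁻¹ ∉ NL := by
    intro hmem
    exact hb0 ⟨l⁻¹, hmem⟩ hw00
  obtain ⟨⟨u, b⟩, hub⟩ := hbij.2 ⟨l⁻¹, hwN⟩
  have hub' : (u : L) * ⟨ll 1, hl⟩ * (b : L) = l⁻¹ := congrArg Subtype.val hub
  have e := big_cell_entries (Subgroup.mem_subgroupOf.mp u.2) (Subgroup.mem_subgroupOf.mp b.2)
  have h00 : ((((u : L) * ⟨ll 1, hl⟩ * (b : L) : L) : SL2) : M2) 0 0 = 0 := by rw [hub', hw00]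
  rw [Subgroup.coe_mul, Subgroup.coe_mul, e.2] at h00
  have hμ : (((u : L) : SL2) : M2) 0 1 = -1 := by
    rcases mul_eq_zero.mp h00 with h | h
    · linear_combination h
    · exact absurd h (hb0 b)
  have hu1 : uu (-1 : F) ∈ L := by
    have := (u : L).2
    rw [eq_uu_of_mem_unipU (Subgroup.mem_subgroupOf.mp u.2), hμ] at this
    exact this
  have := L.inv_mem hu1
  rw [uu_inv, neg_neg] at this
  exact this


/-- the copy of `SL₂(𝔽_p)` inside `SL₂(F)` -/
noncomputable def primeEmb : Matrix.SpecialLinearGroup (Fin 2) (ZMod p) →* SL2 :=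
  Matrix.SpecialLinearGroup.map (ZMod.castHom (dvd_refl p) F)

theorem primeEmb_injective : Function.Injective (primeEmb (F := F) (p := p)) := by
  intro A B h
  apply Subtype.ext
  ext i j
  have h1 := congrArg (fun x : SL2 => (x : M2) i j) h
  simp only [primeEmb, Matrix.SpecialLinearGroup.map_apply_coe, RingHom.mapMatrix_apply,
    Matrix.map_apply] at h1
  exact (ZMod.castHom (dvd_refl p) F).injective h1

theorem castHom_eq_natCast (a : ZMod p) : ZMod.castHom (dvd_refl p) F a = ((a.val : ℕ) : F) := by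
  conv_lhs => rw [← ZMod.natCast_zmod_val a]
  rw [map_natCast]

theorem primeEmb_transvection_01 (a : ZMod p) :
    primeEmb (F := F) (Matrix.SpecialLinearGroup.transvection (show (0 : Fin 2) ≠ 1 by decide) a) =
      uu (1 : F) ^ a.val := by
  rw [uu_pow, mul_one]
  apply ext_entries <;>
    simp [primeEmb, Matrix.SpecialLinearGroup.transvection_coe, uu, castHom_eq_natCast,
      Matrix.single_apply]

theorem primeEmb_transvection_10 (a : ZMod p) :
    primeEmb (F := F) (Matrix.SpecialLinearGroup.transvection (show (1 : Fin 2) ≠ 0 by decide) a) =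
      ll (1 : F) ^ a.val := by
  rw [ll_pow, mul_one]
  apply ext_entries <;>
    simp [primeEmb, Matrix.SpecialLinearGroup.transvection_coe, ll, castHom_eq_natCast,
      Matrix.single_apply]

/-- a subgroup containing `uu 1` and `ll 1` contains a copy of `SL₂(𝔽_p)` -/
theorem exists_sl2p_of_uu_ll (huu : uu (1 : F) ∈ L) (hll : ll (1 : F) ∈ L) :
    ∃ S : Subgroup SL2, S ≤ L ∧
      Nonempty (S ≃* Matrix.SpecialLinearGroup (Fin 2) (ZMod p)) := by
  refine ⟨(primeEmb (F := F) (p := p)).range, ?_,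
    ⟨(MonoidHom.ofInjective (primeEmb_injective (F := F) (p := p))).symm⟩⟩
  have htop : L.comap (primeEmb (F := F) (p := p)) = ⊤ := by
    apply Cfsg.Agent.Lib.Helper07.eq_top_of_transvection_mem
    intro i j hij a
    rw [Subgroup.mem_comap]
    fin_cases i <;> fin_cases j
    · exact absurd rfl hij
    · change primeEmb (Matrix.SpecialLinearGroup.transvection (show (0 : Fin 2) ≠ 1 by decide) a) ∈ L
      rw [primeEmb_transvection_01]
      exact L.pow_mem huu _
    · change primeEmb (Matrix.SpecialLinearGroup.transvection (show (1 : Fin 2) ≠ 0 by decide) a) ∈ L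
      rw [primeEmb_transvection_10]
      exact L.pow_mem hll _
    · exact absurd rfl hij
  rintro _ ⟨A, rfl⟩
  have : A ∈ L.comap (primeEmb (F := F) (p := p)) := by rw [htop]; exact Subgroup.mem_top A
  exact this

end Cfsg.Agent.Lib.Helper16.SL2Q
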