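import Mathlib
import Cfsg.Agent.Lib.Helper16.SL2Dickson6
import Cfsg.Agent.Lib.Helper16.ClassEq2
import Cfsg.Agent.Lib.Helper16.DicksonArith

set_option autoImplicit false

/-!
# Dickson-lite, part 7: the class equation
-/

namespace Cfsg.Agent.Lib.Helper16.SL2Q

open Matrix Pointwise

variable {F : Type*} [Field F]

local notation "SL2" => Matrix.SpecialLinearGroup (Fin 2) F
local notation "M2" => Matrix (Fin 2) (Fin 2) F

variable {L : Subgroup (Matrix.SpecialLinearGroup (Fin 2) F)}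
variable {p : ℕ} [hpF : Fact p.Prime] [CharP F p]

theorem tr_sq_of_mem_pmU {g : SL2} (hg : g ∈ pmU (F := F)) : tr g ^ 2 = 4 := by
  have hd := borel_diag (pmU_le_borel hg)
  rw [tr_def, hg.2]
  rw [hg.2] at hd
  linear_combination 4 * hd

theorem uu_not_mem_ZL (hp : p ≠ 2) {c : F} (hc : c ≠ 0) (hu : uu c ∈ L) :
    (⟨uu c, hu⟩ : L) ∉ ZL L := by
  rw [mem_ZL]
  rintro (h | h)
  · exact uu_ne_one hc h
  · have h2F : (2 : F) ≠ 0 := two_ne_zero_of_char (p := p) hp
    have := congrArg tr h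
    rw [tr_uu, tr_neg_one] at this
    have h4 : (2 : F) * 2 = 0 := by linear_combination this
    exact h2F (mul_self_eq_zero.mp h4)

/-- elements of the saturation of `uu c` have `tr ^ 2 = 4` -/
theorem tr_sq_of_mem_sat_uu [Fintype L] {c : F} (hc : c ≠ 0) (hu : uu c ∈ L) {y : L}
    (hy : y ∈ Cfsg.Agent.Lib.Helper16.ClassEq.sat (ZL L) (⟨uu c, hu⟩ : L)) :
    tr (y : SL2) ^ 2 = 4 := by
  obtain ⟨l, hl⟩ := Cfsg.Agent.Lib.Helper16.ClassEq.mem_sat.mp hy
  obtain ⟨-, hcomm⟩ := Cfsg.Agent.Lib.Helper16.ClassEq.mem_cls.mp hl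
  have h1 : ((l * y * l⁻¹ : L) : SL2) * uu c = uu c * ((l * y * l⁻¹ : L) : SL2) := by
    have := congrArg Subtype.val hcomm
    simpa using this
  have h2 := (commute_uu_iff hc _).mp h1
  have h3 := tr_sq_of_mem_pmU h2
  have h4 : tr ((l * y * l⁻¹ : L) : SL2) = tr (y : SL2) := by
    have : ((l * y * l⁻¹ : L) : SL2) = (l : SL2) * (y : SL2) * (l : SL2)⁻¹ := by simp
    rw [this, tr_conj]
  rw [← h4]
  exact h3

/-- non-central elements with `tr ^ 2 = 4` lie in the saturation of `uu c` -/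
theorem mem_sat_uu_of_tr_sq (hp : p ≠ 2) [Fintype L] {c : F} (hc : c ≠ 0) (hu : uu c ∈ L) {y : L}
    (hyZ : y ∉ ZL L) (hy : tr (y : SL2) ^ 2 = 4) :
    y ∈ Cfsg.Agent.Lib.Helper16.ClassEq.sat (ZL L) (⟨uu c, hu⟩ : L) := by
  obtain ⟨l, hl⟩ := exists_conj_mem_pmU (p := p) hp hc hu y hy
  refine Cfsg.Agent.Lib.Helper16.ClassEq.mem_sat.mpr ⟨l, ?_⟩
  refine Cfsg.Agent.Lib.Helper16.ClassEq.mem_cls.mpr
    ⟨Cfsg.Agent.Lib.Helper16.ClassEq.conj_not_mem (ct_L L) hyZ l, ?_⟩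
  apply Subtype.ext
  have := (commute_uu_iff hc _).mpr hl
  simpa using this

theorem card_unipU_eq_pow [Finite L] {c : F} (hc : c ≠ 0) (hu : uu c ∈ L) :
    ∃ s : ℕ, s ≠ 0 ∧ Nat.card ((unipU (F := F)).subgroupOf L) = p ^ s := by
  obtain ⟨n, hn⟩ := (isPGroup_unipU (p := p) (L := L)).exists_card_eq
  refine ⟨n, ?_, hn⟩
  rintro rfl
  rw [pow_zero] at hn
  have hmem : (⟨uu c, hu⟩ : L) ∈ (unipU (F := F)).subgroupOf L :=
    Subgroup.mem_subgroupOf.mpr (uu_mem_unipU c)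
  have h2 : (⟨⟨uu c, hu⟩, hmem⟩ : (unipU (F := F)).subgroupOf L) = 1 :=
    (Nat.card_eq_one_iff_unique.mp hn).1.elim _ _
  have := congrArg (fun y : (unipU (F := F)).subgroupOf L => ((y : L) : SL2)) h2
  exact uu_ne_one hc this

/-- the numerical data of a semisimple class -/
theorem class_data (hp : p ≠ 2) [Fintype L] (g : L) (hgZ : g ∉ ZL L)
    (hτ : tr (g : SL2) ^ 2 ≠ 4) :
    ∃ a N c : ℕ, Nat.card (Subgroup.centralizer ({g} : Set L)) = Nat.card (ZL L) * a ∧
      c + Nat.card (ZL L) = Nat.card (ZL L) * a ∧ 2 ≤ a ∧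
      (N = Nat.card (ZL L) * a ∨ N = 2 * (Nat.card (ZL L) * a)) ∧
      (Cfsg.Agent.Lib.Helper16.ClassEq.sat (ZL L) g).card * N = Nat.card L * c ∧
      a.Coprime p := by
  have hct := ct_L L
  have hZC : ZL L ≤ Subgroup.centralizer ({g} : Set L) := by
    intro z hz
    rw [Subgroup.mem_centralizer_singleton_iff]
    apply Subtype.ext
    rw [Subgroup.coe_mul, Subgroup.coe_mul]
    exact pm_central (Subgroup.mem_subgroupOf.mp hz) _
  obtain ⟨a, ha⟩ := Subgroup.card_dvd_of_le hZC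
  have hz1 : 0 < Nat.card (ZL L) := Nat.card_pos
  have h2 := two_mul_card_ZL_le g hgZ
  rw [ha] at h2
  have ha2 : 2 ≤ a := by
    by_contra hlt
    push Not at hlt
    have : a ≤ 1 := by omega
    nlinarith
  have hN := card_Nm_semisimple (p := p) hp g hgZ hτ
  rw [ha] at hN
  have hcls := Cfsg.Agent.Lib.Helper16.ClassEq.card_cls_add hct (g := g)
  rw [ha] at hcls
  have hsat := Cfsg.Agent.Lib.Helper16.ClassEq.card_sat_mul hct hgZ
  rw [← Nat.card_eq_fintype_card] at hsat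
  have hcop := coprime_card_centralizer (p := p) hp g hτ
  rw [ha] at hcop
  exact ⟨a, _, _, ha, hcls, ha2, hN, hsat, Nat.Coprime.coprime_mul_left hcop⟩


set_option maxHeartbeats 1600000 in
/-- the class equation forces the index of the Borel part to be `q + 1`, up to one exception -/
theorem numerics (hp : p ≠ 2) [Finite L] {c : F} (hc : c ≠ 0) (hu : uu c ∈ L)
    (hl : ll (1 : F) ∈ L)
    (hN : ∃ g : L, (g : SL2) ∈ borel (F := F) ∧ (g : SL2) ∉ pmU (F := F)) :
    Nat.card L = (Nat.card ((unipU (F := F)).subgroupOf L) + 1) *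
        Nat.card ((borel (F := F)).subgroupOf L) ∨
      (p = 3 ∧ Nat.card L = 60 * Nat.card (ZL L) ∧
        Nat.card ((borel (F := F)).subgroupOf L) = 6 * Nat.card (ZL L)) := by
  classical
  have hfin : Fintype L := Fintype.ofFinite L
  have hct := ct_L L
  obtain ⟨z, hz⟩ : ∃ z, z = Nat.card (ZL L) := ⟨_, rfl⟩
  obtain ⟨q, hq⟩ : ∃ q, q = Nat.card ((unipU (F := F)).subgroupOf L) := ⟨_, rfl⟩
  obtain ⟨t, ht⟩ : ∃ t, t = Nat.card (psiL L).range := ⟨_, rfl⟩
  obtain ⟨ν, hν⟩ : ∃ ν, ν = Nat.card ((borel (F := F)).subgroupOf L) := ⟨_, rfl⟩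
  obtain ⟨n, hn⟩ : ∃ n, n = Nat.card L := ⟨_, rfl⟩
  obtain ⟨m, hm⟩ : ∃ m, m = ((borel (F := F)).subgroupOf L).index := ⟨_, rfl⟩
  rw [← hz, ← hq, ← hν, ← hn]
  have hz1 : 1 ≤ z := by rw [hz]; exact Nat.card_pos
  have hνeq : ν = z * q * t := by
    rw [hν, card_borel_psi, card_pmU (p := p) hp, ← hz, ← hq, ← ht]
  have hnm : n = ν * m := by
    rw [hn, hν, hm, Subgroup.card_mul_index]
  have hm2 : 2 ≤ m := by
    have h0 : m ≠ 0 := by rw [hm]; exact Subgroup.index_ne_zero_of_finite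
    have h1 : m ≠ 1 := by
      rw [hm]
      intro h1
      rw [Subgroup.index_eq_one] at h1
      have : (⟨ll 1, hl⟩ : L) ∈ (borel (F := F)).subgroupOf L := by
        rw [h1]; exact Subgroup.mem_top _
      exact ll_one_not_mem_borel (Subgroup.mem_subgroupOf.mp this)
    omega
  obtain ⟨s, hs0, hqs⟩ := card_unipU_eq_pow (p := p) hc hu
  rw [← hq] at hqs
  have hp3 : 3 ≤ p := by
    have := (Fact.out : p.Prime).two_le
    omega
  have hq3 : 3 ≤ q := by
    rw [hqs]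
    calc 3 ≤ p := hp3
      _ = p ^ 1 := (pow_one p).symm
      _ ≤ p ^ s := Nat.pow_le_pow_right (by omega) (by omega)
  have htq : t + 1 ≤ q := by
    rw [ht, hq]; exact card_range_psiL_lt hc hu
  -- the unipotent class
  have hx₀Z := uu_not_mem_ZL (p := p) hp hc hu
  have hclsx := Cfsg.Agent.Lib.Helper16.ClassEq.card_cls_add hct (g := (⟨uu c, hu⟩ : L))
  rw [centralizer_uu hc hu, card_pmU (p := p) hp, ← hz, ← hq] at hclsx
  have hsatx := Cfsg.Agent.Lib.Helper16.ClassEq.card_sat_mul hct hx₀Z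
  rw [Nm_uu hc hu, ← Nat.card_eq_fintype_card, ← hν, ← hn] at hsatx
  obtain ⟨Sx, hSx⟩ : ∃ Sx, Sx = (Cfsg.Agent.Lib.Helper16.ClassEq.sat (ZL L) (⟨uu c, hu⟩ : L)).card :=
    ⟨_, rfl⟩
  obtain ⟨cx, hcx⟩ : ∃ cx, cx = (Cfsg.Agent.Lib.Helper16.ClassEq.cls (ZL L) (⟨uu c, hu⟩ : L)).card :=
    ⟨_, rfl⟩
  rw [← hSx, ← hcx] at hsatx
  rw [← hcx] at hclsx
  have hν0 : 0 < ν := by rw [hν]; exact Nat.card_pos
  have hSx' : Sx = m * cx := by
    rw [hnm] at hsatx
    have : Sx * ν = (m * cx) * ν := by rw [hsatx]; ring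
    exact Nat.eq_of_mul_eq_mul_right hν0 this
  -- the torus class
  obtain ⟨h₀, hhB, hhU, hCh⟩ := exists_torus hN
  have hh₀Z : h₀ ∉ ZL L := by
    intro h
    exact hhU (pm_le_pmU (Subgroup.mem_subgroupOf.mp h))
  have hτh := tr_sq_ne_four_of_not_mem_pmU hhB hhU
  obtain ⟨ah, Nh, ch, hCh', hclsh, hah2, hNh, hsath, -⟩ := class_data (p := p) hp h₀ hh₀Z hτh
  rw [← hz] at hCh' hclsh hNh
  rw [← hn] at hsath
  obtain ⟨Sh, hSh⟩ : ∃ Sh, Sh = (Cfsg.Agent.Lib.Helper16.ClassEq.sat (ZL L) h₀).card := ⟨_, rfl⟩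
  rw [← hSh] at hsath
  have hq0 : 0 < q := by omega
  have haht : ah = t := by
    have h1 : ν = q * (z * ah) := by
      rw [hν, card_borel_chi, ← hq, ← hCh, hCh']
    rw [hνeq] at h1
    have h2 : (z * q) * t = (z * q) * ah := by rw [h1]; ring
    exact (Nat.eq_of_mul_eq_mul_left (by positivity) h2).symm
  subst haht
  have h12 : h₀ ∉ Cfsg.Agent.Lib.Helper16.ClassEq.sat (ZL L) (⟨uu c, hu⟩ : L) := by
    intro h
    exact hτh (tr_sq_of_mem_sat_uu hc hu h)
  have htot := Cfsg.Agent.Lib.Helper16.ClassEq.card_total hct hx₀Z hh₀Z h12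
  rw [← Nat.card_eq_fintype_card, ← hn, ← hz, ← hSx, ← hSh] at htot
  obtain ⟨Rc, hRc⟩ : ∃ Rc, Rc = (Cfsg.Agent.Lib.Helper16.ClassEq.rest (ZL L)
    (⟨uu c, hu⟩ : L) h₀).card := ⟨_, rfl⟩
  rw [← hRc] at htot
  have hn' : n = m * q * z * ah := by rw [hnm, hνeq]; ring
  -- data of the classes in the remainder
  have hrest : ∀ g ∈ Cfsg.Agent.Lib.Helper16.ClassEq.rest (ZL L) (⟨uu c, hu⟩ : L) h₀,
      ∃ a N cg : ℕ, cg + z = z * a ∧ 2 ≤ a ∧ (N = z * a ∨ N = 2 * (z * a)) ∧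
        (Cfsg.Agent.Lib.Helper16.ClassEq.sat (ZL L) g).card * N = n * cg ∧ a.Coprime p ∧
        (Cfsg.Agent.Lib.Helper16.ClassEq.sat (ZL L) g).card ≤ Rc := by
    intro g hg
    obtain ⟨hgZ, hgx, -⟩ := Cfsg.Agent.Lib.Helper16.ClassEq.mem_rest.mp hg
    have hτg : tr (g : SL2) ^ 2 ≠ 4 := fun h => hgx (mem_sat_uu_of_tr_sq (p := p) hp hc hu hgZ h)
    obtain ⟨a, N, cg, -, h2, h3, h4, h5, h6⟩ := class_data (p := p) hp g hgZ hτg
    rw [← hz] at h2 h4
    rw [← hn] at h5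
    refine ⟨a, N, cg, h2, h3, h4, h5, h6, ?_⟩
    rw [hRc]
    exact Finset.card_le_card
      (Cfsg.Agent.Lib.Helper16.ClassEq.sat_subset_rest hct hx₀Z hh₀Z hg)
  have hfour : ∀ g ∈ Cfsg.Agent.Lib.Helper16.ClassEq.rest (ZL L) (⟨uu c, hu⟩ : L) h₀,
      n ≤ 4 * (Cfsg.Agent.Lib.Helper16.ClassEq.sat (ZL L) g).card := by
    intro g hg
    obtain ⟨a, N, cg, h2, h3, h4, h5, -, -⟩ := hrest g hg
    exact DicksonArith.le_four_mul h2 (by nlinarith) hz1 h4 h5
  -- casts
  have hzZ : (1 : ℤ) ≤ z := by exact_mod_cast hz1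
  have hqZ : (3 : ℤ) ≤ q := by exact_mod_cast hq3
  have htZ : (2 : ℤ) ≤ ah := by exact_mod_cast hah2
  have hmZ : (2 : ℤ) ≤ m := by exact_mod_cast hm2
  have hcxZ : (cx : ℤ) + z = z * q := by exact_mod_cast hclsx
  have hSxZ : (Sx : ℤ) = m * cx := by exact_mod_cast hSx'
  have hchZ : (ch : ℤ) + z = z * ah := by exact_mod_cast hclsh
  have htotZ : (m : ℤ) * q * z * ah = z + Sx + Sh + Rc := by
    rw [hn'] at htot
    exact_mod_cast htot
  rcases hNh with hNh | hNh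
  · -- `e = 1`: impossible
    exfalso
    have hShZ : (Sh : ℤ) = m * q * ch := by
      rw [hNh, hn'] at hsath
      have h1 : Sh * (z * ah) = (m * q * ch) * (z * ah) := by rw [hsath]; ring
      have h2 : Sh = m * q * ch := Nat.eq_of_mul_eq_mul_right (by positivity) h1
      exact_mod_cast h2
    have hR := DicksonArith.rest_e1 hcxZ hSxZ hchZ hShZ htotZ
    have hRpos : 0 < Rc := by
      have h1 : (0 : ℤ) < ((m : ℤ) - 1) * z := mul_pos (by linarith) (by linarith)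
      have h2 : ((m : ℤ) - 1) * z = m * z - z := by ring
      have : (0 : ℤ) < Rc := by rw [hR, ← h2]; exact h1
      exact_mod_cast this
    obtain ⟨g, hg⟩ := Finset.card_pos.mp (by rw [← hRc]; exact hRpos)
    obtain ⟨a, N, cg, h2, h3, h4, h5, -, h7⟩ := hrest g hg
    have h8 := hfour g hg
    rw [hn'] at h8
    refine DicksonArith.e1_contra hzZ hqZ htZ hmZ hR
      (Sg := ((Cfsg.Agent.Lib.Helper16.ClassEq.sat (ZL L) g).card : ℤ)) (by exact_mod_cast h7)
      (by exact_mod_cast h8)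
  · -- `e = 2`
    have hShZ : 2 * (Sh : ℤ) = m * q * ch := by
      rw [hNh, hn'] at hsath
      have h1 : (2 * Sh) * (z * ah) = (m * q * ch) * (z * ah) := by
        calc (2 * Sh) * (z * ah) = Sh * (2 * (z * ah)) := by ring
          _ = m * q * z * ah * ch := hsath
          _ = (m * q * ch) * (z * ah) := by ring
      have h2 : 2 * Sh = m * q * ch := Nat.eq_of_mul_eq_mul_right (by positivity) h1
      exact_mod_cast h2
    have hR := DicksonArith.rest_e2 hcxZ hSxZ hchZ hShZ htotZ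
    have hlt := DicksonArith.e2_lt hzZ hqZ hmZ hR
    have hltN : 2 * Rc < n := by
      rw [hn']
      exact_mod_cast hlt
    have hRpos : 0 < Rc := by
      have h1 : (0 : ℤ) < 2 * Rc := by
        rw [hR]
        have h2 : (0 : ℤ) ≤ (m * q * z) * ((ah : ℤ) - 1) :=
          mul_nonneg (by positivity) (by linarith)
        have h3 : (0 : ℤ) < (2 * z) * ((m : ℤ) - 1) := mul_pos (by linarith) (by linarith)
        have h4 : (m : ℤ) * q * z * ah - m * q * z + 2 * m * z - 2 * z =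
            (m * q * z) * ((ah : ℤ) - 1) + (2 * z) * ((m : ℤ) - 1) := by ring
        rw [h4]
        linarith
      have : (0 : ℤ) < Rc := by linarith
      exact_mod_cast this
    obtain ⟨g, hg⟩ := Finset.card_pos.mp (by rw [← hRc]; exact hRpos)
    obtain ⟨a, N, cg, h2, h3, h4, h5, h6, h7⟩ := hrest g hg
    have hN2 : N = 2 * (z * a) := by
      rcases h4 with h4 | h4
      · exfalso
        rw [h4] at h5
        have := DicksonArith.le_two_mul h2 (by nlinarith) hz1 h5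
        omega
      · exact h4
    have hall : ∀ g' ∈ Cfsg.Agent.Lib.Helper16.ClassEq.rest (ZL L) (⟨uu c, hu⟩ : L) h₀,
        g' ∈ Cfsg.Agent.Lib.Helper16.ClassEq.sat (ZL L) g := by
      intro g' hg'
      by_contra hne
      have h8 := Cfsg.Agent.Lib.Helper16.ClassEq.two_sat_le hct hx₀Z hh₀Z hg hg' hne
      rw [← hRc] at h8
      have h9 := hfour g hg
      have h10 := hfour g' hg'
      omega
    have hRS := Cfsg.Agent.Lib.Helper16.ClassEq.rest_eq_sat hct hx₀Z hh₀Z hg hall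
    have hRS' : Rc = (Cfsg.Agent.Lib.Helper16.ClassEq.sat (ZL L) g).card := by rw [hRc, hRS]
    rw [← hRS', hN2, hn'] at h5
    have hcgZ : (cg : ℤ) = z * a - z := by
      have : (cg : ℤ) + z = z * a := by exact_mod_cast h2
      linarith
    have h5Z : (Rc : ℤ) * (2 * (z * a)) = (m * q * z * ah) * (z * a - z) := by
      rw [← hcgZ]
      exact_mod_cast h5
    have heq := DicksonArith.one_class_eq hzZ hR rfl h5Z
    have hcop : IsCoprime (q : ℤ) (2 * (a : ℤ)) := by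
      have h1 : Nat.Coprime q (2 * a) := by
        rw [hqs]
        apply Nat.Coprime.pow_left
        apply Nat.Coprime.mul_right
        · exact (Nat.coprime_primes (Fact.out : p.Prime) Nat.prime_two).mpr hp
        · exact h6.symm
      have := Nat.isCoprime_iff_coprime.mpr h1
      exact_mod_cast this
    have hfinal := DicksonArith.final hqZ htZ (by exact_mod_cast htq) hmZ
      (by exact_mod_cast h3) hcop heq
    rcases hfinal with hA | ⟨hB1, hB2, hB3, hB4⟩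
    · left
      have : m = q + 1 := by exact_mod_cast hA
      rw [hnm, this, mul_comm]
    · right
      have hq3' : q = 3 := by exact_mod_cast hB1
      have hm10 : m = 10 := by exact_mod_cast hB2
      have ht2 : ah = 2 := by exact_mod_cast hB3
      refine ⟨?_, ?_, ?_⟩
      · rw [hq3'] at hqs
        have h1 : p ∣ 3 := by
          rw [hqs]; exact dvd_pow_self p hs0
        exact (Nat.prime_dvd_prime_iff_eq (Fact.out : p.Prime) Nat.prime_three).mp h1
      · rw [hnm, hνeq, hq3', hm10, ht2]; ring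
      · rw [hνeq, hq3', ht2]; ring

end Cfsg.Agent.Lib.Helper16.SL2Q
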