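import Mathlib
import Cfsg.Agent.Lib.Helper16.SL2Dickson7
import Cfsg.Agent.S0071

set_option autoImplicit false

/-!
# Dickson-lite, part 8: the icosahedral case
-/

namespace Cfsg.Agent.Lib.Helper16.SL2Q

open Matrix Pointwise

variable {F : Type*} [Field F]

local notation "SL2" => Matrix.SpecialLinearGroup (Fin 2) F
local notation "M2" => Matrix (Fin 2) (Fin 2) F

variable {L : Subgroup (Matrix.SpecialLinearGroup (Fin 2) F)}
variable {p : ℕ} [hpF : Fact p.Prime] [CharP F p]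

/-- the only involution of `SL₂(F)` is `-1` -/
theorem eq_neg_one_of_sq_eq_one (hp : p ≠ 2) {g : SL2} (h2 : g ^ 2 = 1) (h1 : g ≠ 1) : g = -1 := by
  have h2F : (2 : F) ≠ 0 := two_ne_zero_of_char (p := p) hp
  have hCH := coe_mul_self g
  have hsq : (g : M2) * (g : M2) = 1 := by
    have := congrArg (fun x : SL2 => (x : M2)) h2
    simpa [sq] using this
  rw [hsq] at hCH
  -- `tr g • g = 2`
  have h3 : tr g • (g : M2) = (2 : F) • (1 : M2) := by
    rw [two_smul]
    have : tr g • (g : M2) = 1 + 1 := by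
      rw [eq_sub_iff_add_eq] at hCH
      exact hCH.symm
    exact this
  have htr : tr g ≠ 0 := by
    intro h0
    rw [h0, zero_smul] at h3
    have := congrFun (congrFun h3 0) 0
    simp at this
    exact h2F this.symm
  have h4 : (g : M2) = ((tr g)⁻¹ * 2) • (1 : M2) := by
    rw [mul_smul, ← h3, smul_smul, inv_mul_cancel₀ htr, one_smul]
  rcases eq_one_or_neg_one_of_scalar g _ h4 with h | h
  · exact absurd h h1
  · exact h

theorem neg_one_mem_of_even (hp : p ≠ 2) [Finite L] (h : Even (Nat.card L)) : (-1 : SL2) ∈ L := by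
  obtain ⟨g, hg⟩ := exists_prime_orderOf_dvd_card' (G := L) 2 (even_iff_two_dvd.mp h)
  have h2 : ((g : L) : SL2) ^ 2 = 1 := by
    have := pow_orderOf_eq_one g
    rw [hg] at this
    have := congrArg (fun y : L => (y : SL2)) this
    simpa using this
  have h1 : ((g : L) : SL2) ≠ 1 := by
    intro h1
    have : g = 1 := Subtype.ext h1
    rw [this, orderOf_one] at hg
    omega
  rw [← eq_neg_one_of_sq_eq_one (p := p) hp h2 h1]
  exact g.2

theorem card_ZL_of_even (hp : p ≠ 2) [Finite L] (h : Even (Nat.card L)) : Nat.card (ZL L) = 2 := by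
  have hm := neg_one_mem_of_even (p := p) hp h
  rw [Nat.card_eq_two_iff]
  refine ⟨⟨1, (ZL L).one_mem⟩, ⟨⟨-1, hm⟩, (mem_ZL L).mpr (Or.inr rfl)⟩, ?_, ?_⟩
  · intro h
    have := congrArg (fun y : ZL L => ((y : L) : SL2)) h
    exact neg_one_ne_one (p := p) hp this.symm
  · ext x
    simp only [Set.mem_insert_iff, Set.mem_singleton_iff, Set.mem_univ, iff_true]
    rcases (mem_ZL L).mp x.2 with h | h
    · left; exact Subtype.ext (Subtype.ext h)
    · right; exact Subtype.ext (Subtype.ext h)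


section five

variable {G : Type*} [Group G]

/-- an element of order dividing `5` normalizing a `2`-group of order at most `8` centralizes it -/
theorem centralizes_of_pow_five (Q : Subgroup G) [Finite Q] (g : G)
    (hg : g ∈ Subgroup.normalizer (Q : Set G)) (hg5 : g ^ 5 = 1)
    (hQ : ∃ k ≤ 3, Nat.card Q = 2 ^ k) : ∀ r ∈ Q, g * r * g⁻¹ = r := by
  have hf5 : Fact (Nat.Prime 5) := ⟨by norm_num⟩
  set σ := conjAut Q g hg with hσ
  have hH : IsPGroup 5 (Subgroup.zpowers σ) := isPGroup_zpowers_conjAut Q g hg 5 hg5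
  let C : Subgroup Q :=
    { carrier := {r | σ r = r}
      one_mem' := map_one σ
      mul_mem' := by
        intro a b ha hb
        simp only [Set.mem_ofPred_eq] at ha hb ⊢
        rw [map_mul, ha, hb]
      inv_mem' := by
        intro a ha
        simp only [Set.mem_ofPred_eq] at ha ⊢
        rw [map_inv, ha] }
  have hCmem : ∀ r : Q, r ∈ C ↔ σ r = r := fun r => Iff.rfl
  have hfix : (MulAction.fixedPoints (Subgroup.zpowers σ) Q) = (C : Set Q) := by
    ext r
    rw [MulAction.mem_fixedPoints]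
    constructor
    · intro h
      exact h ⟨σ, Subgroup.mem_zpowers σ⟩
    · intro h τ
      have hle : Subgroup.zpowers σ ≤ MulAction.stabilizer (MulAut Q) r := by
        rw [Subgroup.zpowers_le]
        exact h
      exact hle τ.2
  have hmod := hH.card_modEq_card_fixedPoints Q
  have hcard : Nat.card (MulAction.fixedPoints (Subgroup.zpowers σ) Q) = Nat.card C := by
    rw [hfix]; rfl
  rw [hcard] at hmod
  obtain ⟨k, hk3, hk⟩ := hQ
  have hdvd : Nat.card C ∣ Nat.card Q := Subgroup.card_subgroup_dvd_card C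
  rw [hk] at hdvd hmod
  obtain ⟨j, hjk, hj⟩ := (Nat.dvd_prime_pow Nat.prime_two).mp hdvd
  rw [hj] at hmod
  have hjk' : j = k := by
    have hj3 : j ≤ 3 := le_trans hjk hk3
    unfold Nat.ModEq at hmod
    interval_cases k <;> interval_cases j <;> simp_all
  have hCtop : C = ⊤ := by
    rw [← Subgroup.card_eq_iff_eq_top, hj, hk, hjk']
  intro r hr
  have h1 : (⟨r, hr⟩ : Q) ∈ C := by rw [hCtop]; exact Subgroup.mem_top _
  have h2 := (hCmem _).mp h1
  have := congrArg Subtype.val h2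
  simpa [hσ] using this

end five


section transport

variable {G : Type*} [Group G] {H : Subgroup G}

theorem mem_map_subtype_iff (Q : Subgroup H) (g : G) :
    g ∈ Q.map H.subtype ↔ ∃ h : g ∈ H, (⟨g, h⟩ : H) ∈ Q := by
  constructor
  · rintro ⟨k, hk, rfl⟩
    exact ⟨k.2, hk⟩
  · rintro ⟨h, hk⟩
    exact ⟨⟨g, h⟩, hk, rfl⟩

theorem coe_mem_normalizer_map {Q : Subgroup H} {y : H}
    (hy : y ∈ Subgroup.normalizer (Q : Set H)) :
    (y : G) ∈ Subgroup.normalizer ((Q.map H.subtype : Subgroup G) : Set G) := by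
  rw [Subgroup.mem_normalizer_iff]
  intro g
  rw [mem_map_subtype_iff, mem_map_subtype_iff]
  constructor
  · rintro ⟨h, hk⟩
    refine ⟨H.mul_mem (H.mul_mem y.2 h) (H.inv_mem y.2), ?_⟩
    exact (Subgroup.mem_normalizer_iff.mp hy _).mp hk
  · rintro ⟨h, hk⟩
    have hg : g ∈ H := by
      have := H.mul_mem (H.mul_mem (H.inv_mem y.2) h) y.2
      simpa [mul_assoc] using this
    refine ⟨hg, ?_⟩
    exact (Subgroup.mem_normalizer_iff.mp hy ⟨g, hg⟩).mpr hk

theorem mem_centralizer_of_commutator_map_eq_bot {Q : Subgroup H} {y : H}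
    (h : ⁅Q.map H.subtype, Subgroup.zpowers (y : G)⁆ = ⊥) :
    y ∈ Subgroup.centralizer (Q : Set H) := by
  rw [Subgroup.commutator_eq_bot_iff_le_centralizer] at h
  rw [Subgroup.mem_centralizer_iff]
  intro r hr
  have h1 : (r : G) ∈ Q.map H.subtype := (mem_map_subtype_iff Q _).mpr ⟨r.2, hr⟩
  have h2 := h h1
  rw [Subgroup.mem_centralizer_iff] at h2
  have h3 := h2 (y : G) (Subgroup.mem_zpowers _)
  apply Subtype.ext
  rw [Subgroup.coe_mul, Subgroup.coe_mul]
  exact h3.symm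

end transport

/-- in the icosahedral case there is no normal `2`-complement -/
theorem no_normal_two_complement (hp : p ≠ 2) [Finite L] {c : F} (hc : c ≠ 0) (hu : uu c ∈ L)
    (h3 : p = 3) (hn : Nat.card L = 120)
    (hν : Nat.card ((borel (F := F)).subgroupOf L) = 12)
    (P₂ : Sylow 2 L) (K : Subgroup L) (hKn : K.Normal)
    (hKc : K.IsComplement' (P₂ : Subgroup L)) : False := by
  subst h3
  have hP2 : Nat.card (P₂ : Subgroup L) = 8 := by
    obtain ⟨k, hk⟩ := P₂.2.exists_card_eq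
    have hidx := P₂.not_dvd_index
    have hmul := Subgroup.card_mul_index (P₂ : Subgroup L)
    rw [hn] at hmul
    have hk' : Nat.card (P₂ : Subgroup L) = 2 ^ k := hk
    rw [hk'] at hmul ⊢
    have hk6 : k ≤ 6 := by
      by_contra hlt
      push Not at hlt
      have h1 : 2 ^ 7 ≤ 2 ^ k := Nat.pow_le_pow_right (by norm_num) hlt
      have h2 : 2 ^ k ∣ 120 := ⟨_, hmul.symm⟩
      have := Nat.le_of_dvd (by norm_num) h2
      omega
    interval_cases k <;> omega
  have hK15 : Nat.card K = 15 := by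
    have := hKc.card_mul_card
    rw [hP2, hn] at this
    omega
  have hKidx : K.index = 8 := by
    rw [hKc.symm.index_eq_card, hP2]
  -- `x₀ ∈ K`
  have hx3 : (⟨uu c, hu⟩ : L) ^ 3 = 1 := by
    apply Subtype.ext
    rw [Subgroup.coe_pow, Subgroup.coe_one, uu_pow]
    have : ((3 : ℕ) : F) = 0 := CharP.cast_eq_zero F 3
    rw [this, zero_mul, uu_zero]
  have hx₀K : (⟨uu c, hu⟩ : L) ∈ K := by
    have h8 := K.pow_index_mem (⟨uu c, hu⟩ : L)
    rw [hKidx] at h8
    have h9 : (⟨uu c, hu⟩ : L) ^ 8 * ⟨uu c, hu⟩ = 1 := by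
      rw [← pow_succ]
      have : (⟨uu c, hu⟩ : L) ^ (8 + 1) = ((⟨uu c, hu⟩ : L) ^ 3) ^ 3 := by rw [← pow_mul]
      rw [this, hx3, one_pow]
    have h10 : (⟨uu c, hu⟩ : L) ^ 8 = (⟨uu c, hu⟩ : L)⁻¹ := eq_inv_of_mul_eq_one_left h9
    rw [h10] at h8
    exact K.inv_mem_iff.mp h8
  -- the Sylow `3`-subgroup of `K` is normal
  have hKfin : Finite K := inferInstance
  obtain ⟨P₃⟩ : Nonempty (Sylow 3 K) := inferInstance
  have hP3 : (P₃ : Subgroup K).index = 5 := by
    obtain ⟨j, hj⟩ := P₃.2.exists_card_eq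
    have hidx := P₃.not_dvd_index
    have hmul := Subgroup.card_mul_index (P₃ : Subgroup K)
    rw [hK15] at hmul
    have hj' : Nat.card (P₃ : Subgroup K) = 3 ^ j := hj
    rw [hj'] at hmul
    have hj3 : j ≤ 2 := by
      by_contra hlt
      push Not at hlt
      have h1 : 3 ^ 3 ≤ 3 ^ j := Nat.pow_le_pow_right (by norm_num) hlt
      have h2 : 3 ^ j ∣ 15 := ⟨_, hmul.symm⟩
      have := Nat.le_of_dvd (by norm_num) h2
      omega
    interval_cases j <;> omega
  have hcard1 : Nat.card (Sylow 3 K) = 1 := by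
    have h1 := card_sylow_modEq_one 3 K
    have h2 := P₃.card_dvd_index
    rw [hP3] at h2
    rcases (Nat.dvd_prime (by norm_num : Nat.Prime 5)).mp h2 with h | h
    · exact h
    · rw [h] at h1
      exact absurd h1 (by decide)
  have hP3n : (P₃ : Subgroup K).Normal := by
    rw [← Subgroup.normalizer_eq_top_iff, ← Subgroup.index_eq_one]
    have := P₃.card_eq_index_normalizer
    rw [hcard1] at this
    exact this.symm
  have hsub : Subsingleton (Sylow 3 K) := (Nat.card_eq_one_iff_unique.mp hcard1).1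
  have hx₀P : (⟨⟨uu c, hu⟩, hx₀K⟩ : K) ∈ (P₃ : Subgroup K) := by
    have hpg : IsPGroup 3 (Subgroup.zpowers (⟨⟨uu c, hu⟩, hx₀K⟩ : K)) := by
      rintro ⟨g, hg⟩
      refine ⟨1, ?_⟩
      obtain ⟨k, rfl⟩ := Subgroup.mem_zpowers_iff.mp hg
      apply Subtype.ext
      simp only [pow_one, Subgroup.coe_pow, Subgroup.coe_one]
      have hx3' : (⟨⟨uu c, hu⟩, hx₀K⟩ : K) ^ 3 = 1 := Subtype.ext hx3
      rw [← zpow_natCast, ← _root_.zpow_mul, mul_comm, _root_.zpow_mul, zpow_natCast, hx3',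
        _root_.one_zpow]
    obtain ⟨Q, hQ⟩ := hpg.exists_le_sylow
    rw [hsub.elim P₃ Q]
    exact hQ (Subgroup.mem_zpowers _)
  -- `K` lies in the Borel part
  set Q₃ : Subgroup L := (P₃ : Subgroup K).map K.subtype with hQ₃
  have hQ₃p : IsPGroup 3 Q₃ := P₃.2.map K.subtype
  have hx₀Q : (⟨uu c, hu⟩ : L) ∈ Q₃ := ⟨⟨⟨uu c, hu⟩, hx₀K⟩, hx₀P, rfl⟩
  have hQ₃U := le_unipU_of_isPGroup (p := 3) hp hc hu Q₃ hQ₃p hx₀Q
  have hKB : K ≤ (borel (F := F)).subgroupOf L := by
    intro k hk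
    rw [Subgroup.mem_subgroupOf]
    apply mem_borel_of_conj_uu hc
    have h1 : (⟨k, hk⟩ : K) * ⟨⟨uu c, hu⟩, hx₀K⟩ * (⟨k, hk⟩ : K)⁻¹ ∈ (P₃ : Subgroup K) :=
      hP3n.conj_mem _ hx₀P _
    have h2 : k * ⟨uu c, hu⟩ * k⁻¹ ∈ Q₃ := ⟨_, h1, rfl⟩
    have h3 := hQ₃U h2
    rw [Subgroup.mem_subgroupOf] at h3
    exact unipU_le_pmU (by simpa using h3)
  have hdvd := Subgroup.card_dvd_of_le hKB
  rw [hK15, hν] at hdvd
  omega


/-- the icosahedral case: `L` contains `SL₂(3)` -/
theorem case_icosahedral (hp : p ≠ 2) [Finite L] {c : F} (hc : c ≠ 0) (hu : uu c ∈ L)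
    (h3 : p = 3) (hn : Nat.card L = 120)
    (hν : Nat.card ((borel (F := F)).subgroupOf L) = 12) :
    ∃ S : Subgroup SL2, S ≤ L ∧
      Nonempty (S ≃* Matrix.SpecialLinearGroup (Fin 2) (ZMod 3)) := by
  have hf2 : Fact (Nat.Prime 2) := ⟨Nat.prime_two⟩
  obtain ⟨P₂⟩ : Nonempty (Sylow 2 L) := inferInstance
  have hnot : ¬ ∃ N : Subgroup L, N.Normal ∧ N.IsComplement' (P₂ : Subgroup L) := by
    rintro ⟨K, hKn, hKc⟩
    exact no_normal_two_complement (p := p) hp hc hu h3 hn hν P₂ K hKn hKc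
  rw [Cfsg.Agent.S0071.result P₂] at hnot
  push Not at hnot
  obtain ⟨Q, hQP, g, hgN, hgco, hgC⟩ := hnot
  subst h3
  -- orders
  have hP2 : Nat.card (P₂ : Subgroup L) ∣ 8 := by
    obtain ⟨k, hk⟩ := P₂.2.exists_card_eq
    have hk' : Nat.card (P₂ : Subgroup L) = 2 ^ k := hk
    have hmul := Subgroup.card_mul_index (P₂ : Subgroup L)
    rw [hn, hk'] at hmul
    rw [hk']
    have hk3 : k ≤ 3 := by
      by_contra hlt
      push Not at hlt
      have h1 : 2 ^ 4 ∣ 2 ^ k := pow_dvd_pow 2 hlt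
      have h2 : 2 ^ k ∣ 120 := ⟨_, hmul.symm⟩
      have := h1.trans h2
      omega
    exact pow_dvd_pow 2 hk3
  have hQ8 : ∃ k ≤ 3, Nat.card Q = 2 ^ k := by
    have h1 : Nat.card Q ∣ 2 ^ 3 := (Subgroup.card_dvd_of_le hQP).trans hP2
    exact (Nat.dvd_prime_pow Nat.prime_two).mp h1
  have hg15 : g ^ 15 = 1 := by
    have h1 : orderOf g ∣ 8 * 15 := by
      have := orderOf_dvd_natCard g
      rw [hn] at this
      exact this
    have h2 : (orderOf g).Coprime 8 := by
      have : (8 : ℕ) = 2 ^ 3 := by norm_num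
      rw [this]
      exact Nat.Coprime.pow_right 3 hgco
    exact orderOf_dvd_iff_pow_eq_one.mp (h2.dvd_of_dvd_mul_left h1)
  have hg3N : g ^ 3 ∈ Subgroup.normalizer (Q : Set L) := Subgroup.pow_mem _ hgN 3
  have hg5N : g ^ 5 ∈ Subgroup.normalizer (Q : Set L) := Subgroup.pow_mem _ hgN 5
  have hg3C : g ^ 3 ∈ Subgroup.centralizer (Q : Set L) := by
    have h := centralizes_of_pow_five Q (g ^ 3) hg3N (by rw [← pow_mul]; exact hg15) hQ8
    rw [Subgroup.mem_centralizer_iff]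
    intro r hr
    have := h r hr
    calc r * g ^ 3 = (g ^ 3 * r * (g ^ 3)⁻¹) * g ^ 3 := by rw [this]
      _ = g ^ 3 * r := by group
  have hg5C : g ^ 5 ∉ Subgroup.centralizer (Q : Set L) := by
    intro h
    apply hgC
    have h1 : g = (g ^ 3) ^ 2 * (g ^ 5)⁻¹ := by
      rw [← pow_mul, eq_mul_inv_iff_mul_eq, ← pow_succ']
    rw [h1]
    exact Subgroup.mul_mem _ (Subgroup.pow_mem _ hg3C 2) (Subgroup.inv_mem _ h)
  -- transport to `SL₂`
  set y : L := g ^ 5 with hy
  have hy3 : (y : SL2) ^ 3 = 1 := by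
    have : y ^ 3 = 1 := by rw [hy, ← pow_mul]; exact hg15
    have := congrArg (fun x : L => (x : SL2)) this
    simpa using this
  have hap : IsPGroup 3 (Subgroup.zpowers (y : SL2)) := by
    rintro ⟨a, ha⟩
    refine ⟨1, ?_⟩
    obtain ⟨k, rfl⟩ := Subgroup.mem_zpowers_iff.mp ha
    apply Subtype.ext
    simp only [pow_one, Subgroup.coe_pow, Subgroup.coe_one]
    rw [← zpow_natCast, ← _root_.zpow_mul, mul_comm, _root_.zpow_mul, zpow_natCast, hy3,
      _root_.one_zpow]
  set R : Subgroup SL2 := Q.map L.subtype with hR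
  have hRL : R ≤ L := by
    rintro _ ⟨k, _, rfl⟩
    exact k.2
  have hRcard : Nat.card R = Nat.card Q := Subgroup.card_map_of_injective L.subtype_injective
  have hRfin : Finite R := by
    apply Nat.finite_of_card_ne_zero
    rw [hRcard]
    exact Nat.card_pos.ne'
  have hRcop : (Nat.card R).Coprime 3 := by
    obtain ⟨k, -, hk⟩ := hQ8
    rw [hRcard, hk]
    exact Nat.Coprime.pow_left k (by norm_num)
  have haR : (y : SL2) ∈ Subgroup.normalizer (R : Set SL2) := coe_mem_normalizer_map hg5N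
  have hnt : ⁅R, Subgroup.zpowers (y : SL2)⁆ ≠ ⊥ := by
    intro h
    exact hg5C (mem_centralizer_of_commutator_map_eq_bot h)
  obtain ⟨-, -, ⟨e⟩⟩ := main_sl2_pprime (p := 3) hp (y : SL2) hap R hRcop haR hnt
  refine ⟨R ⊔ Subgroup.zpowers (y : SL2), ?_, ⟨e⟩⟩
  apply sup_le hRL
  rw [Subgroup.zpowers_le]
  exact y.2

/-- **Dickson-lite**, normalized form: a finite subgroup of `SL₂(F)` containing `uu c` (`c ≠ 0`)
and `ll 1` contains a copy of `SL₂(𝔽_p)` -/
theorem exists_sl2p_of_uu_ll_mem (hp : p ≠ 2) [Finite L] {c : F} (hc : c ≠ 0) (hu : uu c ∈ L)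
    (hl : ll (1 : F) ∈ L) :
    ∃ S : Subgroup SL2, S ≤ L ∧
      Nonempty (S ≃* Matrix.SpecialLinearGroup (Fin 2) (ZMod p)) := by
  by_cases hN : ∃ g : L, (g : SL2) ∈ borel (F := F) ∧ (g : SL2) ∉ pmU (F := F)
  · rcases numerics (p := p) hp hc hu hl hN with hA | ⟨h3, hn, hν⟩
    · exact exists_sl2p_of_uu_ll (uu_one_mem (p := p) hp hc hu hl hA) hl
    · have heven : Even (Nat.card L) := by
        rw [hn]
        exact ⟨30 * Nat.card (ZL L), by ring⟩
      have hz := card_ZL_of_even (p := p) hp heven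
      rw [hz] at hn hν
      obtain ⟨S, hS, ⟨e⟩⟩ := case_icosahedral (p := p) hp hc hu h3 hn hν
      subst h3
      exact ⟨S, hS, ⟨e⟩⟩
  · push Not at hN
    obtain ⟨h3, S, hS, ⟨e⟩⟩ := case_no_torus (p := p) hp hc hu hl hN
    subst h3
    exact ⟨S, hS, ⟨e⟩⟩

end Cfsg.Agent.Lib.Helper16.SL2Q
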