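import Mathlib
import Cfsg.Agent.Lib.Helper16.SL2Dickson8

set_option autoImplicit false

/-!
# Dickson-lite: a finite subgroup of `SL₂(F)` (`char F = p` odd) with two non-commuting
unipotent elements contains a copy of `SL₂(𝔽_p)`.
-/

namespace Cfsg.Agent.Lib.Helper16.SL2Q

open Matrix Pointwise

variable {F : Type*} [Field F]

local notation "SL2" => Matrix.SpecialLinearGroup (Fin 2) F
local notation "M2" => Matrix (Fin 2) (Fin 2) F

/-- two unipotent elements whose product is unipotent commute -/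
theorem commute_of_tr_mul_eq_two (x y : SL2) (hx : tr x = 2) (hy : tr y = 2)
    (hxy : tr (x * y) = 2) : x * y = y * x := by
  rw [tr_def] at hx hy
  rw [tr_def, coe_mul_apply, coe_mul_apply] at hxy
  have dx := det_eq x
  have dy := det_eq y
  have R1 : ((x : M2) 0 0 - 1) ^ 2 + (x : M2) 0 1 * (x : M2) 1 0 = 0 := by
    linear_combination (-1 : F) * dx + (x : M2) 0 0 * hx
  have R2 : ((y : M2) 0 0 - 1) ^ 2 + (y : M2) 0 1 * (y : M2) 1 0 = 0 := by
    linear_combination (-1 : F) * dy + (y : M2) 0 0 * hy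
  have R3 : 2 * ((x : M2) 0 0 - 1) * ((y : M2) 0 0 - 1) + (x : M2) 0 1 * (y : M2) 1 0 +
      (x : M2) 1 0 * (y : M2) 0 1 = 0 := by
    linear_combination hxy - (y : M2) 1 1 * hx - (2 - (x : M2) 0 0) * hy
  have S1 : ((x : M2) 0 1 * (y : M2) 1 0 - (x : M2) 1 0 * (y : M2) 0 1) ^ 2 = 0 := by
    linear_combination ((x : M2) 0 1 * (y : M2) 1 0 + (x : M2) 1 0 * (y : M2) 0 1 -
      2 * ((x : M2) 0 0 - 1) * ((y : M2) 0 0 - 1)) * R3 + 4 * ((x : M2) 0 0 - 1) ^ 2 * R2 -
      4 * ((y : M2) 0 1 * (y : M2) 1 0) * R1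
  have S2 : (((x : M2) 0 0 - 1) * (y : M2) 0 1 - ((y : M2) 0 0 - 1) * (x : M2) 0 1) ^ 2 = 0 := by
    linear_combination (-((y : M2) 0 1 * (x : M2) 0 1)) * R3 + (y : M2) 0 1 ^ 2 * R1 +
      (x : M2) 0 1 ^ 2 * R2
  have S3 : ((x : M2) 1 0 * ((y : M2) 0 0 - 1) - (y : M2) 1 0 * ((x : M2) 0 0 - 1)) ^ 2 = 0 := by
    linear_combination (-((x : M2) 1 0 * (y : M2) 1 0)) * R3 + (x : M2) 1 0 ^ 2 * R2 +
      (y : M2) 1 0 ^ 2 * R1
  have T1 := (pow_eq_zero_iff (two_ne_zero)).mp S1
  have T2 := (pow_eq_zero_iff (two_ne_zero)).mp S2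
  have T3 := (pow_eq_zero_iff (two_ne_zero)).mp S3
  apply ext_entries
  · rw [coe_mul_apply, coe_mul_apply]
    linear_combination T1
  · rw [coe_mul_apply, coe_mul_apply]
    linear_combination 2 * T2 + (x : M2) 0 1 * hy - (y : M2) 0 1 * hx
  · rw [coe_mul_apply, coe_mul_apply]
    linear_combination 2 * T3 + (y : M2) 1 0 * hx - (x : M2) 1 0 * hy
  · rw [coe_mul_apply, coe_mul_apply]
    linear_combination (-1 : F) * T1


variable {p : ℕ} [hpF : Fact p.Prime] [CharP F p]

/-- **Dickson-lite**: a finite subgroup of `SL₂(F)`, `char F = p` odd, containing two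
non-commuting unipotent elements, contains a copy of `SL₂(𝔽_p)`. -/
theorem exists_sl2p_of_noncommuting_unipotents (hp : p ≠ 2)
    (L : Subgroup (Matrix.SpecialLinearGroup (Fin 2) F)) [Finite L] (x y : SL2)
    (hxL : x ∈ L) (hyL : y ∈ L) (hx : tr x = 2) (hy : tr y = 2) (hxy : x * y ≠ y * x) :
    ∃ S : Subgroup SL2, S ≤ L ∧
      Nonempty (S ≃* Matrix.SpecialLinearGroup (Fin 2) (ZMod p)) := by
  have hc0 : tr (x * y) - 2 ≠ 0 := by
    intro h
    exact hxy (commute_of_tr_mul_eq_two x y hx hy (sub_eq_zero.mp h))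
  obtain ⟨G, G', h1, h2, hxG, hyG⟩ := pair_normal_form' x y hx hy (tr (x * y) - 2) (by ring) hc0
  have hinj := conjHom_injective G G' h1 h2
  set φ := conjHom G G' h1 h2 with hφ
  set L' : Subgroup SL2 := L.comap φ with hL'
  have hu : uu (tr (x * y) - 2) ∈ L' := by
    rw [hL', Subgroup.mem_comap, hxG]; exact hxL
  have hl : ll (1 : F) ∈ L' := by
    rw [hL', Subgroup.mem_comap, hyG]; exact hyL
  have hfin : Finite L' := by
    let f : L' → L := fun g => ⟨φ g, g.2⟩
    apply Finite.of_injective f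
    intro a b hab
    have := congrArg Subtype.val hab
    exact Subtype.ext (hinj this)
  obtain ⟨S', hS', ⟨e⟩⟩ := exists_sl2p_of_uu_ll_mem (p := p) hp hc0 hu hl
  refine ⟨S'.map φ, ?_, ⟨(S'.equivMapOfInjective φ hinj).symm.trans e⟩⟩
  rintro _ ⟨s, hs, rfl⟩
  exact hS' hs

/-- **Dickson-lite**, abstract form: if a finite group `H` generated by two `p`-elements maps to
`SL₂(F)` with an image that is not a `p`-group, then `H` has a section isomorphic
to `SL₂(𝔽_p)`. -/
theorem exists_section_sl2p {H : Type*} [Group H] [Finite H] (hp : p ≠ 2)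
    (φ : H →* Matrix.SpecialLinearGroup (Fin 2) F) (a b : H)
    (ha : ∃ k : ℕ, a ^ p ^ k = 1) (hb : ∃ k : ℕ, b ^ p ^ k = 1)
    (hab : Subgroup.closure {a, b} = ⊤) (hnp : ¬ IsPGroup p φ.range) :
    ∃ (K N : Subgroup H) (_ : (N.subgroupOf K).Normal),
      Nonempty ((K ⧸ N.subgroupOf K) ≃* Matrix.SpecialLinearGroup (Fin 2) (ZMod p)) := by
  obtain ⟨ka, hka⟩ := ha
  obtain ⟨kb, hkb⟩ := hb
  have hta : tr (φ a) = 2 := tr_eq_two_of_pow (p := p) (φ a) ka (by rw [← map_pow, hka, map_one])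
  have htb : tr (φ b) = 2 := tr_eq_two_of_pow (p := p) (φ b) kb (by rw [← map_pow, hkb, map_one])
  have hrange : φ.range = Subgroup.closure {φ a, φ b} := by
    rw [MonoidHom.range_eq_map, ← hab, MonoidHom.map_closure]
    congr 1
    ext g
    simp [Set.image_pair]
  have hnc : φ a * φ b ≠ φ b * φ a := by
    intro hcomm
    apply hnp
    -- the closure of two commuting `p`-elements is a `p`-group
    have hcommS : ∀ g ∈ ({φ a, φ b} : Set SL2), ∀ h ∈ ({φ a, φ b} : Set SL2), g * h = h * g := by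
      intro g hg h hh
      rcases hg with rfl | rfl <;> rcases hh with rfl | rfl
      · rfl
      · exact hcomm
      · exact hcomm.symm
      · rfl
    rw [hrange]
    intro g
    obtain ⟨g, hg⟩ := g
    have key : ∀ g ∈ Subgroup.closure ({φ a, φ b} : Set SL2),
        (∃ k : ℕ, g ^ p ^ k = 1) ∧ (g * φ a = φ a * g ∧ g * φ b = φ b * g) := by
      intro g hg
      induction hg using Subgroup.closure_induction with
      | mem g hg =>
        rcases hg with rfl | rfl
        · exact ⟨⟨ka, by rw [← map_pow, hka, map_one]⟩, rfl, hcomm⟩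
        · exact ⟨⟨kb, by rw [← map_pow, hkb, map_one]⟩, hcomm.symm, rfl⟩
      | one => exact ⟨⟨0, by simp⟩, by simp, by simp⟩
      | mul g h _ _ ihg ihh =>
        obtain ⟨⟨k1, hk1⟩, hg1, hg2⟩ := ihg
        obtain ⟨⟨k2, hk2⟩, hh1, hh2⟩ := ihh
        have hgh : Commute g h := by
          -- both lie in the commutative closure
          have hcl : IsMulCommutative (Subgroup.closure ({φ a, φ b} : Set SL2)) :=
            Subgroup.isMulCommutative_closure hcommS
          have := hcl.is_comm.comm (⟨g, ‹g ∈ _›⟩ : Subgroup.closure ({φ a, φ b} : Set SL2))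
            ⟨h, ‹h ∈ _›⟩
          exact congrArg Subtype.val this
        refine ⟨⟨k1 + k2, ?_⟩, ?_, ?_⟩
        · rw [hgh.mul_pow, pow_add, pow_mul, hk1, one_pow, mul_comm (p ^ k1), pow_mul, hk2,
            one_pow, mul_one]
        · rw [mul_assoc, hh1, ← mul_assoc, hg1, mul_assoc]
        · rw [mul_assoc, hh2, ← mul_assoc, hg2, mul_assoc]
      | inv g _ ih =>
        obtain ⟨⟨k1, hk1⟩, hg1, hg2⟩ := ih
        refine ⟨⟨k1, by rw [inv_pow, hk1, inv_one]⟩, ?_, ?_⟩
        · exact (Commute.inv_left (show Commute g (φ a) from hg1)).eq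
        · exact (Commute.inv_left (show Commute g (φ b) from hg2)).eq
    obtain ⟨⟨k, hk⟩, -⟩ := key g hg
    exact ⟨k, Subtype.ext hk⟩
  have hLfin : Finite φ.range :=
    Finite.of_surjective φ.rangeRestrict φ.rangeRestrict_surjective
  obtain ⟨S, hS, ⟨e⟩⟩ := exists_sl2p_of_noncommuting_unipotents (p := p) hp φ.range (φ a) (φ b)
    ⟨a, rfl⟩ ⟨b, rfl⟩ hta htb hnc
  -- the section
  set K : Subgroup H := S.comap φ with hK
  set ψ : K →* S := φ.subgroupComap S with hψ
  have hsurj : Function.Surjective ψ := by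
    rintro ⟨s, hs⟩
    obtain ⟨h, rfl⟩ := hS hs
    exact ⟨⟨h, hs⟩, rfl⟩
  have hker : ψ.ker = φ.ker.subgroupOf K := by
    ext k
    rw [MonoidHom.mem_ker, Subgroup.mem_subgroupOf, MonoidHom.mem_ker]
    constructor
    · intro h
      exact congrArg Subtype.val h
    · intro h
      exact Subtype.ext h
  have hnorm : (φ.ker.subgroupOf K).Normal := by rw [← hker]; exact MonoidHom.normal_ker ψ
  refine ⟨K, φ.ker, hnorm, ⟨?_⟩⟩
  exact ((QuotientGroup.quotientMulEquivOfEq hker.symm).trans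
    (QuotientGroup.quotientKerEquivOfSurjective ψ hsurj)).trans e

end Cfsg.Agent.Lib.Helper16.SL2Q
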