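import Mathlib
import Cfsg.Agent.Lib.Helper52.QuadBridge

set_option autoImplicit false

/-!
# The eigen-plane of a non-unipotent quadratic pair
-/

open scoped TensorProduct

namespace Cfsg.Agent.Lib.Helper16.QdEigen

open Polynomial in
/-- a non-nilpotent endomorphism over an algebraically closed field has a nonzero eigenvalue -/
theorem exists_ne_zero_eigenvalue {K W : Type*} [Field K] [IsAlgClosed K] [AddCommGroup W]
    [Module K W] [FiniteDimensional K W] (f : Module.End K W) (hf : ¬ IsNilpotent f) :
    ∃ (μ : K) (w : W), μ ≠ 0 ∧ w ≠ 0 ∧ f w = μ • w := by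
  by_contra hcon
  push Not at hcon
  apply hf
  rw [LinearMap.isNilpotent_iff_charpoly]
  have hs := IsAlgClosed.splits f.charpoly
  have hm := f.charpoly_monic
  have hroots : ∀ μ ∈ f.charpoly.roots, μ = 0 := by
    intro μ hμ
    by_contra hne
    have hroot : f.charpoly.IsRoot μ := (Polynomial.mem_roots hm.ne_zero).mp hμ
    have hev := (Module.End.hasEigenvalue_iff_isRoot_charpoly f μ).mpr hroot
    obtain ⟨v, hv⟩ := hev.exists_hasEigenvector
    exact hcon μ v hne hv.2 hv.apply_eq_smul
  have h1 : f.charpoly.roots = Multiset.replicate (Multiset.card f.charpoly.roots) 0 :=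
    Multiset.eq_replicate_card.mpr hroots
  have h2 := hs.eq_prod_roots_of_monic hm
  have h3 := hs.natDegree_eq_card_roots
  rw [LinearMap.charpoly_natDegree] at h3
  rw [h1, Multiset.map_replicate, Multiset.prod_replicate, ← h3] at h2
  simpa using h2

/-- (N1) the eigen-plane: over an algebraically closed extension `K`, a quadratic pair `x, y`
with `(x-1)(y-1)` not nilpotent has an invariant plane `⟨w₁, w₂⟩` in `K ⊗ V` on which `x`, `y` act as
the standard transvections `[[1,λ],[0,1]]`, `[[1,0],[1,1]]` with `λ ≠ 0`. -/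
theorem exists_eigen_plane {p : ℕ} [Fact p.Prime] {V : Type*} [AddCommGroup V]
    [Module (ZMod p) V] [Finite V] (K : Type*) [Field K] [Algebra (ZMod p) K] [IsAlgClosed K]
    (x y : V ≃ₗ[ZMod p] V)
    (hx : ∀ v, x (x v - v) = x v - v) (hy : ∀ v, y (y v - v) = y v - v)
    (hnil : ∀ n : ℕ, ((x.toLinearMap - 1) * (y.toLinearMap - 1)) ^ n ≠ 0) :
    ∃ (lam : K) (w₁ w₂ : K ⊗[ZMod p] V), lam ≠ 0 ∧ LinearIndependent K ![w₁, w₂] ∧
      LinearEquiv.baseChange (ZMod p) K V V x w₁ = w₁ ∧
      LinearEquiv.baseChange (ZMod p) K V V x w₂ = w₂ + lam • w₁ ∧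
      LinearEquiv.baseChange (ZMod p) K V V y w₁ = w₁ + w₂ ∧
      LinearEquiv.baseChange (ZMod p) K V V y w₂ = w₂ := by
  classical
  have hfinV : Module.Finite (ZMod p) V := Module.Finite.of_finite
  set X : Module.End (ZMod p) V := x.toLinearMap - 1 with hX
  set Y : Module.End (ZMod p) V := y.toLinearMap - 1 with hY
  have hXX : X * X = 0 := by
    ext v
    have := hx v
    simp only [hX, Module.End.mul_apply, LinearMap.sub_apply, LinearEquiv.coe_coe,
      Module.End.one_apply, LinearMap.zero_apply]
    rw [this, sub_self]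
  have hYY : Y * Y = 0 := by
    ext v
    have := hy v
    simp only [hY, Module.End.mul_apply, LinearMap.sub_apply, LinearEquiv.coe_coe,
      Module.End.one_apply, LinearMap.zero_apply]
    rw [this, sub_self]
  set XK : Module.End K (K ⊗[ZMod p] V) := X.baseChange K with hXK
  set YK : Module.End K (K ⊗[ZMod p] V) := Y.baseChange K with hYK
  have hXXK : ∀ t, XK (XK t) = 0 := by
    intro t
    have : XK * XK = 0 := by
      rw [hXK, ← LinearMap.baseChange_mul, hXX, LinearMap.baseChange_zero]
    exact LinearMap.congr_fun this t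
  have hYYK : ∀ t, YK (YK t) = 0 := by
    intro t
    have : YK * YK = 0 := by
      rw [hYK, ← LinearMap.baseChange_mul, hYY, LinearMap.baseChange_zero]
    exact LinearMap.congr_fun this t
  have hxK : ∀ t, LinearEquiv.baseChange (ZMod p) K V V x t = XK t + t := by
    intro t
    have h1 : (LinearEquiv.baseChange (ZMod p) K V V x : K ⊗[ZMod p] V →ₗ[K] K ⊗[ZMod p] V) =
        XK + 1 := by
      rw [LinearEquiv.coe_baseChange, hXK, hX, LinearMap.baseChange_sub, LinearMap.baseChange_one]
      abel
    have := LinearMap.congr_fun h1 t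
    rw [LinearMap.add_apply, Module.End.one_apply] at this
    exact this
  have hyK : ∀ t, LinearEquiv.baseChange (ZMod p) K V V y t = YK t + t := by
    intro t
    have h1 : (LinearEquiv.baseChange (ZMod p) K V V y : K ⊗[ZMod p] V →ₗ[K] K ⊗[ZMod p] V) =
        YK + 1 := by
      rw [LinearEquiv.coe_baseChange, hYK, hY, LinearMap.baseChange_sub, LinearMap.baseChange_one]
      abel
    have := LinearMap.congr_fun h1 t
    rw [LinearMap.add_apply, Module.End.one_apply] at this
    exact this
  -- `XK * YK` is not nilpotent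
  have hnilK : ¬ IsNilpotent (XK * YK) := by
    rintro ⟨n, hn⟩
    apply hnil n
    rw [hXK, hYK, ← LinearMap.baseChange_mul, ← LinearMap.baseChange_pow] at hn
    ext v
    have h1 := LinearMap.congr_fun hn ((1 : K) ⊗ₜ[ZMod p] v)
    rw [LinearMap.baseChange_tmul, LinearMap.zero_apply] at h1
    have h2 : (1 : K) ⊗ₜ[ZMod p] (((X * Y) ^ n) v) = (1 : K) ⊗ₜ[ZMod p] (0 : V) := by
      rw [h1, TensorProduct.tmul_zero]
    exact Cfsg.Agent.Lib.Helper52.one_tmul_injective (p := p) K h2
  obtain ⟨lam, w, hlam, hw, hfw⟩ := exists_ne_zero_eigenvalue (XK * YK) hnilK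
  have hfw' : XK (YK w) = lam • w := hfw
  have hXw : XK w = 0 := by
    have h1 : lam • XK w = 0 := by
      rw [← map_smul, ← hfw', hXXK]
    rcases smul_eq_zero.mp h1 with h | h
    · exact absurd h hlam
    · exact h
  refine ⟨lam, w, YK w, hlam, ?_, ?_, ?_, ?_, ?_⟩
  · rw [LinearIndependent.pair_iff]
    intro s t hst
    have h1 := congrArg XK hst
    rw [map_add, map_smul, map_smul, hXw, smul_zero, zero_add, hfw', map_zero, smul_smul] at h1
    have ht : t = 0 := by
      rcases smul_eq_zero.mp h1 with h | h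
      · rcases mul_eq_zero.mp h with h' | h'
        · exact h'
        · exact absurd h' hlam
      · exact absurd h hw
    rw [ht, zero_smul, add_zero] at hst
    refine ⟨?_, ht⟩
    rcases smul_eq_zero.mp hst with h | h
    · exact h
    · exact absurd h hw
  · rw [hxK, hXw, zero_add]
  · rw [hxK, hfw', add_comm]
  · rw [hyK, add_comm]
  · rw [hyK, hYYK, zero_add]

end Cfsg.Agent.Lib.Helper16.QdEigen
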