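import Mathlib
import Cfsg.Agent.Lib.Helper16.SL2Dickson8
import Cfsg.Agent.Lib.Helper57.QuadPair

set_option autoImplicit false

/-!
# From an invariant plane with a basis to a homomorphism into `SL₂`
-/

namespace Cfsg.Agent.Lib.Helper16.QdPlane

open Matrix Cfsg.Agent.Lib.Helper16.SL2Q

variable {K : Type*} [Field K] {Γ : Type*} [Group Γ] {W : Type*} [AddCommGroup W] [Module K W]

/-- an invariant plane with basis `w 0, w 1` on which two generators act by the standard
transvections gives a homomorphism to `SL₂(K)` describing the action on the plane -/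
theorem exists_hom_SL2_of_plane [FiniteDimensional K W] (ρ : Γ →* (W ≃ₗ[K] W)) (α β : Γ)
    (hgen : Subgroup.closure {α, β} = ⊤) (w : Fin 2 → W) (hw : LinearIndependent K w) (lam : K)
    (h1 : ρ α (w 0) = w 0) (h2 : ρ α (w 1) = w 1 + lam • w 0)
    (h3 : ρ β (w 0) = w 0 + w 1) (h4 : ρ β (w 1) = w 1) :
    ∃ φ : Γ →* Matrix.SpecialLinearGroup (Fin 2) K, φ α = uu lam ∧ φ β = ll 1 ∧
      ∀ (g : Γ) (j : Fin 2), ρ g (w j) = ∑ i, (φ g).1 i j • w i := by
  classical
  set U : Submodule K W := Submodule.span K (Set.range w) with hU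
  have hwU : ∀ j, w j ∈ U := fun j => Submodule.subset_span ⟨j, rfl⟩
  have hinv_of : ∀ f : W ≃ₗ[K] W, (∀ j, f (w j) ∈ U) → ∀ s ∈ U, f s ∈ U := by
    intro f hf s hs
    have : U.map (f : W →ₗ[K] W) ≤ U := by
      rw [hU, Submodule.map_span, Submodule.span_le]
      rintro _ ⟨_, ⟨j, rfl⟩, rfl⟩
      exact hf j
    exact this ⟨s, hs, rfl⟩
  have hα : ∀ s ∈ U, ρ α s ∈ U := by
    apply hinv_of
    intro j
    fin_cases j
    · show ρ α (w 0) ∈ U
      rw [h1]; exact hwU 0
    · show ρ α (w 1) ∈ U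
      rw [h2]; exact U.add_mem (hwU 1) (U.smul_mem _ (hwU 0))
  have hβ : ∀ s ∈ U, ρ β s ∈ U := by
    apply hinv_of
    intro j
    fin_cases j
    · show ρ β (w 0) ∈ U
      rw [h3]; exact U.add_mem (hwU 0) (hwU 1)
    · show ρ β (w 1) ∈ U
      rw [h4]; exact hwU 1
  have hinv := Cfsg.Agent.Lib.Helper57.QuadPair.invariant_of_gens ρ α β hgen U hα hβ
  set r := Cfsg.Agent.Lib.Helper57.QuadPair.resHom ρ U hinv with hr
  set b : Module.Basis (Fin 2) K U := Module.Basis.span hw with hb
  have hbw : ∀ j, ((b j : U) : W) = w j := fun j => by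
    rw [hb, Module.Basis.span_apply hw j]
  -- the matrix homomorphism
  let ψ : Γ →* Matrix (Fin 2) (Fin 2) K :=
    { toFun := fun g => LinearMap.toMatrix b b ((r g : U ≃ₗ[K] U) : U →ₗ[K] U)
      map_one' := by
        rw [map_one]
        exact LinearMap.toMatrix_one b
      map_mul' := fun g h => by
        rw [map_mul, ← LinearMap.toMatrix_mul]
        rfl }
  have hψ : ∀ g, ψ g = LinearMap.toMatrix b b ((r g : U ≃ₗ[K] U) : U →ₗ[K] U) := fun g => rfl
  have hform : ∀ (g : Γ) (j : Fin 2), ρ g (w j) = ∑ i, ψ g i j • w i := by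
    intro g j
    have h : ∑ i, LinearMap.toMatrix b b ((r g : U ≃ₗ[K] U) : U →ₗ[K] U) i j • b i =
        (r g : U ≃ₗ[K] U) (b j) := by
      simp only [LinearMap.toMatrix_apply]
      exact b.sum_repr _
    have h' := congrArg (fun u : U => (u : W)) h
    simp only [Submodule.coe_sum, Submodule.coe_smul, hbw] at h'
    rw [hψ]
    rw [h']
    show ρ g (w j) = ((r g (b j) : U) : W)
    rw [hr, Cfsg.Agent.Lib.Helper57.QuadPair.resHom_apply, hbw]
  -- entries from an expansion
  have hentries : ∀ (g : Γ) (j : Fin 2) (c : Fin 2 → K), ρ g (w j) = ∑ i, c i • w i →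
      ∀ i, ψ g i j = c i := by
    intro g j c hc i
    have h := hform g j
    rw [hc] at h
    have h0 : ∑ i, (c i - ψ g i j) • w i = 0 := by
      simp only [sub_smul, Finset.sum_sub_distrib]
      rw [h, sub_self]
    have := Fintype.linearIndependent_iff.mp hw _ h0 i
    exact (sub_eq_zero.mp this).symm
  have hψα : ψ α = !![1, lam; 0, 1] := by
    have e0 := hentries α 0 ![1, 0] (by rw [h1]; simp [Fin.sum_univ_two])
    have e1 := hentries α 1 ![lam, 1] (by rw [h2]; simp [Fin.sum_univ_two, add_comm])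
    ext i j
    fin_cases i <;> fin_cases j
    · exact e0 0
    · exact e1 0
    · exact e0 1
    · exact e1 1
  have hψβ : ψ β = !![1, 0; 1, 1] := by
    have e0 := hentries β 0 ![1, 1] (by rw [h3]; simp [Fin.sum_univ_two])
    have e1 := hentries β 1 ![0, 1] (by rw [h4]; simp [Fin.sum_univ_two])
    ext i j
    fin_cases i <;> fin_cases j
    · exact e0 0
    · exact e1 0
    · exact e0 1
    · exact e1 1
  -- determinant one
  have hdet : ∀ g, (ψ g).det = 1 := by
    have hd : (Matrix.detMonoidHom (R := K) (n := Fin 2)).comp ψ = 1 := by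
      apply MonoidHom.eq_of_eqOn_dense hgen
      intro g hg
      rcases hg with rfl | rfl
      · show (ψ g).det = 1
        rw [hψα]; simp [Matrix.det_fin_two_of]
      · show (ψ g).det = 1
        rw [hψβ]; simp [Matrix.det_fin_two_of]
    intro g
    have := congrArg (fun f : Γ →* K => f g) hd
    exact this
  let φ : Γ →* Matrix.SpecialLinearGroup (Fin 2) K :=
    { toFun := fun g => ⟨ψ g, hdet g⟩
      map_one' := Subtype.ext (map_one ψ)
      map_mul' := fun g h => Subtype.ext (map_mul ψ g h) }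
  refine ⟨φ, ?_, ?_, ?_⟩
  · apply Subtype.ext
    show ψ α = _
    rw [hψα]; rfl
  · apply Subtype.ext
    show ψ β = _
    rw [hψβ]; rfl
  · intro g j
    exact hform g j

end Cfsg.Agent.Lib.Helper16.QdPlane
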