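import Mathlib
import Cfsg.Agent.Lib.Helper16.QdPlane
import Cfsg.Agent.Lib.Helper54.QuadLin
import Cfsg.Agent.Lib.Helper16.QdEigen
import Cfsg.Agent.Lib.Helper02.SL2Plane
import Cfsg.Agent.Lib.Helper52.QuadBridge

set_option autoImplicit false

/-!
# The natural `SL₂(p)`-plane inside a module with a non-unipotent quadratic pair
-/

open scoped TensorProduct

namespace Cfsg.Agent.Lib.Helper16.QdLinear

open Matrix Cfsg.Agent.Lib.Helper16.SL2Q

section comb

variable {K : Type*} [Field K] {W : Type*} [AddCommGroup W] [Module K W]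

/-- the `j`-th column combination of the vectors `w` -/
def comb (A : Matrix (Fin 2) (Fin 2) K) (w : Fin 2 → W) (j : Fin 2) : W := ∑ i, A i j • w i

theorem comb_mul (P Q : Matrix (Fin 2) (Fin 2) K) (w : Fin 2 → W) (j : Fin 2) :
    comb (P * Q) w j = ∑ i, Q i j • comb P w i := by
  simp only [comb, Matrix.mul_apply, Fin.sum_univ_two]
  module

end comb

variable {p : ℕ} [Fact p.Prime] {Γ : Type*} [Group Γ] {M : Type*} [AddCommGroup M]
  [Module (ZMod p) M]

/-- **The natural plane.** A finite group generated by two quadratic elements acting on a finite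
`𝔽_p`-module, not as a `p`-group, has a subgroup `T` mapping onto `SL₂(p)` and a plane in the
module on which `T` acts through this map in the natural way. -/
theorem exists_natural_plane [Finite Γ] [Finite M] (hp : p ≠ 2)
    (ρ₀ : Γ →* (M ≃ₗ[ZMod p] M)) (α β : Γ) (hgen : Subgroup.closure {α, β} = ⊤)
    (ha : ∀ w, ρ₀ α (ρ₀ α w - w) = ρ₀ α w - w) (hb : ∀ w, ρ₀ β (ρ₀ β w - w) = ρ₀ β w - w)
    (hnp : ∃ γ : Γ, ∀ k : ℕ, ρ₀ (γ ^ p ^ k) ≠ 1) :
    ∃ (T : Subgroup Γ) (σ : T →* Matrix.SpecialLinearGroup (Fin 2) (ZMod p)) (m : Fin 2 → M),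
      Function.Surjective σ ∧ LinearIndependent (ZMod p) m ∧
      ∀ (t : T) (j : Fin 2), ρ₀ t (m j) = ∑ i, (σ t).1 i j • m i := by
  classical
  have : Module.Finite (ZMod p) M := Module.Finite.of_finite
  -- Step 1: `XY` is not nilpotent
  have hnil : ∀ n : ℕ, (((ρ₀ α).toLinearMap - 1) * ((ρ₀ β).toLinearMap - 1)) ^ n ≠ 0 := by
    intro n hn
    obtain ⟨γ, hγ⟩ := hnp
    have hmem : ρ₀ γ ∈ Subgroup.closure {ρ₀ α, ρ₀ β} := by
      have h1 : γ ∈ Subgroup.closure {α, β} := by rw [hgen]; trivial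
      have h2 := Subgroup.mem_map_of_mem ρ₀ h1
      rw [MonoidHom.map_closure, Set.image_pair] at h2
      exact h2
    obtain ⟨k, hk⟩ := Cfsg.Agent.Lib.Helper54.isPGroup_of_nilpotent (ρ₀ α) (ρ₀ β) ha hb n hn _ hmem
    exact hγ k (by rw [map_pow]; exact hk)
  -- Step 2: the eigen-plane over the algebraic closure
  obtain ⟨lam, w₁, w₂, hlam, hli, hx1, hx2, hy1, hy2⟩ :=
    QdEigen.exists_eigen_plane (AlgebraicClosure (ZMod p)) (ρ₀ α) (ρ₀ β) ha hb hnil
  set ρK := Cfsg.Agent.Lib.Helper52.baseChangeRep (AlgebraicClosure (ZMod p)) ρ₀ with hρK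
  obtain ⟨φ, hφα, hφβ, hφ⟩ := QdPlane.exists_hom_SL2_of_plane ρK α β hgen ![w₁, w₂] hli lam
    hx1 hx2 hy1 hy2
  -- Step 3: Dickson-lite and the standard form
  have hfin : Finite φ.range := Finite.of_surjective φ.rangeRestrict φ.rangeRestrict_surjective
  have huL : uu lam ∈ φ.range := ⟨α, hφα⟩
  have hlL : ll (1 : AlgebraicClosure (ZMod p)) ∈ φ.range := ⟨β, hφβ⟩
  obtain ⟨S, hSL, ⟨e⟩⟩ := exists_sl2p_of_uu_ll_mem (p := p) hp hlam huL hlL
  obtain ⟨e', A, hA, hAe⟩ := Cfsg.Agent.Lib.Helper02.SL2Plane.exists_plane hp S e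
  -- Step 4: the subgroup `T` and the surjection `σ`
  set T : Subgroup Γ := S.comap φ with hT
  set σ : T →* Matrix.SpecialLinearGroup (Fin 2) (ZMod p) :=
    e'.toMonoidHom.comp (φ.subgroupComap S) with hσ
  have hσs : Function.Surjective σ := by
    intro B
    obtain ⟨g, hg⟩ := hSL (e'.symm B).2
    have hgT : g ∈ T := by
      show φ g ∈ S
      rw [hg]; exact (e'.symm B).2
    refine ⟨⟨g, hgT⟩, ?_⟩
    show e' (φ.subgroupComap S ⟨g, hgT⟩) = B
    have : φ.subgroupComap S ⟨g, hgT⟩ = e'.symm B := Subtype.ext hg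
    rw [this, MulEquiv.apply_symm_apply]
  have hσφ : ∀ t : T, ((φ (t : Γ) : Matrix.SpecialLinearGroup (Fin 2) (AlgebraicClosure (ZMod p))) :
      Matrix (Fin 2) (Fin 2) (AlgebraicClosure (ZMod p))) * A =
      A * ((σ t).1.map (algebraMap (ZMod p) (AlgebraicClosure (ZMod p)))) := by
    intro t
    have h := hAe (φ.subgroupComap S t)
    have hc : ZMod.castHom (dvd_refl p) (AlgebraicClosure (ZMod p)) =
        algebraMap (ZMod p) (AlgebraicClosure (ZMod p)) := Subsingleton.elim _ _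
    rw [hc] at h
    exact h
  -- the `𝔽_p`-plane inside the base change
  set n : Fin 2 → AlgebraicClosure (ZMod p) ⊗[ZMod p] M := comb A ![w₁, w₂] with hn
  have hact : ∀ (t : T) (j : Fin 2), ρK t (n j) = ∑ l, (σ t).1 l j • n l := by
    intro t j
    have e1 : ρK t (n j) = ∑ i, A i j • comb ((φ (t : Γ)).1) ![w₁, w₂] i := by
      rw [hn]
      simp only [comb, map_sum, map_smul]
      refine Finset.sum_congr rfl (fun i _ => ?_)
      rw [hφ (t : Γ) i]
    rw [e1, ← comb_mul, hσφ t, comb_mul]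
    refine Finset.sum_congr rfl (fun l _ => ?_)
    rw [Matrix.map_apply, algebraMap_smul]
  -- Step 5: push the plane down to `M`
  have hn0 : n 0 ≠ 0 := by
    intro h0
    have h0' : A 0 0 • w₁ + A 1 0 • w₂ = 0 := by
      have : n 0 = A 0 0 • w₁ + A 1 0 • w₂ := by
        rw [hn]; simp [comb, Fin.sum_univ_two]
      rw [← this]; exact h0
    obtain ⟨hA0, hA1⟩ := LinearIndependent.pair_iff.mp hli _ _ h0'
    apply hA
    rw [Matrix.det_fin_two, hA0, hA1]
    ring
  obtain ⟨π, hπ0, hπ⟩ := Cfsg.Agent.Lib.Helper54.exists_equivariant_functional (AlgebraicClosure (ZMod p))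
    (n 0) hn0
  set m : Fin 2 → M := fun j => π (n j) with hm
  have hmact : ∀ (t : T) (j : Fin 2), ρ₀ t (m j) = ∑ i, (σ t).1 i j • m i := by
    intro t j
    have h1 := hπ (ρ₀ (t : Γ)) (n j)
    have h2 : LinearEquiv.baseChange (ZMod p) (AlgebraicClosure (ZMod p)) M M (ρ₀ (t : Γ)) (n j) =
        ρK t (n j) := rfl
    rw [h2, hact t j, map_sum] at h1
    rw [← h1]
    refine Finset.sum_congr rfl (fun i _ => ?_)
    rw [map_smul]
  refine ⟨T, σ, m, hσs, ?_, hmact⟩
  -- independence, using a transvection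
  obtain ⟨t₀, ht₀⟩ := hσs (uu (1 : ZMod p))
  have hm0 : ρ₀ t₀ (m 0) = m 0 := by
    rw [hmact t₀ 0, ht₀]
    simp [Fin.sum_univ_two, uu]
  have hm1 : ρ₀ t₀ (m 1) = m 0 + m 1 := by
    rw [hmact t₀ 1, ht₀]
    simp [Fin.sum_univ_two, uu]
  have hm0ne : m 0 ≠ 0 := hπ0
  rw [Fintype.linearIndependent_iff]
  intro c hc
  rw [Fin.sum_univ_two] at hc
  have hc' := congrArg (ρ₀ (t₀ : Γ)) hc
  rw [map_add, map_smul, map_smul, hm0, hm1, map_zero] at hc'
  have h3 : c 1 • m 0 = 0 := by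
    have : c 0 • m 0 + c 1 • (m 0 + m 1) - (c 0 • m 0 + c 1 • m 1) = c 1 • m 0 := by
      module
    rw [← this, hc', hc, sub_zero]
  have hc1 : c 1 = 0 := by
    rcases smul_eq_zero.mp h3 with h | h
    · exact h
    · exact absurd h hm0ne
  rw [hc1, zero_smul, add_zero] at hc
  have hc0 : c 0 = 0 := by
    rcases smul_eq_zero.mp hc with h | h
    · exact h
    · exact absurd h hm0ne
  intro i
  fin_cases i
  · exact hc0
  · exact hc1

end Cfsg.Agent.Lib.Helper16.QdLinear
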