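import Mathlib
import Cfsg.Agent.Lib.Helper16.QdLinear

set_option autoImplicit false

/-!
# The natural plane inside a group: from the module statement to subgroups
-/

namespace Cfsg.Agent.Lib.Helper16.QdBridge

open Matrix

section stageA

variable {p : ℕ} [Fact p.Prime] {Γ : Type*} [Group Γ] {V : Type*} [CommGroup V]

/-- the embedding of `𝔽_p²` determined by two elements of an `𝔽_p`-module, multiplicatively -/
def iotaOf [Module (ZMod p) (Additive V)] (m : Fin 2 → Additive V) :
    Multiplicative (Fin 2 → ZMod p) →* V :=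
  AddMonoidHom.toMultiplicativeLeft (Fintype.linearCombination (ZMod p) m).toAddMonoidHom

theorem iotaOf_apply [Module (ZMod p) (Additive V)] (m : Fin 2 → Additive V)
    (v : Fin 2 → ZMod p) :
    iotaOf m (Multiplicative.ofAdd v) = (∑ i, v i • m i : Additive V).toMul := by
  simp [iotaOf, Fintype.linearCombination_apply]

theorem stageA0 [Module (ZMod p) (Additive V)] [Finite Γ] [Finite V] (hp : p ≠ 2)
    (α β : Γ) (hgen : Subgroup.closure {α, β} = ⊤) (c : Γ →* MulAut V)
    (ha : ∀ v, c α (c α v / v) = c α v / v) (hb : ∀ v, c β (c β v / v) = c β v / v)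
    (hnp : ∃ γ : Γ, ∀ k : ℕ, c (γ ^ p ^ k) ≠ 1) :
    ∃ (T : Subgroup Γ) (σ : T →* Matrix.SpecialLinearGroup (Fin 2) (ZMod p))
      (ι : Multiplicative (Fin 2 → ZMod p) →* V),
      Function.Surjective σ ∧ Function.Injective ι ∧
      ∀ (t : T) (v : Fin 2 → ZMod p),
        c t (ι (Multiplicative.ofAdd v)) = ι (Multiplicative.ofAdd ((σ t).1.mulVec v)) := by
  classical
  have hfin : Finite (Additive V) := inferInstanceAs (Finite V)
  obtain ⟨T, σ, m, hσ, hli, hact⟩ := QdLinear.exists_natural_plane (p := p) (M := Additive V) hp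
    (Cfsg.Agent.Lib.Helper52.zmodRepOfMulAut (p := p) c) α β hgen
    (by
      intro w
      have := ha w.toMul
      simp only [Cfsg.Agent.Lib.Helper52.zmodRepOfMulAut_apply]
      exact congrArg Additive.ofMul this)
    (by
      intro w
      have := hb w.toMul
      simp only [Cfsg.Agent.Lib.Helper52.zmodRepOfMulAut_apply]
      exact congrArg Additive.ofMul this)
    (by
      obtain ⟨γ, hγ⟩ := hnp
      refine ⟨γ, fun k hk => hγ k ?_⟩
      ext v
      have := LinearEquiv.congr_fun hk (Additive.ofMul v)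
      simp only [Cfsg.Agent.Lib.Helper52.zmodRepOfMulAut_apply] at this
      exact Additive.ofMul.injective this)
  refine ⟨T, σ, iotaOf m, hσ, ?_, ?_⟩
  · have h1 := hli.fintypeLinearCombination_injective
    intro x y hxy
    obtain ⟨x, rfl⟩ : ∃ x' : Fin 2 → ZMod p, x = Multiplicative.ofAdd x' := ⟨x.toAdd, rfl⟩
    obtain ⟨y, rfl⟩ : ∃ y' : Fin 2 → ZMod p, y = Multiplicative.ofAdd y' := ⟨y.toAdd, rfl⟩
    congr 1
    apply h1
    exact Additive.toMul.injective hxy
  · intro t v
    rw [iotaOf_apply, iotaOf_apply]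
    have h1 : c (t : Γ) ((∑ i, v i • m i : Additive V).toMul) =
        (Cfsg.Agent.Lib.Helper52.zmodRepOfMulAut (p := p) c (t : Γ) (∑ i, v i • m i)).toMul := rfl
    rw [h1]
    congr 1
    rw [map_sum]
    simp only [map_smul, hact t, Fin.sum_univ_two, Matrix.mulVec, dotProduct]
    module

theorem stageA [Finite Γ] [Finite V] (hp : p ≠ 2) (hexp : ∀ v : V, v ^ p = 1)
    (α β : Γ) (hgen : Subgroup.closure {α, β} = ⊤) (c : Γ →* MulAut V)
    (ha : ∀ v, c α (c α v / v) = c α v / v) (hb : ∀ v, c β (c β v / v) = c β v / v)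
    (hnp : ∃ γ : Γ, ∀ k : ℕ, c (γ ^ p ^ k) ≠ 1) :
    ∃ (T : Subgroup Γ) (σ : T →* Matrix.SpecialLinearGroup (Fin 2) (ZMod p))
      (ι : Multiplicative (Fin 2 → ZMod p) →* V),
      Function.Surjective σ ∧ Function.Injective ι ∧
      ∀ (t : T) (v : Fin 2 → ZMod p),
        c t (ι (Multiplicative.ofAdd v)) = ι (Multiplicative.ofAdd ((σ t).1.mulVec v)) := by
  let _ : Module (ZMod p) (Additive V) := AddCommGroup.zmodModule (n := p) (fun x => by
    show Additive.ofMul (x.toMul ^ p) = 0
    rw [hexp]; rfl)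
  exact stageA0 hp α β hgen c ha hb hnp

end stageA

section stageB

variable {G : Type*} [Group G] {p : ℕ} [Fact p.Prime]

/-- a quadratic pair `a, b` normalizing an elementary abelian `p`-subgroup `V`, generating a
subgroup that does not act on `V` as a `p`-group, yields an embedded plane in `V` with a subgroup
acting on it naturally through a surjection onto `SL₂(p)` -/
theorem exists_natural_plane_subgroup [Finite G] (hp : p ≠ 2) (V H : Subgroup G)
    (hV : Cfsg.IsElementaryAbelian p V) (hHV : H ≤ Subgroup.normalizer (V : Set G)) (a b : G)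
    (hab : H = Subgroup.closure {a, b})
    (ha : ⁅⁅V, Subgroup.zpowers a⁆, Subgroup.zpowers a⁆ = ⊥)
    (hb : ⁅⁅V, Subgroup.zpowers b⁆, Subgroup.zpowers b⁆ = ⊥)
    (hnp : ∃ γ ∈ H, ∀ k : ℕ, γ ^ p ^ k ∉ Subgroup.centralizer (V : Set G)) :
    ∃ (ι : Multiplicative (Fin 2 → ZMod p) →* G) (T : Subgroup G)
      (σ : T →* Matrix.SpecialLinearGroup (Fin 2) (ZMod p)),
      Function.Injective ι ∧ Function.Surjective σ ∧
      ∀ (t : T) (v : Fin 2 → ZMod p),
        (t : G) * ι (Multiplicative.ofAdd v) * (t : G)⁻¹ =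
          ι (Multiplicative.ofAdd ((σ t).1.mulVec v)) := by
  classical
  let _ : CommGroup V :=
    { (inferInstance : Group V) with mul_comm := fun x y => @mul_comm' _ _ hV.1 x y }
  have hexp : ∀ v : V, v ^ p = 1 := fun v => Subtype.ext (by simp [hV.2 v v.2])
  have haH : a ∈ H := hab ▸ Subgroup.subset_closure (by simp)
  have hbH : b ∈ H := hab ▸ Subgroup.subset_closure (by simp)
  have hgen := Cfsg.Agent.Lib.Helper52.closure_pair_subtype_eq_top a b H hab haH hbH
  obtain ⟨T, σ, ι, hσ, hι, hact⟩ := stageA (p := p) (V := V) hp hexp (⟨a, haH⟩ : H) ⟨b, hbH⟩ hgen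
    (Cfsg.Agent.Lib.Helper52.conjAutOfLeNormalizer V H hHV)
    (by
      intro v
      apply Subtype.ext
      show a * (a * v * a⁻¹ / v) * a⁻¹ = a * v * a⁻¹ / v
      rw [div_eq_mul_inv]
      exact Cfsg.Agent.Lib.Helper52.conj_comm_of_quadratic V a ha v v.2)
    (by
      intro v
      apply Subtype.ext
      show b * (b * v * b⁻¹ / v) * b⁻¹ = b * v * b⁻¹ / v
      rw [div_eq_mul_inv]
      exact Cfsg.Agent.Lib.Helper52.conj_comm_of_quadratic V b hb v v.2)
    (by
      obtain ⟨γ, hγH, hγ⟩ := hnp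
      refine ⟨⟨γ, hγH⟩, fun k hk => hγ k ?_⟩
      rw [Subgroup.mem_centralizer_iff]
      intro v hv
      have h1 := Cfsg.Agent.Lib.Helper52.conjAutOfLeNormalizer_coe V H hHV (⟨γ, hγH⟩ ^ p ^ k)
        ⟨v, hv⟩
      rw [hk] at h1
      have h2 : γ ^ p ^ k * v * (γ ^ p ^ k)⁻¹ = v := by
        have : ((⟨γ, hγH⟩ ^ p ^ k : H) : G) = γ ^ p ^ k := by simp
        rw [this] at h1
        exact h1.symm
      calc v * γ ^ p ^ k = (γ ^ p ^ k * v * (γ ^ p ^ k)⁻¹) * γ ^ p ^ k := by rw [h2]
        _ = γ ^ p ^ k * v := by group)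
  -- transport to `G`
  set e := T.equivMapOfInjective H.subtype H.subtype_injective with he
  have hecoe : ∀ t : T.map H.subtype, (((e.symm t : T) : H) : G) = (t : G) := by
    intro t
    have := Subgroup.coe_equivMapOfInjective_apply T H.subtype H.subtype_injective (e.symm t)
    rw [← he, MulEquiv.apply_symm_apply] at this
    exact this.symm
  refine ⟨V.subtype.comp ι, T.map H.subtype, σ.comp e.symm.toMonoidHom,
    V.subtype_injective.comp hι, hσ.comp e.symm.surjective, ?_⟩
  intro t v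
  have h1 := hact (e.symm t) v
  have h2 := Cfsg.Agent.Lib.Helper52.conjAutOfLeNormalizer_coe V H hHV ((e.symm t : T) : H)
    (ι (Multiplicative.ofAdd v))
  rw [h1, hecoe] at h2
  exact h2.symm

end stageB

end Cfsg.Agent.Lib.Helper16.QdBridge
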