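import Mathlib
import Cfsg.Agent.Lib.Helper02.QdSplit

set_option autoImplicit false

/-!
# Splitting: a natural `SL₂(p)`-plane gives a section `Qd(p)`
-/

namespace Cfsg.Agent.Lib.Helper16.QdSplit

open Matrix

variable {G : Type*} [Group G] {p : ℕ}

local notation "SL2p" => Matrix.SpecialLinearGroup (Fin 2) (ZMod p)

/-- a `2`-element mapping to `-1` -/
theorem exists_two_element [Finite G] (σ : G →* SL2p) (hσ : Function.Surjective σ) :
    ∃ z : G, σ z = -1 ∧ ∃ k : ℕ, z ^ 2 ^ k = 1 := by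
  obtain ⟨z₀, hz₀⟩ := hσ (-1)
  have hpos : 0 < orderOf z₀ := orderOf_pos z₀
  obtain ⟨k, m, hm, hkm⟩ := Nat.exists_eq_two_pow_mul_odd hpos.ne'
  refine ⟨z₀ ^ m, ?_, k, ?_⟩
  · rw [map_pow, hz₀, hm.neg_one_pow]
  · rw [← pow_mul, mul_comm, ← hkm, pow_orderOf_eq_one]

theorem zpowers_neg_one_normal : (Subgroup.zpowers (-1 : SL2p)).Normal := by
  constructor
  intro n hn g
  obtain ⟨i, rfl⟩ := Subgroup.mem_zpowers_iff.mp hn
  have hc : Commute g ((-1 : SL2p) ^ i) := by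
    apply Commute.zpow_right
    show g * -1 = -1 * g
    rw [mul_neg, neg_mul, mul_one, one_mul]
  rw [hc.eq, mul_inv_cancel_right]
  exact Subgroup.zpow_mem_zpowers _ i

variable [Fact p.Prime]

/-- **Splitting + recognition**: an embedded plane `ι` with a subgroup `T` acting on it through a
surjection `σ : T → SL₂(p)` in the natural way forces a section `Qd(p)` (`p` odd). -/
theorem involves_qd_of_natural [Finite G] (hp : p ≠ 2)
    (ι : Multiplicative (Fin 2 → ZMod p) →* G) (hι : Function.Injective ι) (T : Subgroup G)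
    (σ : T →* SL2p) (hσ : Function.Surjective σ)
    (hact : ∀ (t : T) (v : Fin 2 → ZMod p),
      (t : G) * ι (Multiplicative.ofAdd v) * (t : G)⁻¹ =
        ι (Multiplicative.ofAdd ((σ t).1.mulVec v))) :
    Cfsg.Involves ↥(Cfsg.qd p) G := by
  classical
  have hf2 : Fact (Nat.Prime 2) := ⟨Nat.prime_two⟩
  have hpp : p.Prime := Fact.out
  obtain ⟨z, hz, k, hzk⟩ := exists_two_element σ hσ
  -- the preimage of the centre
  have hZn := zpowers_neg_one_normal (p := p)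
  set M₂ : Subgroup T := (Subgroup.zpowers (-1 : SL2p)).comap σ with hM₂
  have hM₂n : M₂.Normal := hZn.comap σ
  have hzM : z ∈ M₂ := by
    rw [hM₂, Subgroup.mem_comap, hz]
    exact Subgroup.mem_zpowers _
  have hzp : IsPGroup 2 (Subgroup.zpowers (⟨z, hzM⟩ : M₂)) := by
    rintro ⟨y, hy⟩
    refine ⟨k, ?_⟩
    obtain ⟨j, rfl⟩ := Subgroup.mem_zpowers_iff.mp hy
    apply Subtype.ext
    have hz' : (⟨z, hzM⟩ : M₂) ^ 2 ^ k = 1 := Subtype.ext (by simpa using hzk)
    simp only [Subgroup.coe_pow, Subgroup.coe_one]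
    rw [← zpow_natCast, ← _root_.zpow_mul, mul_comm, _root_.zpow_mul, zpow_natCast, hz',
      _root_.one_zpow]
  obtain ⟨Q, hQ⟩ := hzp.exists_le_sylow
  have hzQ : (⟨z, hzM⟩ : M₂) ∈ (Q : Subgroup M₂) := hQ (Subgroup.mem_zpowers _)
  set Q' : Subgroup T := (Q : Subgroup M₂).map M₂.subtype with hQ'
  have hzQ' : z ∈ Q' := ⟨⟨z, hzM⟩, hzQ, rfl⟩
  have hQ'p : IsPGroup 2 Q' := Q.isPGroup'.map _
  have htop : Subgroup.normalizer (Q' : Set T) ⊔ M₂ = ⊤ := Sylow.normalizer_sup_eq_top Q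
  set T₁ : Subgroup T := Subgroup.normalizer (Q' : Set T) with hT₁
  have hzT₁ : z ∈ T₁ := Subgroup.le_normalizer hzQ'
  set T' : Subgroup G := T₁.map T.subtype with hT'
  have hT'T : T' ≤ T := Subgroup.map_subtype_le T₁
  set σ' : T' →* SL2p := σ.comp (Subgroup.inclusion hT'T) with hσ'
  -- `σ'` is onto
  have key : ∀ (n : T) (hn : n ∈ T₁), σ' ⟨(n : G), ⟨n, hn, rfl⟩⟩ = σ n := by
    intro n hn
    show σ (Subgroup.inclusion hT'T _) = σ n
    congr 1
  have hσ's : Function.Surjective σ' := by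
    intro A
    obtain ⟨t, rfl⟩ := hσ A
    have ht : t ∈ Subgroup.normalizer (Q' : Set T) ⊔ M₂ := by rw [htop]; trivial
    rw [← SetLike.mem_coe, Subgroup.mul_normal, Set.mem_mul] at ht
    obtain ⟨n, hn, m, hm, rfl⟩ := ht
    have hm' : σ m ∈ Subgroup.zpowers (-1 : SL2p) := hm
    obtain ⟨i, hi⟩ := Subgroup.mem_zpowers_iff.mp hm'
    rcases Int.even_or_odd i with hev | hodd
    · rw [hev.neg_one_zpow] at hi
      refine ⟨⟨(n : G), ⟨n, hn, rfl⟩⟩, ?_⟩
      rw [key n hn, map_mul, ← hi, mul_one]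
    · rw [hodd.neg_one_zpow] at hi
      refine ⟨⟨((n * z : T) : G), ⟨n * z, T₁.mul_mem hn hzT₁, rfl⟩⟩, ?_⟩
      rw [key (n * z) (T₁.mul_mem hn hzT₁), map_mul, map_mul, ← hi, hz]
  -- disjointness
  have hdisj : ι.range ⊓ T' = ⊥ := by
    rw [eq_bot_iff]
    rintro x ⟨⟨w, hw⟩, ⟨n, hn, hnx⟩⟩
    rw [Subgroup.mem_bot]
    have hx : x = ι (Multiplicative.ofAdd (Multiplicative.toAdd w)) := hw.symm
    generalize Multiplicative.toAdd w = v at hx
    -- `z` inverts `x`
    have hinv : (z : G) * x * (z : G)⁻¹ = x⁻¹ := by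
      rw [hx, hact z v, hz, ← map_inv]
      congr 1
      show Multiplicative.ofAdd _ = Multiplicative.ofAdd (-v)
      congr 1
      ext i
      fin_cases i <;> simp [Matrix.mulVec, dotProduct, Fin.sum_univ_two]
    -- the commutator lies in the `2`-group `Q'`
    have hcQ : z * (n * z⁻¹ * n⁻¹) ∈ Q' :=
      Q'.mul_mem hzQ' ((Subgroup.mem_normalizer_iff.mp hn z⁻¹).mp (Q'.inv_mem hzQ'))
    obtain ⟨j, hj⟩ := hQ'p ⟨_, hcQ⟩
    have hj' : ((z * (n * z⁻¹ * n⁻¹) : T) : G) ^ 2 ^ j = 1 := by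
      have := congrArg (fun y : Q' => ((y : T) : G)) hj
      simpa using this
    have hnx' : ((n : T) : G) = x := hnx
    have hc : ((z * (n * z⁻¹ * n⁻¹) : T) : G) = x⁻¹ * x⁻¹ := by
      simp only [Subgroup.coe_mul, Subgroup.coe_inv, hnx']
      calc (z : G) * (x * (z : G)⁻¹ * x⁻¹) = ((z : G) * x * (z : G)⁻¹) * x⁻¹ := by group
        _ = x⁻¹ * x⁻¹ := by rw [hinv]
    rw [hc] at hj'
    have h2 : x ^ 2 ^ (j + 1) = 1 := by
      have e : x⁻¹ * x⁻¹ = (x ^ 2)⁻¹ := by group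
      rw [e, inv_pow, inv_eq_one, ← pow_mul] at hj'
      rw [pow_succ']
      exact hj'
    have h3 : x ^ p = 1 := by
      rw [hx, ← map_pow]
      have h0 : p • v = 0 := by
        ext i
        simp
      have : (Multiplicative.ofAdd v) ^ p = 1 := by
        rw [← ofAdd_nsmul, h0]; rfl
      rw [this, map_one]
    have hcop : Nat.Coprime (2 ^ (j + 1)) p := by
      apply Nat.Coprime.pow_left
      rw [Nat.coprime_primes Nat.prime_two hpp]
      exact fun h => hp h.symm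
    have := pow_gcd_eq_one.mpr ⟨h2, h3⟩
    rwa [hcop, pow_one] at this
  refine Cfsg.Agent.Lib.Helper02.QdSplit.involves_qd_of_split ι hι T' σ' hσ's ?_ hdisj
  intro t v
  exact hact (Subgroup.inclusion hT'T t) v

end Cfsg.Agent.Lib.Helper16.QdSplit
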