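import Mathlib
import Cfsg.Agent.Lib.Helper16.QdBridge
import Cfsg.Agent.Lib.Helper16.QdSplit
import Cfsg.Agent.Lib.Helper16.ZJ
import Cfsg.Agent.S0199

set_option autoImplicit false

/-!
# Failure of stability on an elementary abelian normal subgroup forces a section `Qd(p)`
-/

namespace Cfsg.Agent.Lib.Helper16.QdMain

variable {G : Type*} [Group G] {p : ℕ} [Fact p.Prime]

omit [Fact p.Prime] in
/-- a quadratic element normalizing an elementary abelian `p`-group has `p`-th power in the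
centralizer -/
theorem pow_p_mem_centralizer (V : Subgroup G) (hV : Cfsg.IsElementaryAbelian p V) (a : G)
    (haN : a ∈ Subgroup.normalizer (V : Set G))
    (ha : ⁅⁅V, Subgroup.zpowers a⁆, Subgroup.zpowers a⁆ = ⊥) :
    a ^ p ∈ Subgroup.centralizer (V : Set G) := by
  rw [Subgroup.mem_centralizer_iff]
  intro v hv
  have hav : a * v * a⁻¹ ∈ V := (Subgroup.mem_normalizer_iff.mp haN v).mp hv
  have hu : a * v * a⁻¹ * v⁻¹ ∈ V := V.mul_mem hav (V.inv_mem hv)
  have hcu : Commute a (a * v * a⁻¹ * v⁻¹) := by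
    have := Cfsg.Agent.Lib.Helper52.conj_comm_of_quadratic V a ha v hv
    show a * (a * v * a⁻¹ * v⁻¹) = (a * v * a⁻¹ * v⁻¹) * a
    calc a * (a * v * a⁻¹ * v⁻¹) = (a * (a * v * a⁻¹ * v⁻¹) * a⁻¹) * a := by simp [mul_assoc]
      _ = (a * v * a⁻¹ * v⁻¹) * a := by rw [this]
  have key : ∀ n : ℕ, a ^ n * v * (a ^ n)⁻¹ = (a * v * a⁻¹ * v⁻¹) ^ n * v := by
    intro n
    induction n with
    | zero => simp
    | succ n ih =>
      have e1 : a ^ (n + 1) * v * (a ^ (n + 1))⁻¹ = a * (a ^ n * v * (a ^ n)⁻¹) * a⁻¹ := by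
        rw [pow_succ']; simp [mul_assoc]
      rw [e1, ih]
      have e2 : a * ((a * v * a⁻¹ * v⁻¹) ^ n * v) * a⁻¹
          = (a * v * a⁻¹ * v⁻¹) ^ n * (a * v * a⁻¹) := by
        rw [← mul_assoc a, (hcu.pow_right n).eq]; simp [mul_assoc]
      rw [e2, pow_succ]
      simp [mul_assoc]
  have hkp := key p
  rw [hV.2 _ hu, one_mul] at hkp
  calc v * a ^ p = (a ^ p * v * (a ^ p)⁻¹) * a ^ p := by rw [hkp]
    _ = a ^ p * v := by simp [mul_assoc]

/-- **Elementary abelian case.** If a quadratic element `a` on a normal elementary abelian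
`p`-subgroup `V` does not map into `O_p(G / C_G(V))`, then `G` involves `Qd(p)` (`p` odd). -/
theorem involves_qd_of_quadratic_elemAb [Finite G] (hp : p ≠ 2) (V : Subgroup G) [hVn : V.Normal]
    (hV : Cfsg.IsElementaryAbelian p V) (a : G)
    (hq : ⁅⁅V, Subgroup.zpowers a⁆, Subgroup.zpowers a⁆ = ⊥)
    (ha : (QuotientGroup.mk a : G ⧸ Subgroup.centralizer (V : Set G)) ∉
      Cfsg.pCore p (G ⧸ Subgroup.centralizer (V : Set G))) :
    Cfsg.Involves ↥(Cfsg.qd p) G := by
  classical
  have hNtop : Subgroup.normalizer (V : Set G) = ⊤ := Subgroup.normalizer_eq_top V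
  have hapC := pow_p_mem_centralizer V hV a (by rw [hNtop]; trivial) hq
  -- Baer–Suzuki in the quotient
  have hX : IsPGroup p (Subgroup.zpowers
      (QuotientGroup.mk a : G ⧸ Subgroup.centralizer (V : Set G))) := by
    have hap : (QuotientGroup.mk a : G ⧸ Subgroup.centralizer (V : Set G)) ^ p = 1 := by
      rw [← QuotientGroup.mk_pow, QuotientGroup.eq_one_iff]
      exact hapC
    rintro ⟨y, hy⟩
    refine ⟨1, ?_⟩
    obtain ⟨j, rfl⟩ := Subgroup.mem_zpowers_iff.mp hy
    apply Subtype.ext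
    simp only [Subgroup.coe_pow, Subgroup.coe_one, pow_one]
    rw [← zpow_natCast, ← zpow_mul, mul_comm, zpow_mul, zpow_natCast, hap, one_zpow]
  have hBS : ∃ g : G ⧸ Subgroup.centralizer (V : Set G), ¬ IsPGroup p
      ↥(Subgroup.zpowers (QuotientGroup.mk a : G ⧸ Subgroup.centralizer (V : Set G)) ⊔
      (Subgroup.zpowers (QuotientGroup.mk a : G ⧸ Subgroup.centralizer (V : Set G))).map
        (MulAut.conj g).toMonoidHom) := by
    by_contra hcon
    push Not at hcon
    obtain ⟨N, hNn, hNp, hXN⟩ := Cfsg.Agent.S0199.result _ hX hcon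
    exact ha (Cfsg.Agent.Lib.Helper16.ZJ.le_pCore hNn hNp (hXN (Subgroup.mem_zpowers _)))
  obtain ⟨g', hg'⟩ := hBS
  obtain ⟨g, rfl⟩ := QuotientGroup.mk_surjective g'
  obtain ⟨b, hbdef⟩ : ∃ b : G, b = g * a * g⁻¹ := ⟨_, rfl⟩
  -- the conjugate acts quadratically
  have hgV : g ∈ Subgroup.normalizer (V : Set G) := by rw [hNtop]; trivial
  have hVmap : V.map (MulAut.conj g).toMonoidHom = V := by
    ext v
    rw [Subgroup.mem_map]
    constructor
    · rintro ⟨w, hw, rfl⟩
      exact (Subgroup.mem_normalizer_iff.mp hgV w).mp hw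
    · intro hv
      refine ⟨g⁻¹ * v * g, ?_, ?_⟩
      · have := (Subgroup.mem_normalizer_iff.mp hgV (g⁻¹ * v * g)).mpr
          (by
            have e : g * (g⁻¹ * v * g) * g⁻¹ = v := by group
            rw [e]; exact hv)
        exact this
      · simp [MulAut.conj_apply, mul_assoc]
  have hzmap : (Subgroup.zpowers a).map (MulAut.conj g).toMonoidHom = Subgroup.zpowers b := by
    rw [MonoidHom.map_zpowers, hbdef]
    rfl
  have hb : ⁅⁅V, Subgroup.zpowers b⁆, Subgroup.zpowers b⁆ = ⊥ := by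
    rw [← hzmap]
    nth_rewrite 1 [← hVmap]
    rw [← Subgroup.map_commutator, ← Subgroup.map_commutator, hq, Subgroup.map_bot]
  -- the pair generates a non-`p`-group modulo the centralizer
  have hYmap : (Subgroup.closure {a, b}).map
      (QuotientGroup.mk' (Subgroup.centralizer (V : Set G))) =
      Subgroup.zpowers (QuotientGroup.mk a : G ⧸ Subgroup.centralizer (V : Set G)) ⊔
      (Subgroup.zpowers (QuotientGroup.mk a : G ⧸ Subgroup.centralizer (V : Set G))).map
        (MulAut.conj (QuotientGroup.mk g : G ⧸ Subgroup.centralizer (V : Set G))).toMonoidHom := by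
    have h1 : ({a, b} : Set G) = {a} ∪ {b} := Set.insert_eq a {b}
    rw [h1, Subgroup.closure_union, ← Subgroup.zpowers_eq_closure, ← Subgroup.zpowers_eq_closure,
      Subgroup.map_sup, MonoidHom.map_zpowers, MonoidHom.map_zpowers, MonoidHom.map_zpowers, hbdef]
    rfl
  have hnp : ∃ γ ∈ Subgroup.closure {a, b}, ∀ k : ℕ,
      γ ^ p ^ k ∉ Subgroup.centralizer (V : Set G) := by
    by_contra hcon
    push Not at hcon
    apply hg'
    rw [← hYmap]
    rintro ⟨y, ⟨h, hh, rfl⟩⟩
    obtain ⟨k, hk⟩ := hcon h hh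
    refine ⟨k, Subtype.ext ?_⟩
    simp only [Subgroup.coe_pow, Subgroup.coe_one, QuotientGroup.mk'_apply]
    rw [← QuotientGroup.mk_pow, QuotientGroup.eq_one_iff]
    exact hk
  obtain ⟨ι, T, σ, hι, hσ, hact⟩ := QdBridge.exists_natural_plane_subgroup hp V
    (Subgroup.closure {a, b}) hV (by rw [hNtop]; exact le_top) a b rfl hq hb hnp
  exact QdSplit.involves_qd_of_natural hp ι hι T σ hσ hact

end Cfsg.Agent.Lib.Helper16.QdMain
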