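import Mathlib
import Cfsg.Agent.Lib.Helper16.QdMain
import Cfsg.Agent.Lib.Helper75.PGroupFrattini
import Cfsg.Agent.Lib.Helper02.NPStab
import Cfsg.Agent.S4207

set_option autoImplicit false

/-!
# Reduction to the Frattini quotient
-/

namespace Cfsg.Agent.Lib.Helper16.QdFrattini

variable {G : Type*} [Group G] {p : ℕ} [Fact p.Prime]

/-- the automorphisms of a group acting trivially on the Frattini quotient -/
def frattiniStab (P : Type*) [Group P] : Subgroup (MulAut P) where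
  carrier := {α | ∀ x : P, α x * x⁻¹ ∈ frattini P}
  one_mem' := fun x => by simp
  mul_mem' := by
    intro α β hα hβ x
    have e : (α * β) x * x⁻¹ = (α (β x) * (β x)⁻¹) * (β x * x⁻¹) := by
      rw [MulAut.mul_apply]; group
    rw [e]
    exact (frattini P).mul_mem (hα _) (hβ _)
  inv_mem' := by
    intro α hα x
    have h1 := hα (α⁻¹ x)
    have e : α⁻¹ x * x⁻¹ = (α (α⁻¹ x) * (α⁻¹ x)⁻¹)⁻¹ := by
      rw [MulAut.apply_inv_self]; group
    rw [e]
    exact (frattini P).inv_mem h1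

theorem isPGroup_frattiniStab {P : Type*} [Group P] [Finite P] (hP : IsPGroup p P) :
    IsPGroup p (frattiniStab P) := by
  have hp : p.Prime := Fact.out
  obtain ⟨n, hn⟩ := hP.exists_card_eq
  obtain ⟨r, hr⟩ := hP.index (frattini P)
  have hdvd := Cfsg.Agent.S4207.result hn hr (frattiniStab P) (fun α hα x => hα x)
  obtain ⟨k, -, hk⟩ := (Nat.dvd_prime_pow hp).1 hdvd
  exact IsPGroup.of_card hk

/-- an element acting trivially on the Frattini quotient of a normal `p`-subgroup has a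
`p`-power centralizing the subgroup -/
theorem exists_pow_mem_centralizer [Finite G] (V : Subgroup G) [V.Normal] (hV : IsPGroup p V)
    (h : G) (hh : ∀ y ∈ V, h * y * h⁻¹ * y⁻¹ ∈ (frattini V).map V.subtype) :
    ∃ i : ℕ, h ^ p ^ i ∈ Subgroup.centralizer (V : Set G) := by
  have hmem : (MulAut.conjNormal h : MulAut V) ∈ frattiniStab V := by
    intro y
    obtain ⟨w, hw, hwe⟩ := hh y y.2
    have : w = MulAut.conjNormal h y * y⁻¹ := by
      apply Subtype.ext
      rw [Subgroup.coe_subtype] at hwe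
      rw [hwe]
      simp [MulAut.conjNormal_apply]
    rw [← this]
    exact hw
  obtain ⟨i, hi⟩ := isPGroup_frattiniStab hV ⟨_, hmem⟩
  refine ⟨i, ?_⟩
  have h1 : (MulAut.conjNormal (h ^ p ^ i) : MulAut V) = 1 := by
    rw [map_pow]
    exact congrArg Subtype.val hi
  rw [Subgroup.mem_centralizer_iff]
  intro y hy
  have h2 : (MulAut.conjNormal (h ^ p ^ i) : MulAut V) ⟨y, hy⟩ = ⟨y, hy⟩ := by rw [h1]; rfl
  have h3 := congrArg Subtype.val h2
  simp only [MulAut.conjNormal_apply] at h3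
  calc y * h ^ p ^ i = (h ^ p ^ i * y * (h ^ p ^ i)⁻¹) * h ^ p ^ i := by rw [h3]
    _ = h ^ p ^ i * y := by group

/-- **General case.** If a quadratic element `a` on a normal `p`-subgroup `V` does not map into
`O_p(G / C_G(V))`, then `G` involves `Qd(p)` (`p` odd). -/
theorem involves_qd_of_quadratic [Finite G] (hp : p ≠ 2) (V : Subgroup G) [hVn : V.Normal]
    (hV : IsPGroup p V) (a : G)
    (hq : ⁅⁅V, Subgroup.zpowers a⁆, Subgroup.zpowers a⁆ = ⊥)
    (ha : (QuotientGroup.mk a : G ⧸ Subgroup.centralizer (V : Set G)) ∉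
      Cfsg.pCore p (G ⧸ Subgroup.centralizer (V : Set G))) :
    Cfsg.Involves ↥(Cfsg.qd p) G := by
  classical
  set Φ : Subgroup G := (frattini V).map V.subtype with hΦ
  have hΦn : Φ.Normal := inferInstance
  set π : G →* G ⧸ Φ := QuotientGroup.mk' Φ with hπ
  have hπs : Function.Surjective π := QuotientGroup.mk'_surjective Φ
  set Vb : Subgroup (G ⧸ Φ) := V.map π with hVb
  have hVbn : Vb.Normal := hVn.map π hπs
  -- commutators and `p`-th powers of `V` lie in `Φ`
  have hcomm : ∀ v ∈ V, ∀ w ∈ V, (v * w)⁻¹ * (w * v) ∈ Φ := by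
    intro v hv w hw
    refine ⟨(⟨v, hv⟩ * ⟨w, hw⟩ : V)⁻¹ * (⟨w, hw⟩ * ⟨v, hv⟩), ?_, rfl⟩
    have := Cfsg.Agent.Lib.Helper75.frattini_quotient_comm hV
      (QuotientGroup.mk (⟨v, hv⟩ : V)) (QuotientGroup.mk (⟨w, hw⟩ : V))
    rw [← QuotientGroup.mk_mul, ← QuotientGroup.mk_mul, QuotientGroup.eq] at this
    exact this
  have hpow : ∀ v ∈ V, v ^ p ∈ Φ := by
    intro v hv
    exact ⟨(⟨v, hv⟩ : V) ^ p, Cfsg.Agent.Lib.Helper75.pow_mem_frattini_of_isPGroup' hV _, rfl⟩
  have hVbE : Cfsg.IsElementaryAbelian p Vb := by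
    constructor
    · constructor
      constructor
      rintro ⟨x, ⟨v, hv, rfl⟩⟩ ⟨y, ⟨w, hw, rfl⟩⟩
      apply Subtype.ext
      show π v * π w = π w * π v
      rw [← map_mul, ← map_mul, hπ, QuotientGroup.mk'_apply, QuotientGroup.mk'_apply,
        QuotientGroup.eq]
      exact hcomm v hv w hw
    · rintro x ⟨v, hv, rfl⟩
      rw [← map_pow, hπ, QuotientGroup.mk'_apply, QuotientGroup.eq_one_iff]
      exact hpow v hv
  have hqb : ⁅⁅Vb, Subgroup.zpowers (π a)⁆, Subgroup.zpowers (π a)⁆ = ⊥ := by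
    rw [hVb, ← MonoidHom.map_zpowers, ← Subgroup.map_commutator, ← Subgroup.map_commutator, hq,
      Subgroup.map_bot]
  have hab : (QuotientGroup.mk (π a) : (G ⧸ Φ) ⧸ Subgroup.centralizer (Vb : Set (G ⧸ Φ))) ∉
      Cfsg.pCore p ((G ⧸ Φ) ⧸ Subgroup.centralizer (Vb : Set (G ⧸ Φ))) := by
    intro hmem
    apply ha
    set f : G →* (G ⧸ Φ) ⧸ Subgroup.centralizer (Vb : Set (G ⧸ Φ)) :=
      (QuotientGroup.mk' (Subgroup.centralizer (Vb : Set (G ⧸ Φ)))).comp π with hf
    set N : Subgroup G :=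
      (Cfsg.pCore p ((G ⧸ Φ) ⧸ Subgroup.centralizer (Vb : Set (G ⧸ Φ)))).comap f with hN
    have hNn : N.Normal := (ZJ.pCore_normal p).comap f
    have haN : a ∈ N := hmem
    have hNC : IsPGroup p (N.map (QuotientGroup.mk' (Subgroup.centralizer (V : Set G)))) := by
      rintro ⟨y, ⟨n, hn, rfl⟩⟩
      obtain ⟨j, hj⟩ := ZJ.pCore_isPGroup (G := (G ⧸ Φ) ⧸ Subgroup.centralizer (Vb : Set (G ⧸ Φ)))
        p ⟨f n, hn⟩
      have hj' : f (n ^ p ^ j) = 1 := by
        rw [map_pow]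
        exact congrArg Subtype.val hj
      have hcent : π (n ^ p ^ j) ∈ Subgroup.centralizer (Vb : Set (G ⧸ Φ)) := by
        rw [hf, MonoidHom.comp_apply, QuotientGroup.mk'_apply, QuotientGroup.eq_one_iff] at hj'
        exact hj'
      have htriv : ∀ y ∈ V, n ^ p ^ j * y * (n ^ p ^ j)⁻¹ * y⁻¹ ∈ Φ := by
        intro y hy
        have h1 := Subgroup.mem_centralizer_iff.mp hcent (π y) ⟨y, hy, rfl⟩
        rw [← QuotientGroup.eq_one_iff]
        have h2 : π (n ^ p ^ j * y * (n ^ p ^ j)⁻¹ * y⁻¹) = 1 := by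
          rw [map_mul, map_mul, map_mul, map_inv, map_inv, ← h1]
          group
        exact h2
      obtain ⟨i, hi⟩ := exists_pow_mem_centralizer V hV (n ^ p ^ j) htriv
      refine ⟨j + i, Subtype.ext ?_⟩
      simp only [Subgroup.coe_pow, Subgroup.coe_one, QuotientGroup.mk'_apply]
      rw [← QuotientGroup.mk_pow, QuotientGroup.eq_one_iff, pow_add, pow_mul]
      exact hi
    have hNCn : (N.map (QuotientGroup.mk' (Subgroup.centralizer (V : Set G)))).Normal :=
      hNn.map _ (QuotientGroup.mk'_surjective _)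
    exact ZJ.le_pCore hNCn hNC ⟨a, haN, rfl⟩
  have h1 := QdMain.involves_qd_of_quadratic_elemAb hp Vb hVbE (π a) hqb hab
  exact Cfsg.Agent.Lib.Helper02.NPStab.involves_of_surjective π hπs h1

end Cfsg.Agent.Lib.Helper16.QdFrattini
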