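import Mathlib.GroupTheory.Commutator.Basic
import Mathlib.Algebra.Group.Subgroup.Basic
import Mathlib.GroupTheory.OrderOfElement
import Mathlib.GroupTheory.Sylow
import Mathlib.Tactic

set_option autoImplicit false

namespace Cfsg.Agent.Lib.Helper16

open scoped commutatorElement

variable {S : Type*} [Group S]

theorem comm_mul_left_id (x y z : S) : ⁅x * y, z⁆ = x * ⁅y, z⁆ * x⁻¹ * ⁅x, z⁆ := by
  simp only [commutatorElement_def]; group

theorem comm_mul_right_id (x y z : S) : ⁅x, y * z⁆ = ⁅x, y⁆ * (y * ⁅x, z⁆ * y⁻¹) := by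
  simp only [commutatorElement_def]; group

theorem comm_inv_left_id (x z : S) : ⁅x⁻¹, z⁆ = x⁻¹ * ⁅x, z⁆⁻¹ * x := by
  simp only [commutatorElement_def]; group

theorem comm_inv_right_id (x z : S) : ⁅x, z⁻¹⁆ = z⁻¹ * ⁅x, z⁆⁻¹ * z := by
  simp only [commutatorElement_def]; group

/-- `D` is central in `H` and contains all commutators of `H`. -/
structure Cl2 (H D : Subgroup S) : Prop where
  le : D ≤ H
  central : ∀ d ∈ D, ∀ h ∈ H, d * h = h * d
  comm : ∀ h ∈ H, ∀ k ∈ H, ⁅h, k⁆ ∈ D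

namespace Cl2

variable {H D : Subgroup S}

theorem conj_eq (c : Cl2 H D) {d h : S} (hd : d ∈ D) (hh : h ∈ H) : h * d * h⁻¹ = d := by
  rw [← c.central d hd h hh, mul_inv_cancel_right]

theorem conj_eq' (c : Cl2 H D) {d h : S} (hd : d ∈ D) (hh : h ∈ H) : h⁻¹ * d * h = d := by
  rw [mul_assoc, c.central d hd h hh, inv_mul_cancel_left]

theorem mul_left (c : Cl2 H D) {x y z : S} (hx : x ∈ H) (hy : y ∈ H) (hz : z ∈ H) :
    ⁅x * y, z⁆ = ⁅x, z⁆ * ⁅y, z⁆ := by
  rw [comm_mul_left_id, c.conj_eq (c.comm y hy z hz) hx]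
  exact c.central _ (c.comm y hy z hz) _ (c.le (c.comm x hx z hz))

theorem mul_right (c : Cl2 H D) {x y z : S} (hx : x ∈ H) (hy : y ∈ H) (hz : z ∈ H) :
    ⁅x, y * z⁆ = ⁅x, y⁆ * ⁅x, z⁆ := by
  rw [comm_mul_right_id, c.conj_eq (c.comm x hx z hz) hy]

theorem inv_left (c : Cl2 H D) {x z : S} (hx : x ∈ H) (hz : z ∈ H) :
    ⁅x⁻¹, z⁆ = ⁅x, z⁆⁻¹ := by
  rw [comm_inv_left_id, c.conj_eq' (D.inv_mem (c.comm x hx z hz)) hx]

theorem inv_right (c : Cl2 H D) {x z : S} (hx : x ∈ H) (hz : z ∈ H) :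
    ⁅x, z⁻¹⁆ = ⁅x, z⁆⁻¹ := by
  rw [comm_inv_right_id, c.conj_eq' (D.inv_mem (c.comm x hx z hz)) hz]

theorem pow_left (c : Cl2 H D) {x z : S} (hx : x ∈ H) (hz : z ∈ H) (n : ℕ) :
    ⁅x ^ n, z⁆ = ⁅x, z⁆ ^ n := by
  induction n with
  | zero => simp
  | succ n ih => rw [pow_succ, c.mul_left (H.pow_mem hx n) hx hz, ih, pow_succ]

theorem central_left (c : Cl2 H D) {d x z : S} (hd : d ∈ D) (hx : x ∈ H) (hz : z ∈ H) :
    ⁅d * x, z⁆ = ⁅x, z⁆ := by
  rw [c.mul_left (c.le hd) hx hz]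
  have : ⁅d, z⁆ = 1 := by
    rw [commutatorElement_eq_one_iff_mul_comm]
    exact c.central d hd z hz
  rw [this, one_mul]

theorem central_right (c : Cl2 H D) {d x z : S} (hd : d ∈ D) (hx : x ∈ H) (hz : z ∈ H) :
    ⁅x, d * z⁆ = ⁅x, z⁆ := by
  rw [c.mul_right hx (c.le hd) hz]
  have : ⁅x, d⁆ = 1 := by
    rw [commutatorElement_eq_one_iff_mul_comm]
    exact (c.central d hd x hx).symm
  rw [this, one_mul]

/-- swapping: `x * y = ⁅x, y⁆ * (y * x)` always. -/
theorem swap_id (x y : S) : x * y = ⁅x, y⁆ * (y * x) := by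
  simp only [commutatorElement_def]; group

/-- a subgroup between `D` and `H` is normalized by `H`. -/
theorem conj_mem (c : Cl2 H D) {T : Subgroup S} (hDT : D ≤ T) (hTH : T ≤ H) {h t : S}
    (hh : h ∈ H) (ht : t ∈ T) : h * t * h⁻¹ ∈ T := by
  have : h * t * h⁻¹ = ⁅h, t⁆ * t := by simp only [commutatorElement_def]; group
  rw [this]
  exact T.mul_mem (hDT (c.comm h hh t (hTH ht))) ht

/-- triangular numbers -/
def tri : ℕ → ℕ
  | 0 => 0
  | n + 1 => tri n + n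

theorem two_mul_tri (n : ℕ) : 2 * tri n + n = n * n := by
  induction n with
  | zero => rfl
  | succ n ih =>
    simp only [tri]
    nlinarith [ih]

theorem mul_pow_formula (c : Cl2 H D) {x y : S} (hx : x ∈ H) (hy : y ∈ H) (n : ℕ) :
    (x * y) ^ n = x ^ n * y ^ n * ⁅y, x⁆ ^ tri n := by
  induction n with
  | zero => simp [tri]
  | succ n ih =>
    have hc : ⁅y, x⁆ ∈ D := c.comm y hy x hx
    have hcn : ∀ k : ℕ, ⁅y, x⁆ ^ k ∈ D := fun k => D.pow_mem hc k
    have h1 : y ^ n * x = ⁅y, x⁆ ^ n * (x * y ^ n) := by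
      rw [← c.pow_left hy hx n]
      exact swap_id _ _
    calc (x * y) ^ (n + 1) = (x * y) ^ n * (x * y) := pow_succ _ _
      _ = x ^ n * y ^ n * ⁅y, x⁆ ^ tri n * (x * y) := by rw [ih]
      _ = x ^ n * y ^ n * (x * y) * ⁅y, x⁆ ^ tri n := by
        rw [mul_assoc (x ^ n * y ^ n), c.central _ (hcn _) _ (H.mul_mem hx hy), ← mul_assoc]
      _ = x ^ n * (y ^ n * x) * y * ⁅y, x⁆ ^ tri n := by simp only [mul_assoc]
      _ = x ^ n * (⁅y, x⁆ ^ n * (x * y ^ n)) * y * ⁅y, x⁆ ^ tri n := by rw [h1]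
      _ = x ^ n * (x * y ^ n * ⁅y, x⁆ ^ n) * y * ⁅y, x⁆ ^ tri n := by
        rw [c.central _ (hcn n) _ (H.mul_mem hx (H.pow_mem hy n))]
      _ = x ^ n * x * y ^ n * (⁅y, x⁆ ^ n * y) * ⁅y, x⁆ ^ tri n := by simp only [mul_assoc]
      _ = x ^ n * x * y ^ n * (y * ⁅y, x⁆ ^ n) * ⁅y, x⁆ ^ tri n := by
        rw [c.central _ (hcn n) _ hy]
      _ = x ^ (n + 1) * y ^ (n + 1) * ⁅y, x⁆ ^ tri (n + 1) := by
        simp only [tri, pow_succ, pow_add, mul_assoc]
        congr 4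
        exact ((Commute.refl ⁅y, x⁆).pow_pow n (tri n)).eq

end Cl2

/-- Build `Cl2` for a closure: generators commute with `D`, commutators of generators lie in `D`. -/
theorem cl2_closure (X : Set S) (D : Subgroup S) (hDle : D ≤ Subgroup.closure X)
    (hcent : ∀ d ∈ D, ∀ x ∈ X, d * x = x * d)
    (hcomm : ∀ x ∈ X, ∀ y ∈ X, ⁅x, y⁆ ∈ D) : Cl2 (Subgroup.closure X) D := by
  have hc : ∀ d ∈ D, ∀ h ∈ Subgroup.closure X, d * h = h * d := by
    intro d hd h hh
    induction hh using Subgroup.closure_induction with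
    | mem x hx => exact hcent d hd x hx
    | one => simp
    | mul x y _ _ hx hy => rw [← mul_assoc, hx, mul_assoc, hy, mul_assoc]
    | inv x _ hx =>
      have : d * x⁻¹ = x⁻¹ * (x * d) * x⁻¹ := by group
      rw [this, ← hx]; group
  have conj_eq : ∀ d ∈ D, ∀ h ∈ Subgroup.closure X, h * d * h⁻¹ = d := by
    intro d hd h hh
    rw [← hc d hd h hh, mul_inv_cancel_right]
  have conj_eq' : ∀ d ∈ D, ∀ h ∈ Subgroup.closure X, h⁻¹ * d * h = d := by
    intro d hd h hh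
    rw [mul_assoc, hc d hd h hh, inv_mul_cancel_left]
  have step1 : ∀ k ∈ X, ∀ h ∈ Subgroup.closure X, ⁅h, k⁆ ∈ D := by
    intro k hk h hh
    induction hh using Subgroup.closure_induction with
    | mem x hx => exact hcomm x hx k hk
    | one => simp
    | mul x y hx' _ hx hy =>
      rw [comm_mul_left_id, conj_eq _ hy x hx']
      exact D.mul_mem hy hx
    | inv x hx' hx =>
      rw [comm_inv_left_id, conj_eq' _ (D.inv_mem hx) x hx']
      exact D.inv_mem hx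
  refine ⟨hDle, hc, ?_⟩
  intro h hh k hk
  induction hk using Subgroup.closure_induction with
  | mem x hx => exact step1 x hx h hh
  | one => simp
  | mul x y hx' _ hx hy =>
    rw [comm_mul_right_id, conj_eq _ hy x hx']
    exact D.mul_mem hx hy
  | inv x hx' hx =>
    rw [comm_inv_right_id, conj_eq' _ (D.inv_mem hx) x hx']
    exact D.inv_mem hx

end Cfsg.Agent.Lib.Helper16
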