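import Mathlib
import Cfsg.Agent.Lib.Helper16.QdFrattini
import Cfsg.Agent.Lib.Helper16.ZJ2

set_option autoImplicit false

/-!
# `Qd(p)`-free groups are `p`-stable (`p` odd)

The keystone: in a finite group with no section isomorphic to `Qd(p)` (`p` odd), every element
acting quadratically on a normal `p`-subgroup `V` maps into `O_p(G / C_G(V))`.
-/

namespace Cfsg.Agent.Lib.Helper16.QdStable

variable {G : Type*} [Group G] {p : ℕ} [Fact p.Prime]

/-- failure of stability on a normal `p`-subgroup forces a section `Qd(p)` -/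
theorem involves_qd_of_not_isPStableOn [Finite G] (hp : p ≠ 2) (V : Subgroup G) [V.Normal]
    (hV : IsPGroup p V) (h : ¬ Cfsg.IsPStableOn p V) : Cfsg.Involves ↥(Cfsg.qd p) G := by
  unfold Cfsg.IsPStableOn at h
  push Not at h
  obtain ⟨a, hq, ha⟩ := h
  exact QdFrattini.involves_qd_of_quadratic hp V hV a hq ha

/-- **`Qd(p)`-free ⇒ stable on every normal `p`-subgroup.** -/
theorem isPStableOn_of_qd_free [Finite G] (hp : p ≠ 2) (h : ¬ Cfsg.Involves ↥(Cfsg.qd p) G)
    (V : Subgroup G) [V.Normal] (hV : IsPGroup p V) : Cfsg.IsPStableOn p V := by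
  by_contra hcon
  exact h (involves_qd_of_not_isPStableOn hp V hV hcon)

/-- **`Qd(p)`-free ⇒ `StableFor`** (the hypothesis of the ZJ-machinery). -/
theorem stableFor_of_qd_free [Finite G] (hp : p ≠ 2) (h : ¬ Cfsg.Involves ↥(Cfsg.qd p) G)
    (P : Subgroup G) : ZJ.StableFor p P :=
  ZJ.stableFor_of_isPStableOn (fun V _ hV => isPStableOn_of_qd_free hp h V hV) P

end Cfsg.Agent.Lib.Helper16.QdStable
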