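import Mathlib.GroupTheory.Sylow
import Mathlib.GroupTheory.Complement

set_option autoImplicit false

namespace Cfsg.Agent.Lib.Helper16

/-- Maschke-type averaging: a retraction of a finite abelian group `V` onto an `A`-invariant
subgroup `U`, where `|A|` is coprime to `|V|`, can be replaced by an `A`-equivariant one. -/
theorem exists_equivariant_retraction {V A : Type*} [CommGroup V] [Finite V] [Group A] [Fintype A]
    [MulDistribMulAction A V] (hcop : (Fintype.card A).Coprime (Nat.card V)) (U : Subgroup V)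
    (hU : ∀ a : A, ∀ u ∈ U, a • u ∈ U) (π : V →* V) (hπU : ∀ v, π v ∈ U)
    (hπid : ∀ u ∈ U, π u = u) :
    ∃ θ : V →* V, (∀ v, θ v ∈ U) ∧ (∀ u ∈ U, θ u = u) ∧ ∀ (a : A) (v : V), θ (a • v) = a • θ v := by
  classical
  obtain ⟨m, hm⟩ : ∃ m : ℕ, (Fintype.card A * m) % Nat.card V = 1 % Nat.card V := by
    have hpos : 0 < Nat.card V := Nat.card_pos
    rcases Nat.lt_or_ge 1 (Nat.card V) with h1 | h1
    · obtain ⟨m, -, hm⟩ := Nat.exists_mul_mod_eq_one_of_coprime hcop h1
      exact ⟨m, by rw [hm, Nat.mod_eq_of_lt h1]⟩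
    · have : Nat.card V = 1 := by omega
      exact ⟨0, by rw [this, Nat.mod_one, Nat.mod_one]⟩
  have hpow : ∀ v : V, v ^ (Fintype.card A * m) = v := by
    intro v
    rw [← pow_mod_natCard, hm, pow_mod_natCard, pow_one]
  let θ : V →* V :=
    { toFun := fun v => (∏ a : A, a • π (a⁻¹ • v)) ^ m
      map_one' := by simp
      map_mul' := fun x y => by
        simp only [smul_mul', map_mul, Finset.prod_mul_distrib, mul_pow] }
  have hθ : ∀ v, θ v = (∏ a : A, a • π (a⁻¹ • v)) ^ m := fun v => rfl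
  refine ⟨θ, ?_, ?_, ?_⟩
  · intro v
    rw [hθ]
    exact U.pow_mem (U.prod_mem fun a _ => hU a _ (hπU _)) m
  · intro u hu
    rw [hθ]
    have : ∀ a : A, a • π (a⁻¹ • u) = u := by
      intro a
      rw [hπid _ (hU a⁻¹ u hu), smul_inv_smul]
    simp only [this, Finset.prod_const, Finset.card_univ]
    rw [← pow_mul, hpow]
  · intro b v
    rw [hθ, hθ, smul_pow']
    congr 1
    rw [Finset.smul_prod']
    refine Fintype.prod_equiv (Equiv.mulLeft b⁻¹) _ _ (fun a => ?_)
    simp only [Equiv.coe_mulLeft, mul_inv_rev, inv_inv, mul_smul, smul_inv_smul]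

end Cfsg.Agent.Lib.Helper16
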