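import Mathlib
import Cfsg.Prelude.Def_OddOrderLocal

set_option autoImplicit false

/-! # S1416 = BG Lemma 12.4 : shared definitions for the keystones (spec: notes/S1416_keystones.lean.txt) -/

namespace Cfsg.Agent.Lib.Helper16.BG124

open Cfsg

variable {G : Type*} [Group G]

/-- `A₀` is good for `M`: `N_G(A₀) ≤ M` and `M` is the only maximal subgroup over `N_G(A₀)`. -/
def Good (M A₀ : Subgroup G) : Prop :=
  Subgroup.normalizer (A₀ : Set G) ≤ M ∧
    ∀ L : Subgroup G, IsCoatom L → Subgroup.normalizer (A₀ : Set G) ≤ L → L = M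

/-- BG Lemma 12.3, in the shape used by 12.4. -/
def Hyp123 (G : Type*) [Group G] : Prop :=
  ∀ (M H : Subgroup G) (p : ℕ) [Fact p.Prime] (A A₀ : Subgroup G), IsCoatom M → IsCoatom H → H ≠ M →
    A ≤ M → IsElementaryAbelian p A → Nat.card A = p ^ 2 → A₀ ≤ A → Nat.card A₀ = p →
    Subgroup.normalizer (A₀ : Set G) ≤ H →
    (p ∉ sigma M → A ≤ Subgroup.centralizer ((sigmaCore M ⊓ H : Subgroup G) : Set G)) ∧
    (p ∉ alpha M → A ≤ Subgroup.centralizer ((alphaCore M ⊓ H : Subgroup G) : Set G))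

end Cfsg.Agent.Lib.Helper16.BG124
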