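import Mathlib
import Cfsg.Agent.S1350
import Cfsg.Agent.Lib.Helper16.BG124Defs
import Cfsg.Agent.Lib.Helper71.BG11b

set_option autoImplicit false

/-! # S1416 = BG Lemma 12.4, keystone K8 (STEP 5): `C_G(A) ≤ M` when `p ∈ σ(M)`, `M_σ` nilpotent and no point of `A` is good. -/

namespace Cfsg.Agent.Lib.Helper16.BG124

open Cfsg Cfsg.Agent.Lib.Helper55 Cfsg.Agent.Lib.Helper71.BG10 Cfsg.Agent.Lib.Helper71.BG11

variable {G : Type*} [Group G]

/-- `Ω₁(Z(P))` as a subgroup of `G`: the elements of `P` of order dividing `p` commuting with all of `P`. -/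
def omegaCenter (P : Subgroup G) (p : ℕ) : Subgroup G where
  carrier := {x | x ∈ P ∧ (∀ y ∈ P, y * x = x * y) ∧ x ^ p = 1}
  one_mem' := ⟨P.one_mem, fun y _ => by simp, one_pow p⟩
  mul_mem' := by
    rintro a b ⟨ha, hac, hap⟩ ⟨hb, hbc, hbp⟩
    refine ⟨P.mul_mem ha hb, fun y hy => ?_, ?_⟩
    · rw [← mul_assoc, hac y hy, mul_assoc, hbc y hy, mul_assoc]
    · have hcomm : Commute a b := hbc a ha
      rw [hcomm.mul_pow, hap, hbp, one_mul]
  inv_mem' := by
    rintro a ⟨ha, hac, hap⟩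
    refine ⟨P.inv_mem ha, fun y hy => ?_, by rw [inv_pow, hap, inv_one]⟩
    have h := hac y hy
    calc y * a⁻¹ = a⁻¹ * (a * y) * a⁻¹ := by group
      _ = a⁻¹ * (y * a) * a⁻¹ := by rw [h]
      _ = a⁻¹ * y := by group

theorem mem_omegaCenter {P : Subgroup G} {p : ℕ} {x : G} :
    x ∈ omegaCenter P p ↔ x ∈ P ∧ (∀ y ∈ P, y * x = x * y) ∧ x ^ p = 1 := Iff.rfl

theorem conj_mem_omegaCenter {P : Subgroup G} {p : ℕ} {n x : G}
    (hn : n ∈ Subgroup.normalizer (P : Set G)) (hx : x ∈ omegaCenter P p) :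
    n * x * n⁻¹ ∈ omegaCenter P p := by
  obtain ⟨hxP, hxc, hxp⟩ := hx
  refine ⟨(Subgroup.mem_normalizer_iff.mp hn x).mp hxP, fun y hy => ?_, by rw [conj_pow, hxp, mul_one, mul_inv_cancel]⟩
  have hninv : n⁻¹ ∈ Subgroup.normalizer (P : Set G) := Subgroup.inv_mem _ hn
  have hy' : n⁻¹ * y * n⁻¹⁻¹ ∈ P := (Subgroup.mem_normalizer_iff.mp hninv y).mp hy
  rw [inv_inv] at hy'
  have h := hxc _ hy'
  calc y * (n * x * n⁻¹) = n * ((n⁻¹ * y * n) * x) * n⁻¹ := by group
    _ = n * (x * (n⁻¹ * y * n)) * n⁻¹ := by rw [h]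
    _ = n * x * n⁻¹ * y := by group

theorem normalizer_le_normalizer_omegaCenter (P : Subgroup G) (p : ℕ) :
    Subgroup.normalizer (P : Set G) ≤ Subgroup.normalizer (omegaCenter P p : Set G) := by
  intro n hn
  rw [Subgroup.mem_normalizer_iff]
  intro x
  refine ⟨fun hx => conj_mem_omegaCenter hn hx, fun hx => ?_⟩
  have hninv : n⁻¹ ∈ Subgroup.normalizer (P : Set G) := Subgroup.inv_mem _ hn
  have h := conj_mem_omegaCenter hninv hx
  have e : n⁻¹ * (n * x * n⁻¹) * n⁻¹⁻¹ = x := by group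
  rwa [e] at h

theorem omegaCenter_ne_bot [Finite G] {P : Subgroup G} {p : ℕ} [Fact p.Prime] (hP : IsPGroup p P)
    (hP1 : P ≠ ⊥) : omegaCenter P p ≠ ⊥ := by
  haveI : Nontrivial ↥P := (Subgroup.nontrivial_iff_ne_bot P).mpr hP1
  haveI : Nontrivial ↥(Subgroup.center ↥P) := hP.center_nontrivial
  have hc : IsPGroup p ↥(Subgroup.center ↥P) := hP.to_subgroup _
  have hdvd : p ∣ Nat.card ↥(Subgroup.center ↥P) := by
    rcases hc.card_eq_or_dvd with h | h
    · exact absurd h (by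
        have := Finite.one_lt_card (α := ↥(Subgroup.center ↥P))
        omega)
    · exact h
  obtain ⟨z, hz⟩ := exists_prime_orderOf_dvd_card' (G := ↥(Subgroup.center ↥P)) p hdvd
  intro hbot
  have hzmem : ((z : ↥P) : G) ∈ omegaCenter P p := by
    refine ⟨(z : ↥P).2, fun y hy => ?_, ?_⟩
    · have h := Subgroup.mem_center_iff.mp z.2 ⟨y, hy⟩
      have := congrArg (Subtype.val : ↥P → G) h
      simpa using this
    · have h : z ^ p = 1 := by rw [← hz]; exact pow_orderOf_eq_one z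
      have h2 := congrArg (fun w : ↥(Subgroup.center ↥P) => ((w : ↥P) : G)) h
      simpa using h2
  rw [hbot, Subgroup.mem_bot] at hzmem
  have hz1 : z = 1 := by
    apply Subtype.ext; apply Subtype.ext; simpa using hzmem
  rw [hz1, orderOf_one] at hz
  exact (Fact.out : p.Prime).one_lt.ne hz

variable [Finite G] {M A : Subgroup G} {p : ℕ} [Fact p.Prime]

/-- K8 (STEP 5 of BG 12.4). -/
theorem cent_le_of_sigma (hG : IsMinSimpleOddOrder G) (hM : IsCoatom M) (hAM : A ≤ M)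
    (hAe : IsElementaryAbelian p A) (hA2 : Nat.card A = p ^ 2)
    (hmax : ∀ x ∈ Subgroup.centralizer (A : Set G), x ^ p = 1 ↔ x ∈ A)
    (hσ : p ∈ sigma M) (hnil : Group.IsNilpotent ↥(sigmaCore M))
    (hng : ∀ A₀ : Subgroup G, A₀ ≤ A → Nat.card A₀ = p → ¬ Good M A₀) :
    Subgroup.centralizer (A : Set G) ≤ M := by
  have hp : p.Prime := Fact.out
  have hHall := (Cfsg.Agent.S1350.result hG M hM).1
  have hMS : M ≤ Subgroup.normalizer (sigmaCore M : Set G) := le_normalizer_sigmaCore M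
  have hApg : IsPGroup p A := IsPGroup.of_card hA2
  have hAS : A ≤ sigmaCore M := by
    refine le_of_isPiHallOf_normal hHall hMS hAM (fun r hr hrd => ?_)
    rw [hA2] at hrd
    have : r = p := (Nat.prime_dvd_prime_iff_eq hr hp).mp (hr.dvd_of_dvd_pow hrd)
    rw [this]; exact hσ
  obtain ⟨P, hP, hAP⟩ := exists_isSylowIn_ge (p := p) hAS hApg
  have hMP : M ≤ Subgroup.normalizer (P : Set G) := sylow_normal_of_nilpotent hnil hP hMS
  have hA1 : A ≠ ⊥ := by
    intro h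
    rw [h, Subgroup.card_bot] at hA2
    have : 1 < p ^ 2 := Nat.one_lt_pow two_ne_zero hp.one_lt
    omega
  have hP1 : P ≠ ⊥ := fun h => hA1 (le_bot_iff.mp (h ▸ hAP))
  have hZA : omegaCenter P p ≤ A := by
    rintro x ⟨hxP, hxc, hxp⟩
    refine (hmax x ?_).mp hxp
    rw [Subgroup.mem_centralizer_iff]
    intro a ha
    exact hxc a (hAP ha)
  have hZ1 : omegaCenter P p ≠ ⊥ := omegaCenter_ne_bot hP.2.1 hP1
  have hMZ : M ≤ Subgroup.normalizer (omegaCenter P p : Set G) :=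
    hMP.trans (normalizer_le_normalizer_omegaCenter P p)
  have hNZ : Subgroup.normalizer (omegaCenter P p : Set G) = M :=
    ms_normalizer_eq hG hM hZ1 (hZA.trans hAM) hMZ
  have hdvd : Nat.card ↥(omegaCenter P p) ∣ p ^ 2 := hA2 ▸ Subgroup.card_dvd_of_le hZA
  obtain ⟨k, hk, hkc⟩ := (Nat.dvd_prime_pow hp).mp hdvd
  interval_cases k
  · exfalso
    apply hZ1
    rw [pow_zero] at hkc
    exact Subgroup.card_eq_one.mp hkc
  · exfalso
    rw [pow_one] at hkc
    refine hng _ hZA hkc ⟨hNZ.le, fun L hL hNL => ?_⟩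
    rw [hNZ] at hNL
    rcases hM.le_iff.mp hNL with h | h
    · exact absurd h hL.1
    · exact h
  · have hZeq : omegaCenter P p = A := by
      apply Subgroup.eq_of_le_of_card_ge hZA
      rw [hkc, hA2]
    rw [hZeq] at hNZ
    exact (Subgroup.centralizer_le_normalizer _).trans hNZ.le

end Cfsg.Agent.Lib.Helper16.BG124
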