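import Mathlib
import Cfsg.Agent.S1350
import Cfsg.Agent.Lib.Helper16.BG124Defs
import Cfsg.Agent.Lib.Helper16.BG124K8
import Cfsg.Agent.Lib.Helper04.BG124K1
import Cfsg.Agent.Lib.Helper04.BG124K6
import Cfsg.Agent.Lib.Helper53.BG124K2
import Cfsg.Agent.Lib.Helper80.BG124K3
import Cfsg.Agent.Lib.Helper70.BG124K4
import Cfsg.Agent.Lib.Helper79.BG124K7a
import Cfsg.Agent.Lib.Helper02.BG124T
import Cfsg.Agent.Lib.Helper83.BG11e

set_option autoImplicit false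

/-! # S1416 = BG Lemma 12.4 : the glue (from BG 12.3 = `Hyp123 G` and the keystones K1-K8;
STEP 4 uses helper2's `mem_sigma_of_centralizes`). `hK5` is keystone K5 (STEP 2), passed as a hypothesis. -/

namespace Cfsg.Agent.Lib.Helper16.BG124

open Cfsg Cfsg.Agent.Lib.Helper55 Cfsg.Agent.Lib.Helper71.BG10 Cfsg.Agent.Lib.Helper71.BG11

variable {G : Type*} [Group G] [Finite G]

/-- the statement of keystone K5 (`M_α = 1`) -/
def HypK5 (G : Type*) [Group G] : Prop :=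
  ∀ (M A : Subgroup G) (p : ℕ) [Fact p.Prime], IsCoatom M → A ≤ M →
    IsElementaryAbelian p A → Nat.card A = p ^ 2 → p ∉ alpha M →
    (∀ A₀ : Subgroup G, A₀ ≤ A → Nat.card A₀ = p → ∃ H : Subgroup G, IsCoatom H ∧ H ≠ M ∧
      Subgroup.normalizer (A₀ : Set G) ≤ H ∧
      A ≤ Subgroup.centralizer ((alphaCore M ⊓ H : Subgroup G) : Set G)) →
    alphaCore M = ⊥

/-- STEP 4: `p ∈ σ(M)` (via helper2's transfer lemma). -/
theorem mem_sigma_step (hG : IsMinSimpleOddOrder G) {M A : Subgroup G} {p : ℕ} [Fact p.Prime]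
    (hM : IsCoatom M) (hAM : A ≤ M) (hAe : IsElementaryAbelian p A) (hA2 : Nat.card A = p ^ 2)
    (hmax : ∀ x ∈ Subgroup.centralizer (A : Set G), x ^ p = 1 ↔ x ∈ A)
    (hσ : p ∉ sigma M) (hnilM' : Group.IsNilpotent ↥⁅M, M⁆)
    (hnilσ : Group.IsNilpotent ↥(sigmaCore M))
    (hcent : A ≤ Subgroup.centralizer ((sigmaCore M : Subgroup G) : Set G)) : False := by
  have hp : p.Prime := Fact.out
  have hA1 : A ≠ ⊥ := by
    intro h
    rw [h, Subgroup.card_bot] at hA2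
    have : 1 < p ^ 2 := Nat.one_lt_pow two_ne_zero hp.one_lt
    omega
  have hM1 : M ≠ ⊥ := fun h => hA1 (le_bot_iff.mp (h ▸ hAM))
  have hS1 : sigmaCore M ≠ ⊥ := Cfsg.Agent.Lib.Helper83.BG11.sigmaCore_ne_bot hG hM hM1
  have hSc : Nat.card ↥(sigmaCore M) ≠ 1 := fun h => hS1 (Subgroup.card_eq_one.mp h)
  obtain ⟨q, hqp, hqS⟩ := Nat.exists_prime_and_dvd hSc
  haveI : Fact q.Prime := ⟨hqp⟩
  have hqσ : q ∈ sigma M := sigmaCore_pi hG hM hqp hqS
  have hqne : q ≠ p := fun h => hσ (h ▸ hqσ)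
  obtain ⟨Q, hQ, -⟩ := exists_isSylowIn_ge (p := q) (K := sigmaCore M) (Z := ⊥) bot_le
    IsPGroup.of_bot
  have hMS : M ≤ Subgroup.normalizer (sigmaCore M : Set G) := le_normalizer_sigmaCore M
  have hMQ : M ≤ Subgroup.normalizer (Q : Set G) := sylow_normal_of_nilpotent hnilσ hQ hMS
  have hQidx : ¬ q ∣ Q.index := not_dvd_index_of_isSylowIn hQ (sigmaCore_index hG hM hqσ)
  have hQ1 : Q ≠ ⊥ := by
    intro h
    apply hQidx
    rw [h, Subgroup.index_bot]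
    exact hqS.trans (Subgroup.card_subgroup_dvd_card _)
  have hQA : Q ≤ Subgroup.centralizer (A : Set G) := by
    intro x hx
    rw [Subgroup.mem_centralizer_iff]
    intro a ha
    have h := Subgroup.mem_centralizer_iff.mp (hcent ha) x (hQ.1 hx)
    exact h.symm
  have hAmax : ∀ B : Subgroup G, IsElementaryAbelian p B → A ≤ B → B = A := by
    intro B hB hAB
    refine le_antisymm (fun b hb => ?_) hAB
    refine (hmax b ?_).mp (hB.2 b hb)
    rw [Subgroup.mem_centralizer_iff]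
    intro a ha
    have hc := hB.1
    have := hc.is_comm.comm (⟨a, hAB ha⟩ : B) ⟨b, hb⟩
    exact congrArg Subtype.val this
  exact hσ (Cfsg.Agent.Lib.Helper02.BG124.mem_sigma_of_centralizes hG M hM p A hAM hAe hA2 hAmax
    hnilM' q hqne Q hQ.2.1 hQidx hQ1 hMQ hQA)

/-- GLUE: S1416 from BG 12.3 and K5. -/
theorem s1416_of_hyp123 (hG : IsMinSimpleOddOrder G) (h123 : Hyp123 G) (hK5 : HypK5 G)
    (M : Subgroup G) (hM : IsCoatom M) (p : ℕ) [Fact p.Prime] (A : Subgroup G)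
    (hA : (A ≤ M ∧ Cfsg.IsElementaryAbelian p A ∧ Nat.card A = p ^ 2)) :
    Subgroup.centralizer (A : Set G) ≤ M ∧
      ((∀ A₀ : Subgroup G, A₀ ≤ A → Nat.card A₀ = p →
          ¬ (Subgroup.normalizer (A₀ : Set G) ≤ M ∧ ∀ L : Subgroup G, IsCoatom L → Subgroup.normalizer (A₀ : Set G) ≤ L → L = M)) →
        p ∈ Cfsg.sigma M ∧ Cfsg.alphaCore M = ⊥ ∧ Group.IsNilpotent (Cfsg.sigmaCore M)) := by
  obtain ⟨hAM, hAe, hA2⟩ := hA
  have hp : p.Prime := Fact.out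
  have hexA0 : ∃ A₀ : Subgroup G, A₀ ≤ A ∧ Nat.card A₀ = p := by
    have hdvd : p ∣ Nat.card A := by rw [hA2]; exact dvd_pow_self p two_ne_zero
    obtain ⟨x, hx⟩ := exists_prime_orderOf_dvd_card' (G := A) p hdvd
    refine ⟨(Subgroup.zpowers x).map A.subtype, Subgroup.map_subtype_le _, ?_⟩
    rw [Subgroup.card_map_of_injective A.subtype_injective, Nat.card_zpowers, hx]
  by_cases h3 : PRankLE p 2 ↥(Subgroup.centralizer (A : Set G))
  swap
  · obtain ⟨hc, hgood⟩ := Cfsg.Agent.Lib.Helper53.BG124.good_of_rank3 hG hM hAM hAe hA2 h3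
    refine ⟨hc, fun hng => ?_⟩
    exfalso
    obtain ⟨A₀, h1, h2⟩ := hexA0
    exact hng A₀ h1 h2 (hgood A₀ h1 h2)
  · have hmax := Cfsg.Agent.Lib.Helper80.BG124.mem_iff_of_rank2 hAe hA2 h3
    have key : (∀ A₀ : Subgroup G, A₀ ≤ A → Nat.card A₀ = p → ¬ Good M A₀) →
        (p ∈ sigma M ∧ alphaCore M = ⊥ ∧ Group.IsNilpotent (sigmaCore M)) := by
      intro hng
      have hex := Cfsg.Agent.Lib.Helper04.BG124.exists_coatom_ne hG hM hng
      have hα : p ∉ alpha M := fun hα => by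
        obtain ⟨A₀, h1, h2, h3'⟩ :=
          Cfsg.Agent.Lib.Helper70.BG124.exists_good_of_alpha hG hM hAM hAe hA2 h3 hα
        exact hng A₀ h1 h2 h3'
      have hαbot : alphaCore M = ⊥ := hK5 M A p hM hAM hAe hA2 hα (fun A₀ h1 h2 => by
        obtain ⟨H, hH, hne, hN⟩ := hex A₀ h1 h2
        exact ⟨H, hH, hne, hN, (h123 M H p A A₀ hM hH hne hAM hAe hA2 h1 h2 hN).2 hα⟩)
      obtain ⟨hnilM', _, hnilσ⟩ :=
        Cfsg.Agent.Lib.Helper04.BG124.nilpotent_of_alphaCore_eq_bot hG hM hαbot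
      refine ⟨?_, hαbot, hnilσ⟩
      by_contra hσ
      have hcent := Cfsg.Agent.Lib.Helper79.BG124.le_centralizer_sigmaCore hG hM hAM hAe hA2 hσ
        (fun A₀ h1 h2 => by
          obtain ⟨H, hH, hne, hN⟩ := hex A₀ h1 h2
          exact ⟨H, hH, hne, hN, (h123 M H p A A₀ hM hH hne hAM hAe hA2 h1 h2 hN).1 hσ⟩)
      exact mem_sigma_step hG hM hAM hAe hA2 hmax hσ hnilM' hnilσ hcent
    have hconv : (∀ A₀ : Subgroup G, A₀ ≤ A → Nat.card A₀ = p →
          ¬ (Subgroup.normalizer (A₀ : Set G) ≤ M ∧ ∀ L : Subgroup G, IsCoatom L → Subgroup.normalizer (A₀ : Set G) ≤ L → L = M)) →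
        (∀ A₀ : Subgroup G, A₀ ≤ A → Nat.card A₀ = p → ¬ Good M A₀) := fun h A₀ h1 h2 => h A₀ h1 h2
    refine ⟨?_, fun hng => key (hconv hng)⟩
    by_cases hg : ∃ A₀ : Subgroup G, A₀ ≤ A ∧ Nat.card A₀ = p ∧ Good M A₀
    · obtain ⟨A₀, h1, _, hgood⟩ := hg
      exact (Subgroup.centralizer_le (SetLike.coe_subset_coe.mpr h1)).trans
        ((Subgroup.centralizer_le_normalizer _).trans hgood.1)
    · have hng : ∀ A₀ : Subgroup G, A₀ ≤ A → Nat.card A₀ = p → ¬ Good M A₀ :=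
        fun A₀ h1 h2 h3' => hg ⟨A₀, h1, h2, h3'⟩
      obtain ⟨hσ, _, hnilσ⟩ := key hng
      exact cent_le_of_sigma hG hM hAM hAe hA2 hmax hσ hnilσ hng

end Cfsg.Agent.Lib.Helper16.BG124
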