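import Mathlib
import Cfsg.Prelude.Def_OddOrderLocal
import Cfsg.Prelude.Def_OddOrder

set_option autoImplicit false

/-! Bender–Glauberman Lemma 13.4 (S1428): the context shared by the leaves of the D-block. -/

namespace Cfsg.Agent.Lib.Helper16.BG134

open Cfsg

variable {G : Type*} [Group G] [Finite G]

/-- The 13.4 context: hypotheses of S1428, the NEGATED conclusion, and `H ∈ 𝓜(N_G(P))`. -/
structure Ctx (M E P R H : Subgroup G) (p : ℕ) : Prop where
  hG : IsMinSimpleOddOrder G
  hM : IsCoatom M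
  hE : IsComplIn E (sigmaCore M) M
  hp : p ∈ tau1 M
  hPE : P ≤ E
  hP : Nat.card P = p
  hRE : R ≤ E ⊓ Subgroup.centralizer (P : Set G)
  hR : (Nat.card R).Prime
  hne : ¬ sigmaCore M ⊓ Subgroup.centralizer (P : Set G) ≤ Subgroup.centralizer (R : Set G)
  hH : IsCoatom H
  hNP : Subgroup.normalizer (P : Set G) ≤ H

end Cfsg.Agent.Lib.Helper16.BG134
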