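import Mathlib
import Cfsg.Agent.Lib.Helper16.BG134Ctx
import Cfsg.Agent.S1350
import Cfsg.Agent.S1409
import Cfsg.Agent.S1417
import Cfsg.Agent.S1418
import Cfsg.Agent.S1423
import Cfsg.Agent.Lib.Helper01.BGNarrow
import Cfsg.Agent.Lib.Helper31.BG12a
import Cfsg.Agent.Lib.Helper58.BG1217
import Cfsg.Agent.Lib.Helper13.BG12B

set_option autoImplicit false
set_option linter.unusedSectionVars false
set_option linter.unusedVariables false
set_option linter.style.haveILetI false

/-! Bender–Glauberman Lemma 13.4 (S1428), D-block: the elementary facts (D0), `r ∉ σ(H)`. -/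

namespace Cfsg.Agent.Lib.Helper16.BG134

open Cfsg Cfsg.Agent.Lib.Helper55

variable {G : Type*} [Group G] [Finite G] {M E P R H : Subgroup G} {p : ℕ}

theorem hall_sigma (hG : IsMinSimpleOddOrder G) {L : Subgroup G} (hL : IsCoatom L) :
    IsPiHallOf (sigma L) (sigmaCore L) L := (Cfsg.Agent.S1350.result hG L hL).1

theorem hyp17 (hG : IsMinSimpleOddOrder G) {L : Subgroup G} (hL : IsCoatom L) :
    Cfsg.Agent.Lib.Helper13.BG12.Hyp17 L :=
  fun p _ hp A hA => Cfsg.Agent.S1417.result hG L hL p hp A hA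

theorem hyp18 (hG : IsMinSimpleOddOrder G) {L : Subgroup G} (hL : IsCoatom L) :
    Cfsg.Agent.Lib.Helper13.BG12.Hyp18 L :=
  fun E₁ hE₁ p _ hp A hA => Cfsg.Agent.S1418.result hG L hL E₁ hE₁ p hp A hA

theorem hyp23 (hG : IsMinSimpleOddOrder G) {L : Subgroup G} (hL : IsCoatom L) :
    Cfsg.Agent.Lib.Helper58.BG12.Hyp23 L :=
  fun q _ hq Y hYL hYc hY P =>
    (Cfsg.Agent.S1423.result hG L hL q hq Y hYL hYc P (Or.inr hY)).2.1

namespace Ctx

variable (c : Ctx M E P R H p)
include c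

theorem prime : p.Prime := c.hp.1

theorem P_le_M : P ≤ M := c.hPE.trans c.hE.1

theorem R_le_E : R ≤ E := c.hRE.trans inf_le_left

theorem R_le_M : R ≤ M := c.R_le_E.trans c.hE.1

theorem R_le_cent : R ≤ Subgroup.centralizer (P : Set G) := c.hRE.trans inf_le_right

theorem cent_le_H : Subgroup.centralizer (P : Set G) ≤ H :=
  (Subgroup.centralizer_le_normalizer _).trans c.hNP

theorem P_le_H : P ≤ H := Subgroup.le_normalizer.trans c.hNP

theorem R_le_H : R ≤ H := c.R_le_cent.trans c.cent_le_H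

theorem C_le_H : sigmaCore M ⊓ Subgroup.centralizer (P : Set G) ≤ H :=
  inf_le_right.trans c.cent_le_H

theorem C_le_inf : sigmaCore M ⊓ Subgroup.centralizer (P : Set G) ≤ sigmaCore M ⊓ H :=
  le_inf inf_le_left c.C_le_H

theorem p_not_sigma_M : p ∉ sigma M := c.hp.2.1

theorem r_not_sigma_M : Nat.card R ∉ sigma M :=
  Cfsg.Agent.Lib.Helper13.BG12.complIn_prime_not_mem_sigma (hall_sigma c.hG c.hM) c.hE _ c.hR
    (Subgroup.card_dvd_of_le c.R_le_E)

theorem P_isPGroup : IsPGroup p P := by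
  haveI : Fact p.Prime := ⟨c.prime⟩
  exact IsPGroup.of_card (n := 1) (by rw [c.hP, pow_one])

theorem R_isPGroup : IsPGroup (Nat.card R) R := by
  haveI : Fact (Nat.card R).Prime := ⟨c.hR⟩
  exact IsPGroup.of_card (n := 1) (by rw [pow_one])

theorem P_ne_bot : P ≠ ⊥ := by
  intro h
  have := c.hP
  rw [h, Subgroup.card_bot] at this
  exact c.prime.one_lt.ne this

/-- anything in `M ∩ N_G(P)`... here: a subgroup of `M` centralizing `P` normalizes `C_{M_σ}(P)` -/
theorem le_normalizer_C {X : Subgroup G} (hXM : X ≤ M)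
    (hXP : X ≤ Subgroup.normalizer (P : Set G)) :
    X ≤ Subgroup.normalizer
      ((sigmaCore M ⊓ Subgroup.centralizer (P : Set G) : Subgroup G) : Set G) := by
  intro x hx
  have h1 : x ∈ Subgroup.normalizer (sigmaCore M : Set G) :=
    Cfsg.Agent.Lib.Helper71.BG11.le_normalizer_sigmaCore M (hXM hx)
  have h2 : x ∈ Subgroup.normalizer ((Subgroup.centralizer (P : Set G) : Subgroup G) : Set G) := by
    have h3 := hXP hx
    rw [Subgroup.mem_normalizer_iff] at h3 ⊢
    intro y
    constructor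
    · intro hy
      rw [Subgroup.mem_centralizer_iff] at hy ⊢
      intro z hz
      have hz' : x⁻¹ * z * x ∈ P := by
        have := (h3 (x⁻¹ * z * x)).mpr (by simpa [mul_assoc] using hz)
        exact this
      have := hy _ hz'
      calc z * (x * y * x⁻¹) = x * ((x⁻¹ * z * x) * y) * x⁻¹ := by group
        _ = x * (y * (x⁻¹ * z * x)) * x⁻¹ := by rw [this]
        _ = x * y * x⁻¹ * z := by group
    · intro hy
      rw [Subgroup.mem_centralizer_iff] at hy ⊢
      intro z hz
      have hz' : x * z * x⁻¹ ∈ P := (h3 z).mp hz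
      have := hy _ hz'
      calc z * y = x⁻¹ * ((x * z * x⁻¹) * (x * y * x⁻¹)) * x := by group
        _ = x⁻¹ * ((x * y * x⁻¹) * (x * z * x⁻¹)) * x := by rw [this]
        _ = y * z := by group
  rw [Subgroup.mem_normalizer_iff] at h1 h2 ⊢
  intro y
  rw [Subgroup.mem_inf, Subgroup.mem_inf, h1 y, h2 y]

/-- (D0) `H` is not conjugate to `M`. -/
theorem not_conj : ∀ g : G, cj g M ≠ H := by
  intro g hg
  haveI : Fact p.Prime := ⟨c.prime⟩
  by_cases hσ : p ∈ sigma H
  · have h1 := Cfsg.Agent.Lib.Helper31.BG12.mem_sigma_cj hσ g⁻¹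
    rw [← hg, cj_inv_cj] at h1
    exact c.p_not_sigma_M h1
  · have h9 := Cfsg.Agent.S1409.result c.hG H c.hH p hσ P c.hP c.hNP
    apply h9.1.2
    have hM1 : PRankLE p 1 M := c.hp.2.2.2.2
    rw [← hg]
    exact Cfsg.Agent.Lib.Helper01.BGNarrow.pRankLE_of_mulEquiv
      (M.equivMapOfInjective _ (MulAut.conj g).injective) hM1

/-- `r ∉ σ(H)` (Lemma K with `L := H`). -/
theorem r_not_mem_sigma : Nat.card R ∉ sigma H := by
  intro hrσ
  haveI : Fact (Nat.card R).Prime := ⟨c.hR⟩
  exact Cfsg.Agent.Lib.Helper58.BG12.no_sigma_overgroup c.hG c.hM c.r_not_sigma_M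
    (C := sigmaCore M ⊓ Subgroup.centralizer (P : Set G)) (S := R) inf_le_left c.R_isPGroup
    (c.le_normalizer_C c.R_le_M (c.R_le_cent.trans (Subgroup.centralizer_le_normalizer _)))
    c.hne c.hH (hyp23 c.hG c.hH) c.C_le_H c.R_le_H hrσ

end Ctx

end Cfsg.Agent.Lib.Helper16.BG134
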