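import Mathlib
import Cfsg.Agent.Lib.Helper16.BG134Base
import Cfsg.Agent.Lib.Helper13.BG12A

set_option autoImplicit false
set_option linter.unusedSectionVars false
set_option linter.unusedVariables false
set_option linter.style.haveILetI false

/-! Bender–Glauberman Lemma 13.4 (S1428), D-block: assembly `dblock_of` from the leaves
(T), (D2), (D4), (D5), which enter as hypotheses here. -/

namespace Cfsg.Agent.Lib.Helper16.BG134

open Cfsg Cfsg.Agent.Lib.Helper55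
open scoped commutatorElement

variable {G : Type*} [Group G] [Finite G] {M E P R H : Subgroup G} {p : ℕ}

/-- A prime divisor of `|L|` outside `σ(L)` lies in `τ₁(L) ∪ τ₂(L) ∪ τ₃(L)`. -/
theorem mem_tau_cases (hG : IsMinSimpleOddOrder G) {L : Subgroup G} (hL : IsCoatom L) {q : ℕ}
    (hq : q.Prime) (hqL : q ∣ Nat.card L) (hσ : q ∉ sigma L) :
    q ∈ tau1 L ∨ q ∈ tau2 L ∨ q ∈ tau3 L := by
  have h2 : PRankLE q 2 L := by
    by_contra h
    exact hσ (Cfsg.Agent.Lib.Helper13.BG12.mem_sigma_of_not_pRankLE_two hG hL hq h)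
  by_cases h1 : PRankLE q 1 L
  · by_cases hd : q ∣ Nat.card ↥⁅L, L⁆
    · right; right; exact ⟨hq, hσ, hd, h1⟩
    · left; exact ⟨hq, hσ, hqL, hd, h1⟩
  · right; left; exact ⟨hq, hσ, h2, h1⟩

/-- a subgroup of `M ∩ H` normalizes `M_σ ∩ H` -/
theorem le_normalizer_sigmaCore_inf {X : Subgroup G} (M H : Subgroup G) (hXM : X ≤ M)
    (hXH : X ≤ H) :
    X ≤ Subgroup.normalizer ((sigmaCore M ⊓ H : Subgroup G) : Set G) := by
  intro x hx
  have h1 : x ∈ Subgroup.normalizer (sigmaCore M : Set G) :=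
    Cfsg.Agent.Lib.Helper71.BG11.le_normalizer_sigmaCore M (hXM hx)
  have h2 : x ∈ Subgroup.normalizer (H : Set G) := Subgroup.le_normalizer (hXH hx)
  rw [Subgroup.mem_normalizer_iff] at h1 h2 ⊢
  intro y
  rw [Subgroup.mem_inf, Subgroup.mem_inf, h1 y, h2 y]

/-- non-conjugacy is symmetric -/
theorem not_conj_symm {M H : Subgroup G} (hnc : ∀ g : G, cj g M ≠ H) : ∀ g : G, cj g H ≠ M := by
  intro g hg
  apply hnc g⁻¹
  rw [← hg, cj_inv_cj]

namespace Ctx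

variable (c : Ctx M E P R H p)
include c

/-- (D1) `r ∈ τ₁(H)`, from (T). -/
theorem r_mem_tau1
    (hT : ∀ {X : Subgroup G} {s : ℕ} [Fact s.Prime], s ∉ sigma M → s ∉ tau1 H → IsPGroup s X →
      X ≤ M → X ≤ H → sigmaCore M ⊓ H ≤ Subgroup.centralizer (X : Set G)) :
    Nat.card R ∈ tau1 H := by
  by_contra h
  haveI : Fact (Nat.card R).Prime := ⟨c.hR⟩
  exact c.hne (c.C_le_inf.trans (hT c.r_not_sigma_M h c.R_isPGroup c.R_le_M c.R_le_H))

/-- (D3a) `p ∈ σ(H)`, from (D2). -/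
theorem p_mem_sigma (hD2 : p ∉ tau2 H) : p ∈ sigma H := by
  by_contra hσ
  haveI : Fact p.Prime := ⟨c.prime⟩
  have h9 := Cfsg.Agent.S1409.result c.hG H c.hH p hσ P c.hP c.hNP
  exact hD2 ⟨c.prime, hσ, h9.1.1, h9.1.2⟩

/-- (D3b) `M_σ ∩ H = C_{M_σ}(P)` (Lemma K). -/
theorem sigmaCore_inf_eq (hpσ : p ∈ sigma H) :
    sigmaCore M ⊓ H = sigmaCore M ⊓ Subgroup.centralizer (P : Set G) := by
  haveI : Fact p.Prime := ⟨c.prime⟩
  apply le_antisymm _ c.C_le_inf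
  apply le_inf inf_le_left
  by_contra hne
  exact Cfsg.Agent.Lib.Helper58.BG12.no_sigma_overgroup c.hG c.hM c.p_not_sigma_M
    (C := sigmaCore M ⊓ H) (S := P) inf_le_left c.P_isPGroup
    (le_normalizer_sigmaCore_inf M H c.P_le_M c.P_le_H) hne c.hH (hyp23 c.hG c.hH) inf_le_right
    c.P_le_H hpσ

/-- `[C, R] ≤ C` -/
theorem comm_le_C :
    ⁅sigmaCore M ⊓ Subgroup.centralizer (P : Set G), R⁆ ≤
      sigmaCore M ⊓ Subgroup.centralizer (P : Set G) := by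
  have hn := c.le_normalizer_C c.R_le_M (c.R_le_cent.trans (Subgroup.centralizer_le_normalizer _))
  rw [Subgroup.commutator_le]
  intro x hx y hy
  have h1 := (Subgroup.mem_normalizer_iff.mp (hn hy) x⁻¹).mp (Subgroup.inv_mem _ hx)
  have : ⁅x, y⁆ = x * (y * x⁻¹ * y⁻¹) := by rw [commutatorElement_def]; group
  rw [this]
  exact Subgroup.mul_mem _ hx h1

/-- `[C, R] ≤ H'` -/
theorem comm_le_comm :
    ⁅sigmaCore M ⊓ Subgroup.centralizer (P : Set G), R⁆ ≤ ⁅H, H⁆ :=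
  Subgroup.commutator_mono c.C_le_H c.R_le_H

/-- OUTPUT of the D-block, from the leaves. -/
theorem dblock_of
    (hT : ∀ {X : Subgroup G} {s : ℕ} [Fact s.Prime], s ∉ sigma M → s ∉ tau1 H → IsPGroup s X →
      X ≤ M → X ≤ H → sigmaCore M ⊓ H ≤ Subgroup.centralizer (X : Set G))
    (hD2 : (∀ g : G, cj g M ≠ H) → Nat.card R ∉ sigma H → p ∉ tau2 H)
    (hD4 : (∀ g : G, cj g M ≠ H) → p ∈ sigma H →
      sigmaCore M ⊓ H = sigmaCore M ⊓ Subgroup.centralizer (P : Set G) →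
      ∀ q : ℕ, q.Prime → q ∣ Nat.card ↥(sigmaCore M ⊓ Subgroup.centralizer (P : Set G)) →
        q ∉ tau2 H)
    (hD5 : (∀ g : G, cj g M ≠ H) → p ∈ sigma H →
      sigmaCore M ⊓ H = sigmaCore M ⊓ Subgroup.centralizer (P : Set G) →
      (∀ q : ℕ, q.Prime → q ∣ Nat.card ↥(sigmaCore M ⊓ Subgroup.centralizer (P : Set G)) →
        q ∉ tau2 H) → p ∈ beta H) :
    (∀ g : G, cj g M ≠ H) ∧ p ∈ sigma H ∧ p ∈ beta H ∧ Nat.card R ∈ tau1 H ∧
      sigmaCore M ⊓ H = sigmaCore M ⊓ Subgroup.centralizer (P : Set G) ∧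
      ∀ q : ℕ, q.Prime →
        q ∣ Nat.card ↥⁅sigmaCore M ⊓ Subgroup.centralizer (P : Set G), R⁆ →
        q ∈ sigma M ∧ q ∉ alpha H ∧ (q ∈ sigma H ∨ q ∈ tau3 H) := by
  have hnc := c.not_conj
  have hpσ := c.p_mem_sigma (hD2 hnc c.r_not_mem_sigma)
  have hK := c.sigmaCore_inf_eq hpσ
  have h4 := hD4 hnc hpσ hK
  refine ⟨hnc, hpσ, hD5 hnc hpσ hK h4, c.r_mem_tau1 hT, hK, ?_⟩
  intro q hq hqd
  have hqC : q ∣ Nat.card ↥(sigmaCore M ⊓ Subgroup.centralizer (P : Set G)) :=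
    hqd.trans (Subgroup.card_dvd_of_le c.comm_le_C)
  have hqM : q ∈ sigma M :=
    Cfsg.Agent.Lib.Helper71.BG11.sigmaCore_pi c.hG c.hM hq
      (hqC.trans (Subgroup.card_dvd_of_le inf_le_left))
  have hqα : q ∉ alpha H := fun hα =>
    Cfsg.Agent.Lib.Helper31.BG12.alpha_sigma_disjoint c.hG c.hH c.hM (not_conj_symm hnc) hα hqM
  refine ⟨hqM, hqα, ?_⟩
  by_cases hσ : q ∈ sigma H
  · exact Or.inl hσ
  · right
    have hqH : q ∣ Nat.card H := hqC.trans (Subgroup.card_dvd_of_le c.C_le_H)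
    rcases mem_tau_cases c.hG c.hH hq hqH hσ with h1 | h2 | h3
    · exact absurd (hqd.trans (Subgroup.card_dvd_of_le c.comm_le_comm)) h1.2.2.2.1
    · exact absurd h2 (h4 q hq hqC)
    · exact h3

end Ctx

end Cfsg.Agent.Lib.Helper16.BG134
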