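/-
K-TX-10 (keystone 143010, architect helper15, pack S1430/S1431 = BG 14.2): `p ∈ σ(L) - β(L)`, `S ≤ Lσ` a
`p`-subgroup normalized by the complement `EL`: then `⁅EL, EL⁆` centralizes `S`.
-/
import Mathlib
import Cfsg.Agent.Lib.Helper15.BG142Defs
import Cfsg.Agent.Lib.Helper31.BG12a
import Cfsg.Agent.Lib.Helper58.KChar1
import Cfsg.Agent.Lib.Helper13.BG12B
import Cfsg.Agent.S1350
import Cfsg.Agent.S1414
import Cfsg.Agent.S1426

set_option autoImplicit false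

namespace Cfsg.Agent.Lib.Helper16.BG142

open Cfsg Cfsg.Agent.Lib.Helper55 Cfsg.Agent.Lib.Helper31.BG134 Cfsg.Agent.Lib.Helper15.BG139
  Cfsg.Agent.Lib.Helper15.BG142

variable {G : Type*} [Group G] [Finite G]

theorem derived_cent_sylow (hG : IsMinSimpleOddOrder G) {L EL S : Subgroup G} (hL : IsCoatom L)
    (hEL : IsComplIn EL (sigmaCore L) L) {p : ℕ} [Fact p.Prime] (hp : p ∈ sigma L)
    (hpβ : p ∉ beta L) (hS : IsPGroup p S) (hSL : S ≤ sigmaCore L)
    (hES : EL ≤ Subgroup.normalizer (S : Set G)) :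
    ⁅EL, EL⁆ ≤ Subgroup.centralizer (S : Set G) := by
  have hpp : p.Prime := Fact.out
  have h50 := Cfsg.Agent.S1350.result hG L hL
  have hnpc : HasNormalPComplement p ↥⁅L, L⁆ :=
    ((Cfsg.Agent.S1414.result hG L hL).2.2.2.2 p hpp hp.2.1 hpβ).1
  have h26 := (Cfsg.Agent.S1426.result hG L hL EL hEL).2.1
  have hELL : EL ≤ L := hEL.1
  have hσL : sigmaCore L ≤ L := hEL.2.1
  have hder_le : ⁅EL, EL⁆ ≤ ⁅L, L⁆ := Subgroup.commutator_mono hELL hELL
  have hder_EL : ⁅EL, EL⁆ ≤ EL := by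
    rw [Subgroup.commutator_le]
    intro a ha b hb
    exact EL.mul_mem (EL.mul_mem (EL.mul_mem ha hb) (EL.inv_mem ha)) (EL.inv_mem hb)
  have hSLL : S ≤ ⁅L, L⁆ := by
    refine le_trans hSL ?_
    rw [← h26]
    exact Subgroup.commutator_mono hσL hELL
  have hpEL : ¬ p ∣ Nat.card EL := fun h =>
    Cfsg.Agent.Lib.Helper13.BG12.complIn_prime_not_mem_sigma h50.1 hEL p hpp h hp
  intro d hd
  have hdEL : d ∈ EL := hder_EL hd
  have hdo : (orderOf d).Coprime p := by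
    rw [Nat.coprime_comm, Nat.Prime.coprime_iff_not_dvd hpp]
    intro h
    apply hpEL
    have h1 : orderOf (⟨d, hdEL⟩ : EL) = orderOf d := Subgroup.orderOf_mk d hdEL
    exact dvd_trans h (h1 ▸ orderOf_dvd_natCard (⟨d, hdEL⟩ : EL))
  -- work inside the derived subgroup
  have hX : IsPGroup p (S.subgroupOf ⁅L, L⁆) := hS.comap_subtype
  have hdn : (⟨d, hder_le hd⟩ : ↥⁅L, L⁆) ∈
      Subgroup.normalizer ((S.subgroupOf ⁅L, L⁆ : Subgroup ↥⁅L, L⁆) : Set ↥⁅L, L⁆) := by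
    rw [Subgroup.mem_normalizer_iff]
    intro x
    rw [Subgroup.mem_subgroupOf, Subgroup.mem_subgroupOf]
    exact Subgroup.mem_normalizer_iff.mp (hES hdEL) (x : G)
  have hdo' : (orderOf (⟨d, hder_le hd⟩ : ↥⁅L, L⁆)).Coprime p := by
    rw [Subgroup.orderOf_mk]; exact hdo
  have hc := Cfsg.Agent.Lib.Helper58.KChar.centralizes_of_npc hnpc _ hX _ hdn hdo'
  rw [Subgroup.mem_centralizer_iff] at hc ⊢
  intro s hs
  have := hc ⟨s, hSLL hs⟩ (by rw [SetLike.mem_coe, Subgroup.mem_subgroupOf]; exact hs)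
  exact congrArg Subtype.val this

end Cfsg.Agent.Lib.Helper16.BG142
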