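/-
K-R6 (keystone 143026, architect helper15, pack S1430/S1431 = BG 14.2): assembly of the regular case
`κ(M) ⊆ τ₁(M)` into the structure `KS`, relative to the leaves 135310, 135311, 143021-143025.
-/
import Mathlib
import Cfsg.Agent.Lib.Helper15.BG142Defs2
import Cfsg.Agent.Lib.Helper31.BG12a
import Cfsg.Agent.Lib.Helper47.BG139L7
import Cfsg.Agent.Lib.Helper41.BG134Z
import Cfsg.Agent.S1415

set_option autoImplicit false

namespace Cfsg.Agent.Lib.Helper16.BG142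

open Cfsg Cfsg.Agent.Lib.Helper55 Cfsg.Agent.Lib.Helper31.BG134 Cfsg.Agent.Lib.Helper15.BG139
  Cfsg.Agent.Lib.Helper15.BG142

variable {G : Type*} [Group G] [Finite G]

/-- the regular case, relative to the leaves -/
theorem ks_regular_of (hG : IsMinSimpleOddOrder G) (h137 : H137 G) {M K : Subgroup G}
    (hM : IsCoatom M) (hK1 : K ≠ ⊥)
    (hκ : ∀ p : ℕ, p ∈ kappa M → p ∈ tau1 M)
    (hB : ∃ E : Subgroup G, IsComplIn E (sigmaCore M) M ∧ IsPiHallOf (tau1 M) K E ∧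
      (∀ u : ℕ, u ∈ tau1 M → u ∈ kappa M) ∧
      sigmaCore M ⊓ Subgroup.centralizer (K : Set G) ≠ ⊥)
    (hC : ∀ E : Subgroup G, IsComplIn E (sigmaCore M) M → IsPiHallOf (tau1 M) K E →
      (∀ u : ℕ, u ∈ tau1 M → u ∈ kappa M) →
      (∀ (P A : Subgroup G) (p q : ℕ), p ∈ tau1 M → P ≤ E → Nat.card P = p → q ∈ tau2 M →
        A ≤ E → IsElementaryAbelian q A → Nat.card A = q ^ 2 →
        A ⊓ Subgroup.centralizer (P : Set G) ≠ ⊥ →
        sigmaCore M ⊓ Subgroup.centralizer (P : Set G) = ⊥) →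
      ∀ k ∈ K, k ≠ 1 → E ⊓ Subgroup.centralizer ({k} : Set G) = K)
    (hR1 : ∀ E : Subgroup G, IsComplIn E (sigmaCore M) M → IsPiHallOf (tau1 M) K E →
      ∃ U : Subgroup G, U ≤ E ∧ ⁅E, E⁆ ≤ U ∧ U ⊓ K = ⊥ ∧
        (∀ e ∈ E, ∃ u ∈ U, ∃ k ∈ K, e = u * k) ∧
        (∀ q : ℕ, q.Prime → q ∣ Nat.card U → q ∉ tau1 M))
    (hR2 : ∀ E U : Subgroup G, IsComplIn E (sigmaCore M) M → U ≤ E →
      K ≤ Subgroup.normalizer (U : Set G) →
      (∀ k ∈ K, k ≠ 1 → U ⊓ Subgroup.centralizer ({k} : Set G) = ⊥) → IsMulCommutative U)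
    (hR3 : ∀ E U : Subgroup G, IsComplIn E (sigmaCore M) M → IsPiHallOf (tau1 M) K E → U ≤ E →
      U ⊓ K = ⊥ → (∀ e ∈ E, ∃ u ∈ U, ∃ k ∈ K, e = u * k) →
      (∀ q : ℕ, q.Prime → q ∣ Nat.card U → q ∉ tau1 M) →
      (∀ u : ℕ, u ∈ tau1 M → u ∈ kappa M) →
      IsPiHallOf {q | q.Prime ∧ q ∉ kappa M ∧ q ∉ sigma M} U M)
    (hR4 : ∀ (E U : Subgroup G) (k : G), U ≤ E → k ∈ E → IsMulCommutative U →
      k ∈ Subgroup.normalizer (U : Set G) → U ⊓ Subgroup.centralizer ({k} : Set G) = ⊥ →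
      U ≤ ⁅E, E⁆)
    (hR5 : ∀ E U X : Subgroup G, IsComplIn E (sigmaCore M) M → U ≤ E → K ≤ E →
      E ≤ Subgroup.normalizer (U : Set G) → U ⊓ K = ⊥ →
      (∀ e ∈ E, ∃ u ∈ U, ∃ k ∈ K, e = u * k) → IsMulCommutative K →
      (∀ k ∈ K, k ≠ 1 → U ⊓ Subgroup.centralizer ({k} : Set G) = ⊥) → X ≤ K → X ≠ ⊥ →
      M ⊓ Subgroup.normalizer (X : Set G) =
        K ⊔ (sigmaCore M ⊓ Subgroup.centralizer (X : Set G))) :
    ∃ E : Subgroup G, KS M K E := by
  obtain ⟨E, hE, hKH, hκ1, hKs⟩ := hB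
  have hKE : K ≤ E := hKH.1
  have hKcyc : IsCyclic ↥K := (Cfsg.Agent.S1415.result hG M hM E hE).2.1 K hKH
  have hKc : IsMulCommutative ↥K := IsCyclic.isMulCommutative
  have hpa := Cfsg.Agent.Lib.Helper47.BG139.primeAct_eq hG hM hE hKH
  have hCk := hC E hE hKH hκ1 (fun P A p q hp hPE hPc hq hAE hA hAc hne =>
    h137 M E P A p q hM hE hp hPE hPc hq hAE hA hAc hne)
  obtain ⟨U, hUE, hderU, hUK, hfac, hUτ⟩ := hR1 E hE hKH
  -- `U` is normal in `E`
  have hUn : E ≤ Subgroup.normalizer (U : Set G) := by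
    intro e he
    rw [Subgroup.mem_normalizer_iff]
    intro u
    constructor
    · intro hu
      have h1 : e * u * e⁻¹ * u⁻¹ ∈ U :=
        hderU (Subgroup.commutator_mem_commutator he (hUE hu))
      have : e * u * e⁻¹ = e * u * e⁻¹ * u⁻¹ * u := by group
      rw [this]
      exact U.mul_mem h1 hu
    · intro hu
      have he' : e⁻¹ ∈ E := E.inv_mem he
      have h1 : e⁻¹ * (e * u * e⁻¹) * e⁻¹⁻¹ * (e * u * e⁻¹)⁻¹ ∈ U :=
        hderU (Subgroup.commutator_mem_commutator he' (hUE hu))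
      have : u = e⁻¹ * (e * u * e⁻¹) * e⁻¹⁻¹ * (e * u * e⁻¹)⁻¹ * (e * u * e⁻¹) := by group
      rw [this]
      exact U.mul_mem h1 hu
  have hKU : K ≤ Subgroup.normalizer (U : Set G) := le_trans hKE hUn
  -- fixed-point-freeness
  have hfpf : ∀ k ∈ K, k ≠ 1 → U ⊓ Subgroup.centralizer ({k} : Set G) = ⊥ := by
    intro k hk hk1
    rw [eq_bot_iff, ← hUK]
    refine le_inf inf_le_left ?_
    rw [← hCk k hk hk1]
    exact inf_le_inf_right _ hUE
  have hUc := hR2 E U hE hUE hKU hfpf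
  have hUH := hR3 E U hE hKH hUE hUK hfac hUτ hκ1
  -- a nonidentity element of `K`
  obtain ⟨k0, hk0, hk01⟩ : ∃ k0 ∈ K, k0 ≠ 1 := by
    by_contra hcon
    push Not at hcon
    exact hK1 ((Subgroup.eq_bot_iff_forall K).mpr hcon)
  have hUder : U ≤ ⁅E, E⁆ := hR4 E U k0 hUE (hKE hk0) hUc (hKU hk0) (hfpf k0 hk0 hk01)
  -- `C_{Mσ}(X) = K*` for nontrivial `X ≤ K`
  have hCX : ∀ X : Subgroup G, X ≤ K → X ≠ ⊥ →
      sigmaCore M ⊓ Subgroup.centralizer (X : Set G) = KStar M K := by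
    intro X hXK hX1
    apply le_antisymm
    · obtain ⟨x, hx, hx1⟩ : ∃ x ∈ X, x ≠ 1 := by
        by_contra hcon
        push Not at hcon
        exact hX1 ((Subgroup.eq_bot_iff_forall X).mpr hcon)
      show sigmaCore M ⊓ Subgroup.centralizer (X : Set G) ≤
        sigmaCore M ⊓ Subgroup.centralizer (K : Set G)
      rw [← hpa x (hXK hx) hx1]
      refine inf_le_inf_left _ (Subgroup.centralizer_le ?_)
      intro y hy
      rw [Set.mem_singleton_iff] at hy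
      rw [hy]
      exact hx
    · exact inf_le_inf_left _ (Subgroup.centralizer_le hXK)
  have hprime_ne : ∀ X : Subgroup G, (Nat.card X).Prime → X ≠ ⊥ := by
    intro X hX hbot
    rw [hbot, Subgroup.card_bot] at hX
    exact Nat.not_prime_one hX
  refine ⟨E, ?_⟩
  exact
    { hE := hE
      hKE := hKE
      hK1 := hK1
      hfac := fun x hx => by
        obtain ⟨u, hu, k, hk, rfl⟩ := hfac x hx
        exact ⟨u, hUder hu, k, hk, rfl⟩
      hpa := fun k hk hk1 => hpa k hk hk1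
      hKs := hKs
      h13 := fun X hXK hX =>
        Or.inl (hKH.2.1 _ hX (Subgroup.card_dvd_of_le hXK))
      huniq := fun X Y hXK hYK hX hXY =>
        Cfsg.Agent.Lib.Helper41.BG134.z_eq_of_le_cyclic hKcyc hYK hXK hXY
      hN := fun X hXK hX => by
        rw [hR5 E U X hE hUE hKE hUn hUK hfac hKc hfpf hXK (hprime_ne X hX),
          hCX X hXK (hprime_ne X hX)]
      hNK := by
        rw [hR5 E U K hE hUE hKE hUn hUK hfac hKc hfpf le_rfl hK1]
      hU := ⟨U, hUc, hUH, hKU, hfpf⟩ }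

end Cfsg.Agent.Lib.Helper16.BG142
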