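/-
K-R6 (keystone 143026): `ks_regular` relative to the single leaf 143021 (K-R1).
-/
import Mathlib
import Cfsg.Agent.Lib.Helper16.BG142R6a
import Cfsg.Agent.Lib.Helper53.BG142R3
import Cfsg.Agent.Lib.Helper82.BG14B
import Cfsg.Agent.Lib.Helper82.BG142R4
import Cfsg.Agent.Lib.Helper18.BG142R5
import Cfsg.Agent.Lib.Helper80.BG14C
import Cfsg.Agent.Lib.Helper96.BG142R2
import Cfsg.Agent.Lib.Helper71.BG11a

set_option autoImplicit false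

namespace Cfsg.Agent.Lib.Helper16.BG142

open Cfsg Cfsg.Agent.Lib.Helper55 Cfsg.Agent.Lib.Helper31.BG134 Cfsg.Agent.Lib.Helper15.BG139
  Cfsg.Agent.Lib.Helper15.BG142

variable {G : Type*} [Group G] [Finite G]

theorem ks_regular_of_r1 (hG : IsMinSimpleOddOrder G) (h28 : H1428 G) (h137 : H137 G)
    {M K : Subgroup G} (hM : IsCoatom M) (hK : IsPiHallOf (kappa M) K M) (hK1 : K ≠ ⊥)
    (hκ : ∀ p : ℕ, p ∈ kappa M → p ∈ tau1 M)
    (hR1 : ∀ E : Subgroup G, IsComplIn E (sigmaCore M) M → IsPiHallOf (tau1 M) K E →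
      ∃ U : Subgroup G, U ≤ E ∧ ⁅E, E⁆ ≤ U ∧ U ⊓ K = ⊥ ∧
        (∀ e ∈ E, ∃ u ∈ U, ∃ k ∈ K, e = u * k) ∧
        (∀ q : ℕ, q.Prime → q ∣ Nat.card U → q ∉ tau1 M)) :
    ∃ E : Subgroup G, KS M K E := by
  have hMn : M ≤ Subgroup.normalizer (sigmaCore M : Set G) :=
    Cfsg.Agent.Lib.Helper71.BG11.le_normalizer_sigmaCore M
  refine ks_regular_of hG h137 hM hK1 hκ ?_ ?_ hR1 ?_ ?_ ?_ ?_
  · exact Cfsg.Agent.Lib.Helper82.BG14.exists_compl_hall_tau1 hG hM hK hK1 hκ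
      (fun E E₁ hE hE₁ => Cfsg.Agent.Lib.Helper47.BG139.primeAct hG hM h28 hE hE₁)
  · intro E hE hKH hκ1 hT7
    exact Cfsg.Agent.Lib.Helper80.BG14.cent_compl_eq hG hM hE hKH hκ hκ1 hT7
  · intro E U hE hUE hKU hfpf
    exact Cfsg.Agent.Lib.Helper96.BG142.abelian_of_fpf hG hM hE hUE hK1 hKU hfpf
  · intro E U hE hKH hUE hUK hfac hUτ hκ1
    exact Cfsg.Agent.Lib.Helper53.BG142.isPiHallOf_of_fac hG hM hE hKH hUE hUK hfac hUτ hκ hκ1
  · intro E U k hUE hk hUc hkU hfpf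
    exact Cfsg.Agent.Lib.Helper82.BG142.le_commutator_of_fpf hUE hk hUc hkU hfpf
  · intro E U X hE hUE hKE hUn hUK hfac hKc hfpf hXK hX1
    exact Cfsg.Agent.Lib.Helper18.BG142.normalizer_inf_eq_of_fac hE hMn hUE hKE hUn hUK hfac hKc
      hfpf hXK hX1

end Cfsg.Agent.Lib.Helper16.BG142
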