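import Cfsg.Prelude.Def_OddOrderLocal

/-!
# S1376 (= BG Theorem 15.8, Feit-Thompson): shared definitions of the pack

`Conf M N Ns K U x`: the configuration reached after Part 1 of the proof
(notes/S1376_partial_helper16.md): `N = K U N_σ` is of type `P₂` with partner `Ns = N*`,
`x ∈ U` has prime order, `C_G(x) ≤ N`, `C_G(x) ≰ M`, and `M` is the maximal subgroup given by
BG Theorem 15.2 (= S1435) for `N` and the Sylow subgroup of `U` for the prime `orderOf x`.
-/

set_option autoImplicit false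

namespace Cfsg.Agent.Lib.Helper16.BG1376

open Cfsg Subgroup

variable {G : Type*} [Group G]

/-- The configuration of Part 2 of S1376. -/
structure Conf (M N Ns K U : Subgroup G) (x : G) : Prop where
  hM : IsCoatom M
  hN : IsCoatom N
  hNs : IsCoatom Ns
  hKU : IsSigmaDecomposition N K U
  hK1 : K ≠ ⊥
  hU1 : U ≠ ⊥
  hKst : K = sigmaCore Ns ⊓ centralizer ((sigmaCore N ⊓ centralizer (K : Set G) : Subgroup G) : Set G)
  hKstH : IsPiHallOf (kappa Ns) (sigmaCore N ⊓ centralizer (K : Set G)) Ns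
  hxU : x ∈ U
  hx1 : x ≠ 1
  hxp : (orderOf x).Prime
  hxN : centralizer ({x} : Set G) ≤ N
  hxM : ¬ centralizer ({x} : Set G) ≤ M
  hk : kappa M = ∅
  hUM : U ≤ sigmaCore M
  hMN : N ⊓ M = U ⊔ K
  hKF : K ≤ fittingOf (M ⊓ Ns)
  hE : IsComplIn (M ⊓ Ns) (sigmaCore M) M

end Cfsg.Agent.Lib.Helper16.BG1376
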