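import Cfsg.Prelude.Def_OddOrderLocal
import Cfsg.Agent.Lib.Helper11.BG14DDefs

/-!
# Pack K-1363 (architect helper16): S1363 = BG Theorem II(a) (Coq `BGsummaryC (a)`):
for a standard factorisation `M = K U M_σ` with `K ≠ 1`, `U` is abelian and `N_G(U) ≰ M`.
Shared definitions.
-/

set_option autoImplicit false

namespace Cfsg.Agent.Lib.Helper16.BG1363

open Cfsg Subgroup Cfsg.Agent.Lib.Helper11.BG14D

variable {G : Type*} [Group G]

/-- The configuration of the pack: `M = K U M_σ` with `K ≠ 1`, `U ≠ 1`; `R ≤ U` is a Sylow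
`r`-subgroup of `M`; `H` is a maximal subgroup over `N_G(R)`. -/
structure NU (M K U R H : Subgroup G) (r : ℕ) : Prop where
  hM : IsCoatom M
  hKU : IsSigmaDecomposition M K U
  hK1 : K ≠ ⊥
  hU1 : U ≠ ⊥
  hr : r.Prime
  hRU : R ≤ U
  hR1 : R ≠ ⊥
  hRp : IsPGroup r R
  hRsyl : ∀ Q : Subgroup G, Q ≤ M → IsPGroup r Q → R ≤ Q → Q = R
  hH : IsCoatom H
  hNH : normalizer (R : Set G) ≤ H

/-- The facts on the partner `M*` of `(M, K)` used in the pack (all of them follow from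
S1366-S1369). -/
structure PF (M K Ms : Subgroup G) : Prop where
  hMs : IsCoatom Ms
  hKMs : K ≤ sigmaCore Ms
  hCK : centralizer (K : Set G) ≤ Ms
  hCKu : ∀ L : Subgroup G, IsCoatom L → centralizer (K : Set G) ≤ L → L = Ms
  hMMs : M ⊓ Ms = K ⊔ Ks M K
  h69 : ∀ H : Subgroup G, IsCoatom H → (kappa H).Nonempty →
    ∃ g : G, H = M.map (MulAut.conj g).toMonoidHom ∨ H = Ms.map (MulAut.conj g).toMonoidHom

end Cfsg.Agent.Lib.Helper16.BG1363
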