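import Mathlib
import Cfsg.Agent.Lib.Helper16.BG1363Defs
import Cfsg.Agent.Lib.Helper78.BG15KPrime
import Cfsg.Agent.Lib.Helper36.BG14P2K
import Cfsg.Agent.Lib.Helper31.BG15KA
import Cfsg.Agent.Lib.Helper12.CNMaxSub
import Cfsg.Agent.Lib.Helper71.BG11a

/-!
# Pack K-1363, leaf A: the configuration `NU` exists (parallel hand of the architect)
-/

set_option autoImplicit false

namespace Cfsg.Agent.Lib.Helper16.BG1363

open Cfsg Subgroup Cfsg.Agent.Lib.Helper11.BG14D

variable {G : Type*} [Group G] [Finite G]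

theorem exists_nu (hG : IsMinSimpleOddOrder G) {M K U : Subgroup G} (hM : IsCoatom M)
    (hKU : IsSigmaDecomposition M K U) (hK1 : K ≠ ⊥) (hU1 : U ≠ ⊥) :
    ∃ (r : ℕ) (R H : Subgroup G), NU M K U R H r := by
  have hUM : U ≤ M := hKU.compl.1
  have hcU : Nat.card U ≠ 1 := by
    intro h
    exact hU1 (Subgroup.card_eq_one.mp h)
  obtain ⟨r, hr, hrU⟩ := Nat.exists_prime_and_dvd hcU
  haveI : Fact r.Prime := ⟨hr⟩
  obtain ⟨hrσ, hrκ⟩ := Cfsg.Agent.Lib.Helper36.BG14.not_mem_of_dvd_card_U hG hM hKU.hall hKU.compl hr hrU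
  have hcardM : Nat.card K * Nat.card U * Nat.card (sigmaCore M) = Nat.card M := by
    have e1 := Cfsg.Agent.Lib.Helper31.IsComplIn.card_mul
      (Cfsg.Agent.Lib.Helper31.BG15.isComplIn_sup_of_sigmaDecomposition hG hM hKU)
    have e2 := Cfsg.Agent.Lib.Helper31.IsComplIn.card_mul
      (Cfsg.Agent.Lib.Helper31.BG15.isComplIn_kappa_of_sigmaDecomposition hKU)
    rw [← e1, ← e2]
  have hrel : U.relIndex M = Nat.card K * Nat.card (sigmaCore M) := by
    have h2 : Nat.card (U.subgroupOf M) * (U.subgroupOf M).index = Nat.card M :=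
      Subgroup.card_mul_index _
    have h3 : Nat.card (U.subgroupOf M) = Nat.card U :=
      Nat.card_congr (Subgroup.subgroupOfEquivOfLe hUM).toEquiv
    rw [h3, ← hcardM] at h2
    have h4 : 0 < Nat.card U := Nat.card_pos
    have h5 : Nat.card U * (U.subgroupOf M).index
        = Nat.card U * (Nat.card K * Nat.card (sigmaCore M)) := by
      rw [h2]; ring
    exact Nat.eq_of_mul_eq_mul_left h4 h5
  have hnd : ¬ r ∣ U.relIndex M := by
    rw [hrel]
    intro hd
    rcases (Nat.Prime.dvd_mul hr).mp hd with h | h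
    · exact hrκ (hKU.hall.2.1 r hr h)
    · exact hrσ (Cfsg.Agent.Lib.Helper71.BG11.sigmaCore_pi hG hM hr h)
  obtain ⟨S, hS⟩ := Cfsg.Agent.Lib.Helper78.BG15.exists_sylow_map_le (q := r) hUM hnd
  have hrM : r ∣ Nat.card M := hrU.trans (Subgroup.card_dvd_of_le hUM)
  have hS1 : (S : Subgroup M) ≠ ⊥ := Sylow.ne_bot_of_dvd_card S hrM
  have hR1 : (S : Subgroup M).map M.subtype ≠ ⊥ := by
    intro h
    exact hS1 ((Subgroup.map_eq_bot_iff_of_injective _ (Subgroup.subtype_injective M)).mp h)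
  have hRp : IsPGroup r ((S : Subgroup M).map M.subtype) := S.2.map _
  have hRM : (S : Subgroup M).map M.subtype ≤ M := Subgroup.map_subtype_le _
  have hRtop : (S : Subgroup M).map M.subtype ≠ ⊤ := by
    intro h
    exact hM.1 (top_le_iff.mp (h ▸ hRM))
  have hsyl : ∀ Q : Subgroup G, Q ≤ M → IsPGroup r Q → (S : Subgroup M).map M.subtype ≤ Q →
      Q = (S : Subgroup M).map M.subtype := by
    intro Q hQM hQp hRQ
    have h1 : IsPGroup r (Q.subgroupOf M) :=
      hQp.comap_of_injective _ (Subgroup.subtype_injective M)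
    have h2 : (S : Subgroup M) ≤ Q.subgroupOf M := by
      intro x hx
      rw [Subgroup.mem_subgroupOf]
      exact hRQ (Subgroup.mem_map_of_mem _ hx)
    have h3 : Q.subgroupOf M = (S : Subgroup M) := S.is_maximal' h1 h2
    rw [← h3, Subgroup.subgroupOf_map_subtype, inf_eq_left.mpr hQM]
  obtain ⟨H, hH, hNH⟩ := Cfsg.Agent.Lib.Helper12.CNMaxSub.exists_coatom_normalizer_le hG hR1 hRtop
  exact ⟨r, (S : Subgroup M).map M.subtype, H,
    { hM := hM, hKU := hKU, hK1 := hK1, hU1 := hU1, hr := hr, hRU := hS, hR1 := hR1, hRp := hRp,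
      hRsyl := hsyl, hH := hH, hNH := hNH }⟩

end Cfsg.Agent.Lib.Helper16.BG1363
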