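import Mathlib
import Cfsg.Agent.Lib.Helper16.BG1363Defs
import Cfsg.Agent.Lib.Helper55.Basic
import Cfsg.Agent.Lib.Helper55.Uniq2
import Cfsg.Agent.Lib.Helper90.BG14DW1
import Cfsg.Agent.Lib.Helper03.FrobSub
import Cfsg.Agent.Lib.Helper71.BG11a
import Cfsg.Agent.S1430

set_option autoImplicit false

namespace Cfsg.Agent.Lib.Helper16.BG1363

open Cfsg Subgroup Cfsg.Agent.Lib.Helper55 Cfsg.Agent.Lib.Helper11.BG14D

variable {G : Type*} [Group G] [Finite G]

/-- KEYSTONE 136305  K-1363-E. -/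
theorem NU.cent_of_coprime (hG : IsMinSimpleOddOrder G) {M K U R H : Subgroup G} {r : ℕ} (c : NU M K U R H r)
    (hp : (Nat.card K).Prime) (hUKH : U ⊔ K ≤ H) (hpH : Nat.card K ∉ sigma H)
    (hfpf : sigmaCore H ⊓ centralizer (K : Set G) = ⊥) :
    ∀ u ∈ U, (orderOf u).Coprime (Nat.card (sigmaCore H)) → u ∈ centralizer (sigmaCore H : Set G) := by
  classical
  have h30 : H1430 G := fun M hM K hK hK1 => Cfsg.Agent.S1430.result hG M hM K hK hK1
  obtain ⟨hab, hfree⟩ := Cfsg.Agent.Lib.Helper90.BG14D.free_action hG h30 M c.hM K U c.hKU c.hK1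
  have hcommU : ∀ a ∈ U, ∀ b ∈ U, a * b = b * a := by
    intro a ha b hb
    have := hab.is_comm.comm (⟨a, ha⟩ : U) ⟨b, hb⟩
    exact congrArg Subtype.val this
  set n := Nat.card (sigmaCore H) with hn
  -- the subgroup `U₀`
  let U0 : Subgroup G :=
    { carrier := {u | u ∈ U ∧ (orderOf u).Coprime n}
      one_mem' := ⟨U.one_mem, by simp⟩
      mul_mem' := by
        rintro a b ⟨ha, hca⟩ ⟨hb, hcb⟩
        refine ⟨U.mul_mem ha hb, ?_⟩
        have hd : orderOf (a * b) ∣ orderOf a * orderOf b :=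
          Commute.orderOf_mul_dvd_mul_orderOf (hcommU a ha b hb)
        exact Nat.Coprime.coprime_dvd_left hd (Nat.Coprime.mul_left hca hcb)
      inv_mem' := by
        rintro a ⟨ha, hca⟩
        exact ⟨U.inv_mem ha, by rwa [orderOf_inv]⟩ }
  have hU0U : U0 ≤ U := fun u hu => hu.1
  have hmemU0 : ∀ u, u ∈ U0 ↔ u ∈ U ∧ (orderOf u).Coprime n := fun u => Iff.rfl
  have hKU' : K ≤ normalizer (U : Set G) := c.hKU.normal
  have hKM : K ≤ M := c.hKU.hall.1
  -- `K` normalizes `U₀`
  have hUn : ∀ e ∈ K, ∀ u ∈ U0, e * u * e⁻¹ ∈ U0 := by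
    intro e he u hu
    refine ⟨?_, ?_⟩
    · have := (Subgroup.mem_normalizer_iff.mp (hKU' he) u).mp hu.1
      exact this
    · have h1 : orderOf (e * u * e⁻¹) = orderOf u := by
        have := orderOf_injective (MulAut.conj e).toMonoidHom (MulAut.conj e).injective u
        simpa [MulAut.conj_apply] using this
      rw [h1]; exact hu.2
  have hfpf' : ∀ e ∈ K, e ≠ 1 → ∀ u ∈ U0, e * u = u * e → u = 1 := by
    intro e he he1 u hu hcomm
    have h1 : u ∈ U ⊓ centralizer ({e} : Set G) := by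
      refine ⟨hu.1, ?_⟩
      show u ∈ centralizer ({e} : Set G)
      rw [Subgroup.mem_centralizer_iff]
      intro g hg
      rw [Set.mem_singleton_iff] at hg
      subst hg
      exact hcomm
    rw [hfree e he he1] at h1
    exact Subgroup.mem_bot.mp h1
  -- `U₀` is abelian, hence nilpotent
  have hnil : Group.IsNilpotent U0 := by
    have hc : ∀ a b : U0, a * b = b * a := by
      intro a b
      apply Subtype.ext
      exact hcommU a (hU0U a.2) b (hU0U b.2)
    letI : CommGroup U0 := { (inferInstance : Group U0) with mul_comm := hc }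
    exact CommGroup.isNilpotent
  have hHne : H ≠ ⊤ := c.hH.1
  have hσH : sigmaCore H ≤ H := Cfsg.Agent.Lib.Helper71.BG11.sigmaCore_le H
  have hHnσ : H ≤ normalizer (sigmaCore H : Set G) :=
    Cfsg.Agent.Lib.Helper71.BG11.le_normalizer_sigmaCore H
  have hU0KH : U0 ⊔ K ≤ H := (sup_le_sup_right hU0U K).trans hUKH
  have hHn : ∀ x ∈ U0 ⊔ K, ∀ h ∈ sigmaCore H, x * h * x⁻¹ ∈ sigmaCore H := by
    intro x hx h hh
    exact (Subgroup.mem_normalizer_iff.mp (hHnσ (hU0KH hx)) h).mp hh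
  have hsolvH : Group.IsSolvable H := ms_solvable hG hHne
  have hsolv : Group.IsSolvable (sigmaCore H) :=
    Group.isSolvable_of_isSolvable_injective (f := Subgroup.inclusion hσH) (Subgroup.inclusion_injective hσH)
  -- coprimality
  have hUK : U ⊓ K = ⊥ := by
    have h1 : U ⊓ (K ⊔ sigmaCore M) = ⊥ := c.hKU.compl.2.2.1
    exact le_bot_iff.mp (h1 ▸ inf_le_inf_left U le_sup_left)
  have hU0K : U0 ⊓ K = ⊥ := le_bot_iff.mp (hUK ▸ inf_le_inf_right K hU0U)
  have hKnU0 : K ≤ normalizer (U0 : Set G) := by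
    intro e he
    rw [Subgroup.mem_normalizer_iff]
    intro u
    constructor
    · exact hUn e he u
    · intro h
      have := hUn e⁻¹ (K.inv_mem he) _ h
      simpa [mul_assoc] using this
  have hcard : Nat.card ↥(U0 ⊔ K) = Nat.card U0 * Nat.card K :=
    Cfsg.Agent.Lib.Helper90.BG14D.card_sup_of_le_normalizer hKnU0 hU0K
  have hcop1 : n.Coprime (Nat.card U0) := by
    rw [Nat.coprime_comm]
    apply Nat.Coprime.symm
    apply Nat.coprime_of_dvd
    intro s hs hsn hsU
    haveI : Fact s.Prime := ⟨hs⟩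
    obtain ⟨u, hu⟩ := exists_prime_orderOf_dvd_card' (G := U0) s hsU
    have hu' : orderOf (u : G) = s := by rw [Subgroup.orderOf_coe]; exact hu
    have hc := u.2.2
    rw [hu'] at hc
    have h1 : s ∣ Nat.gcd s n := Nat.dvd_gcd dvd_rfl hsn
    rw [Nat.Coprime] at hc
    rw [hc] at h1
    exact hs.one_lt.ne' (Nat.dvd_one.mp h1)
  have hcop2 : n.Coprime (Nat.card K) := by
    rw [Nat.coprime_comm]
    rw [Nat.Prime.coprime_iff_not_dvd hp]
    intro hd
    exact hpH (Cfsg.Agent.Lib.Helper71.BG11.sigmaCore_pi hG c.hH hp hd)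
  have hcop : Nat.Coprime (Nat.card (sigmaCore H)) (Nat.card ↥(U0 ⊔ K)) := by
    rw [hcard]; exact Nat.Coprime.mul_right hcop1 hcop2
  have hW := Cfsg.Agent.Lib.Helper03.FrobSub.wielandt_sub U0 K (sigmaCore H) hUn hfpf' hnil hHn hsolv hcop
  have hd1 : Nat.card ↥(sigmaCore H ⊓ centralizer (K : Set G)) = 1 := by
    rw [hfpf]; exact Subgroup.card_bot
  have hc1 : Nat.card ↥(sigmaCore H ⊓ centralizer ((U0 ⊔ K : Subgroup G) : Set G)) = 1 := by
    have hle : sigmaCore H ⊓ centralizer ((U0 ⊔ K : Subgroup G) : Set G) ≤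
        sigmaCore H ⊓ centralizer (K : Set G) :=
      inf_le_inf_left _ (Subgroup.centralizer_le (by
        intro x hx; exact (le_sup_right : K ≤ U0 ⊔ K) hx))
    rw [hfpf] at hle
    rw [le_bot_iff.mp hle]; exact Subgroup.card_bot
  rw [hd1, hc1, one_pow, one_mul, one_mul] at hW
  have heq : sigmaCore H ⊓ centralizer (U0 : Set G) = sigmaCore H :=
    Subgroup.eq_of_le_of_card_ge inf_le_left (le_of_eq hW)
  have hle : sigmaCore H ≤ centralizer (U0 : Set G) := by
    rw [← heq]; exact inf_le_right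
  intro u hu hcu
  rw [Subgroup.mem_centralizer_iff]
  intro h hh
  have h1 := hle hh
  rw [Subgroup.mem_centralizer_iff] at h1
  exact (h1 u ⟨hu, hcu⟩).symm

end Cfsg.Agent.Lib.Helper16.BG1363
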