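import Mathlib
import Cfsg.Agent.Lib.Helper16.BG1363Defs
import Cfsg.Agent.Lib.Helper16.BG1363E
import Cfsg.Agent.Lib.Helper57.BG1363C
import Cfsg.Agent.Lib.Helper36.BG1363D
import Cfsg.Agent.Lib.Helper36.BG1363F
import Cfsg.Agent.Lib.Helper75.BG1363G
import Cfsg.Agent.Lib.Helper64.BG1363H
import Cfsg.Agent.Lib.Helper36.BG1363I

/-!
# Pack K-1363: the glue of S1363 (leaves A and B enter as hypotheses, leaves C - I are cited)
-/

set_option autoImplicit false

namespace Cfsg.Agent.Lib.Helper16.BG1363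

open Cfsg Subgroup Cfsg.Agent.Lib.Helper11.BG14D

variable {G : Type*} [Group G] [Finite G]

/-- The glue of pack K-1363, with leaves A (`hA`) and B (`hB`) as hypotheses. -/
theorem s1363_glue (hG : IsMinSimpleOddOrder G) (M : Subgroup G) (hM : IsCoatom M) (K U : Subgroup G)
    (hKU : IsSigmaDecomposition M K U) (hK1 : K ≠ ⊥)
    (hab : IsMulCommutative U) (hpr : U ≠ ⊥ → (Nat.card K).Prime)
    (hpf : (Nat.card K).Prime → ∃ Ms : Subgroup G, PF M K Ms)
    (hA : U ≠ ⊥ → ∃ (r : ℕ) (R H : Subgroup G), NU M K U R H r)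
    (hB : ∀ {R H : Subgroup G} {r : ℕ}, NU M K U R H r →
      r ∉ sigma M ∧ U ⊔ K ≤ H ∧ ∀ g : G, H ≠ M.map (MulAut.conj g).toMonoidHom) :
    IsMulCommutative U ∧ ¬ normalizer (U : Set G) ≤ M := by
  refine ⟨hab, ?_⟩
  by_cases hU1 : U = ⊥
  · subst hU1
    intro h
    have : (⊤ : Subgroup G) ≤ M := by
      refine le_trans ?_ h
      intro x _
      rw [Subgroup.mem_normalizer_iff]
      intro y
      simp only [Subgroup.mem_bot]
      constructor
      · rintro rfl; group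
      · intro h1
        have : y = x⁻¹ * (x * y * x⁻¹) * x := by group
        rw [this, h1]; group
    exact hM.1 (top_le_iff.mp this)
  intro hN
  have hp := hpr hU1
  obtain ⟨Ms, pf⟩ := hpf hp
  obtain ⟨r, R, H, c⟩ := hA hU1
  obtain ⟨hrM, hUKH, hnc⟩ := hB c
  have hpH := Cfsg.Agent.Lib.Helper57.BG1363.NU.p_not_sigma hG c pf hp hUKH
  obtain ⟨hfpf, hnil⟩ := Cfsg.Agent.Lib.Helper36.BG1363D.NU.fpf hG c pf hp hUKH hnc hpH
  have hcent := NU.cent_of_coprime hG c hp hUKH hpH hfpf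
  have hbot := Cfsg.Agent.Lib.Helper36.BG1363.NU.inf_sigma_bot hG c hrM hUKH hnc hnil hcent
  have hVU := Cfsg.Agent.Lib.Helper75.BG1363.NU.inf_le_U hG c hp hUKH hpH hbot
  have hle := Cfsg.Agent.Lib.Helper64.BG1363.NU.sigma_le_U hG c hUKH hnil hcent hVU hN
  have hHN := Cfsg.Agent.Lib.Helper36.BG1363.NU.normal_of_le hG c hUKH hle
  have hHM : H ≤ M := hHN.trans hN
  have : H = M := by
    by_contra hne
    exact hM.1 (c.hH.2 M (lt_of_le_of_ne hHM hne))
  refine hnc 1 ?_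
  rw [this]
  ext x
  simp

end Cfsg.Agent.Lib.Helper16.BG1363
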