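import Mathlib
import Cfsg.Agent.Lib.Helper16.BG1363Defs

set_option autoImplicit false

namespace Cfsg.Agent.Lib.Helper16.BG1363

open Cfsg Subgroup Cfsg.Agent.Lib.Helper11.BG14D

variable {G : Type*} [Group G] [Finite G]

/-- The partner facts `PF` from the conclusions of S1366-S1369 (for `|K|` prime). -/
theorem pf_of {M K Ms : Subgroup G} (hp : (Nat.card K).Prime)
    (hMs : IsCoatom Ms)
    (hKst : K = sigmaCore Ms ⊓ centralizer ((sigmaCore M ⊓ centralizer (K : Set G) : Subgroup G) : Set G))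
    (h67 : ∀ Y : Subgroup G, Y ≤ K → (Nat.card Y).Prime →
        centralizer (Y : Set G) ≤ Ms ∧ ∀ L : Subgroup G, IsCoatom L → centralizer (Y : Set G) ≤ L → L = Ms)
    (h68 : M ⊓ Ms = K ⊔ (sigmaCore M ⊓ centralizer (K : Set G)))
    (h69 : ∀ H : Subgroup G, IsCoatom H → (kappa H).Nonempty →
        ∃ g : G, H = M.map (MulAut.conj g).toMonoidHom ∨ H = Ms.map (MulAut.conj g).toMonoidHom) :
    PF M K Ms where
  hMs := hMs
  hKMs := by
    have : K ≤ sigmaCore Ms ⊓ centralizer ((sigmaCore M ⊓ centralizer (K : Set G) : Subgroup G) : Set G) :=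
      hKst.le
    exact this.trans inf_le_left
  hCK := (h67 K le_rfl hp).1
  hCKu := (h67 K le_rfl hp).2
  hMMs := h68
  h69 := h69

end Cfsg.Agent.Lib.Helper16.BG1363
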