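import Cfsg.Agent.Lib.Helper16.KFam
import Cfsg.Agent.Lib.Helper41.SecTransport

/-!
Glauberman's theorem for `K_∞`: if `K_∞(S)` is not normal in the finite group `G` then some
`g ∈ S \ O_p(G)` satisfies `⁅U, g; 4⁆ ≤ V` on every chief factor `U / V` of `G` inside `O_p(G)`.
-/

set_option autoImplicit false

universe u

namespace Cfsg.Agent.Lib.Helper16.KComm

open Cfsg Cfsg.Agent.Lib.Helper41 Cfsg.Agent.Lib.Helper16.KSub

variable {G : Type u} [Group G] [Finite G] {p : ℕ} [Fact p.Prime]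

theorem kInf_normal_of_le (S : Sylow p G) (T : Subgroup G) [T.Normal]
    (hTS : T ≤ (S : Subgroup G))
    (h : ∀ n, lowerIn (S : Subgroup G) (oSeq (S : Subgroup G) n) ≤ T ∧
      oSeq (S : Subgroup G) (n + 1) ≤ T) :
    (inducedFunctor kInfLower (S : Subgroup G)).Normal := by
  have hW := isCharPFunctor_kInfLower.{u} p
  set Q : Subgroup ↥(S : Subgroup G) := T.subgroupOf S with hQ
  have hQ' : ∀ n, kSeqEven ↥(S : Subgroup G) n ≤ Q ∧ kSeqOdd ↥(S : Subgroup G) (n + 1) ≤ Q := by
    intro n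
    constructor
    · show _ ≤ T.comap (S : Subgroup G).subtype
      rw [← Subgroup.map_le_iff_le_comap, map_kSeqEven]
      exact (h n).1
    · show _ ≤ T.comap (S : Subgroup G).subtype
      rw [← Subgroup.map_le_iff_le_comap, map_kSeqOdd]
      exact (h n).2
  have h1 := (kInf_subgroup hQ').1
  have hSp : IsPGroup p ↥(S : Subgroup G) := S.isPGroup'
  have hQp : IsPGroup p ↥Q := hSp.to_subgroup Q
  have h2 : inducedFunctor kInfLower (Q.map (S : Subgroup G).subtype) =
      (inducedFunctor kInfLower Q).map (S : Subgroup G).subtype :=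
    inducedFunctor_map_injective kInfLower hW _ (Subgroup.subtype_injective _) Q hQp
  have h3 : Q.map (S : Subgroup G).subtype = T := Subgroup.map_subgroupOf_eq_of_le hTS
  have h4 : inducedFunctor kInfLower (S : Subgroup G) = inducedFunctor kInfLower T := by
    rw [← h3, h2]
    show (kInfLower ↥(S : Subgroup G)).map _ = ((kInfLower ↥Q).map Q.subtype).map _
    rw [h1]
  rw [h4]
  have hTp : IsPGroup p ↥T := hSp.to_le hTS
  have h5 := le_normalizer_inducedFunctor kInfLower hW T hTp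
  rw [Subgroup.normalizer_eq_top] at h5
  exact Subgroup.normalizer_eq_top_iff.mp (top_le_iff.mp h5)

theorem kInfUpper_normal_of_le (S : Sylow p G) (T : Subgroup G) [T.Normal]
    (hTS : T ≤ (S : Subgroup G))
    (h : ∀ n, lowerIn (S : Subgroup G) (oSeq (S : Subgroup G) n) ≤ T ∧
      oSeq (S : Subgroup G) (n + 1) ≤ T) :
    (inducedFunctor kInfUpper (S : Subgroup G)).Normal := by
  have hW := isCharPFunctor_kInfUpper.{u} p
  set Q : Subgroup ↥(S : Subgroup G) := T.subgroupOf S with hQ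
  have hQ' : ∀ n, kSeqEven ↥(S : Subgroup G) n ≤ Q ∧ kSeqOdd ↥(S : Subgroup G) (n + 1) ≤ Q := by
    intro n
    constructor
    · show _ ≤ T.comap (S : Subgroup G).subtype
      rw [← Subgroup.map_le_iff_le_comap, map_kSeqEven]
      exact (h n).1
    · show _ ≤ T.comap (S : Subgroup G).subtype
      rw [← Subgroup.map_le_iff_le_comap, map_kSeqOdd]
      exact (h n).2
  have h1 := (kInf_subgroup hQ').2
  have hSp : IsPGroup p ↥(S : Subgroup G) := S.isPGroup'
  have hQp : IsPGroup p ↥Q := hSp.to_subgroup Q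
  have h2 : inducedFunctor kInfUpper (Q.map (S : Subgroup G).subtype) =
      (inducedFunctor kInfUpper Q).map (S : Subgroup G).subtype :=
    inducedFunctor_map_injective kInfUpper hW _ (Subgroup.subtype_injective _) Q hQp
  have h3 : Q.map (S : Subgroup G).subtype = T := Subgroup.map_subgroupOf_eq_of_le hTS
  have h4 : inducedFunctor kInfUpper (S : Subgroup G) = inducedFunctor kInfUpper T := by
    rw [← h3, h2]
    show (kInfUpper ↥(S : Subgroup G)).map _ = ((kInfUpper ↥Q).map Q.subtype).map _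
    rw [h1]
  rw [h4]
  have hTp : IsPGroup p ↥T := hSp.to_le hTS
  have h5 := le_normalizer_inducedFunctor kInfUpper hW T hTp
  rw [Subgroup.normalizer_eq_top] at h5
  exact Subgroup.normalizer_eq_top_iff.mp (top_le_iff.mp h5)

/-- the core statement, from the failure of "all terms of the K-sequence of `S` lie in `O_p(G)`" -/
theorem kinf_core_of_fail (S : Sylow p G)
    (hfail : ¬ ∀ n, lowerIn (S : Subgroup G) (oSeq (S : Subgroup G) n) ≤ pCore p G ∧
      oSeq (S : Subgroup G) (n + 1) ≤ pCore p G) :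
    ∃ g ∈ (S : Subgroup G), g ∉ pCore p G ∧ (∀ U V : Subgroup G, IsChiefFactor U V →
      U ≤ pCore p G → iterCommutator U (Subgroup.zpowers g) 4 ≤ V) ∧
      ⁅⁅pCore p G ⊓ Subgroup.centralizer ((pCore p G : Subgroup G) : Set G),
        Subgroup.zpowers g⁆, Subgroup.zpowers g⁆ = ⊥ := by
  have hTn : (pCore p G).Normal := Subgroup.sSup_normal _ (fun _ h => h.1)
  have hTp : IsPGroup p ↥(pCore p G) :=
    Sylow.sSup_of_normal _ (fun _ h => h.2) (fun _ h => h.1)
  have hTS : pCore p G ≤ (S : Subgroup G) := hTp.le_sylow_of_normal S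
  obtain ⟨A, hAn, hAT, hA3, hA4⟩ := exists_critical (pCore p G) hTp
  have := hAn
  obtain ⟨B, hBS, hBT, hB3, hB2⟩ :=
    exists_bad_subgroup (S : Subgroup G) (pCore p G) A hTS hAT hA3 hfail
  obtain ⟨g, hgB, hgT⟩ := SetLike.not_le_iff_exists.mp hBT
  have hH : Subgroup.zpowers g ≤ B := by rwa [Subgroup.zpowers_le]
  have h2 : iterCommutator (A ⊓ Subgroup.centralizer (A : Set G)) (Subgroup.zpowers g) 2 = ⊥ := by
    rw [eq_bot_iff, ← hB2]
    exact iter_mono_right _ hH 2
  refine ⟨g, hBS hgB, hgT,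
    four_of_critical (pCore p G) A (Subgroup.zpowers g) hTp hAT hA3 hA4 ?_ h2, ?_⟩
  · rw [eq_bot_iff, ← hB3]
    exact iter_mono_right A hH 3
  · have hZ : pCore p G ⊓ Subgroup.centralizer ((pCore p G : Subgroup G) : Set G) ≤
        A ⊓ Subgroup.centralizer (A : Set G) := by
      have h1 : pCore p G ⊓ Subgroup.centralizer ((pCore p G : Subgroup G) : Set G) ≤
          Subgroup.centralizer (A : Set G) := inf_le_right.trans (Subgroup.centralizer_le hAT)
      exact le_inf (le_trans (le_inf inf_le_left h1) hA4) h1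
    rw [eq_bot_iff, ← h2]
    exact iter_mono (Subgroup.zpowers g) hZ 2

/-- **Glauberman**, for the lower or the upper `K_∞` subgroup -/
theorem kinf_core_or (S : Sylow p G)
    (hnn : ¬ (inducedFunctor kInfLower (S : Subgroup G)).Normal ∨
      ¬ (inducedFunctor kInfUpper (S : Subgroup G)).Normal) :
    ∃ g ∈ (S : Subgroup G), g ∉ pCore p G ∧ (∀ U V : Subgroup G, IsChiefFactor U V →
      U ≤ pCore p G → iterCommutator U (Subgroup.zpowers g) 4 ≤ V) ∧
      ⁅⁅pCore p G ⊓ Subgroup.centralizer ((pCore p G : Subgroup G) : Set G),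
        Subgroup.zpowers g⁆, Subgroup.zpowers g⁆ = ⊥ := by
  have hTn : (pCore p G).Normal := Subgroup.sSup_normal _ (fun _ h => h.1)
  have hTp : IsPGroup p ↥(pCore p G) :=
    Sylow.sSup_of_normal _ (fun _ h => h.2) (fun _ h => h.1)
  have hTS : pCore p G ≤ (S : Subgroup G) := hTp.le_sylow_of_normal S
  apply kinf_core_of_fail S
  intro h
  rcases hnn with h1 | h1
  · exact h1 (kInf_normal_of_le S _ hTS h)
  · exact h1 (kInfUpper_normal_of_le S _ hTS h)

/-- `kinf_four` for the upper `K_∞` subgroup -/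
theorem kinf_four_upper (S : Sylow p G)
    (hnn : ¬ (inducedFunctor kInfUpper (S : Subgroup G)).Normal) :
    ∃ g ∈ (S : Subgroup G), g ∉ pCore p G ∧ ∀ U V : Subgroup G, IsChiefFactor U V →
      U ≤ pCore p G → iterCommutator U (Subgroup.zpowers g) 4 ≤ V := by
  obtain ⟨g, h1, h2, h3, -⟩ := kinf_core_or S (Or.inr hnn)
  exact ⟨g, h1, h2, h3⟩

/-- **Glauberman**: if `K_∞(S)` is not normal in `G`, some `g ∈ S \ O_p(G)` satisfies
`⁅U, g; 4⁆ ≤ V` on every chief factor inside `O_p(G)` and acts quadratically on `Z(O_p(G))`. -/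
theorem kinf_core (S : Sylow p G)
    (hnn : ¬ (inducedFunctor kInfLower (S : Subgroup G)).Normal) :
    ∃ g ∈ (S : Subgroup G), g ∉ pCore p G ∧ (∀ U V : Subgroup G, IsChiefFactor U V →
      U ≤ pCore p G → iterCommutator U (Subgroup.zpowers g) 4 ≤ V) ∧
      ⁅⁅pCore p G ⊓ Subgroup.centralizer ((pCore p G : Subgroup G) : Set G),
        Subgroup.zpowers g⁆, Subgroup.zpowers g⁆ = ⊥ := by
  have hTn : (pCore p G).Normal := Subgroup.sSup_normal _ (fun _ h => h.1)
  have hTp : IsPGroup p ↥(pCore p G) :=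
    Sylow.sSup_of_normal _ (fun _ h => h.2) (fun _ h => h.1)
  have hTS : pCore p G ≤ (S : Subgroup G) := hTp.le_sylow_of_normal S
  obtain ⟨A, hAn, hAT, hA3, hA4⟩ := exists_critical (pCore p G) hTp
  have := hAn
  have hfail : ¬ ∀ n, lowerIn (S : Subgroup G) (oSeq (S : Subgroup G) n) ≤ pCore p G ∧
      oSeq (S : Subgroup G) (n + 1) ≤ pCore p G := fun h => hnn (kInf_normal_of_le S _ hTS h)
  obtain ⟨B, hBS, hBT, hB3, hB2⟩ :=
    exists_bad_subgroup (S : Subgroup G) (pCore p G) A hTS hAT hA3 hfail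
  obtain ⟨g, hgB, hgT⟩ := SetLike.not_le_iff_exists.mp hBT
  have hH : Subgroup.zpowers g ≤ B := by rwa [Subgroup.zpowers_le]
  have h2 : iterCommutator (A ⊓ Subgroup.centralizer (A : Set G)) (Subgroup.zpowers g) 2 = ⊥ := by
    rw [eq_bot_iff, ← hB2]
    exact iter_mono_right _ hH 2
  refine ⟨g, hBS hgB, hgT,
    four_of_critical (pCore p G) A (Subgroup.zpowers g) hTp hAT hA3 hA4 ?_ h2, ?_⟩
  · rw [eq_bot_iff, ← hB3]
    exact iter_mono_right A hH 3
  · have hZ : pCore p G ⊓ Subgroup.centralizer ((pCore p G : Subgroup G) : Set G) ≤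
        A ⊓ Subgroup.centralizer (A : Set G) := by
      have h1 : pCore p G ⊓ Subgroup.centralizer ((pCore p G : Subgroup G) : Set G) ≤
          Subgroup.centralizer (A : Set G) := inf_le_right.trans (Subgroup.centralizer_le hAT)
      exact le_inf (le_trans (le_inf inf_le_left h1) hA4) h1
    rw [eq_bot_iff, ← h2]
    exact iter_mono (Subgroup.zpowers g) hZ 2

/-- **Glauberman**: `⁅U, g; 4⁆ ≤ V` for a suitable `g ∈ S \ O_p(G)` if `K_∞(S)` is not normal. -/
theorem kinf_four (S : Sylow p G)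
    (hnn : ¬ (inducedFunctor kInfLower (S : Subgroup G)).Normal) :
    ∃ g ∈ (S : Subgroup G), g ∉ pCore p G ∧ ∀ U V : Subgroup G, IsChiefFactor U V →
      U ≤ pCore p G → iterCommutator U (Subgroup.zpowers g) 4 ≤ V := by
  obtain ⟨g, h1, h2, h3, -⟩ := kinf_core S hnn
  exact ⟨g, h1, h2, h3⟩

/-- **Glauberman**: some `g ∈ S \ O_p(G)` acts quadratically on `Z(O_p(G))` if `K_∞(S)` is not
normal. -/
theorem kinf_quad {X : Type u} [Group X] [Finite X] {p : ℕ} [Fact p.Prime] (S : Sylow p X)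
    (h : ¬ (Cfsg.inducedFunctor Cfsg.kInfLower (S : Subgroup X)).Normal) :
    ∃ g : X, g ∈ (S : Subgroup X) ∧ g ∉ Cfsg.pCore p X ∧
      ⁅⁅Cfsg.pCore p X ⊓ Subgroup.centralizer ((Cfsg.pCore p X : Subgroup X) : Set X),
        Subgroup.zpowers g⁆, Subgroup.zpowers g⁆ = ⊥ := by
  obtain ⟨g, h1, h2, -, h4⟩ := kinf_core S h
  exact ⟨g, h1, h2, h4⟩

end Cfsg.Agent.Lib.Helper16.KComm
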