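import Mathlib.Algebra.Module.ZMod
import Mathlib.RepresentationTheory.Basic
import Mathlib.GroupTheory.PGroup
import Mathlib.FieldTheory.Finiteness
import Mathlib.Algebra.CharP.Lemmas
import Mathlib.Tactic

set_option autoImplicit false

namespace Cfsg.Agent.Lib.Helper16

theorem exists_fixed_vector_aux {P : Type*} [Group P] [Finite P] {p : ℕ} [Fact p.Prime]
    (hP : IsPGroup p P) {K V : Type*} [Field K] [AddCommGroup V] [Module K V]
    [Module (ZMod p) V]
    (ρ : Representation K P V) (W : Submodule K V) (hW : ∀ g, ∀ w ∈ W, ρ g w ∈ W)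
    (hne : W ≠ ⊥) : ∃ v ∈ W, v ≠ 0 ∧ ∀ g, ρ g v = v := by
  classical
  obtain ⟨w, hwW, hw0⟩ := Submodule.exists_mem_ne_zero_of_ne_bot hne
  set M : Submodule (ZMod p) V := Submodule.span (ZMod p) (Set.range fun g : P => ρ g w) with hM
  have hMW : ∀ m ∈ M, m ∈ W := by
    have : M ≤ AddSubgroup.toZModSubmodule p W.toAddSubgroup := by
      rw [hM, Submodule.span_le]
      rintro _ ⟨g, rfl⟩
      exact hW g w hwW
    exact fun m hm => this hm
  have hMinv : ∀ g : P, ∀ m ∈ M, ρ g m ∈ M := by
    intro g m hm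
    have : M.map ((ρ g).toAddMonoidHom.toZModLinearMap p) ≤ M := by
      rw [hM, Submodule.map_span, Submodule.span_le]
      rintro _ ⟨_, ⟨h, rfl⟩, rfl⟩
      apply Submodule.subset_span
      exact ⟨g * h, by simp [map_mul]⟩
    exact this ⟨m, hm, rfl⟩
  haveI : Module.Finite (ZMod p) M := Module.Finite.span_of_finite _ (Set.finite_range _)
  haveI : Finite M := Module.finite_of_finite (ZMod p)
  letI : MulAction P M :=
    { smul := fun g m => ⟨ρ g m, hMinv g m m.2⟩
      one_smul := fun m => Subtype.ext (by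
        change ρ 1 (m : V) = m
        simp)
      mul_smul := fun g h m => Subtype.ext (by
        change ρ (g * h) (m : V) = ρ g (ρ h (m : V))
        simp [map_mul]) }
  have hsmul : ∀ (g : P) (m : M), ((g • m : M) : V) = ρ g m := fun g m => rfl
  have hwM : w ∈ M := by
    apply Submodule.subset_span
    exact ⟨1, by simp⟩
  have hcard : p ∣ Nat.card M := by
    rw [Module.natCard_eq_pow_finrank (K := ZMod p), Nat.card_zmod]
    haveI : Nontrivial M := ⟨⟨⟨w, hwM⟩, 0, fun h => hw0 (congrArg Subtype.val h)⟩⟩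
    have : 0 < Module.finrank (ZMod p) M := Module.finrank_pos
    exact dvd_pow_self p this.ne'
  have h0 : (0 : M) ∈ MulAction.fixedPoints P M := fun g => Subtype.ext (by
    rw [hsmul]; simp)
  obtain ⟨b, hb, hb0⟩ := hP.exists_fixed_point_of_prime_dvd_card_of_fixed_point M hcard h0
  refine ⟨b, hMW b b.2, ?_, ?_⟩
  · intro h
    apply hb0
    exact Subtype.ext h.symm
  · intro g
    have := hb g
    rw [← hsmul, this]

/-- A finite `p`-group acting linearly in characteristic `p` fixes a non-zero vector of every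
non-zero invariant subspace. -/
theorem exists_fixed_vector {P : Type*} [Group P] [Finite P] {p : ℕ} [Fact p.Prime]
    (hP : IsPGroup p P) {K V : Type*} [Field K] [CharP K p] [AddCommGroup V] [Module K V]
    (ρ : Representation K P V) (W : Submodule K V) (hW : ∀ g, ∀ w ∈ W, ρ g w ∈ W)
    (hne : W ≠ ⊥) : ∃ v ∈ W, v ≠ 0 ∧ ∀ g, ρ g v = v := by
  have hpV : ∀ x : V, p • x = 0 := by
    intro x
    rw [← Nat.cast_smul_eq_nsmul K, CharP.cast_eq_zero, zero_smul]
  letI : Module (ZMod p) V := AddCommGroup.zmodModule hpV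
  exact exists_fixed_vector_aux hP ρ W hW hne

end Cfsg.Agent.Lib.Helper16
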