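import Mathlib
import Cfsg.Prelude.Def_Local
import Cfsg.Prelude.Def_LocalEven
import Cfsg.Agent.Lib.Helper28.FStar
import Cfsg.Agent.Lib.Helper30.FStar
import Cfsg.Agent.Lib.Helper45.AutAltPQ

/-!
# K-PMinAlt-G1 (keystone 293001): 3-elements lie in `F*(X)` when `F*(X) ≅ Alt(n)`
-/

set_option autoImplicit false

namespace Cfsg.Agent.Lib.Helper16.PMinAlt

open Equiv Equiv.Perm
open Cfsg.Agent.Lib.Helper45.AutAlt

/-- an element of a group `X` inducing on a normal subgroup `K ≅ Alt(n)` an automorphism of 3-power order and such that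
`C_X(K) ≤ K` lies in `K`. -/
theorem mem_of_pow_three_of_normal {X : Type*} [Group X] (K : Subgroup X) [K.Normal] (n : ℕ) (hn : 5 ≤ n)
    (e : ↥K ≃* ↥(alternatingGroup (Fin n))) (hC : Subgroup.centralizer (K : Set X) ≤ K)
    (s : X) (k : ℕ) (hs : s ^ 3 ^ k = 1) : s ∈ K := by
  have : Fact (Nat.Prime 3) := ⟨Nat.prime_three⟩
  let θ : MulAut (alternatingGroup (Fin n)) := MulAut.congr e (MulAut.conjNormal s)
  have hθapp : ∀ a, θ a = e (MulAut.conjNormal s (e.symm a)) := fun a => rfl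
  have hθpow : θ ^ 3 ^ k = 1 := by
    show (MulAut.congr e (MulAut.conjNormal s)) ^ 3 ^ k = 1
    rw [← map_pow, ← map_pow, hs, map_one, map_one]
  obtain ⟨j, _, hj⟩ := (Nat.dvd_prime_pow Nat.prime_three).1 (orderOf_dvd_of_pow_eq_one hθpow)
  obtain ⟨σ, hσ⟩ := mem_range_of_pgroup_elt n hn 3 (Or.inr (by norm_num)) θ j hj
  have hσord : orderOf σ = 3 ^ j := by
    rw [← hj, ← hσ]
    exact (orderOf_injective (Phi n) (Phi_injective n (by omega)) σ).symm
  have hσpow : σ ^ 3 ^ j = 1 := by rw [← hσord]; exact pow_orderOf_eq_one σ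
  have hsign : Equiv.Perm.sign σ = 1 := by
    have h1 : (Equiv.Perm.sign σ) ^ 3 ^ j = 1 := by rw [← map_pow, hσpow, map_one]
    rcases Int.units_eq_one_or (Equiv.Perm.sign σ) with h | h
    · exact h
    · rw [h, Odd.neg_one_pow (Odd.pow (by decide : Odd 3))] at h1
      exact absurd h1 (by decide)
  let a : alternatingGroup (Fin n) := ⟨σ, Equiv.Perm.mem_alternatingGroup.2 hsign⟩
  let k0 : K := e.symm a
  have hconj : ∀ g : K, s * (g : X) * s⁻¹ = (k0 : X) * g * (k0 : X)⁻¹ := by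
    intro g
    have h1 : e (MulAut.conjNormal s g) = a * e g * a⁻¹ := by
      have h2 : θ (e g) = e (MulAut.conjNormal s g) := by rw [hθapp, e.symm_apply_apply]
      rw [← h2, ← hσ]
      apply Subtype.ext
      rw [Phi_apply]
      rfl
    have h3 : MulAut.conjNormal s g = k0 * g * k0⁻¹ := by
      apply e.injective
      rw [h1, map_mul, map_mul, map_inv]
      show a * e g * a⁻¹ = e (e.symm a) * e g * (e (e.symm a))⁻¹
      rw [e.apply_symm_apply]
    have h4 := congrArg (fun x : K => (x : X)) h3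
    simpa [MulAut.conjNormal_apply] using h4
  have hcent : (k0 : X)⁻¹ * s ∈ Subgroup.centralizer (K : Set X) := by
    rw [Subgroup.mem_centralizer_iff]
    intro g hg
    have h := hconj ⟨g, hg⟩
    simp only at h
    -- s g s⁻¹ = k0 g k0⁻¹  ⟹  g (k0⁻¹ s) = (k0⁻¹ s) g
    have h5 : s * g = (k0 : X) * g * (k0 : X)⁻¹ * s := by
      rw [← h]; group
    calc g * ((k0 : X)⁻¹ * s) = (k0 : X)⁻¹ * ((k0 : X) * g * (k0 : X)⁻¹ * s) := by group
      _ = (k0 : X)⁻¹ * (s * g) := by rw [h5]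
      _ = (k0 : X)⁻¹ * s * g := by group
  have h6 : (k0 : X)⁻¹ * s ∈ K := hC hcent
  have h7 : s = (k0 : X) * ((k0 : X)⁻¹ * s) := by group
  rw [h7]
  exact K.mul_mem k0.2 h6

/-- **K-PMinAlt-G1.** -/
theorem mem_genFitting_of_pow_three {X : Type*} [Group X] [Finite X] (n : ℕ) (hn : 5 ≤ n)
    (hF : Nonempty (↥(Cfsg.generalizedFittingSubgroup X) ≃* ↥(alternatingGroup (Fin n))))
    (s : X) (k : ℕ) (hs : s ^ 3 ^ k = 1) : s ∈ Cfsg.generalizedFittingSubgroup X := by
  obtain ⟨e⟩ := hF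
  have : (Cfsg.generalizedFittingSubgroup X).Normal := Cfsg.Agent.Lib.Helper30.genFitting_normal
  exact mem_of_pow_three_of_normal (Cfsg.generalizedFittingSubgroup X) n hn e
    Cfsg.Agent.Lib.Helper28.centralizer_genFitting_le s k hs

end Cfsg.Agent.Lib.Helper16.PMinAlt
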