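import Mathlib
import Cfsg.Agent.S1351
import Cfsg.Agent.S1352
import Cfsg.Agent.S1366
import Cfsg.Agent.S1374
import Cfsg.Agent.S1375
import Cfsg.Agent.S1378
import Cfsg.Agent.S1435
import Cfsg.Agent.Lib.Helper16.BG1376Defs
import Cfsg.Agent.Lib.Helper16.BG134Base
import Cfsg.Agent.Lib.Helper13.BG12B
import Cfsg.Agent.Lib.Helper13.BG1372
import Cfsg.Agent.Lib.Helper12.CNMaxSub
import Cfsg.Agent.Lib.Helper31.BG15KA
import Cfsg.Agent.Lib.Helper55.StrEmb2
import Cfsg.Agent.Lib.Helper55.Uniq3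
import Cfsg.Agent.Lib.Helper68.BG144G2
import Cfsg.Agent.Lib.Helper71.BG1381Fwd

/-!
# S1376, Part 1: the configuration `Conf` exists for a conjugate of `M` (helper16)
-/

set_option autoImplicit false
set_option linter.style.haveILetI false
set_option linter.unusedVariables false
set_option linter.unusedSectionVars false

namespace Cfsg.Agent.Lib.Helper16.BG1376

open Cfsg Subgroup Cfsg.Agent.Lib.Helper55
open scoped Pointwise

variable {G : Type*} [Group G] [Finite G]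

/-- **Part 1 of S1376**: under the hypotheses of S1376 some conjugate `cj g M` of `M` sits in a configuration
`Conf (cj g M) N Ns K U x'`. -/
theorem exists_conf (hG : IsMinSimpleOddOrder G) {M : Subgroup G} (hM : IsCoatom M) {x : G}
    (hx : x ∈ sigmaCore M) (hx1 : x ≠ 1) (hxM : ¬ centralizer ({x} : Set G) ≤ M)
    {N : Subgroup G} (hN : IsCoatom N) (hxN : centralizer ({x} : Set G) ≤ N)
    (hkN : (kappa N).Nonempty) :
    ∃ (g : G) (Ns K U : Subgroup G) (x' : G),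
      Conf (M.map (MulAut.conj g).toMonoidHom) N Ns K U x' := by
  obtain ⟨N', ⟨hN', hxN'⟩, huniq, -, -, -, hcomplN, hdec⟩ :=
    Cfsg.Agent.S1375.result hG M hM x hx hx1 hxM
  have hNN : N = N' := huniq N hN hxN
  subst hNN
  obtain ⟨⟨K, hK⟩, hcyc⟩ := Cfsg.Agent.S1351.result hG N hN
  obtain ⟨⟨U, hKU⟩, -⟩ := Cfsg.Agent.S1352.result hG N hN K (hcyc K hK) hK
  have hK1 : K ≠ ⊥ := Cfsg.Agent.Lib.Helper71.BG1381.ne_bot_of_kappa_nonempty hK hkN
  obtain ⟨Ns, ⟨hNs, hKst, hKstH⟩, -⟩ := Cfsg.Agent.S1366.result hG N hN K U hKU hK1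
  have hHallN : IsPiHallOf (sigma N) (sigmaCore N) N := Cfsg.Agent.Lib.Helper16.BG134.hall_sigma hG hN
  have hcUK : IsComplIn (U ⊔ K) (sigmaCore N) N :=
    Cfsg.Agent.Lib.Helper31.BG15.isComplIn_sup_of_sigmaDecomposition hG hN hKU
  obtain ⟨s, hs, hsE⟩ := Cfsg.Agent.Lib.Helper13.BG12.complIn_conj hG hN hHallN hcUK hcomplN
  have hsN : s ∈ N := (Cfsg.Agent.Lib.Helper71.BG11.sigmaCore_le N) hs
  -- the conjugate `M₁ = cj s M`, `x₁ = s x s⁻¹`
  have hM₁ : IsCoatom (cj s M) := isCoatom_cj s hM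
  have hx₁σ : s * x * s⁻¹ ∈ sigmaCore (cj s M) := by
    rw [Cfsg.Agent.Lib.Helper68.BG144.sigmaCore_cj hG hM s, mem_cj]
    have : s⁻¹ * (s * x * s⁻¹) * s = x := by group
    rw [this]; exact hx
  have hx₁1 : s * x * s⁻¹ ≠ 1 := by
    intro h
    apply hx1
    have : x = s⁻¹ * (s * x * s⁻¹) * s := by group
    rw [this, h]; group
  have hCx₁ : centralizer ({s * x * s⁻¹} : Set G) = cj s (centralizer ({x} : Set G)) :=
    (cj_centralizer_singleton s x).symm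
  have hNs' : cj s N = N := cj_eq_self_of_mem hsN
  have hx₁N : centralizer ({s * x * s⁻¹} : Set G) ≤ N := by
    rw [hCx₁, ← hNs']
    exact Subgroup.map_mono hxN
  have hx₁M : ¬ centralizer ({s * x * s⁻¹} : Set G) ≤ cj s M := by
    rw [hCx₁]
    intro h
    apply hxM
    intro c hc
    have h1 : s * c * s⁻¹ ∈ cj s M := h (Subgroup.mem_map_of_mem _ hc)
    rw [mem_cj] at h1
    have : s⁻¹ * (s * c * s⁻¹) * s = c := by group
    rwa [this] at h1
  have hsmul : MulAut.conj s • (M ⊓ N) = cj s (M ⊓ N) := by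
    ext y
    constructor
    · intro hy
      rw [Subgroup.mem_pointwise_smul_iff_inv_smul_mem] at hy
      refine ⟨(MulAut.conj s)⁻¹ • y, hy, ?_⟩
      show (MulAut.conj s) ((MulAut.conj s)⁻¹ • y) = y
      simp
      group
    · rintro ⟨a, ha, rfl⟩
      exact Subgroup.smul_mem_pointwise_smul a (MulAut.conj s) (M ⊓ N) ha
  have hM₁N : cj s M ⊓ N = U ⊔ K := by
    have h1 : cj s (M ⊓ N) = cj s M ⊓ cj s N := cj_inf s M N
    rw [hNs'] at h1
    rw [← h1, ← hsmul, hsE]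
  -- S1375 for `(M₁, x₁)`
  obtain ⟨N'', ⟨hN'', hxN''⟩, huniq', -, -, -, -, hdec'⟩ :=
    Cfsg.Agent.S1375.result hG (cj s M) hM₁ (s * x * s⁻¹) hx₁σ hx₁1 hx₁M
  have hNN' : N = N'' := huniq' N hN hx₁N
  subst hNN'
  obtain ⟨hU1, hxA, hxσ⟩ := hdec' K U hKU
  -- `x₁ ∈ U`
  have hx₁M₁ : s * x * s⁻¹ ∈ cj s M := (Cfsg.Agent.Lib.Helper71.BG11.sigmaCore_le _) hx₁σ
  have hx₁Nm : s * x * s⁻¹ ∈ N := hx₁N (by
    rw [Subgroup.mem_centralizer_iff]
    intro h hh
    rw [Set.mem_singleton_iff] at hh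
    subst hh; rfl)
  have hx₁UK : s * x * s⁻¹ ∈ U ⊔ K := by rw [← hM₁N]; exact ⟨hx₁M₁, hx₁Nm⟩
  have hx₁U : s * x * s⁻¹ ∈ U := by
    have hUN : U ≤ N := hKU.compl.1
    have hnorm : U ≤ normalizer (sigmaCore N : Set G) :=
      hUN.trans (Cfsg.Agent.Lib.Helper71.BG11.le_normalizer_sigmaCore N)
    have h2 : s * x * s⁻¹ ∈ U ⊔ sigmaCore N := hxA.2
    have h3 : s * x * s⁻¹ ∈ (↑(U ⊔ sigmaCore N) : Set G) := h2
    rw [Subgroup.coe_mul_of_left_le_normalizer_right U (sigmaCore N) hnorm] at h3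
    obtain ⟨u, hu, t, ht, hut0⟩ := h3
    have hut : u * t = s * x * s⁻¹ := hut0
    have ht' : t ∈ (U ⊔ K) ⊓ sigmaCore N := by
      refine Subgroup.mem_inf.mpr ⟨?_, ht⟩
      have : t = u⁻¹ * (s * x * s⁻¹) := by rw [← hut]; group
      rw [this]
      exact mul_mem (inv_mem ((le_sup_left : U ≤ U ⊔ K) hu)) hx₁UK
    rw [hcUK.2.2.1, Subgroup.mem_bot] at ht'
    rw [ht', mul_one] at hut
    rw [← hut]; exact hu
  -- a power of prime order
  obtain ⟨r, hr, j, hj⟩ := Cfsg.Agent.Lib.Helper13.BG1372.exists_pow_prime_order hx₁1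
  haveI : Fact r.Prime := ⟨hr⟩
  have hx₂1 : (s * x * s⁻¹) ^ j ≠ 1 := by
    intro h
    rw [h, orderOf_one] at hj
    exact hr.one_lt.ne' hj.symm
  have hx₂U : (s * x * s⁻¹) ^ j ∈ U := pow_mem hx₁U j
  have hx₂σ : (s * x * s⁻¹) ^ j ∈ sigmaCore (cj s M) := pow_mem hx₁σ j
  have hCle : centralizer ({s * x * s⁻¹} : Set G) ≤ centralizer ({(s * x * s⁻¹) ^ j} : Set G) := by
    intro c hc
    rw [Subgroup.mem_centralizer_iff] at hc ⊢
    intro h hh
    rw [Set.mem_singleton_iff] at hh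
    subst hh
    have h1 : (s * x * s⁻¹) * c = c * (s * x * s⁻¹) := hc _ rfl
    exact ((Commute.pow_left (show Commute (s * x * s⁻¹) c from h1) j).eq)
  have hx₂M : ¬ centralizer ({(s * x * s⁻¹) ^ j} : Set G) ≤ cj s M := fun h => hx₁M (hCle.trans h)
  have hx₂N : centralizer ({(s * x * s⁻¹) ^ j} : Set G) ≤ N := by
    have hne : centralizer ({(s * x * s⁻¹) ^ j} : Set G) ≠ ⊤ :=
      Cfsg.Agent.Lib.Helper55.centralizer_singleton_ne_top hG hx₂1
    rcases eq_top_or_exists_le_coatom (centralizer ({(s * x * s⁻¹) ^ j} : Set G)) with h | ⟨L, hL, hle⟩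
    · exact absurd h hne
    · have : L = N := huniq' L hL (hCle.trans hle)
      rw [← this]; exact hle
  -- BG 15.2
  have hrU : r ∣ Nat.card U := by
    have := orderOf_dvd_natCard (⟨(s * x * s⁻¹) ^ j, hx₂U⟩ : U)
    rw [Subgroup.orderOf_mk, hj] at this
    exact this
  obtain ⟨R⟩ := (inferInstance : Nonempty (Sylow r ↥U))
  have hR1 : ((R : Subgroup U).map U.subtype : Subgroup G) ≠ ⊥ := by
    intro h
    have h1 : Nat.card ((R : Subgroup U).map U.subtype : Subgroup G) = Nat.card (R : Subgroup U) :=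
      Nat.card_congr ((R : Subgroup U).equivMapOfInjective U.subtype U.subtype_injective).toEquiv.symm
    rw [h, Subgroup.card_bot] at h1
    have h2 : r ∣ Nat.card (R : Subgroup U) := R.dvd_card_of_dvd_card hrU
    rw [← h1] at h2
    exact hr.one_lt.ne' (Nat.dvd_one.mp h2)
  have hRtop : ((R : Subgroup U).map U.subtype : Subgroup G) ≠ ⊤ := by
    intro h
    apply hN.1
    rw [eq_top_iff, ← h]
    exact (Subgroup.map_subtype_le _).trans hKU.compl.1
  obtain ⟨H, hH, hNR⟩ := Cfsg.Agent.Lib.Helper12.CNMaxSub.exists_coatom_normalizer_le hG hR1 hRtop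
  obtain ⟨hκH, hUH, hNH, -, hKF, hcomplH⟩ := Cfsg.Agent.S1435.result hG N hN K U hKU hK1 hU1 Ns
    hNs hKst hKstH r hrU R H hH hNR
  have hrH : r ∈ sigma H :=
    Cfsg.Agent.Lib.Helper71.BG11.sigmaCore_pi hG hH hr (hrU.trans (Subgroup.card_dvd_of_le hUH))
  have hrM : r ∈ sigma (cj s M) := by
    apply Cfsg.Agent.Lib.Helper71.BG11.sigmaCore_pi hG hM₁ hr
    have := orderOf_dvd_natCard (⟨(s * x * s⁻¹) ^ j, hx₂σ⟩ : sigmaCore (cj s M))
    rw [Subgroup.orderOf_mk, hj] at this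
    exact this
  obtain ⟨g, hg⟩ := (Cfsg.Agent.S1378.result hG).2 (cj s M) H hM₁ hH ⟨r, hrM, hrH⟩
  -- `C_G(x₂) ≰ H`
  have hx₂H : (s * x * s⁻¹) ^ j ∈ (cj s M).map (MulAut.conj g).toMonoidHom := by
    rw [← hg]
    exact (Cfsg.Agent.Lib.Helper71.BG11.sigmaCore_le H) (hUH hx₂U)
  obtain ⟨-, R', -, hcR', htrans⟩ := Cfsg.Agent.S1374.result hG (cj s M) hM₁ _ hx₂σ hx₂1
  obtain ⟨c, ⟨hcR, hcM⟩, -⟩ := htrans g hx₂H
  have hcC : c ∈ centralizer ({(s * x * s⁻¹) ^ j} : Set G) := hcR'.2.1 hcR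
  have hx₂notH : ¬ centralizer ({(s * x * s⁻¹) ^ j} : Set G) ≤ H := by
    intro h
    apply hx₂M
    rw [hg, ← hcM] at h
    intro d hd
    have h1 : c * d * c⁻¹ ∈ cj c (cj s M) :=
      h (mul_mem (mul_mem hcC hd) (inv_mem hcC))
    rw [mem_cj] at h1
    have : c⁻¹ * (c * d * c⁻¹) * c = d := by group
    rwa [this] at h1
  refine ⟨g * s, Ns, K, U, (s * x * s⁻¹) ^ j, ?_⟩
  have hHe : M.map (MulAut.conj (g * s)).toMonoidHom = H := by
    rw [hg]; exact cj_mul g s M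
  rw [hHe]
  exact
    { hM := hH, hN := hN, hNs := hNs, hKU := hKU, hK1 := hK1, hU1 := hU1, hKst := hKst,
      hKstH := hKstH, hxU := hx₂U, hx1 := hx₂1, hxp := by rw [hj]; exact hr, hxN := hx₂N,
      hxM := hx₂notH, hk := hκH, hUM := hUH, hMN := hNH, hKF := hKF, hE := hcomplH }

end Cfsg.Agent.Lib.Helper16.BG1376
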