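import Mathlib
import Cfsg.Agent.Lib.Helper11.Syl22Defs

/-!
# K-S4346-B7 (keystone 434616): `|N_G(P)|` divides `3 * 7!`
-/

set_option autoImplicit false
open scoped Pointwise

namespace Cfsg.Agent.Lib.Helper16.Syl22
open Cfsg.Agent.Lib.Helper11.Syl22

/-- a nonidentity element of a Sylow 3-subgroup `P` of order 3 fixes only `P` -/
theorem smul_eq_iff_of_mem {G : Type*} [Group G] [Finite G]
    (h3 : ∀ P : Sylow 3 G, Nat.card ↥(P : Subgroup G) = 3)
    (P : Sylow 3 G) (g : G) (hg : g ∈ (P : Subgroup G)) (hg1 : g ≠ 1) (Q : Sylow 3 G) :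
    g • Q = Q ↔ Q = P := by
  constructor
  · intro h
    have hgN : g ∈ Subgroup.normalizer ((Q : Subgroup G) : Set G) :=
      Sylow.smul_eq_iff_mem_normalizer.1 h
    have hgQ : g ∈ (P : Subgroup G) ⊓ (Q : Subgroup G) := by
      rw [← IsPGroup.inf_normalizer_sylow P.isPGroup' Q]
      exact ⟨hg, hgN⟩
    have hdvd : Nat.card ↥((P : Subgroup G) ⊓ (Q : Subgroup G)) ∣ 3 := by
      have h := Subgroup.card_dvd_of_le (inf_le_left : (P : Subgroup G) ⊓ (Q : Subgroup G) ≤ P)
      rwa [h3 P] at h
    have hne1 : Nat.card ↥((P : Subgroup G) ⊓ (Q : Subgroup G)) ≠ 1 := by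
      intro h1
      rw [Subgroup.card_eq_one] at h1
      rw [h1, Subgroup.mem_bot] at hgQ
      exact hg1 hgQ
    have hc3 : Nat.card ↥((P : Subgroup G) ⊓ (Q : Subgroup G)) = 3 := by
      rcases (Nat.dvd_prime Nat.prime_three).1 hdvd with h | h
      · exact absurd h hne1
      · exact h
    have hPQ : (P : Subgroup G) ⊓ (Q : Subgroup G) = (P : Subgroup G) :=
      Subgroup.eq_of_le_of_card_ge inf_le_left (by rw [hc3, h3 P])
    have hle : (P : Subgroup G) ≤ (Q : Subgroup G) := by
      rw [← hPQ]; exact inf_le_right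
    have heq : (P : Subgroup G) = (Q : Subgroup G) :=
      Subgroup.eq_of_le_of_card_ge hle (by rw [h3 P, h3 Q])
    exact (Sylow.ext heq).symm
  · rintro rfl
    exact Sylow.smul_eq_iff_mem_normalizer.2 (Subgroup.le_normalizer hg)

/-- **K-B7** (434616). -/
theorem card_normalizer_dvd {G : Type*} [Group G] (c : Ctx G) (P : Sylow 3 G)
    (hker : ∀ n ∈ Subgroup.normalizer ((P : Subgroup G) : Set G),
      (∀ Q : Sylow 3 G, ∃ y ∈ (P : Subgroup G), n • Q = y • Q) → n ∈ (P : Subgroup G)) :
    Nat.card ↥(Subgroup.normalizer ((P : Subgroup G) : Set G)) ∣ 3 * 5040 := by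
  classical
  have := c.fin
  set N : Subgroup G := Subgroup.normalizer ((P : Subgroup G) : Set G) with hN
  have hPN : (P : Subgroup G) ≤ N := Subgroup.le_normalizer
  let P' : Subgroup N := (P : Subgroup G).subgroupOf N
  have hP'n : P'.Normal := Subgroup.normal_in_normalizer
  have hP'card : Nat.card P' = 3 := by
    have h := Nat.card_congr (Subgroup.subgroupOfEquivOfLe hPN).toEquiv
    rwa [c.h3 P] at h
  let r : Setoid (Sylow 3 G) := MulAction.orbitRel P' (Sylow 3 G)
  have hr : ∀ Q Q' : Sylow 3 G, r Q Q' ↔ ∃ y ∈ (P : Subgroup G), y • Q' = Q := by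
    intro Q Q'
    constructor
    · rintro ⟨y, hy⟩
      exact ⟨((y : N) : G), y.2, hy⟩
    · rintro ⟨y, hyP, hy⟩
      exact ⟨⟨⟨y, hPN hyP⟩, hyP⟩, hy⟩
  have hwd : ∀ (n : N) (Q Q' : Sylow 3 G), r Q Q' → r (n • Q) (n • Q') := by
    intro n Q Q' h
    rw [hr] at h ⊢
    obtain ⟨y, hyP, hy⟩ := h
    refine ⟨(n : G) * y * (n : G)⁻¹, ?_, ?_⟩
    · have := (Subgroup.mem_normalizer_iff.1 n.2 y).1 hyP
      exact this
    · rw [← hy]
      show ((n : G) * y * (n : G)⁻¹) • ((n : G) • Q') = (n : G) • (y • Q')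
      simp [mul_smul]
  let act : MulAction N (Quotient r) :=
    { smul := fun n => Quotient.map' (fun Q => n • Q) (hwd n)
      one_smul := by
        rintro ⟨Q⟩
        show Quotient.map' (fun Q => (1 : N) • Q) (hwd 1) (Quotient.mk'' Q) = Quotient.mk'' Q
        rw [Quotient.map'_mk'']
        simp
      mul_smul := by
        rintro m n ⟨Q⟩
        show Quotient.map' (fun Q => (m * n) • Q) (hwd (m * n)) (Quotient.mk'' Q) =
          Quotient.map' (fun Q => m • Q) (hwd m)
            (Quotient.map' (fun Q => n • Q) (hwd n) (Quotient.mk'' Q))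
        rw [Quotient.map'_mk'', Quotient.map'_mk'', Quotient.map'_mk'', mul_smul] }
  have hsmul : ∀ (n : N) (Q : Sylow 3 G), n • (Quotient.mk'' Q : Quotient r) = Quotient.mk'' (n • Q) :=
    fun n Q => rfl
  -- number of orbits
  have : Fintype P' := Fintype.ofFinite _
  have : Fintype (Quotient r) := Fintype.ofFinite _
  have : Fintype (Sylow 3 G) := Fintype.ofFinite _
  have hfix : ∀ g : P', Fintype.card (MulAction.fixedBy (Sylow 3 G) g) =
      1 + if g = 1 then 21 else 0 := by
    intro g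
    by_cases hg : g = 1
    · subst hg
      simp only [if_true]
      rw [← Nat.card_eq_fintype_card, MulAction.fixedBy_one_eq_univ, Nat.card_congr (Equiv.Set.univ _), c.h22]
    · simp only [hg, if_false, add_zero]
      rw [Fintype.card_eq_one_iff]
      have hg1 : ((g : N) : G) ≠ 1 := by
        intro h
        apply hg
        ext
        exact h
      refine ⟨⟨P, (smul_eq_iff_of_mem c.h3 P _ g.2 hg1 P).2 rfl⟩, ?_⟩
      rintro ⟨Q, hQ⟩
      ext1
      exact (smul_eq_iff_of_mem c.h3 P _ g.2 hg1 Q).1 hQ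
  have hΩ : Fintype.card (Quotient r) = 8 := by
    have hB := MulAction.sum_card_fixedBy_eq_card_orbits_mul_card_group P' (Sylow 3 G)
    have h3' : Fintype.card P' = 3 := by rw [← Nat.card_eq_fintype_card, hP'card]
    rw [h3'] at hB
    have hsum : (∑ g : P', Fintype.card (MulAction.fixedBy (Sylow 3 G) g)) = 24 := by
      simp_rw [hfix]
      rw [Finset.sum_add_distrib, Finset.sum_ite_eq' Finset.univ (1 : P')]
      simp [h3']
    rw [hsum] at hB
    have : Fintype.card (Quotient r) * 3 = 8 * 3 := by rw [← hB]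
    exact Nat.eq_of_mul_eq_mul_right (by norm_num) this
  -- the homomorphism
  let φ : N →* Equiv.Perm (Quotient r) := MulAction.toPermHom N (Quotient r)
  have hkerle : φ.ker ≤ P' := by
    intro n hn
    rw [MonoidHom.mem_ker] at hn
    show (n : G) ∈ (P : Subgroup G)
    apply hker n n.2
    intro Q
    have h1 : n • (Quotient.mk'' Q : Quotient r) = Quotient.mk'' Q := by
      have := congrArg (fun f => f (Quotient.mk'' Q : Quotient r)) hn
      simpa [φ] using this
    rw [hsmul] at h1
    have h2 : r (n • Q) Q := Quotient.eq''.1 h1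
    rw [hr] at h2
    obtain ⟨y, hy, hyQ⟩ := h2
    exact ⟨y, hy, hyQ.symm⟩
  have hkerdvd : Nat.card φ.ker ∣ 3 := by
    have h := Subgroup.card_dvd_of_le hkerle
    rwa [hP'card] at h
  let ω0 : Quotient r := Quotient.mk'' P
  have hrange : φ.range ≤ MulAction.stabilizer (Equiv.Perm (Quotient r)) ω0 := by
    rintro _ ⟨n, rfl⟩
    rw [MulAction.mem_stabilizer_iff]
    show n • ω0 = ω0
    rw [hsmul]
    congr 1
    exact Sylow.smul_eq_iff_mem_normalizer.2 n.2
  have hstab : Nat.card (MulAction.stabilizer (Equiv.Perm (Quotient r)) ω0) = 5040 := by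
    have h1 := Subgroup.card_mul_index (MulAction.stabilizer (Equiv.Perm (Quotient r)) ω0)
    have h8 : Nat.card (Quotient r) = 8 := by rw [Nat.card_eq_fintype_card, hΩ]
    rw [MulAction.index_stabilizer, MulAction.orbit_eq_univ, Set.ncard_univ, Nat.card_perm,
      h8] at h1
    have : Nat.card (MulAction.stabilizer (Equiv.Perm (Quotient r)) ω0) * 8 = 5040 * 8 := by
      rw [h1]; rfl
    exact Nat.eq_of_mul_eq_mul_right (by norm_num) this
  have hrangedvd : Nat.card φ.range ∣ 5040 := by
    have h := Subgroup.card_dvd_of_le hrange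
    rwa [hstab] at h
  have hcard : Nat.card N = Nat.card φ.ker * Nat.card φ.range := by
    rw [← Subgroup.index_ker, Subgroup.card_mul_index]
  rw [hcard]
  exact Nat.mul_dvd_mul hkerdvd hrangedvd

end Cfsg.Agent.Lib.Helper16.Syl22
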