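/-
K-OhP-K1 (keystone 597423, architect helper38, pack S5974), part a: singular hyperbolic frames of a quadratic
form in ANY characteristic; the complement of a singular hyperbolic pair in a plus type space is of plus type;
counting singular vectors, pairs and frames of a nondegenerate plus type subspace.
-/
import Cfsg.Agent.Lib.Helper38.OhP.Defs
import Cfsg.Agent.Lib.Helper80.OhE
import Cfsg.Agent.Lib.Helper50.ElusiveCount
import Cfsg.Agent.Lib.Helper50.PlusForm

set_option autoImplicit false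
set_option linter.unusedSimpArgs false
set_option linter.unusedSectionVars false
set_option linter.unusedVariables false
set_option linter.style.haveILetI false
set_option maxHeartbeats 800000

namespace Cfsg.Agent.Lib.Helper16.OhP

open Module Cfsg.Agent.Lib.Helper98.Elus Cfsg.Agent.Lib.Helper98.Sy Cfsg.Agent.Lib.Helper38.OhP
  Cfsg.Agent.Lib.Helper72.Nd Cfsg.Agent.Lib.Helper98.Ti
open Cfsg.Agent.Lib.Helper80.Oh (IsSF finrank_spanSF nonDeg_spanSF isHF_cons_iff_symm
  polar_comp_subtype half_frame)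

universe u
variable {F : Type u} [Field F] {V : Type u} [AddCommGroup V] [Module F V]

/-- singular hyperbolic frames of a quadratic form (any characteristic) -/
def IsQF (Q : QuadraticForm F V) {k : ℕ} (s : Fin k → V × V) : Prop :=
  IsHF (pB Q) s ∧ ∀ a, Q (s a).1 = 0 ∧ Q (s a).2 = 0

theorem IsQF.isSF {Q : QuadraticForm F V} {k : ℕ} {s : Fin k → V × V} (h : IsQF Q s) :
    IsSF (pB Q) s :=
  ⟨h.1, fun a => ⟨by rw [Cfsg.Agent.Lib.Helper38.OhP.pB_self, (h.2 a).1, mul_zero],
    by rw [Cfsg.Agent.Lib.Helper38.OhP.pB_self, (h.2 a).2, mul_zero]⟩⟩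

theorem q_add_smul (Q : QuadraticForm F V) (a b : V) (c : F) :
    Q (a + c • b) = Q a + c * c * Q b + c * pB Q a b := by
  have h1 : Q (a + c • b) = Q a + Q (c • b) + pB Q a (c • b) := by
    rw [pB_apply]; ring
  rw [h1, QuadraticMap.map_smul, map_smul, smul_eq_mul, smul_eq_mul]

/-- the one-pair frame -/
def pairF (x y : V) : Fin 1 → V × V := fun _ => (x, y)

theorem isQF_pairF (Q : QuadraticForm F V) {x y : V} (hx : Q x = 0) (hy : Q y = 0)
    (hxy : pB Q x y = 1) : IsQF Q (pairF x y) :=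
  ⟨⟨fun a => hxy, fun a b hab => absurd (Subsingleton.elim a b) hab⟩, fun a => ⟨hx, hy⟩⟩

/-- the orthogonal complement of a pair inside `U` -/
noncomputable def complP (Q : QuadraticForm F V) (U : Submodule F V) (x y : V) : Submodule F V :=
  LinearMap.BilinForm.orthogonal (pB Q) (spanHF F (pairF x y)) ⊓ U

theorem mem_complP (Q : QuadraticForm F V) (U : Submodule F V) (x y w : V) :
    w ∈ complP Q U x y ↔ pB Q x w = 0 ∧ pB Q y w = 0 ∧ w ∈ U := by
  unfold complP spanHF
  rw [Submodule.mem_inf, mem_orth_span_range_iff]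
  constructor
  · rintro ⟨h, hU⟩
    exact ⟨h (Sum.inl 0), h (Sum.inr 0), hU⟩
  · rintro ⟨h1, h2, hU⟩
    refine ⟨fun i => ?_, hU⟩
    rcases i with a | a
    · exact h1
    · exact h2

/-- nondegenerate plus type subspace of dimension `2 D` -/
def PT (Q : QuadraticForm F V) (U : Submodule F V) (D : ℕ) : Prop :=
  NonDeg (pB Q) U ∧ finrank F U = 2 * D ∧ PlusQ Q U

theorem qnd_of_nonDeg (Q : QuadraticForm F V) (U : Submodule F V) (hU : NonDeg (pB Q) U) :
    Cfsg.Agent.Lib.Helper50.QND (Q.comp U.subtype) := by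
  intro v hv
  apply Subtype.ext
  rw [Submodule.coe_zero]
  apply hU v v.2
  intro w hw
  have := hv ⟨w, hw⟩
  rw [polar_comp_subtype] at this
  exact this

theorem plusType_of_PT [Fintype F] [FiniteDimensional F V] (Q : QuadraticForm F V)
    (U : Submodule F V) (D : ℕ) (h : PT Q U D) :
    Cfsg.Agent.Lib.Helper50.IsPlusType (Q.comp U.subtype) D := by
  obtain ⟨hU, hd, X, hXU, hX0, hXd⟩ := h
  have hXe : finrank F X = D := by omega
  have hX : finrank F (Submodule.comap U.subtype X) = D := by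
    rw [← hXe]
    exact LinearEquiv.finrank_eq (Submodule.comapSubtypeEquivOfLe hXU)
  exact Cfsg.Agent.Lib.Helper50.plusType_of_totally_singular D (Q.comp U.subtype)
    (qnd_of_nonDeg Q U hU) hd (Submodule.comap U.subtype X) (le_of_eq hX.symm)
    (fun x hx => hX0 x.1 hx)

/-- the complement of a singular hyperbolic pair in a plus type space is of plus type -/
theorem PT_complP [Fintype F] [FiniteDimensional F V] (Q : QuadraticForm F V)
    (U : Submodule F V) (D : ℕ) (h : PT Q U D) {x y : V} (hxU : x ∈ U) (hyU : y ∈ U)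
    (hx : Q x = 0) (hy : Q y = 0) (hxy : pB Q x y = 1) :
    1 ≤ D ∧ PT Q (complP Q U x y) (D - 1) := by
  have hS : ∀ a b, pB Q a b = pB Q b a := Cfsg.Agent.Lib.Helper38.OhP.pB_symm Q
  have hR := Cfsg.Agent.Lib.Helper98.Os.isRefl_of_symm hS
  have hs := (isQF_pairF Q hx hy hxy).isSF
  have hHn := nonDeg_spanSF hS (pairF x y) hs
  have hHd := finrank_spanSF hS (pairF x y) hs
  have hHU : spanHF F (pairF x y) ≤ U := spanHF_le (pairF x y) U (fun a => ⟨hxU, hyU⟩)
  obtain ⟨-, -, h3, h4⟩ := Cfsg.Agent.Lib.Helper98.Os.compl_props hR (spanHF F (pairF x y)) U hHn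
    hHU h.1
  have hD1 : 1 ≤ D := by have := h.2.1; omega
  refine ⟨hD1, h3, by unfold complP; have := h.2.1; omega, ?_⟩
  -- the type
  have hp := plusType_of_PT Q U D h
  have hQND := qnd_of_nonDeg Q U h.1
  have hx' : (Q.comp U.subtype) ⟨x, hxU⟩ = 0 := by simpa [QuadraticMap.comp_apply] using hx
  have hy' : (Q.comp U.subtype) ⟨y, hyU⟩ = 0 := by simpa [QuadraticMap.comp_apply] using hy
  have hxy' : QuadraticMap.polar (Q.comp U.subtype) (⟨x, hxU⟩ : U) ⟨y, hyU⟩ = 1 := by
    rw [polar_comp_subtype]; exact hxy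
  have hCnd := Cfsg.Agent.Lib.Helper50.QND_pairCompl (Q.comp U.subtype) ⟨x, hxU⟩ ⟨y, hyU⟩ hx' hy'
    hxy' hQND
  have hCd := Cfsg.Agent.Lib.Helper50.finrank_pairCompl (Q.comp U.subtype) ⟨x, hxU⟩ ⟨y, hyU⟩ hx' hy'
    hxy'
  have hUd : finrank F ↥U = 2 * D := h.2.1
  rcases Cfsg.Agent.Lib.Helper50.witt_type (2 * D - 2)
      ((Q.comp U.subtype).comp
        (Cfsg.Agent.Lib.Helper50.pairCompl (Q.comp U.subtype) ⟨x, hxU⟩ ⟨y, hyU⟩).subtype)
      (by omega) hCnd with
    ⟨m, hm, hpl⟩ | ⟨m, ζ, hm, hζ, hmi⟩ | ⟨m, c, hm, -, -⟩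
  · obtain ⟨X, hXd, hX0⟩ := Cfsg.Agent.Lib.Helper50.exists_totally_singular_of_plusType _ m hpl
    refine ⟨(X.map (Cfsg.Agent.Lib.Helper50.pairCompl (Q.comp U.subtype) ⟨x, hxU⟩
      ⟨y, hyU⟩).subtype).map U.subtype, ?_, ?_, ?_⟩
    · rintro _ ⟨_, ⟨c, hc, rfl⟩, rfl⟩
      rw [mem_complP]
      obtain ⟨h5, h6⟩ := Cfsg.Agent.Lib.Helper50.mem_pairCompl.mp c.2
      have h5' := polar_comp_subtype Q U ⟨x, hxU⟩ (c : U)
      have h6' := polar_comp_subtype Q U ⟨y, hyU⟩ (c : U)
      rw [h5] at h5'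
      rw [h6] at h6'
      exact ⟨h5'.symm, h6'.symm, (c : U).2⟩
    · rintro _ ⟨_, ⟨c, hc, rfl⟩, rfl⟩
      have := hX0 c hc
      simpa [QuadraticMap.comp_apply] using this
    · rw [Submodule.finrank_map_subtype_eq, Submodule.finrank_map_subtype_eq, hXd]
      have : finrank F ↥(complP Q U x y) = 2 * D - 2 := by unfold complP; omega
      rw [this]
      omega
  · exfalso
    have hmi' := Cfsg.Agent.Lib.Helper50.step_minus (Q.comp U.subtype) ⟨x, hxU⟩ ⟨y, hyU⟩ hx' hy'
      hxy' hmi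
    have hDm : D = m + 1 + 1 := by omega
    rw [hDm] at hp
    exact Cfsg.Agent.Lib.Helper50.not_plus_and_minus (Q.comp U.subtype) (m + 1) ζ hζ hp hmi'
  · omega

end Cfsg.Agent.Lib.Helper16.OhP
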