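/-
K-OhP-K1 (keystone 597423), part b: counting singular vectors, singular hyperbolic pairs and frames of a
nondegenerate plus type subspace (any characteristic).
-/
import Cfsg.Agent.Lib.Helper16.OhPK1a

set_option autoImplicit false
set_option linter.unusedSimpArgs false
set_option linter.unusedSectionVars false
set_option linter.unusedVariables false
set_option linter.style.haveILetI false
set_option maxHeartbeats 800000

namespace Cfsg.Agent.Lib.Helper16.OhP

open Module Cfsg.Agent.Lib.Helper98.Elus Cfsg.Agent.Lib.Helper98.Sy Cfsg.Agent.Lib.Helper38.OhP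
  Cfsg.Agent.Lib.Helper72.Nd Cfsg.Agent.Lib.Helper98.Ti
open Cfsg.Agent.Lib.Helper80.Oh (IsSF finrank_spanSF nonDeg_spanSF isHF_cons_iff_symm
  polar_comp_subtype half_frame)

universe u
variable {F : Type u} [Field F] {V : Type u} [AddCommGroup V] [Module F V]

section Count

variable [Fintype F] [FiniteDimensional F V]

/-- the number of nonzero singular vectors of a nondegenerate plus type subspace -/
theorem card_singQ_vectors (Q : QuadraticForm F V) (U : Submodule F V) (D : ℕ) (h : PT Q U D) :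
    Nat.card {x : V // x ∈ U ∧ x ≠ 0 ∧ Q x = 0} =
      (Fintype.card F ^ D - 1) * (Fintype.card F ^ (D - 1) + 1) := by
  classical
  haveI : Finite V := Module.finite_of_finite F
  obtain ⟨φ, hφ⟩ := plusType_of_PT Q U D h
  have hcount : Nat.card {v : U // (Q.comp U.subtype) v = 0} =
      Fintype.card F ^ D + (Fintype.card F ^ D - 1) * Fintype.card F ^ (D - 1) := by
    rw [← Cfsg.Agent.Lib.Helper50.card_zeros_plus D]
    apply Nat.card_congr
    exact Equiv.subtypeEquiv φ.toEquiv (fun v => by rw [LinearEquiv.coe_toEquiv, hφ])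
  have h1 : Nat.card {x : V // x ∈ U ∧ x ≠ 0 ∧ Q x = 0} =
      Nat.card ↥(({x : V | x ∈ U ∧ Q x = 0} : Set V) \ {0}) := by
    apply Nat.card_congr
    apply Equiv.subtypeEquivRight
    intro x
    simp only [Set.mem_sdiff, Set.mem_ofPred_eq, Set.mem_singleton_iff]
    tauto
  have h2' : Nat.card ↥({x : V | x ∈ U ∧ Q x = 0} : Set V) =
      Nat.card {v : U // (Q.comp U.subtype) v = 0} := by
    apply Nat.card_congr
    exact
      { toFun := fun x => ⟨⟨x.1, x.2.1⟩, by
          rw [QuadraticMap.comp_apply]; exact x.2.2⟩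
        invFun := fun v => ⟨v.1.1, v.1.2, by
          have := v.2
          rw [QuadraticMap.comp_apply] at this
          exact this⟩
        left_inv := fun x => rfl
        right_inv := fun v => rfl }
  rw [h1, Nat.card_coe_set_eq, Set.ncard_sdiff_singleton_of_mem (by simp), ← Nat.card_coe_set_eq,
    h2', hcount]
  have hq : 1 ≤ Fintype.card F ^ D := Nat.one_le_pow _ _ Fintype.card_pos
  obtain ⟨a, ha⟩ : ∃ a, Fintype.card F ^ D = a + 1 := ⟨Fintype.card F ^ D - 1, by omega⟩
  rw [ha, Nat.add_sub_cancel]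
  have : a + 1 + a * Fintype.card F ^ (D - 1) - 1 = a + a * Fintype.card F ^ (D - 1) := by omega
  rw [this]
  ring

/-- singular partners of a singular vector -/
theorem card_singQ_fiber (Q : QuadraticForm F V) (O : Submodule F V)
    (hO : NonDeg (pB Q) O) (x : V) (hx : x ∈ O) (hx0 : x ≠ 0) (hxx : Q x = 0) :
    Nat.card {y : V // pB Q x y = 1 ∧ y ∈ O ∧ Q y = 0} * Fintype.card F =
      Fintype.card F ^ (finrank F O - 1) := by
  classical
  haveI : Finite V := Module.finite_of_finite F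
  have hS : ∀ a b, pB Q a b = pB Q b a := Cfsg.Agent.Lib.Helper38.OhP.pB_symm Q
  rw [← card_pair_fiber O hO x hx hx0, ← Nat.card_eq_fintype_card (α := F), ← Nat.card_prod]
  apply Nat.card_congr
  symm
  refine
    { toFun := fun y => (⟨y.1 + (-(Q y.1)) • x, ?_, ?_, ?_⟩, Q y.1)
      invFun := fun p => ⟨p.1.1 + p.2 • x, ?_, ?_⟩
      left_inv := ?_
      right_inv := ?_ }
  · rw [map_add, map_smul, Cfsg.Agent.Lib.Helper38.OhP.pB_self, hxx, y.2.1]; simp
  · exact O.add_mem y.2.2 (O.smul_mem _ hx)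
  · rw [q_add_smul, hxx, hS, y.2.1]; ring
  · rw [map_add, map_smul, Cfsg.Agent.Lib.Helper38.OhP.pB_self, hxx, p.1.2.1]; simp
  · exact O.add_mem p.1.2.2.1 (O.smul_mem _ hx)
  · intro y
    apply Subtype.ext
    simp
  · rintro ⟨⟨y', hy1, hy2, hy3⟩, t⟩
    have h1 : Q (y' + t • x) = t := by
      rw [q_add_smul, hxx, hS, hy1, hy3]; ring
    apply Prod.ext
    · apply Subtype.ext
      simp only [h1]
      simp
    · simp only [h1]

/-- the number of singular hyperbolic pairs of a nondegenerate plus type subspace -/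
theorem card_hypPairsQ (Q : QuadraticForm F V) (U : Submodule F V) (D : ℕ) (h : PT Q U D) :
    Nat.card {p : V × V // pB Q p.1 p.2 = 1 ∧ Q p.1 = 0 ∧ Q p.2 = 0 ∧ p.1 ∈ U ∧ p.2 ∈ U} =
      (Fintype.card F ^ D - 1) * (Fintype.card F ^ (D - 1) + 1) *
        Fintype.card F ^ (2 * D - 2) := by
  classical
  haveI : Finite V := Module.finite_of_finite F
  let e : {p : V × V // pB Q p.1 p.2 = 1 ∧ Q p.1 = 0 ∧ Q p.2 = 0 ∧ p.1 ∈ U ∧ p.2 ∈ U} ≃
      Σ x : {x : V // x ∈ U ∧ x ≠ 0 ∧ Q x = 0},
        {y : V // pB Q x.1 y = 1 ∧ y ∈ U ∧ Q y = 0} :=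
    { toFun := fun p => ⟨⟨p.1.1, p.2.2.2.2.1, fun h => by
          have := p.2.1
          rw [h] at this
          simp at this, p.2.2.1⟩, ⟨p.1.2, p.2.1, p.2.2.2.2.2, p.2.2.2.1⟩⟩
      invFun := fun s => ⟨(s.1.1, s.2.1), s.2.2.1, s.1.2.2.2, s.2.2.2.2, s.1.2.1, s.2.2.2.1⟩
      left_inv := fun p => rfl
      right_inv := fun s => rfl }
  rw [Nat.card_congr e]
  haveI : Fintype {x : V // x ∈ U ∧ x ≠ 0 ∧ Q x = 0} := Fintype.ofFinite _
  have hq : 1 < Fintype.card F := Fintype.one_lt_card
  have hfib : ∀ x : {x : V // x ∈ U ∧ x ≠ 0 ∧ Q x = 0},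
      Nat.card {y : V // pB Q x.1 y = 1 ∧ y ∈ U ∧ Q y = 0} = Fintype.card F ^ (2 * D - 2) := by
    intro x
    have h1 := card_singQ_fiber Q U h.1 x.1 x.2.1 x.2.2.1 x.2.2.2
    rw [h.2.1] at h1
    have hD1 : 1 ≤ D := by
      rcases Nat.eq_zero_or_pos D with h0 | h0
      · exfalso
        rw [h0] at h1
        simp only [Nat.mul_zero, Nat.zero_sub, pow_zero] at h1
        have := Nat.eq_one_of_mul_eq_one_left h1
        omega
      · exact h0
    have h3 : Fintype.card F ^ (2 * D - 1) = Fintype.card F ^ (2 * D - 2) * Fintype.card F := by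
      rw [← pow_succ]
      congr 1
      omega
    rw [h3] at h1
    exact Nat.eq_of_mul_eq_mul_right (by omega) h1
  rw [Nat.card_sigma, Finset.sum_congr rfl (fun x _ => hfib x), Finset.sum_const,
    Finset.card_univ, ← Nat.card_eq_fintype_card, smul_eq_mul, card_singQ_vectors Q U D h]

end Count

end Cfsg.Agent.Lib.Helper16.OhP
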