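/-
K-OhP-K1 (keystone 597423), part c: the number of singular hyperbolic frames of a nondegenerate plus type
subspace; frames versus subspaces.
-/
import Cfsg.Agent.Lib.Helper16.OhPK1b

set_option autoImplicit false
set_option linter.unusedSimpArgs false
set_option linter.unusedSectionVars false
set_option linter.unusedVariables false
set_option linter.style.haveILetI false
set_option maxHeartbeats 800000

namespace Cfsg.Agent.Lib.Helper16.OhP

open Module Cfsg.Agent.Lib.Helper98.Elus Cfsg.Agent.Lib.Helper98.Sy Cfsg.Agent.Lib.Helper38.OhP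
  Cfsg.Agent.Lib.Helper72.Nd Cfsg.Agent.Lib.Helper98.Ti
open Cfsg.Agent.Lib.Helper80.Oh (IsSF finrank_spanSF nonDeg_spanSF isHF_cons_iff_symm
  polar_comp_subtype half_frame)

universe u
variable {F : Type u} [Field F] {V : Type u} [AddCommGroup V] [Module F V]

theorem frame_head_iff (Q : QuadraticForm F V) (U : Submodule F V) {k : ℕ}
    (t : Fin k → V × V) (p : V × V) :
    (IsQF Q (Fin.cons p t : Fin (k + 1) → V × V) ∧ InU U (Fin.cons p t : Fin (k + 1) → V × V)) ↔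
      (pB Q p.1 p.2 = 1 ∧ Q p.1 = 0 ∧ Q p.2 = 0 ∧ p.1 ∈ U ∧ p.2 ∈ U) ∧
        (IsQF Q t ∧ InU (complP Q U p.1 p.2) t) := by
  have hS : ∀ a b, pB Q a b = pB Q b a := Cfsg.Agent.Lib.Helper38.OhP.pB_symm Q
  unfold IsQF
  rw [isHF_cons_iff_symm hS, Fin.forall_fin_succ, inU_cons_iff]
  simp only [Fin.cons_zero, Fin.cons_succ]
  unfold InU spanHF
  rw [mem_orth_span_range_iff, mem_orth_span_range_iff]
  simp only [mem_complP]
  constructor
  · rintro ⟨⟨⟨h1, h2, h3, h4⟩, ⟨h5, h6⟩, h7⟩, h8, h9, h10⟩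
    refine ⟨⟨h2, h5, h6, h9, h10⟩, ⟨h1, h7⟩, fun a => ⟨⟨?_, ?_, (h8 a).1⟩, ?_, ?_, (h8 a).2⟩⟩
    · rw [hS]; exact h3 (Sum.inl a)
    · rw [hS]; exact h4 (Sum.inl a)
    · rw [hS]; exact h3 (Sum.inr a)
    · rw [hS]; exact h4 (Sum.inr a)
  · rintro ⟨⟨h2, h5, h6, h9, h10⟩, ⟨h1, h7⟩, h8⟩
    refine ⟨⟨⟨h1, h2, fun i => ?_, fun i => ?_⟩, ⟨h5, h6⟩, h7⟩,
      fun a => ⟨(h8 a).1.2.2, (h8 a).2.2.2⟩, h9, h10⟩
    · rcases i with a | a
      · rw [hS]; exact (h8 a).1.1
      · rw [hS]; exact (h8 a).2.1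
    · rcases i with a | a
      · rw [hS]; exact (h8 a).1.2.1
      · rw [hS]; exact (h8 a).2.2.1

section Count

variable [Fintype F] [FiniteDimensional F V]

/-- the number of singular hyperbolic frames of a nondegenerate plus type subspace -/
theorem card_framesQ (Q : QuadraticForm F V) : ∀ (k : ℕ) (U : Submodule F V) (D : ℕ), PT Q U D →
    Nat.card {s : Fin k → V × V // IsQF Q s ∧ InU U s} =
      ∏ j ∈ Finset.range k, ((Fintype.card F ^ (D - j) - 1) *
        (Fintype.card F ^ (D - j - 1) + 1) * Fintype.card F ^ (2 * (D - j) - 2)) := by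
  classical
  haveI : Finite V := Module.finite_of_finite F
  intro k
  induction k with
  | zero =>
    intro U D _
    rw [Finset.prod_range_zero]
    haveI : Unique {s : Fin 0 → V × V // IsQF Q s ∧ InU U s} :=
      { default := ⟨fun a => a.elim0, ⟨⟨fun a => a.elim0, fun a => a.elim0⟩, fun a => a.elim0⟩,
          fun a => a.elim0⟩
        uniq := fun s => Subtype.ext (funext fun a => a.elim0) }
    exact Nat.card_unique
  | succ k ih =>
    intro U D hPT
    let e : {s : Fin (k + 1) → V × V // IsQF Q s ∧ InU U s} ≃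
        Σ p : {p : V × V // pB Q p.1 p.2 = 1 ∧ Q p.1 = 0 ∧ Q p.2 = 0 ∧ p.1 ∈ U ∧ p.2 ∈ U},
          {t : Fin k → V × V // IsQF Q t ∧ InU (complP Q U p.1.1 p.1.2) t} :=
      { toFun := fun s => ⟨⟨s.1 0, ((frame_head_iff Q U (Fin.tail s.1) (s.1 0)).mp
              (by rw [Fin.cons_self_tail]; exact s.2)).1⟩,
          ⟨Fin.tail s.1, ((frame_head_iff Q U (Fin.tail s.1) (s.1 0)).mp
              (by rw [Fin.cons_self_tail]; exact s.2)).2⟩⟩
        invFun := fun x => ⟨Fin.cons x.1.1 x.2.1,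
          (frame_head_iff Q U x.2.1 x.1.1).mpr ⟨x.1.2, x.2.2⟩⟩
        left_inv := fun s => by simp only [Fin.cons_self_tail, Subtype.coe_eta]
        right_inv := fun ⟨⟨p, hp⟩, ⟨t, ht⟩⟩ =>
          sigma_subtype_ext
            (P := fun (p : V × V) => pB Q p.1 p.2 = 1 ∧ Q p.1 = 0 ∧ Q p.2 = 0 ∧ p.1 ∈ U ∧ p.2 ∈ U)
            (Q := fun (p : V × V) (t : Fin k → V × V) =>
              IsQF Q t ∧ InU (complP Q U p.1 p.2) t) _ _ _ _ _ _ _ _
            (show (Fin.cons p t : Fin (k + 1) → V × V) 0 = p from Fin.cons_zero _ _)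
            (show Fin.tail (Fin.cons p t : Fin (k + 1) → V × V) = t from Fin.tail_cons _ _) }
    rw [Nat.card_congr e]
    haveI : Fintype {p : V × V // pB Q p.1 p.2 = 1 ∧ Q p.1 = 0 ∧ Q p.2 = 0 ∧ p.1 ∈ U ∧ p.2 ∈ U} :=
      Fintype.ofFinite _
    rw [Nat.card_sigma]
    have hfib : ∀ p : {p : V × V // pB Q p.1 p.2 = 1 ∧ Q p.1 = 0 ∧ Q p.2 = 0 ∧ p.1 ∈ U ∧ p.2 ∈ U},
        Nat.card {t : Fin k → V × V // IsQF Q t ∧ InU (complP Q U p.1.1 p.1.2) t} =
          ∏ j ∈ Finset.range k, ((Fintype.card F ^ (D - 1 - j) - 1) *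
            (Fintype.card F ^ (D - 1 - j - 1) + 1) * Fintype.card F ^ (2 * (D - 1 - j) - 2)) := by
      intro p
      obtain ⟨-, h1⟩ := PT_complP Q U D hPT p.2.2.2.2.1 p.2.2.2.2.2 p.2.2.1 p.2.2.2.1 p.2.1
      exact ih _ _ h1
    rw [Finset.sum_congr rfl (fun p _ => hfib p), Finset.sum_const, Finset.card_univ,
      ← Nat.card_eq_fintype_card, card_hypPairsQ Q U D hPT, smul_eq_mul,
      Finset.prod_range_succ', mul_comm]
    congr 1
    · apply Finset.prod_congr rfl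
      intro j _
      have h1 : D - (j + 1) = D - 1 - j := by omega
      rw [h1]

end Count

end Cfsg.Agent.Lib.Helper16.OhP
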