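/-
K-OhP-K1 (keystone 597423), part d: the concrete space `Q0 d F`; fibres of the span map; the theorem.
-/
import Cfsg.Agent.Lib.Helper16.OhPK1c

set_option autoImplicit false
set_option linter.unusedSimpArgs false
set_option linter.unusedSectionVars false
set_option linter.unusedVariables false
set_option linter.style.haveILetI false
set_option maxHeartbeats 800000

namespace Cfsg.Agent.Lib.Helper16.OhP

open Module Cfsg.Agent.Lib.Helper98.Elus Cfsg.Agent.Lib.Helper98.Sy Cfsg.Agent.Lib.Helper38.OhP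
  Cfsg.Agent.Lib.Helper72.Nd Cfsg.Agent.Lib.Helper98.Ti
open Cfsg.Agent.Lib.Helper80.Oh (IsSF finrank_spanSF nonDeg_spanSF isHF_cons_iff_symm
  polar_comp_subtype half_frame)

universe u
variable {F : Type u} [Field F] {V : Type u} [AddCommGroup V] [Module F V]

/-- a span of pairwise orthogonal singular vectors is totally singular -/
theorem q_zero_on_span (Q : QuadraticForm F V) {ι : Type*} (v : ι → V) (hv : ∀ i, Q (v i) = 0)
    (hB : ∀ i j, pB Q (v i) (v j) = 0) : ∀ u ∈ Submodule.span F (Set.range v), Q u = 0 := by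
  have hle : Submodule.span F (Set.range v) ≤
      LinearMap.BilinForm.orthogonal (pB Q) (Submodule.span F (Set.range v)) := by
    apply Submodule.span_le.mpr
    rintro _ ⟨j, rfl⟩
    exact (mem_orth_span_range_iff v (v j)).mpr (fun i => hB i j)
  intro u hu
  induction hu using Submodule.span_induction with
  | mem x hx =>
    obtain ⟨i, rfl⟩ := hx
    exact hv i
  | zero => exact map_zero Q
  | add x y hx hy hx0 hy0 =>
    have h1 : pB Q x y = 0 := LinearMap.BilinForm.mem_orthogonal_iff.mp (hle hy) x hx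
    have h2 : Q (x + y) = Q x + Q y + pB Q x y := by rw [pB_apply]; ring
    rw [h2, hx0, hy0, h1]; ring
  | smul a x hx hx0 =>
    rw [QuadraticMap.map_smul, hx0, smul_zero]

/-- singular frames are determined by the Gram matrix and the values of `Q` -/
theorem isQF_congr {V' : Type u} [AddCommGroup V'] [Module F V'] (Q : QuadraticForm F V)
    (Q' : QuadraticForm F V') {k : ℕ} (s : Fin k → V × V) (s' : Fin k → V' × V')
    (h : ∀ i j : Fin k ⊕ Fin k, pB Q (flat s i) (flat s j) = pB Q' (flat s' i) (flat s' j))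
    (hq : ∀ i : Fin k ⊕ Fin k, Q (flat s i) = Q' (flat s' i)) :
    IsQF Q s → IsQF Q' s' := by
  rintro ⟨⟨h1, h2⟩, h3⟩
  refine ⟨⟨fun a => ?_, fun a b hab => ⟨?_, ?_, ?_, ?_⟩⟩, fun a => ⟨?_, ?_⟩⟩
  · rw [← h1 a]; exact (h (Sum.inl a) (Sum.inr a)).symm
  · rw [← (h2 a b hab).1]; exact (h (Sum.inl a) (Sum.inl b)).symm
  · rw [← (h2 a b hab).2.1]; exact (h (Sum.inl a) (Sum.inr b)).symm
  · rw [← (h2 a b hab).2.2.1]; exact (h (Sum.inr a) (Sum.inl b)).symm
  · rw [← (h2 a b hab).2.2.2]; exact (h (Sum.inr a) (Sum.inr b)).symm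
  · rw [← (h3 a).1]; exact (hq (Sum.inl a)).symm
  · rw [← (h3 a).2]; exact (hq (Sum.inr a)).symm

section Count

variable [Fintype F] [FiniteDimensional F V]

/-- frames versus subspaces: the generic fibre count -/
theorem card_framesQ_eq_mul (Q : QuadraticForm F V) (e : ℕ) (P : Submodule F V → Prop) (c : ℕ)
    (hP : ∀ s : Fin e → V × V, IsQF Q s → P (spanHF F s))
    (hc : ∀ W : Submodule F V, finrank F W = 2 * e → P W →
      Nat.card {t : Fin e → V × V // IsQF Q t ∧ InU W t} = c) :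
    Nat.card {s : Fin e → V × V // IsQF Q s ∧ InU (⊤ : Submodule F V) s} =
      Nat.card {W : Submodule F V // finrank F W = 2 * e ∧ P W} * c := by
  classical
  haveI : Finite V := Module.finite_of_finite F
  have hS : ∀ a b, pB Q a b = pB Q b a := Cfsg.Agent.Lib.Helper38.OhP.pB_symm Q
  let fmap : {s : Fin e → V × V // IsQF Q s ∧ InU (⊤ : Submodule F V) s} →
      {W : Submodule F V // finrank F W = 2 * e ∧ P W} :=
    fun s => ⟨spanHF F s.1, finrank_spanSF hS s.1 s.2.1.isSF, hP s.1 s.2.1⟩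
  rw [← Nat.card_congr (Equiv.sigmaFiberEquiv fmap)]
  haveI : Fintype {W : Submodule F V // finrank F W = 2 * e ∧ P W} := Fintype.ofFinite _
  rw [Nat.card_sigma]
  have hfib : ∀ W : {W : Submodule F V // finrank F W = 2 * e ∧ P W},
      Nat.card {s : {s : Fin e → V × V // IsQF Q s ∧ InU (⊤ : Submodule F V) s} // fmap s = W} =
        c := by
    intro W
    let eq : {s : {s : Fin e → V × V // IsQF Q s ∧ InU (⊤ : Submodule F V) s} // fmap s = W} ≃
        {t : Fin e → V × V // IsQF Q t ∧ InU W.1 t} :=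
      { toFun := fun s => ⟨s.1.1, s.1.2.1, fun a => by
            have h1 : spanHF F s.1.1 = W.1 := congrArg Subtype.val s.2
            rw [← h1]
            exact mem_spanHF s.1.1 a⟩
        invFun := fun t => ⟨⟨t.1, t.2.1, fun a => ⟨Submodule.mem_top, Submodule.mem_top⟩⟩, by
            apply Subtype.ext
            show spanHF F t.1 = W.1
            exact Submodule.eq_of_le_of_finrank_eq (spanHF_le t.1 W.1 t.2.2)
              (by rw [finrank_spanSF hS t.1 t.2.1.isSF, W.2.1])⟩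
        left_inv := fun s => by
          apply Subtype.ext
          apply Subtype.ext
          rfl
        right_inv := fun t => by
          apply Subtype.ext
          rfl }
    rw [Nat.card_congr eq, hc W.1 W.2.1 W.2.2]
  rw [Finset.sum_congr rfl (fun W _ => hfib W), Finset.sum_const, Finset.card_univ,
    ← Nat.card_eq_fintype_card, smul_eq_mul]

end Count

/-! ### the concrete plus type space -/

section Plus

variable {K : Type u} [Field K] [Fintype K]

theorem Q0_apply (d : ℕ) (v : Fin d ⊕ Fin d → K) : Q0 d K v = Cfsg.quadFormPlus d K v := rfl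

theorem pB_Q0 (d : ℕ) (u v : Fin d ⊕ Fin d → K) :
    pB (Q0 d K) u v = QuadraticMap.polar (Cfsg.quadFormPlus d K) u v := rfl

theorem PT_top_Q0 (d : ℕ) : PT (Q0 d K) (⊤ : Submodule K (Fin d ⊕ Fin d → K)) d := by
  refine ⟨?_, ?_, ?_⟩
  · have hN := Cfsg.Agent.Lib.Helper50.QPlus_nondegenerate (m := d) (F := K)
    intro u _ h
    exact hN.1 u (fun w => h w Submodule.mem_top)
  · rw [finrank_top, Module.finrank_fintype_fun_eq_card, Fintype.card_sum, Fintype.card_fin]
    ring
  · obtain ⟨X, hXd, hX0⟩ := Cfsg.Agent.Lib.Helper50.exists_totally_singular_of_plusType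
      (Q0 d K) d ⟨LinearEquiv.refl K _, fun v => rfl⟩
    refine ⟨X, le_top, hX0, ?_⟩
    rw [hXd, finrank_top, Module.finrank_fintype_fun_eq_card, Fintype.card_sum, Fintype.card_fin]
    ring

/-- `IsHyp` in terms of `PT` -/
theorem isHyp_iff_PT (d e : ℕ) (W : Submodule K (Fin d ⊕ Fin d → K)) :
    IsHyp d (2 * e) W ↔ PT (Q0 d K) W e := by
  constructor
  · rintro ⟨h1, h2, U, hUW, hUd, hU0⟩
    refine ⟨?_, h1, U, hUW, hU0, by rw [hUd, h1]⟩
    intro u hu h
    by_contra hu0
    obtain ⟨v, hv, hne⟩ := h2 u hu hu0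
    exact hne (h v hv)
  · rintro ⟨h1, h2, U, hUW, hU0, hUd⟩
    refine ⟨h2, ?_, U, hUW, by rw [hUd, h2], hU0⟩
    intro u hu hu0
    by_contra hcon
    push Not at hcon
    exact hu0 (h1 u hu hcon)

/-- the span of a frame is a hyperbolic subspace -/
theorem span_frame_isHyp (d : ℕ) {e : ℕ}
    (s : Fin e → (Fin d ⊕ Fin d → K) × (Fin d ⊕ Fin d → K)) (hs : IsQF (Q0 d K) s) :
    IsHyp d (2 * e) (spanHF K s) := by
  have hS : ∀ a b, pB (Q0 d K) a b = pB (Q0 d K) b a := Cfsg.Agent.Lib.Helper38.OhP.pB_symm _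
  rw [isHyp_iff_PT]
  refine ⟨nonDeg_spanSF hS s hs.isSF, finrank_spanSF hS s hs.isSF, ?_⟩
  obtain ⟨h1, -, h3⟩ := half_frame hS s hs.isSF
  refine ⟨Submodule.span K (Set.range fun a => (s a).1), h1, ?_, by
    rw [h3, finrank_spanSF hS s hs.isSF]⟩
  apply q_zero_on_span (Q0 d K) (fun a => (s a).1) (fun a => (hs.2 a).1)
  intro a b
  by_cases hab : a = b
  · subst hab
    rw [Cfsg.Agent.Lib.Helper38.OhP.pB_self, (hs.2 a).1, mul_zero]
  · exact (hs.1.2 a b hab).1

/-- the number of frames inside a hyperbolic `2e`-subspace does not depend on the subspace -/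
theorem card_framesQ_in (d e : ℕ) (W : Submodule K (Fin d ⊕ Fin d → K))
    (hW : IsHyp d (2 * e) W) :
    Nat.card {t : Fin e → (Fin d ⊕ Fin d → K) × (Fin d ⊕ Fin d → K) //
        IsQF (Q0 d K) t ∧ InU W t} =
      Nat.card {t : Fin e → (Fin e ⊕ Fin e → K) × (Fin e ⊕ Fin e → K) // IsQF (Q0 e K) t} := by
  classical
  obtain ⟨φ, hφ⟩ := plusType_of_PT (Q0 d K) W e ((isHyp_iff_PT d e W).mp hW)
  have hφQ : ∀ x : W, Q0 e K (φ x) = Q0 d K (x : Fin d ⊕ Fin d → K) := fun x => hφ x
  have hφB : ∀ x y : W, pB (Q0 e K) (φ x) (φ y) = pB (Q0 d K) (x : Fin d ⊕ Fin d → K) y := by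
    intro x y
    rw [pB_apply, pB_apply, ← map_add, hφQ, hφQ, hφQ]
    rfl
  apply Nat.card_congr
  refine
    { toFun := fun t => ⟨fun a => (φ ⟨(t.1 a).1, (t.2.2 a).1⟩, φ ⟨(t.1 a).2, (t.2.2 a).2⟩), ?_⟩
      invFun := fun t' => ⟨fun a => ((φ.symm (t'.1 a).1 : Fin d ⊕ Fin d → K),
        (φ.symm (t'.1 a).2 : Fin d ⊕ Fin d → K)), ?_, ?_⟩
      left_inv := ?_
      right_inv := ?_ }
  · refine isQF_congr (Q0 d K) (Q0 e K) t.1 _ ?_ ?_ t.2.1
    · intro i j
      rcases i with a | a <;> rcases j with b | b <;>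
        simp only [flat, Sum.elim_inl, Sum.elim_inr] <;> rw [hφB]
    · intro i
      rcases i with a | a <;> simp only [flat, Sum.elim_inl, Sum.elim_inr] <;> rw [hφQ]
  · refine isQF_congr (Q0 e K) (Q0 d K) t'.1 _ ?_ ?_ t'.2
    · intro i j
      have key : ∀ x y : (Fin e ⊕ Fin e → K),
          pB (Q0 e K) x y = pB (Q0 d K) (φ.symm x : Fin d ⊕ Fin d → K) (φ.symm y) := by
        intro x y
        rw [← hφB, LinearEquiv.apply_symm_apply, LinearEquiv.apply_symm_apply]
      rcases i with a | a <;> rcases j with b | b <;>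
        simp only [flat, Sum.elim_inl, Sum.elim_inr] <;> rw [key]
    · intro i
      have key : ∀ x : (Fin e ⊕ Fin e → K),
          Q0 e K x = Q0 d K (φ.symm x : Fin d ⊕ Fin d → K) := by
        intro x
        rw [← hφQ, LinearEquiv.apply_symm_apply]
      rcases i with a | a <;> simp only [flat, Sum.elim_inl, Sum.elim_inr] <;> rw [key]
  · intro a
    exact ⟨Subtype.property _, Subtype.property _⟩
  · intro t
    apply Subtype.ext
    funext a
    simp
  · intro t'
    apply Subtype.ext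
    funext a
    simp

end Plus

/-- **K-OhP-K1.** -/
theorem exists_of_dvd_card_hyp [Fintype F] (d e : ℕ) (he : 1 ≤ e) (hed : 2 * e < d)
    (r : ℕ) [Fact r.Prime] (hrF : (r : F) ≠ 0)
    (hr : r ∣ Nat.card {W : Submodule F (Fin d ⊕ Fin d → F) // IsHyp d (2 * e) W}) :
    ∃ j : ℕ, j < e ∧
      r ∣ (Fintype.card F ^ (d - j) - 1) * (Fintype.card F ^ (d - j - 1) + 1) := by
  classical
  have hrp : r.Prime := Fact.out
  have h1 := card_framesQ_eq_mul (Q0 d F) e (fun W => IsHyp d (2 * e) W)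
    (Nat.card {t : Fin e → (Fin e ⊕ Fin e → F) × (Fin e ⊕ Fin e → F) // IsQF (Q0 e F) t})
    (fun s hs => span_frame_isHyp d s hs)
    (fun W _ hP => card_framesQ_in d e W hP)
  have h3 := card_framesQ (Q0 d F) e ⊤ d (PT_top_Q0 d)
  rw [h3] at h1
  have hcard : Nat.card {W : Submodule F (Fin d ⊕ Fin d → F) // finrank F W = 2 * e ∧
      IsHyp d (2 * e) W} = Nat.card {W : Submodule F (Fin d ⊕ Fin d → F) // IsHyp d (2 * e) W} :=
    Nat.card_congr (Equiv.subtypeEquivRight (fun W => ⟨fun h => h.2, fun h => ⟨h.1, h⟩⟩))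
  rw [hcard] at h1
  have h4 : r ∣ ∏ j ∈ Finset.range e, ((Fintype.card F ^ (d - j) - 1) *
      (Fintype.card F ^ (d - j - 1) + 1) * Fintype.card F ^ (2 * (d - j) - 2)) := by
    rw [h1]
    exact Dvd.dvd.mul_right hr _
  obtain ⟨j, hj, hjr⟩ := (Prime.dvd_finsetProd_iff (Nat.Prime.prime hrp) _).1 h4
  rw [Finset.mem_range] at hj
  rcases (Nat.Prime.dvd_mul hrp).1 hjr with h | h
  · exact ⟨j, hj, h⟩
  · exact absurd (hrp.dvd_of_dvd_pow h) (not_dvd_card_of_ne_zero r hrF)

end Cfsg.Agent.Lib.Helper16.OhP
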