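/-
K-OhP-W2 (keystone 597408, architect helper38, pack S5974): a nondegenerate subspace `C` of a quadratic space over a
finite field (any characteristic) contains a plus type nondegenerate subspace of every even dimension `e < dim C`.
-/
import Cfsg.Agent.Lib.Helper38.OhP.Defs
import Cfsg.Agent.Lib.Helper80.OhE
import Cfsg.Agent.Lib.Helper50.Isotropic

set_option autoImplicit false
set_option linter.unusedSimpArgs false
set_option linter.unusedSectionVars false
set_option linter.unusedVariables false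
set_option linter.style.haveILetI false
set_option maxHeartbeats 800000

namespace Cfsg.Agent.Lib.Helper16.OhP

open Module Cfsg.Agent.Lib.Helper98.Elus Cfsg.Agent.Lib.Helper98.Sy Cfsg.Agent.Lib.Helper38.OhP
  Cfsg.Agent.Lib.Helper72.Nd Cfsg.Agent.Lib.Helper80.Oh

universe u
variable {F : Type u} [Field F] {V : Type u} [AddCommGroup V] [Module F V]

/-- a singular hyperbolic pair inside a nondegenerate subspace of dimension at least three -/
theorem exists_sing_pair [Fintype F] [FiniteDimensional F V] (Q : QuadraticForm F V)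
    (C : Submodule F V) (hC : NonDeg (pB Q) C) (h3 : 3 ≤ finrank F C) :
    ∃ x ∈ C, ∃ y ∈ C, x ≠ 0 ∧ Q x = 0 ∧ Q y = 0 ∧ pB Q x y = 1 := by
  have hQND : Cfsg.Agent.Lib.Helper50.QND (Q.comp C.subtype) := by
    intro v hv
    apply Subtype.ext
    rw [Submodule.coe_zero]
    apply hC v v.2
    intro w hw
    have := hv ⟨w, hw⟩
    rw [polar_comp_subtype] at this
    exact this
  obtain ⟨v, hv0, hv⟩ := Cfsg.Agent.Lib.Helper50.exists_isotropic (Q.comp C.subtype) h3
  obtain ⟨f, hf0, hf1⟩ := Cfsg.Agent.Lib.Helper50.exists_hyperbolic_pair (Q.comp C.subtype) hQND v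
    hv0 hv
  rw [polar_comp_subtype] at hf1
  refine ⟨v.1, v.2, f.1, f.2, fun h => hv0 (Subtype.ext h), ?_, ?_, hf1⟩
  · simpa [QuadraticMap.comp_apply] using hv
  · simpa [QuadraticMap.comp_apply] using hf0

theorem exists_plus_sub_aux [Fintype F] [FiniteDimensional F V] (Q : QuadraticForm F V) :
    ∀ (k : ℕ) (C : Submodule F V), NonDeg (pB Q) C → 2 * k < finrank F C →
      ∃ W : Submodule F V, W ≤ C ∧ NonDeg (pB Q) W ∧ finrank F W = 2 * k ∧ PlusQ Q W := by
  have hS : ∀ a b, pB Q a b = pB Q b a := Cfsg.Agent.Lib.Helper38.OhP.pB_symm Q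
  have hR := Cfsg.Agent.Lib.Helper98.Os.isRefl_of_symm hS
  intro k
  induction k with
  | zero =>
    intro C hC _
    exact ⟨⊥, bot_le, Cfsg.Agent.Lib.Helper98.Os.nonDeg_bot, by simp, plusQ_bot Q⟩
  | succ k ih =>
    intro C hC hlt
    obtain ⟨x, hxC, y, hyC, hx0, hQx, hQy, hxy⟩ := exists_sing_pair Q C hC (by omega)
    -- the hyperbolic plane
    let s : Fin 1 → V × V := fun _ => (x, y)
    have hs : IsSF (pB Q) s := by
      refine ⟨⟨fun a => hxy, fun a b hab => absurd (Subsingleton.elim a b) hab⟩, fun a => ⟨?_, ?_⟩⟩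
      · show pB Q x x = 0
        rw [Cfsg.Agent.Lib.Helper38.OhP.pB_self, hQx, mul_zero]
      · show pB Q y y = 0
        rw [Cfsg.Agent.Lib.Helper38.OhP.pB_self, hQy, mul_zero]
    have hHn := nonDeg_spanSF hS s hs
    have hHd := finrank_spanSF hS s hs
    have hHC : spanHF F s ≤ C := spanHF_le s C (fun a => ⟨hxC, hyC⟩)
    have hxH : x ∈ spanHF F s := (mem_spanHF s 0).1
    obtain ⟨-, h2, h3, h4⟩ := Cfsg.Agent.Lib.Helper98.Os.compl_props hR (spanHF F s) C hHn hHC hC
    obtain ⟨W', hW'C, hW'n, hW'd, X', hX'W, hX'0, hX'd⟩ :=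
      ih (LinearMap.BilinForm.orthogonal (pB Q) (spanHF F s) ⊓ C) h3 (by omega)
    have hort : Ort (pB Q) (spanHF F s) W' := by
      intro h hh w hw
      exact LinearMap.BilinForm.mem_orthogonal_iff.mp (hW'C hw).1 h hh
    refine ⟨spanHF F s ⊔ W', sup_le hHC (le_trans hW'C inf_le_right),
      (Cfsg.Agent.Lib.Helper98.Os.nonDeg_sup hR _ _ hHn hW'n hort).1, ?_, ?_⟩
    · rw [Cfsg.Agent.Lib.Helper98.Os.finrank_sup_of_ort hR _ _ hHn hW'n hort, hHd, hW'd]
      ring
    · refine ⟨Submodule.span F {x} ⊔ X', ?_, ?_, ?_⟩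
      · apply sup_le
        · rw [Submodule.span_singleton_le_iff_mem]
          exact Submodule.mem_sup_left hxH
        · exact le_trans hX'W le_sup_right
      · intro u hu
        obtain ⟨a, ha, u', hu', rfl⟩ := Submodule.mem_sup.mp hu
        obtain ⟨c, rfl⟩ := Submodule.mem_span_singleton.mp ha
        have hxu' : pB Q x u' = 0 := hort x hxH u' (hX'W hu')
        have h5 : Q (c • x + u') = Q (c • x) + Q u' + pB Q (c • x) u' := by
          rw [pB_apply]; ring
        rw [h5, hX'0 u' hu', QuadraticMap.map_smul, hQx, map_smul, LinearMap.smul_apply, hxu']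
        simp
      · have hdis : Submodule.span F {x} ⊓ X' = ⊥ := by
          rw [eq_bot_iff, ← h2]
          refine le_inf (le_trans inf_le_left ?_) (le_trans inf_le_right (le_trans hX'W hW'C))
          rw [Submodule.span_singleton_le_iff_mem]
          exact hxH
        have h6 := Submodule.finrank_sup_add_finrank_inf_eq (Submodule.span F {x}) X'
        rw [hdis, finrank_bot, finrank_span_singleton hx0] at h6
        rw [Cfsg.Agent.Lib.Helper98.Os.finrank_sup_of_ort hR _ _ hHn hW'n hort, hHd, hW'd]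
        omega

/-- **K-OhP-W2.** -/
theorem exists_plus_sub [Fintype F] [FiniteDimensional F V] (Q : QuadraticForm F V)
    (C : Submodule F V) (hC : NonDeg (pB Q) C) (e : ℕ) (he : Even e) (hlt : e < finrank F C) :
    ∃ W : Submodule F V, W ≤ C ∧ NonDeg (pB Q) W ∧ finrank F W = e ∧ PlusQ Q W := by
  obtain ⟨k, rfl⟩ := he
  have h := exists_plus_sub_aux Q k C hC (by omega)
  rw [two_mul] at h
  exact h

end Cfsg.Agent.Lib.Helper16.OhP
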