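import Mathlib
import Cfsg.Agent.Lib.Helper72.A4ODefs

/-! K-A4O-L6 (S4068): cyclic Sylow 2-subgroups + solvable odd-order subgroups => solvable
(Burnside transfer for the smallest prime, `IsCyclic.isComplement'`). -/

set_option autoImplicit false

namespace Cfsg.Agent.Lib.Helper16.A4O

open Cfsg.Agent.Lib.Helper72.A4O

universe u

theorem solvable_of_cyclic_sylow2 {G : Type u} [Group G] [Finite G] (hep : EPO G)
    (heven : Even (Nat.card G)) (hcyc : ∀ P : Sylow 2 G, IsCyclic ↥P)
    (hodd : ∀ K : Subgroup G, Odd (Nat.card K) → Group.IsSolvable K) : Group.IsSolvable G := by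
  haveI : Fact (Nat.Prime 2) := ⟨Nat.prime_two⟩
  obtain ⟨P⟩ : Nonempty (Sylow 2 G) := inferInstance
  have hp : (Nat.card G).minFac = 2 := (Nat.minFac_eq_two_iff _).2 (even_iff_two_dvd.1 heven)
  have hP : IsCyclic ↥P := hcyc P
  have hNC := hP.normalizer_le_centralizer hp
  have hK : ¬ 2 ∣ Nat.card (MonoidHom.transferSylow P hNC).ker :=
    MonoidHom.not_dvd_card_ker_transferSylow P hNC
  haveI : Group.IsSolvable (MonoidHom.transferSylow P hNC).ker :=
    hodd _ (Nat.not_even_iff_odd.1 (fun h => hK (even_iff_two_dvd.1 h)))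
  haveI : Group.IsNilpotent ↥P := P.isPGroup'.isNilpotent
  haveI : Group.IsSolvable ↥P := inferInstance
  exact Group.isSolvable_of_ker_le_range (MonoidHom.transferSylow P hNC).ker.subtype
    (MonoidHom.transferSylow P hNC) (by rw [Subgroup.range_subtype])

end Cfsg.Agent.Lib.Helper16.A4O
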