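import Mathlib
import Cfsg.Prelude.Def_OddOrderLocal
import Cfsg.Agent.Lib.Helper55.Basic
import Cfsg.Agent.Lib.Helper11.BG1436b
import Cfsg.Agent.Lib.Helper68.BG144G2

/-!
# S1376: transport of the conclusions from a conjugate `cj g M` back to `M` (helper16)
-/

set_option autoImplicit false
set_option linter.unusedSectionVars false

namespace Cfsg.Agent.Lib.Helper16.BG1376

open Cfsg Subgroup Cfsg.Agent.Lib.Helper55
open scoped Pointwise

/-- Frobenius complements are carried along group isomorphisms. -/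
theorem isFrobeniusComplement_comap {A B : Type*} [Group A] [Group B] (φ : A ≃* B) {E : Subgroup B}
    (h : IsFrobeniusComplement E) : IsFrobeniusComplement (E.comap φ.toMonoidHom) := by
  obtain ⟨h1, h2, h3⟩ := h
  refine ⟨?_, ?_, ?_⟩
  · intro hbot
    apply h1
    rw [eq_bot_iff]
    intro b hb
    have hm : φ.symm b ∈ E.comap φ.toMonoidHom := by
      rw [Subgroup.mem_comap]
      simpa using hb
    rw [hbot, Subgroup.mem_bot] at hm
    have hb1 : b = 1 := by
      have := congrArg φ hm
      simpa using this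
    rw [hb1]; exact one_mem _
  · intro htop
    apply h2
    rw [eq_top_iff]
    intro b _
    have hm : φ.symm b ∈ E.comap φ.toMonoidHom := by rw [htop]; trivial
    rw [Subgroup.mem_comap] at hm
    simpa using hm
  · intro a ha
    have ha' : φ a ∉ E := ha
    have h4 := h3 (φ a) ha'
    rw [eq_bot_iff] at h4 ⊢
    intro y hy
    obtain ⟨hy1, hy2'⟩ := hy
    have hy2 : y ∈ MulAut.conj a • comap φ.toMonoidHom E := hy2'
    rw [Subgroup.mem_pointwise_smul_iff_inv_smul_mem] at hy2
    have hy2' : φ (a⁻¹ * y * a) ∈ E := by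
      have : (MulAut.conj a)⁻¹ • y = a⁻¹ * y * a := by
        simp [MulAut.smul_def]
      rw [this] at hy2
      exact hy2
    have h5 : φ y ∈ E ⊓ (MulAut.conj (φ a) • E) := by
      refine Subgroup.mem_inf.mpr ⟨hy1, ?_⟩
      rw [Subgroup.mem_pointwise_smul_iff_inv_smul_mem]
      have : (MulAut.conj (φ a))⁻¹ • φ y = φ (a⁻¹ * y * a) := by
        simp [MulAut.smul_def]
      rw [this]
      exact hy2'
    have h6 := h4 h5
    rw [Subgroup.mem_bot] at h6 ⊢
    have := congrArg φ.symm h6
    simpa using this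

/-- cyclicity is carried along group isomorphisms (comap form) -/
theorem isCyclic_comap {A B : Type*} [Group A] [Group B] (φ : A ≃* B) {E : Subgroup B}
    (h : IsCyclic E) : IsCyclic (E.comap φ.toMonoidHom) := by
  have e : E.comap φ.toMonoidHom = E.map φ.symm.toMonoidHom := by
    ext a
    rw [Subgroup.mem_comap, Subgroup.mem_map]
    constructor
    · intro ha
      exact ⟨φ a, ha, by simp⟩
    · rintro ⟨b, hb, rfl⟩
      simpa using hb
  rw [e]
  exact isCyclic_of_surjective ((φ.symm.toMonoidHom).subgroupMap E)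
    ((φ.symm.toMonoidHom).subgroupMap_surjective E)

variable {G : Type*} [Group G]

/-- transport of clause 2 of S1376 -/
theorem transport_frob {M : Subgroup G} (g : G)
    (h : ∃ E : Subgroup ↥(M.map (MulAut.conj g).toMonoidHom), IsFrobeniusComplement E ∧ IsCyclic E) :
    ∃ E : Subgroup ↥M, IsFrobeniusComplement E ∧ IsCyclic E := by
  obtain ⟨E, hE, hc⟩ := h
  let φ : ↥M ≃* ↥(M.map (MulAut.conj g).toMonoidHom) :=
    M.equivMapOfInjective (MulAut.conj g).toMonoidHom (MulAut.conj g).injective
  exact ⟨E.comap φ.toMonoidHom, isFrobeniusComplement_comap φ hE, isCyclic_comap φ hc⟩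

/-- transport of a cyclic complement of `M_σ` -/
theorem transport_compl [Finite G] (hG : IsMinSimpleOddOrder G) {M : Subgroup G} (hM : IsCoatom M) (g : G)
    (h : ∃ E : Subgroup G, IsComplIn E (sigmaCore (M.map (MulAut.conj g).toMonoidHom))
      (M.map (MulAut.conj g).toMonoidHom) ∧ IsCyclic E) :
    ∃ E : Subgroup G, IsComplIn E (sigmaCore M) M ∧ IsCyclic E := by
  obtain ⟨E, hE, hc⟩ := h
  refine ⟨cj g⁻¹ E, ?_, ?_⟩
  · have h1 := Cfsg.Agent.Lib.Helper11.BG1436.isComplIn_cj hE g⁻¹
    have h2 : sigmaCore (cj g M) = cj g (sigmaCore M) :=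
      Cfsg.Agent.Lib.Helper68.BG144.sigmaCore_cj hG hM g
    have h3 : cj g⁻¹ (sigmaCore (M.map (MulAut.conj g).toMonoidHom)) = sigmaCore M := by
      show cj g⁻¹ (sigmaCore (cj g M)) = sigmaCore M
      rw [h2, cj_inv_cj]
    have h4 : cj g⁻¹ (M.map (MulAut.conj g).toMonoidHom) = M := cj_inv_cj g M
    rw [h3, h4] at h1
    exact h1
  · exact isCyclic_of_surjective (((MulAut.conj g⁻¹).toMonoidHom).subgroupMap E)
      (((MulAut.conj g⁻¹).toMonoidHom).subgroupMap_surjective E)

end Cfsg.Agent.Lib.Helper16.BG1376
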