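import Mathlib
import Cfsg.Agent.Lib.Helper16.BG1376Defs
import Cfsg.Agent.Lib.Helper16.BG1376P1
import Cfsg.Agent.Lib.Helper16.BG1376T
import Cfsg.Agent.Lib.Helper13.BG1376A
import Cfsg.Agent.Lib.Helper13.BG1376E
import Cfsg.Agent.Lib.Helper01.BG1376B
import Cfsg.Agent.Lib.Helper58.BG1376AK

/-!
# S1376 (BG Theorem 15.8): the glue.  The leaf L-T (`q ∈ τ₂(M)`, `q ≠ |K|` is impossible) enters as a
hypothesis `hT`.
-/

set_option autoImplicit false
set_option linter.unusedSectionVars false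

namespace Cfsg.Agent.Lib.Helper16.BG1376

open Cfsg Subgroup

variable {G : Type*} [Group G] [Finite G]

/-- `τ₂(M) = ∅` in a configuration, from the leaves L-K and L-T. -/
theorem Conf.tau2_eq_empty_of (hG : IsMinSimpleOddOrder G) {M N Ns K U : Subgroup G} {x : G}
    (h : Conf M N Ns K U x) (hT : ∀ q : ℕ, q ∈ tau2 M → q ≠ Nat.card K → False) :
    tau2 M = ∅ := by
  rw [Set.eq_empty_iff_forall_notMem]
  intro q hq
  by_cases hqk : q = Nat.card K
  · exact Cfsg.Agent.Lib.Helper58.BG1376.Conf.card_not_mem_tau2 hG h (hqk ▸ hq)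
  · exact hT q hq hqk

/-- In a configuration with `τ₂(M) = ∅` the complement `M ⊓ Ns` is abelian. -/
theorem Conf.abelian (hG : IsMinSimpleOddOrder G) {M N Ns K U : Subgroup G} {x : G}
    (h : Conf M N Ns K U x) : ∀ a ∈ M ⊓ Ns, ∀ b ∈ M ⊓ Ns, a * b = b * a :=
  Cfsg.Agent.Lib.Helper01.BG1376B.compl_comm hG h.hM h.hE
    (Cfsg.Agent.Lib.Helper13.BG1376.conf_isNilpotent_sigmaCore hG h) (h.hUM h.hxU) h.hxp h.hxM
    (fun _ he hex => Cfsg.Agent.Lib.Helper13.BG1376.conf_eq_one_of_commute hG h he hex)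

/-- Clause 2 of S1376 in a configuration with `τ₂(M) = ∅`. -/
theorem Conf.clause2 (hG : IsMinSimpleOddOrder G) {M N Ns K U : Subgroup G} {x : G}
    (h : Conf M N Ns K U x) (hτ : tau2 M = ∅) :
    ∃ E : Subgroup ↥M, IsFrobeniusComplement E ∧ IsCyclic E :=
  Cfsg.Agent.Lib.Helper13.BG1376.conf_clause2_of_abelian_fpf hG h (Conf.abelian hG h)
    (Cfsg.Agent.Lib.Helper13.BG1376.conf_fpf_of_tau2_empty hG h hτ)

/-- **S1376**, with the leaf L-T as a hypothesis. -/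
theorem s1376_of (hG : IsMinSimpleOddOrder G) {M : Subgroup G} (hM : IsCoatom M) {x : G}
    (hx : x ∈ sigmaCore M) (hx1 : x ≠ 1) (hxM : ¬ centralizer ({x} : Set G) ≤ M)
    {N : Subgroup G} (hN : IsCoatom N) (hxN : centralizer ({x} : Set G) ≤ N)
    (hkN : (kappa N).Nonempty)
    (hT : ∀ {M' Ns K U : Subgroup G} {x' : G}, Conf M' N Ns K U x' →
      ∀ q : ℕ, q ∈ tau2 M' → q ≠ Nat.card K → False) :
    kappa M = ∅ ∧ (∃ E : Subgroup ↥M, IsFrobeniusComplement E ∧ IsCyclic E) ∧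
      ¬ IsTISubset (fittingHallOf M : Set G) := by
  obtain ⟨hκ, -, -, hTI⟩ := Cfsg.Agent.Lib.Helper13.BG1376.part1 hG hM hx hx1 hxM hN hxN hkN
  obtain ⟨g, Ns, K, U, x', hc⟩ := exists_conf hG hM hx hx1 hxM hN hxN hkN
  have hτ := Conf.tau2_eq_empty_of hG hc (hT hc)
  exact ⟨hκ, transport_frob g (Conf.clause2 hG hc hτ), hTI⟩

end Cfsg.Agent.Lib.Helper16.BG1376
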