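import Cfsg.Agent.Lib.Helper16.BG1376Glue
import Cfsg.Agent.Lib.Helper12.BG1376T

/-!
# S1376 / S1436: `τ₂(M) = ∅` in a configuration `Conf` (leaves L-K of helper58 and L-T of helper12 combined)
-/

set_option autoImplicit false

namespace Cfsg.Agent.Lib.Helper16.BG1376

open Cfsg Subgroup

variable {G : Type*} [Group G] [Finite G]

/-- `τ₂(M) = ∅` in a configuration. -/
theorem Conf.tau2_eq_empty (hG : IsMinSimpleOddOrder G) {M N Ns K U : Subgroup G} {x : G}
    (h : Conf M N Ns K U x) : tau2 M = ∅ :=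
  Conf.tau2_eq_empty_of hG h
    (fun _ hq hqk => Cfsg.Agent.Lib.Helper12.BG1376.conf_false_of_tau2_ne hG h hq hqk)

/-- Under the hypotheses of S1376 some conjugate `cj g M` has `κ = ∅` and `τ₂ = ∅`. -/
theorem exists_cj_kappa_tau2_empty (hG : IsMinSimpleOddOrder G) {M : Subgroup G} (hM : IsCoatom M) {x : G}
    (hx : x ∈ sigmaCore M) (hx1 : x ≠ 1) (hxM : ¬ centralizer ({x} : Set G) ≤ M)
    {N : Subgroup G} (hN : IsCoatom N) (hxN : centralizer ({x} : Set G) ≤ N)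
    (hkN : (kappa N).Nonempty) :
    ∃ g : G, kappa (M.map (MulAut.conj g).toMonoidHom) = ∅ ∧
      tau2 (M.map (MulAut.conj g).toMonoidHom) = ∅ := by
  obtain ⟨g, Ns, K, U, x', hc⟩ := exists_conf hG hM hx hx1 hxM hN hxN hkN
  exact ⟨g, hc.hk, Conf.tau2_eq_empty hG hc⟩

end Cfsg.Agent.Lib.Helper16.BG1376
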