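/-
K-R6 (keystone 143026, architect helper15, pack S1430/S1431 = BG 14.2): `ks_regular`, the regular case
`κ(M) ⊆ τ₁(M)` assembled into the structure `KS`.
-/
import Mathlib
import Cfsg.Agent.Lib.Helper16.BG142R6b
import Cfsg.Agent.Lib.Helper40.BG142R1

set_option autoImplicit false

namespace Cfsg.Agent.Lib.Helper16.BG142

open Cfsg Cfsg.Agent.Lib.Helper55 Cfsg.Agent.Lib.Helper31.BG134 Cfsg.Agent.Lib.Helper15.BG139
  Cfsg.Agent.Lib.Helper15.BG142

variable {G : Type*} [Group G] [Finite G]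

theorem ks_regular (hG : IsMinSimpleOddOrder G) (h28 : H1428 G) (h137 : H137 G) {M K : Subgroup G}
    (hM : IsCoatom M) (hK : IsPiHallOf (kappa M) K M) (hK1 : K ≠ ⊥)
    (hκ : ∀ p : ℕ, p ∈ kappa M → p ∈ tau1 M) : ∃ E : Subgroup G, KS M K E :=
  ks_regular_of_r1 hG h28 h137 hM hK hK1 hκ
    (fun _ hE hKH => Cfsg.Agent.Lib.Helper40.BG142.exists_normal_compl_tau1 hG hM hE hKH)

end Cfsg.Agent.Lib.Helper16.BG142
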