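import Mathlib
import Cfsg.Agent.Lib.Helper70.BQSDefs
import Cfsg.Agent.Lib.Helper65.Hall

/-! K-BQS-B6 (S3912): solvable + property B + generalized quaternion Sylow 2-subgroup of order
`4 * 2 ^ k`, `k ≥ 1`, forces `k = 1`.  Route: a maximal normal subgroup `R` not containing `S`;
`S R / R` is abelian, so `Y = ⟨a ^ 2 ^ (k-1)⟩ ≤ R`, while some `xa i` lies outside `R`. -/

set_option autoImplicit false

namespace Cfsg.Agent.Lib.Helper16.BQS

open Cfsg Cfsg.Agent.Lib.Helper70.BQS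

theorem quat_k_eq_one {G : Type*} [Group G] [Finite G] (hsol : Group.IsSolvable G) (hB : PropB G)
    (S : Sylow 2 G) (k : ℕ) (hk : 1 ≤ k) (e : ↥(S : Subgroup G) ≃* QuaternionGroup (2 ^ k)) : k = 1 := by
  classical
  by_contra hk1
  obtain ⟨j, rfl⟩ : ∃ j, k = j + 2 := ⟨k - 2, by omega⟩
  haveI : NeZero (2 ^ (j + 2)) := ⟨by positivity⟩
  haveI := hsol
  set A₁ : ↥(S : Subgroup G) := e.symm (QuaternionGroup.a 1) with hA₁
  set X₀ : ↥(S : Subgroup G) := e.symm (QuaternionGroup.xa 0) with hX₀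
  have hoX : ∀ w : ↥(S : Subgroup G), (∃ i, e w = QuaternionGroup.xa i) → orderOf (w : G) = 4 := by
    intro w ⟨i, hi⟩
    rw [Subgroup.orderOf_coe, ← MulEquiv.orderOf_eq e, hi]
    exact QuaternionGroup.orderOf_xa i
  have hSne : ¬ ((S : Subgroup G) ≤ ⊥) := by
    intro h
    have h1 : (X₀ : G) = 1 := Subgroup.mem_bot.1 (h X₀.2)
    have h2 := hoX X₀ ⟨0, by rw [hX₀, MulEquiv.apply_symm_apply]⟩
    rw [h1, orderOf_one] at h2
    omega
  obtain ⟨R, -, hRmax⟩ :=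
    (Set.toFinite {R : Subgroup G | R.Normal ∧ ¬ ((S : Subgroup G) ≤ R)}).exists_le_maximal
      (a := ⊥) ⟨inferInstance, hSne⟩
  obtain ⟨⟨hRn, hSR⟩, hmax⟩ := hRmax
  haveI := hRn
  obtain ⟨s, hsS, hsR⟩ := SetLike.not_le_iff_exists.1 hSR
  haveI : Nontrivial (G ⧸ R) :=
    ⟨⟨(s : G ⧸ R), 1, fun h => hsR ((QuotientGroup.eq_one_iff s).1 h)⟩⟩
  obtain ⟨r, V, -, hVn, hV1, -, hVc⟩ :=
    Cfsg.Agent.Lib.Helper65.exists_normal_abelian_pgroup (G ⧸ R)
  have hSA : (S : Subgroup G) ≤ V.comap (QuotientGroup.mk' R) := by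
    by_contra hSA
    have hle : R ≤ V.comap (QuotientGroup.mk' R) := by
      intro g hg
      rw [Subgroup.mem_comap]
      have : QuotientGroup.mk' R g = 1 := (QuotientGroup.eq_one_iff g).2 hg
      rw [this]; exact one_mem V
    have hle2 := hmax ⟨hVn.comap _, hSA⟩ hle
    apply hV1
    rw [Subgroup.eq_bot_iff_forall]
    intro v hv
    obtain ⟨g, rfl⟩ := QuotientGroup.mk'_surjective R v
    exact (QuotientGroup.eq_one_iff g).2 (hle2 hv)
  have hcommR : ∀ s t : ↥(S : Subgroup G),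
      QuotientGroup.mk' R (s : G) * QuotientGroup.mk' R (t : G) =
        QuotientGroup.mk' R (t : G) * QuotientGroup.mk' R (s : G) :=
    fun s t => hVc _ (hSA s.2) _ (hSA t.2)
  -- the quaternion identity
  have hQ : (QuaternionGroup.a 1 * QuaternionGroup.xa 0) * (QuaternionGroup.a 1 * QuaternionGroup.a 1) =
      (QuaternionGroup.xa 0 * QuaternionGroup.a 1 : QuaternionGroup (2 ^ (j + 2))) := by
    simp only [QuaternionGroup.a_mul_xa, QuaternionGroup.a_mul_a, QuaternionGroup.xa_mul_a]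
    congr 1
    ring
  have hid : (A₁ * X₀) * (A₁ * A₁) = X₀ * A₁ := by
    have := congrArg e.symm hQ
    simpa only [map_mul] using this
  have hidG : ((A₁ : G) * (X₀ : G)) * ((A₁ : G) * (A₁ : G)) = (X₀ : G) * (A₁ : G) := by
    have := congrArg Subtype.val hid
    simpa only [Subgroup.coe_mul] using this
  have hA2 : (A₁ : G) * (A₁ : G) ∈ R := by
    have h1 := congrArg (QuotientGroup.mk' R) hidG
    simp only [map_mul] at h1
    rw [← hcommR A₁ X₀] at h1
    have h2 : QuotientGroup.mk' R (A₁ : G) * QuotientGroup.mk' R (A₁ : G) = 1 :=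
      mul_left_cancel (h1.trans (mul_one _).symm)
    rw [← map_mul] at h2
    exact (QuotientGroup.eq_one_iff _).1 h2
  -- Y
  set y₀ : G := (A₁ : G) ^ (2 ^ (j + 1)) with hy₀
  have hy₀R : y₀ ∈ R := by
    have : y₀ = ((A₁ : G) * (A₁ : G)) ^ (2 ^ j) := by
      rw [hy₀, ← pow_two, ← pow_mul, pow_succ, mul_comm]
    rw [this]
    exact pow_mem hA2 _
  have hoA : orderOf (A₁ : G) = 2 * 2 ^ (j + 2) := by
    rw [Subgroup.orderOf_coe, hA₁, MulEquiv.orderOf_eq]
    exact QuaternionGroup.orderOf_a_one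
  have hoy : orderOf y₀ = 4 := by
    have hdvd : 2 ^ (j + 1) ∣ orderOf (A₁ : G) := by
      rw [hoA]; exact ⟨4, by ring⟩
    rw [hy₀, orderOf_pow_of_dvd (by positivity) hdvd, hoA]
    have : 2 * 2 ^ (j + 2) = 4 * 2 ^ (j + 1) := by ring
    rw [this]
    exact Nat.mul_div_cancel _ (by positivity)
  -- w
  obtain ⟨w, hwR, hwx⟩ : ∃ w : ↥(S : Subgroup G), (w : G) ∉ R ∧ ∃ i, e w = QuaternionGroup.xa i := by
    rcases h : e ⟨s, hsS⟩ with i | i
    · by_cases hX : (X₀ : G) ∈ R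
      · refine ⟨X₀ * ⟨s, hsS⟩, ?_, ⟨0 + i, ?_⟩⟩
        · intro hmem
          apply hsR
          have h3 : s = (X₀ : G)⁻¹ * ((X₀ : G) * s) := by group
          rw [h3]
          exact mul_mem (inv_mem hX) (by simpa using hmem)
        · rw [map_mul, h, hX₀, MulEquiv.apply_symm_apply, QuaternionGroup.xa_mul_a]
      · exact ⟨X₀, hX, ⟨0, by rw [hX₀, MulEquiv.apply_symm_apply]⟩⟩
    · exact ⟨⟨s, hsS⟩, hsR, ⟨i, h⟩⟩
  have how : orderOf (w : G) = 4 := hoX w hwx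
  obtain ⟨g, hg⟩ := hB (Subgroup.zpowers y₀) (Subgroup.zpowers (w : G)) inferInstance inferInstance
    (by rw [Nat.card_zpowers, Nat.card_zpowers, hoy, how])
  have hmem : (w : G) ∈ Subgroup.zpowers (w : G) := Subgroup.mem_zpowers _
  rw [hg] at hmem
  obtain ⟨z, hz, hzw⟩ := Subgroup.mem_map.1 hmem
  have hzR : z ∈ R := (Subgroup.zpowers_le.2 hy₀R) hz
  apply hwR
  rw [← hzw]
  show g * z * g⁻¹ ∈ R
  exact hRn.conj_mem z hzR g

end Cfsg.Agent.Lib.Helper16.BQS
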