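import Mathlib
import Cfsg.Agent.Lib.Helper72.G42Defs
import Cfsg.Agent.Lib.Helper62.Small120
import Cfsg.Agent.Lib.Helper06.SimpleAux
import Cfsg.Agent.Lib.Helper45.AutAltPQ
import Cfsg.Agent.S0494
import Cfsg.Agent.Lib.Helper84.G42L4

set_option autoImplicit false

namespace Cfsg.Agent.Lib.Helper16.G42

open Cfsg.Agent.Lib.Helper72.G42

/-- restriction of `K` to an invariant finite set `Δ`. -/
noncomputable def resHom (K : Subgroup (Equiv.Perm (Fin 8))) (Δ : Finset (Fin 8))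
    (hpres : ∀ k ∈ K, ∀ x ∈ Δ, k x ∈ Δ) : ↥K →* Equiv.Perm ↥Δ :=
  MonoidHom.mk' (fun k =>
    { toFun := fun x => ⟨k.1 x.1, hpres k.1 k.2 x.1 x.2⟩
      invFun := fun x => ⟨k.1⁻¹ x.1, hpres k.1⁻¹ (K.inv_mem k.2) x.1 x.2⟩
      left_inv := fun x => Subtype.ext (by simp)
      right_inv := fun x => Subtype.ext (by simp) })
    (fun a b => by ext x; simp)

theorem resHom_apply (K : Subgroup (Equiv.Perm (Fin 8))) (Δ : Finset (Fin 8))
    (hpres : ∀ k ∈ K, ∀ x ∈ Δ, k x ∈ Δ) (k : ↥K) (x : ↥Δ) :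
    ((resHom K Δ hpres k x : ↥Δ) : Fin 8) = k.1 x.1 := rfl

/-- the faithful representation on `Fin m`. -/
noncomputable def psiHom (K : Subgroup (Equiv.Perm (Fin 8))) (Δ : Finset (Fin 8))
    (hpres : ∀ k ∈ K, ∀ x ∈ Δ, k x ∈ Δ) (m : ℕ) (hm : Δ.card = m) : ↥K →* Equiv.Perm (Fin m) :=
  (Finset.equivFinOfCardEq hm).permCongrHom.toMonoidHom.comp (resHom K Δ hpres)

theorem psiHom_injective (K : Subgroup (Equiv.Perm (Fin 8))) (Δ : Finset (Fin 8))
    (hpres : ∀ k ∈ K, ∀ x ∈ Δ, k x ∈ Δ) (hfaith : ∀ k ∈ K, (∀ x ∈ Δ, k x = x) → k = 1)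
    (m : ℕ) (hm : Δ.card = m) : Function.Injective (psiHom K Δ hpres m hm) := by
  rw [injective_iff_map_eq_one]
  intro k hk
  have h1 : resHom K Δ hpres k = 1 := by
    have := (Finset.equivFinOfCardEq hm).permCongrHom.injective
    apply this
    rw [map_one]
    exact hk
  apply Subtype.ext
  apply hfaith k.1 k.2
  intro x hx
  have := congrArg (fun f : Equiv.Perm ↥Δ => ((f ⟨x, hx⟩ : ↥Δ) : Fin 8)) h1
  simpa [resHom_apply] using this


theorem perfect_le_ker {G A : Type*} [Group G] [CommGroup A] (K N : Subgroup G) (hNK : N ≤ K)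
    (hperf : ⁅N, N⁆ = N) (χ : ↥K →* A) (n : G) (hn : n ∈ N) : χ ⟨n, hNK hn⟩ = 1 := by
  have hle : ⁅N, N⁆ ≤ (χ.ker).map K.subtype := by
    rw [Subgroup.commutator_le]
    intro a ha b hb
    refine ⟨commutatorElement.bracket (⟨a, hNK ha⟩ : ↥K) (⟨b, hNK hb⟩ : ↥K), ?_, rfl⟩
    rw [SetLike.mem_coe, MonoidHom.mem_ker, map_commutatorElement]
    exact commutatorElement_eq_one_iff_commute.mpr (Commute.all _ _)
  rw [hperf] at hle
  obtain ⟨k, hk, hkn⟩ := hle hn
  have : k = ⟨n, hNK hn⟩ := Subtype.ext hkn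
  rw [← this]; exact hk

theorem card_sixty_or (N6 : Subgroup (Equiv.Perm (Fin 6))) (hle : N6 ≤ alternatingGroup (Fin 6))
    (hns : ¬ Group.IsSolvable ↥N6) : Nat.card ↥N6 = 60 ∨ N6 = alternatingGroup (Fin 6) := by
  have hsimp : IsSimpleGroup ↥(alternatingGroup (Fin 6)) :=
    alternatingGroup.isSimpleGroup (by simp)
  by_cases hM : N6.subgroupOf (alternatingGroup (Fin 6)) = ⊤
  · right
    exact le_antisymm hle (Subgroup.subgroupOf_eq_top.mp hM)
  · left
    have h1 := Cfsg.Agent.Lib.Helper06.card_le_factorial_index _ hM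
    rw [Cfsg.Agent.Lib.Helper62.Small120.card_A6] at h1
    have h2 := Subgroup.card_mul_index (N6.subgroupOf (alternatingGroup (Fin 6)))
    rw [Cfsg.Agent.Lib.Helper62.Small120.card_A6] at h2
    have h3 : Nat.card ↥(N6.subgroupOf (alternatingGroup (Fin 6))) = Nat.card ↥N6 :=
      Nat.card_congr (Subgroup.subgroupOfEquivOfLe hle).toEquiv
    rw [h3] at h2
    have h4 : 60 ≤ Nat.card ↥N6 := by
      by_contra hlt
      exact hns (Cfsg.Agent.Lib.Helper62.Small120.solvable_of_card_lt_sixty _ (not_le.mp hlt) ↥N6 rfl)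
    generalize (N6.subgroupOf (alternatingGroup (Fin 6))).index = i at h1 h2
    generalize Nat.card ↥N6 = c at h2 h4
    have hi : i ≤ 6 := by
      by_contra hi
      rw [not_le] at hi
      nlinarith
    interval_cases i <;> simp [Nat.factorial] at h1 <;> omega


theorem normal_subgroupOf {K N : Subgroup (Equiv.Perm (Fin 8))} (hnorm : NormalizedBy K N) :
    (N.subgroupOf K).Normal := by
  refine ⟨fun n hn k => ?_⟩
  rw [Subgroup.mem_subgroupOf] at hn ⊢
  exact hnorm k.1 k.2 n.1 hn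

theorem conj_ker_eq_bot {K N : Subgroup (Equiv.Perm (Fin 8))} {Δ : Finset (Fin 8)} (h : Cfg K N Δ)
    (hfaith : ∀ k ∈ K, (∀ x ∈ Δ, k x = x) → k = 1) [hn : (N.subgroupOf K).Normal] :
    (MulAut.conjNormal : ↥K →* MulAut ↥(N.subgroupOf K)).ker = ⊥ := by
  set θ : ↥K →* MulAut ↥(N.subgroupOf K) := MulAut.conjNormal with hθ
  have hpos : 0 < Δ.card := lt_of_lt_of_le (by norm_num) h.hcard
  obtain ⟨x₀, hx₀⟩ := Finset.card_pos.mp hpos
  -- elements of the kernel commute with `N`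
  have hcomm : ∀ c : ↥K, c ∈ θ.ker → ∀ n ∈ N, c.1 * n = n * c.1 := by
    intro c hc n hnN
    have h1 : θ c = 1 := MonoidHom.mem_ker.mp hc
    have h2 := MulAut.conjNormal_apply (H := N.subgroupOf K) c
      ⟨⟨n, h.hNK hnN⟩, Subgroup.mem_subgroupOf.mpr hnN⟩
    rw [← hθ, h1, MulAut.one_apply] at h2
    have h3 := congrArg (fun z : ↥K => (z : Equiv.Perm (Fin 8))) h2
    simp only [Subgroup.coe_mul, Subgroup.coe_inv] at h3
    calc c.1 * n = (c.1 * n * c.1⁻¹) * c.1 := by group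
      _ = n * c.1 := by rw [← h3]
  -- a kernel element fixing `x₀` is trivial
  have hfix : ∀ d : ↥K, d ∈ θ.ker → d.1 x₀ = x₀ → d = 1 := by
    intro d hd hdx
    apply Subtype.ext
    apply hfaith d.1 d.2
    intro y hy
    obtain ⟨n, hnN, hny⟩ := h.htrans x₀ hx₀ y hy
    have := hcomm d hd n hnN
    have h4 := congrArg (fun f : Equiv.Perm (Fin 8) => f x₀) this
    simp only [Equiv.Perm.mul_apply] at h4
    rw [hny, hdx, hny] at h4
    exact h4
  have hinj : Function.Injective (fun c : ↥θ.ker => c.1.1 x₀) := by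
    intro c c' hcc
    have hd : c.1⁻¹ * c'.1 ∈ θ.ker := θ.ker.mul_mem (θ.ker.inv_mem c.2) c'.2
    have hdx : (c.1⁻¹ * c'.1).1 x₀ = x₀ := by
      simp only [Subgroup.coe_mul, Subgroup.coe_inv, Equiv.Perm.mul_apply]
      rw [Equiv.Perm.inv_eq_iff_eq]
      exact hcc.symm
    have := hfix _ hd hdx
    apply Subtype.ext
    exact (inv_mul_eq_one.mp this)
  have hcard : Nat.card ↥θ.ker ≤ 8 := by
    have := Nat.card_le_card_of_injective _ hinj
    simpa using this
  have hsolvC : Group.IsSolvable ↥θ.ker :=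
    Cfsg.Agent.Lib.Helper62.Small120.solvable_of_card_lt_sixty _ (lt_of_le_of_lt hcard (by norm_num)) _ rfl
  set C8 : Subgroup (Equiv.Perm (Fin 8)) := θ.ker.map K.subtype with hC8
  have hC8le : C8 ≤ K := by
    rintro _ ⟨c, _, rfl⟩
    exact c.2
  have hC8norm : NormalizedBy K C8 := by
    rintro k hk _ ⟨c, hc, rfl⟩
    have hnk : θ.ker.Normal := MonoidHom.normal_ker θ
    exact ⟨(⟨k, hk⟩ : ↥K) * c * (⟨k, hk⟩ : ↥K)⁻¹, hnk.conj_mem c hc ⟨k, hk⟩, rfl⟩
  have hC8solv : Group.IsSolvable ↥C8 := by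
    have e : ↥θ.ker ≃* ↥C8 := θ.ker.equivMapOfInjective K.subtype K.subtype_injective
    exact Group.isSolvable_of_isSolvable_injective (f := e.symm.toMonoidHom) e.symm.injective
  have hbot := h.hsolv C8 hC8le hC8norm hC8solv
  exact (Subgroup.map_eq_bot_iff_of_injective _ K.subtype_injective).mp hbot


open Cfsg.Agent.Lib.Helper45.AutAlt in
/-- `Aut(A₅) = S₅` as a multiplicative equivalence. -/
noncomputable def phiFive : Equiv.Perm (Fin 5) ≃* MulAut ↥(alternatingGroup (Fin 5)) :=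
  MulEquiv.ofBijective (Phi 5) ⟨Phi_injective 5 (by norm_num), fun θ' =>
    MonoidHom.mem_range.mp (mem_range_Phi 5 (by norm_num) (by norm_num) θ')⟩

theorem case6_aux {K N : Subgroup (Equiv.Perm (Fin 8))} {Δ : Finset (Fin 8)} (h : Cfg K N Δ)
    (h6 : Δ.card = 6) (hpres : ∀ k ∈ K, ∀ x ∈ Δ, k x ∈ Δ)
    (hfaith : ∀ k ∈ K, (∀ x ∈ Δ, k x = x) → k = 1) :
    Nonempty (↥K ≃* ↥(alternatingGroup (Fin 6))) ∨ Nonempty (↥K ≃* Equiv.Perm (Fin 6)) ∨
      Nonempty (↥K ≃* ↥(alternatingGroup (Fin 5))) ∨ Nonempty (↥K ≃* Equiv.Perm (Fin 5)) := by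
  set ψ := psiHom K Δ hpres 6 h6 with hψ
  have hψinj : Function.Injective ψ := psiHom_injective K Δ hpres hfaith 6 h6
  set Nk : Subgroup ↥K := N.subgroupOf K with hNk
  have eNk : ↥Nk ≃* ↥N := Subgroup.subgroupOfEquivOfLe h.hNK
  set N6 : Subgroup (Equiv.Perm (Fin 6)) := Nk.map ψ with hN6
  have eN6 : ↥Nk ≃* ↥N6 := Nk.equivMapOfInjective ψ hψinj
  have hN6le : N6 ≤ alternatingGroup (Fin 6) := by
    rintro _ ⟨k, hk, rfl⟩
    rw [Equiv.Perm.mem_alternatingGroup]
    have := perfect_le_ker K N h.hNK h.hperf (Equiv.Perm.sign.comp ψ) k.1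
      (Subgroup.mem_subgroupOf.mp hk)
    simpa using this
  have hNns : ¬ Group.IsSolvable ↥N := fun hs => h.hN1 (h.hsolv N h.hNK h.hnorm hs)
  have hN6ns : ¬ Group.IsSolvable ↥N6 := by
    intro hs
    apply hNns
    exact Group.isSolvable_of_isSolvable_injective (f := (eNk.symm.trans eN6).toMonoidHom)
      (eNk.symm.trans eN6).injective
  have hcardN : Nat.card ↥N6 = Nat.card ↥N := Nat.card_congr (eN6.symm.trans eNk).toEquiv
  have hNdvdK : Nat.card ↥N ∣ Nat.card ↥K := Subgroup.card_dvd_of_le h.hNK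
  rcases card_sixty_or N6 hN6le hN6ns with h60 | h360
  · -- `|N| = 60`
    have hcN : Nat.card ↥N = 60 := by rw [← hcardN, h60]
    have hNsimp : IsSimpleGroup ↥N :=
      Cfsg.Agent.Lib.Helper62.Small120.isSimpleGroup_of_card_sixty hcN hNns
    obtain ⟨e5⟩ := Cfsg.Agent.S0494.result hcN
    have hNkn : Nk.Normal := normal_subgroupOf h.hnorm
    set θ : ↥K →* MulAut ↥Nk := MulAut.conjNormal with hθ
    have hθinj : Function.Injective θ := (MonoidHom.ker_eq_bot_iff θ).mp (conj_ker_eq_bot h hfaith)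
    set Θ : ↥K →* Equiv.Perm (Fin 5) :=
      phiFive.symm.toMonoidHom.comp ((MulAut.congr (eNk.trans e5)).toMonoidHom.comp θ) with hΘ
    have hΘinj : Function.Injective Θ := by
      intro a b hab
      apply hθinj
      apply (MulAut.congr (eNk.trans e5)).injective
      apply phiFive.symm.injective
      exact hab
    have hKdvd : Nat.card ↥K ∣ 120 := by
      have := Subgroup.card_dvd_of_injective Θ hΘinj
      rwa [Nat.card_perm, Nat.card_fin] at this
    rw [hcN] at hNdvdK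
    have hK : Nat.card ↥K = 60 ∨ Nat.card ↥K = 120 := by
      obtain ⟨a, ha⟩ := hNdvdK
      obtain ⟨b, hb⟩ := hKdvd
      rw [ha] at hb ⊢
      have hab : a * b = 2 := by nlinarith
      have ha2 : a ∣ 2 := Dvd.intro _ hab
      have := Nat.le_of_dvd (by norm_num) ha2
      interval_cases a <;> omega
    rcases hK with hK | hK
    · right; right; left
      have hNK' : N = K := Subgroup.eq_of_le_of_card_ge h.hNK (by rw [hcN, hK])
      exact ⟨(MulEquiv.subgroupCongr hNK'.symm).trans e5⟩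
    · right; right; right
      have hbij : Function.Bijective Θ :=
        hΘinj.bijective_of_nat_card_le (by rw [hK, Nat.card_perm, Nat.card_fin]; decide)
      exact ⟨MulEquiv.ofBijective Θ hbij⟩
  · -- `N` maps onto `A₆`
    have hcN : Nat.card ↥N = 360 := by
      rw [← hcardN, h360, Cfsg.Agent.Lib.Helper62.Small120.card_A6]
    have hKdvd : Nat.card ↥K ∣ 720 := by
      have := Subgroup.card_dvd_of_injective ψ hψinj
      rwa [Nat.card_perm, Nat.card_fin] at this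
    rw [hcN] at hNdvdK
    have hK : Nat.card ↥K = 360 ∨ Nat.card ↥K = 720 := by
      obtain ⟨a, ha⟩ := hNdvdK
      obtain ⟨b, hb⟩ := hKdvd
      rw [ha] at hb ⊢
      have hab : a * b = 2 := by nlinarith
      have ha2 : a ∣ 2 := Dvd.intro _ hab
      have := Nat.le_of_dvd (by norm_num) ha2
      interval_cases a <;> omega
    rcases hK with hK | hK
    · left
      have hNK' : N = K := Subgroup.eq_of_le_of_card_ge h.hNK (by rw [hcN, hK])
      exact ⟨(MulEquiv.subgroupCongr hNK'.symm).trans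
        (eNk.symm.trans (eN6.trans (MulEquiv.subgroupCongr h360)))⟩
    · right; left
      have hbij : Function.Bijective ψ :=
        hψinj.bijective_of_nat_card_le (by rw [hK, Nat.card_perm, Nat.card_fin]; decide)
      exact ⟨MulEquiv.ofBijective ψ hbij⟩


/-- 255307 L6 (K-G42 pack, S2553): `|Δ| = 6`. -/
theorem case6 {K N : Subgroup (Equiv.Perm (Fin 8))} {Δ : Finset (Fin 8)} (h : Cfg K N Δ) (h6 : Δ.card = 6) :
    Nonempty (↥K ≃* ↥(alternatingGroup (Fin 6))) ∨ Nonempty (↥K ≃* Equiv.Perm (Fin 6)) ∨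
      Nonempty (↥K ≃* ↥(alternatingGroup (Fin 5))) ∨ Nonempty (↥K ≃* Equiv.Perm (Fin 5)) :=
  case6_aux h h6 (Cfsg.Agent.Lib.Helper84.G42.faithful_on h).1 (Cfsg.Agent.Lib.Helper84.G42.faithful_on h).2

end Cfsg.Agent.Lib.Helper16.G42
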