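import Mathlib
import Cfsg.Prelude.Def_Solvable
import Cfsg.Agent.S0044
import Cfsg.Agent.Lib.Helper01.PCore
import Cfsg.Agent.Lib.Helper01.Fitting

/-! K-GS-AS1 (S4840): a `p`-element centralizing every `O_r(Γ)`, `r ≠ p`, is trivial when `O_p(Γ) = 1`
and `Γ` is solvable. -/

set_option autoImplicit false

namespace Cfsg.Agent.Lib.Helper16.GS

open Cfsg.Agent.Lib.Helper01

universe u

variable {Γ : Type u} [Group Γ] [Finite Γ]

theorem eq_one_of_centralizes_pCores (hsol : Group.IsSolvable Γ) (p : ℕ) [Fact p.Prime]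
    (hB1 : ∀ M : Subgroup Γ, M.Normal → IsPGroup p M → M = ⊥)
    (x : Γ) (hx : ∃ k : ℕ, x ^ (p ^ k) = 1)
    (hc : ∀ r : ℕ, r.Prime → r ≠ p → x ∈ Subgroup.centralizer (Cfsg.pCore r Γ : Set Γ)) : x = 1 := by
  haveI := hsol
  have hp : p.Prime := Fact.out
  have hOp : Cfsg.pCore p Γ = ⊥ := hB1 _ (pCore_normal p) (pCore_isPGroup p)
  have hxF : x ∈ Subgroup.centralizer (Cfsg.fittingSubgroup Γ : Set Γ) := by
    rw [fitting_eq_iSup_pCore]
    have hle : (⨆ r : Nat.Primes, Cfsg.pCore (r : ℕ) Γ) ≤ Subgroup.centralizer ({x} : Set Γ) := by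
      apply iSup_le
      intro r y hy
      rw [Subgroup.mem_centralizer_iff]
      intro h hh
      rw [Set.mem_singleton_iff] at hh
      subst hh
      by_cases hr : (r : ℕ) = p
      · rw [hr, hOp, Subgroup.mem_bot] at hy
        subst hy
        simp
      · have h1 := hc r r.2 hr
        rw [Subgroup.mem_centralizer_iff] at h1
        exact (h1 y hy).symm
    rw [Subgroup.mem_centralizer_iff]
    intro y hy
    have h1 := hle hy
    rw [Subgroup.mem_centralizer_iff] at h1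
    exact (h1 x (Set.mem_singleton x)).symm
  have hxF' : x ∈ Cfsg.fittingSubgroup Γ := Cfsg.Agent.S0044.result hxF
  have hle : Cfsg.fittingSubgroup Γ ≤ Cfsg.pPrimeCore p Γ := by
    rw [fitting_eq_iSup_pCore]
    apply iSup_le
    intro r
    by_cases hr : (r : ℕ) = p
    · rw [hr, hOp]; exact bot_le
    · apply le_pPrimeCore (pCore_normal (r : ℕ))
      haveI : Fact (r : ℕ).Prime := ⟨r.2⟩
      obtain ⟨n, hn⟩ := IsPGroup.iff_card.1 (pCore_isPGroup (r : ℕ) (G := Γ))
      rw [hn]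
      exact Nat.Coprime.pow_left n ((Nat.coprime_primes r.2 hp).2 hr)
  have hxO := hle hxF'
  obtain ⟨k, hk⟩ := hx
  have h1 : orderOf x ∣ p ^ k := orderOf_dvd_of_pow_eq_one hk
  have h2 : orderOf x ∣ Nat.card (Cfsg.pPrimeCore p Γ) := by
    have := orderOf_dvd_natCard (⟨x, hxO⟩ : Cfsg.pPrimeCore p Γ)
    rwa [Subgroup.orderOf_mk] at this
  have hcop : (Nat.card (Cfsg.pPrimeCore p Γ)).Coprime (p ^ k) :=
    (pPrimeCore_card_coprime p).pow_right k
  have h3 : orderOf x = 1 := (hcop.coprime_dvd_left h2).eq_one_of_dvd h1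
  exact orderOf_eq_one_iff.1 h3

end Cfsg.Agent.Lib.Helper16.GS
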