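import Mathlib
import Cfsg.Agent.S3742
import Cfsg.Agent.Lib.Helper83.GSDefs

/-! K-GS-G3 (S4840): `R ≅ Q_8` normal, `p` odd: `Good p R` (index of `C_Γ(R)` divides 24, is divisible by 4). -/

set_option autoImplicit false

namespace Cfsg.Agent.Lib.Helper16.GS

open Cfsg.Agent.Lib.Helper83.GS (Good)
open QuaternionGroup

theorem q8_center : ∀ g : QuaternionGroup 2, (∀ h : QuaternionGroup 2, g * h = h * g) → g = 1 ∨ g = a 2 := by
  decide

theorem q8_a2_sq : (a 2 : QuaternionGroup 2) ^ 2 = 1 := by decide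

theorem q8_a2_ne : (a 2 : QuaternionGroup 2) ≠ 1 := by decide

universe u

variable {Γ : Type u} [Group Γ] [Finite Γ]

theorem good_of_q8 (p : ℕ) [Fact p.Prime] (hp2 : p ≠ 2) (R : Subgroup Γ) [R.Normal]
    (e : R ≃* QuaternionGroup 2)
    (hkill : p = 3 → Nat.card Γ ≠ 24 * Nat.card (Subgroup.centralizer (R : Set Γ))) : Good p R := by
  classical
  have hp : p.Prime := Fact.out
  set ψ : Γ →* MulAut R := MulAut.conjNormal with hψ
  set C : Subgroup Γ := Subgroup.centralizer (R : Set Γ) with hC
  have hψ1 : ∀ g : Γ, ψ g = 1 ↔ ∀ r : R, g * (r : Γ) * g⁻¹ = (r : Γ) := by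
    intro g
    constructor
    · intro h r
      have h1 : ψ g r = r := by rw [h]; rfl
      have h2 := congrArg Subtype.val h1
      rwa [MulAut.conjNormal_apply] at h2
    · intro h
      ext r
      rw [MulAut.conjNormal_apply]
      exact h r
  have hmemC : ∀ g : Γ, g ∈ C ↔ ψ g = 1 := by
    intro g
    rw [hψ1, hC, Subgroup.mem_centralizer_iff]
    constructor
    · intro h r
      have := h (r : Γ) r.2
      rw [← this, mul_inv_cancel_right]
    · intro h r hr
      have := h ⟨r, hr⟩
      simp only at this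
      calc r * g = (g * r * g⁻¹) * g := by rw [this]
        _ = g * r := by group
  have hker : ψ.ker = C := by
    ext g
    rw [MonoidHom.mem_ker, hmemC]
  have hd : C.index = Nat.card ψ.range := by rw [← hker]; exact Subgroup.index_ker ψ
  -- card MulAut R = 24
  have hAut : Nat.card (MulAut R) = 24 := by
    obtain ⟨f⟩ := Cfsg.Agent.S3742.result
    rw [Nat.card_congr ((MulAut.congr e).trans f).toEquiv, Nat.card_eq_fintype_card,
      Fintype.card_perm, Fintype.card_fin]
    rfl
  have hd24 : C.index ∣ 24 := by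
    rw [hd, ← hAut]; exact Subgroup.card_subgroup_dvd_card _
  have hrange_pow : ∀ g : Γ, (ψ g) ^ C.index = 1 := by
    intro g
    have h1 : (⟨ψ g, ⟨g, rfl⟩⟩ : ψ.range) ^ Nat.card ψ.range = 1 := pow_card_eq_one'
    have h2 := congrArg Subtype.val h1
    rw [hd]
    simpa using h2
  -- generic: p-elements lie in C when their image has order prime to p
  have hpel : ∀ (x : Γ) (n : ℕ), (∃ k : ℕ, x ^ (p ^ k) = 1) → (ψ x) ^ n = 1 → n.Coprime p → x ∈ C := by
    intro x n ⟨k, hk⟩ hn hcop
    rw [hmemC]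
    have h1 : orderOf (ψ x) ∣ p ^ k := by
      apply orderOf_dvd_of_pow_eq_one
      rw [← map_pow, hk, map_one]
    have h2 : orderOf (ψ x) ∣ n := orderOf_dvd_of_pow_eq_one hn
    have h3 : orderOf (ψ x) = 1 :=
      ((hcop.pow_right k).coprime_dvd_left h2).eq_one_of_dvd h1
    exact orderOf_eq_one_iff.1 h3
  have hsyl : ∀ (P : Sylow p Γ) (x : Γ), x ∈ (P : Subgroup Γ) → ∃ k : ℕ, x ^ (p ^ k) = 1 := by
    intro P x hx
    obtain ⟨k, hk⟩ := P.isPGroup' ⟨x, hx⟩
    exact ⟨k, by simpa using congrArg Subtype.val hk⟩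
  by_cases hpd : p ∣ C.index
  swap
  · -- all p-elements centralize R
    have hcop : C.index.Coprime p := (Nat.Coprime.symm ((Nat.Prime.coprime_iff_not_dvd hp).2 hpd))
    have hall : ∀ x : Γ, (∃ k : ℕ, x ^ (p ^ k) = 1) → x ∈ C :=
      fun x hx => hpel x C.index hx (hrange_pow x) hcop
    refine ⟨⟨⊤, inferInstance, ⟨0, by simp⟩, fun x _ hx => hall x hx⟩, ?_⟩
    intro P x hx y hy
    have hxC := hall x (hsyl P x hx)
    have hyC := hall y (hsyl P y hy)
    exact C.mul_mem (C.mul_mem (C.mul_mem hxC hyC) (C.inv_mem hxC)) (C.inv_mem hyC)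
  · -- p = 3
    have hp24 : p ∣ 24 := dvd_trans hpd hd24
    have hp3 : p = 3 := by
      have h1 : p ∣ 2 ^ 3 * 3 := by norm_num; exact hp24
      rcases (Nat.Prime.dvd_mul hp).1 h1 with h | h
      · exact absurd ((Nat.prime_dvd_prime_iff_eq hp Nat.prime_two).1 (hp.dvd_of_dvd_pow h)) hp2
      · exact (Nat.prime_dvd_prime_iff_eq hp Nat.prime_three).1 h
    subst hp3
    -- the image of R
    set ψR : R →* MulAut R := ψ.comp R.subtype with hψR
    have hrangeR : ψR.range = R.map ψ := by
      rw [hψR, MonoidHom.range_comp, Subgroup.range_subtype]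
    have hcardR : Nat.card R = 8 := by
      rw [Nat.card_congr e.toEquiv, Nat.card_eq_fintype_card, QuaternionGroup.card]
    have hkerR : Nat.card ψR.ker ≤ 2 := by
      set z₀ : R := e.symm (a 2) with hz₀
      have hle : ψR.ker ≤ Subgroup.zpowers z₀ := by
        intro k hk
        rw [MonoidHom.mem_ker] at hk
        have hk' : ∀ r : R, (k : Γ) * (r : Γ) * (k : Γ)⁻¹ = (r : Γ) := (hψ1 (k : Γ)).1 hk
        have hcen : ∀ h : QuaternionGroup 2, e k * h = h * e k := by
          intro h
          have h1 := hk' (e.symm h)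
          have h2 : k * e.symm h = e.symm h * k := by
            apply Subtype.ext
            rw [Subgroup.coe_mul, Subgroup.coe_mul]
            calc (k : Γ) * (e.symm h : Γ) = ((k : Γ) * (e.symm h : Γ) * (k : Γ)⁻¹) * k := by group
              _ = (e.symm h : Γ) * k := by rw [h1]
          have h3 := congrArg e h2
          rwa [map_mul, map_mul, MulEquiv.apply_symm_apply] at h3
        rcases q8_center (e k) hcen with h | h
        · have : k = 1 := by
            apply e.injective; rw [h, map_one]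
          rw [this]; exact one_mem _
        · have : k = z₀ := by
            apply e.injective; rw [h, hz₀, MulEquiv.apply_symm_apply]
          rw [this]; exact Subgroup.mem_zpowers _
      have hoz : orderOf z₀ = 2 := by
        rw [hz₀, MulEquiv.orderOf_eq]
        exact orderOf_eq_prime q8_a2_sq q8_a2_ne
      calc Nat.card ψR.ker ≤ Nat.card (Subgroup.zpowers z₀) := Subgroup.card_le_of_le hle
        _ = 2 := by rw [Nat.card_zpowers, hoz]
    have hmul : Nat.card ψR.ker * Nat.card (R.map ψ) = 8 := by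
      rw [← hrangeR, ← Subgroup.index_ker, Subgroup.card_mul_index, hcardR]
    set m := Nat.card (R.map ψ) with hm
    have hm4 : 4 ∣ m := by
      have hk1 : 0 < Nat.card ψR.ker := Nat.card_pos
      have hcases : Nat.card ψR.ker = 1 ∨ Nat.card ψR.ker = 2 := by omega
      rcases hcases with h | h
      · rw [h, one_mul] at hmul; rw [hmul]; norm_num
      · rw [h] at hmul
        have : m = 4 := by omega
        rw [this]
    have hmle : R.map ψ ≤ ψ.range := by
      rintro _ ⟨r, -, rfl⟩; exact ⟨r, rfl⟩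
    have hmd : m ∣ C.index := by
      rw [hd]; exact Subgroup.card_dvd_of_le hmle
    have hm8 : m ∣ 8 := ⟨Nat.card ψR.ker, by rw [← hmul, mul_comm]⟩
    -- index is 12 or 24
    have h12 : C.index = 12 := by
      have h4 : 4 ∣ C.index := dvd_trans hm4 hmd
      have h3 : 3 ∣ C.index := hpd
      have hpos : 0 < C.index := Nat.pos_of_ne_zero (Subgroup.index_ne_zero_of_finite)
      have hle : C.index ≤ 24 := Nat.le_of_dvd (by norm_num) hd24
      have h24 : C.index ≠ 24 := by
        intro h
        apply hkill rfl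
        rw [← C.card_mul_index, h, mul_comm]
      obtain ⟨c, hc⟩ := hd24
      obtain ⟨a', ha'⟩ := h4
      obtain ⟨b', hb'⟩ := h3
      omega
    have hm4' : m = 4 := by
      have h1 : m ∣ 12 := h12 ▸ hmd
      have h2 : m ∣ Nat.gcd 12 8 := Nat.dvd_gcd h1 hm8
      have h3 : Nat.gcd 12 8 = 4 := by norm_num
      rw [h3] at h2
      exact Nat.dvd_antisymm h2 hm4
    have hmap_pow : ∀ x : Γ, ψ x ∈ R.map ψ → (ψ x) ^ 4 = 1 := by
      intro x hx
      have h1 : (⟨ψ x, hx⟩ : R.map ψ) ^ Nat.card (R.map ψ) = 1 := pow_card_eq_one'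
      have h2 := congrArg Subtype.val h1
      rw [← hm, hm4'] at h2
      simpa using h2
    refine ⟨⟨(R.map ψ).comap ψ, ?_, ⟨1, ?_⟩, ?_⟩, ?_⟩
    · rw [Subgroup.comap_map_eq, hker]
      infer_instance
    · rw [Subgroup.index_comap, pow_one]
      have h1 := Subgroup.relIndex_mul_relIndex (⊥ : Subgroup (MulAut R)) (R.map ψ) ψ.range bot_le hmle
      rw [Subgroup.relIndex_bot_left, Subgroup.relIndex_bot_left, ← hm, hm4', ← hd, h12] at h1
      omega
    · intro x hx hxp
      exact hpel x 4 hxp (hmap_pow x (Subgroup.mem_comap.1 hx)) (by norm_num)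
    · intro P x hx y hy
      rw [hmemC, map_mul, map_mul, map_mul, map_inv, map_inv]
      -- the image of P is a 3-group of order dividing 12
      have hP3 : IsPGroup 3 (P.map ψ : Subgroup (MulAut R)) := P.isPGroup'.map ψ
      obtain ⟨j, hj⟩ := IsPGroup.iff_card.1 hP3
      have hPle : (P : Subgroup Γ).map ψ ≤ ψ.range := by
        rintro _ ⟨r, -, rfl⟩; exact ⟨r, rfl⟩
      have hPd : Nat.card ((P : Subgroup Γ).map ψ) ∣ 12 := by
        rw [← h12, hd]; exact Subgroup.card_dvd_of_le hPle
      have hj1 : j ≤ 1 := by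
        by_contra hcon
        have h2 : 2 ≤ j := by omega
        have h9 : 3 ^ 2 ∣ 3 ^ j := pow_dvd_pow 3 h2
        rw [← hj] at h9
        have := dvd_trans h9 hPd
        norm_num at this
      have hxm : ψ x ∈ (P : Subgroup Γ).map ψ := Subgroup.mem_map_of_mem ψ hx
      have hym : ψ y ∈ (P : Subgroup Γ).map ψ := Subgroup.mem_map_of_mem ψ hy
      have hcomm : ψ x * ψ y = ψ y * ψ x := by
        rcases Nat.le_one_iff_eq_zero_or_eq_one.1 hj1 with h0 | h1
        · rw [h0, pow_zero] at hj
          have hbot : (P : Subgroup Γ).map ψ = ⊥ := Subgroup.card_eq_one.1 hj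
          rw [hbot, Subgroup.mem_bot] at hxm
          rw [hxm, one_mul, mul_one]
        · rw [h1, pow_one] at hj
          haveI : Fact (Nat.Prime 3) := ⟨Nat.prime_three⟩
          have hcyc : IsCyclic ((P : Subgroup Γ).map ψ) := isCyclic_of_prime_card hj
          obtain ⟨g, hg⟩ := hcyc.exists_generator
          obtain ⟨a', ha'⟩ := Subgroup.mem_zpowers_iff.1 (hg ⟨ψ x, hxm⟩)
          obtain ⟨b', hb'⟩ := Subgroup.mem_zpowers_iff.1 (hg ⟨ψ y, hym⟩)
          have hx' : ψ x = (g : MulAut R) ^ a' := by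
            have := congrArg Subtype.val ha'; simpa using this.symm
          have hy' : ψ y = (g : MulAut R) ^ b' := by
            have := congrArg Subtype.val hb'; simpa using this.symm
          rw [hx', hy', ← zpow_add, ← zpow_add, add_comm]
      calc ψ x * ψ y * (ψ x)⁻¹ * (ψ y)⁻¹ = ψ y * ψ x * (ψ x)⁻¹ * (ψ y)⁻¹ := by rw [hcomm]
        _ = 1 := by group

end Cfsg.Agent.Lib.Helper16.GS
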