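import Mathlib

/-! K-GS-K4 (S4840): a subgroup `C` preserving a nontrivial subgroup `U` of `V`, with `p`-group point
stabilisers, has order `m p^b` with `m ≤ |U| - 1`. -/

set_option autoImplicit false

namespace Cfsg.Agent.Lib.Helper16.GS

universe u

variable {Γ V : Type u} [Group Γ] [Finite Γ] [CommGroup V] [Finite V]

theorem card_le_of_preserves (p : ℕ) [Fact p.Prime]
    (ρ : Γ →* MulAut V)
    (hstab : ∀ (g : Γ) (v : V), v ≠ 1 → ρ g v = v → ∃ k : ℕ, g ^ (p ^ k) = 1)
    (C : Subgroup Γ) (U : Subgroup V) (hU1 : U ≠ ⊥) (hCU : ∀ c ∈ C, ∀ u ∈ U, ρ c u ∈ U) :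
    ∃ m b : ℕ, Nat.card C = m * p ^ b ∧ m ≤ Nat.card U - 1 := by
  classical
  obtain ⟨u, huU, hu1⟩ : ∃ u : V, u ∈ U ∧ u ≠ 1 := by
    obtain ⟨a, ha⟩ := Subgroup.ne_bot_iff_exists_ne_one.1 hU1
    exact ⟨(a : V), a.2, fun h => ha (Subtype.ext h)⟩
  letI : MulAction C V := MulAction.compHom V (ρ.comp C.subtype)
  have hsmul : ∀ (c : C) (v : V), c • v = ρ (c : Γ) v := fun c v => rfl
  have hcard : (MulAction.orbit C u).ncard * Nat.card (MulAction.stabilizer C u) = Nat.card C := by
    rw [← MulAction.index_stabilizer, mul_comm]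
    exact Subgroup.card_mul_index _
  have hP : IsPGroup p (MulAction.stabilizer C u) := by
    intro g
    have hg : ρ ((g : C) : Γ) u = u := by
      have := g.2
      rw [MulAction.mem_stabilizer_iff, hsmul] at this
      exact this
    obtain ⟨k, hk⟩ := hstab _ u hu1 hg
    refine ⟨k, ?_⟩
    apply Subtype.ext
    apply Subtype.ext
    simpa using hk
  obtain ⟨b, hb⟩ := IsPGroup.iff_card.1 hP
  refine ⟨(MulAction.orbit C u).ncard, b, ?_, ?_⟩
  · rw [← hcard, hb]
  · have hsub : MulAction.orbit C u ⊆ (U : Set V) \ {1} := by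
      rintro w ⟨c, rfl⟩
      refine ⟨?_, ?_⟩
      · show c • u ∈ U
        rw [hsmul]; exact hCU c c.2 u huU
      · intro h
        rw [Set.mem_singleton_iff] at h
        have h' : ρ (c : Γ) u = 1 := h
        exact hu1 ((map_eq_one_iff (ρ (c : Γ)) (ρ (c : Γ)).injective).1 h')
    have h1 : (MulAction.orbit C u).ncard ≤ ((U : Set V) \ {1}).ncard :=
      Set.ncard_le_ncard hsub (Set.toFinite _)
    have h2 : ((U : Set V) \ {1}).ncard = (U : Set V).ncard - 1 :=
      Set.ncard_sdiff_singleton_of_mem (one_mem U)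
    have h3 : (U : Set V).ncard = Nat.card U := by
      rw [← Nat.card_coe_set_eq]; rfl
    rw [← h3, ← h2]
    exact h1

end Cfsg.Agent.Lib.Helper16.GS
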