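import Mathlib

/-! K-GAG-G12a (S4839): if `N` is a normal abelian Sylow `p`-subgroup and centralizers of its
nonidentity elements are `p`-groups then `C_G(x) = N`. -/

set_option autoImplicit false

namespace Cfsg.Agent.Lib.Helper16.Gag

variable {G : Type*} [Group G] [Finite G]

theorem centralizer_eq_of_hall {p : ℕ} [Fact p.Prime] (N : Subgroup G) [N.Normal]
    (hNp : IsPGroup p N)
    (hcomm : ∀ a ∈ N, ∀ b ∈ N, a * b = b * a)
    (hcp : ∀ x ∈ N, x ≠ 1 → IsPGroup p (Subgroup.centralizer ({x} : Set G)))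
    (hhall : ¬ p ∣ N.index) (x : G) (hx : x ∈ N) (hx1 : x ≠ 1) :
    Subgroup.centralizer ({x} : Set G) = N := by
  have hNC : N ≤ Subgroup.centralizer ({x} : Set G) := by
    intro n hn
    rw [Subgroup.mem_centralizer_iff]
    intro h hh
    rw [Set.mem_singleton_iff] at hh
    subst hh
    exact hcomm h hx n hn
  symm
  apply Subgroup.eq_of_le_of_card_ge hNC
  obtain ⟨k, hk⟩ := IsPGroup.iff_card.1 (hcp x hx hx1)
  have h1 : Nat.card (Subgroup.centralizer ({x} : Set G)) ∣ Nat.card G :=
    Subgroup.card_subgroup_dvd_card _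
  have h2 : Nat.card N * N.index = Nat.card G := N.card_mul_index
  have hcop : Nat.Coprime (p ^ k) N.index :=
    Nat.Coprime.pow_left k ((Nat.Prime.coprime_iff_not_dvd Fact.out).2 hhall)
  have h3 : Nat.card (Subgroup.centralizer ({x} : Set G)) ∣ Nat.card N := by
    rw [hk] at h1 ⊢
    rw [← h2] at h1
    exact hcop.dvd_of_dvd_mul_right h1
  exact Nat.le_of_dvd Nat.card_pos h3

end Cfsg.Agent.Lib.Helper16.Gag
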