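import Mathlib
import Cfsg.Agent.Lib.Helper01.SZRel

/-! K-GAG-G10 (S4839): lift the involution of a dihedral section (Schur-Zassenhaus conjugacy). -/

set_option autoImplicit false

namespace Cfsg.Agent.Lib.Helper16.Gag

open scoped Pointwise

variable {G : Type*} [Group G] [Finite G]

theorem lift_involution (N : Subgroup G) [N.Normal] (hN2 : IsPGroup 2 N)
    (u : G) (hu : u ∉ N) (hu2 : u * u ∈ N)
    (xb : G ⧸ N) (hxb1 : xb ≠ 1) (hodd : Odd (orderOf xb))
    (hinv : (u : G ⧸ N) * xb * (u : G ⧸ N)⁻¹ = xb⁻¹)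
    (hfpf : ∀ y : G, y ≠ 1 → Odd (orderOf y) → ∀ n ∈ N, y * n = n * y → n = 1) :
    ∃ s : G, s ∉ N ∧ s * s = 1 := by
  classical
  haveI : Fact (Nat.Prime 2) := ⟨Nat.prime_two⟩
  have hNn : N.Normal := inferInstance
  obtain ⟨x, rfl⟩ := QuotientGroup.mk_surjective xb
  have hox : orderOf x ≠ 0 := (orderOf_pos x).ne'
  obtain ⟨k, m, hm, hkm⟩ := Nat.exists_eq_two_pow_mul_odd hox
  set y : G := x ^ (2 ^ k) with hy
  have hyo : orderOf y = m := by
    rw [hy, orderOf_pow_of_dvd (by positivity) (by rw [hkm]; exact dvd_mul_right _ _), hkm]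
    exact Nat.mul_div_cancel_left _ (by positivity)
  have hyodd : Odd (orderOf y) := hyo ▸ hm
  have hyN : y ∉ N := by
    intro h
    have h1 : ((x : G ⧸ N)) ^ (2 ^ k) = 1 := by
      rw [← QuotientGroup.mk_pow]; exact (QuotientGroup.eq_one_iff _).2 h
    have h2 : orderOf (x : G ⧸ N) ∣ 2 ^ k := orderOf_dvd_of_pow_eq_one h1
    have h3 : orderOf (x : G ⧸ N) = 1 :=
      (Nat.Coprime.pow_right k (Nat.coprime_two_right.2 hodd)).eq_one_of_dvd h2
    exact hxb1 (orderOf_eq_one_iff.1 h3)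
  have hy1 : y ≠ 1 := fun h => hyN (h ▸ one_mem N)
  have hinv' : u * y * u⁻¹ * y ∈ N := by
    rw [← QuotientGroup.eq_one_iff]
    have h1 : ((u * y * u⁻¹ * y : G) : G ⧸ N) =
        ((u : G ⧸ N) * (x : G ⧸ N) * (u : G ⧸ N)⁻¹) ^ (2 ^ k) * (x : G ⧸ N) ^ (2 ^ k) := by
      rw [conj_pow, hy]
      simp only [QuotientGroup.mk_mul, QuotientGroup.mk_inv, QuotientGroup.mk_pow]
    rw [h1, hinv, inv_pow, inv_mul_cancel]
  -- the two complements
  set K : Subgroup G := Subgroup.zpowers y with hK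
  set K' : Subgroup G := Subgroup.zpowers (u * y * u⁻¹) with hK'
  have hK'L : K' ≤ N ⊔ K := by
    rw [hK', Subgroup.zpowers_le]
    have h1 : u * y * u⁻¹ = (u * y * u⁻¹ * y) * y⁻¹ := by group
    rw [h1]
    exact Subgroup.mul_mem_sup hinv' (inv_mem (Subgroup.mem_zpowers y))
  obtain ⟨a, ha⟩ := IsPGroup.iff_card.1 hN2
  have hcardK : Nat.card K = m := by rw [hK, Nat.card_zpowers, hyo]
  have hcop : (Nat.card N).Coprime (Nat.card K) := by
    rw [ha, hcardK]
    exact Nat.Coprime.pow_left a (Nat.coprime_two_left.2 hm)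
  have hinf : N ⊓ K = ⊥ := (Subgroup.disjoint_of_coprime_natCard hcop).eq_bot
  have hcard : Nat.card (N ⊔ K : Subgroup G) = Nat.card N * Nat.card K := by
    have h1 := Subgroup.relIndex_mul_relIndex (⊥ : Subgroup G) N (N ⊔ K) bot_le le_sup_left
    rw [Subgroup.relIndex_bot_left, Subgroup.relIndex_bot_left, Subgroup.relIndex_sup_left,
      ← Subgroup.inf_relIndex_right, hinf, Subgroup.relIndex_bot_left] at h1
    exact h1.symm
  have hcardK' : Nat.card K' = Nat.card K := by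
    rw [hK', hK, Nat.card_zpowers, Nat.card_zpowers]
    exact (MulAut.conj u).orderOf_eq y
  have hsolv : Group.IsSolvable N := by
    haveI : Group.IsNilpotent N := hN2.isNilpotent
    infer_instance
  obtain ⟨g, hgL, hg⟩ := Cfsg.Agent.Lib.Helper01.sz_conj_in (N ⊔ K) N K K' le_sup_left le_sup_right
    hK'L (by rw [Subgroup.normalizer_eq_top]; exact le_top) hcard hcop hcardK' (Or.inl hsolv)
  have hgL' : g ∈ ((N ⊔ K : Subgroup G) : Set G) := hgL
  rw [Subgroup.normal_mul] at hgL'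
  obtain ⟨n, hn, k, hk, rfl⟩ := Set.mem_mul.1 hgL'
  have hn' : n ∈ N := hn
  have hk' : k ∈ Subgroup.zpowers y := hk
  -- n y n⁻¹ ∈ K'
  have h1 : (n * k) * y * (n * k)⁻¹ ∈ K' := by
    have := Subgroup.smul_mem_pointwise_smul y (MulAut.conj (n * k)) K (Subgroup.mem_zpowers y)
    rw [hg, MulAut.smul_def, MulAut.conj_apply] at this
    exact this
  have hky : k * y * k⁻¹ = y := by
    obtain ⟨j, rfl⟩ := Subgroup.mem_zpowers_iff.1 hk'
    have : Commute (y ^ j) y := (Commute.refl y).zpow_left j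
    rw [this.eq, mul_inv_cancel_right]
  have h2 : n * y * n⁻¹ ∈ K' := by
    have : (n * k) * y * (n * k)⁻¹ = n * (k * y * k⁻¹) * n⁻¹ := by group
    rw [this, hky] at h1
    exact h1
  -- the involution
  refine ⟨u⁻¹ * n, ?_, ?_⟩
  · intro hs
    apply hu
    have : u⁻¹ = (u⁻¹ * n) * n⁻¹ := by group
    have h3 : u⁻¹ ∈ N := by rw [this]; exact mul_mem hs (inv_mem hn')
    simpa using inv_mem h3
  · set s : G := u⁻¹ * n with hs
    have hsy : s * y * s⁻¹ ∈ K := by
      obtain ⟨j, hj⟩ := Subgroup.mem_zpowers_iff.1 h2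
      have : s * y * s⁻¹ = y ^ j := by
        have h3 : s * y * s⁻¹ = u⁻¹ * (n * y * n⁻¹) * u := by rw [hs]; group
        rw [h3, ← hj, conj_zpow]
        group
      rw [this]
      exact zpow_mem (Subgroup.mem_zpowers y) j
    have hsK : ∀ z ∈ K, s * z * s⁻¹ ∈ K := by
      intro z hz
      obtain ⟨i, rfl⟩ := Subgroup.mem_zpowers_iff.1 hz
      rw [← conj_zpow]
      exact zpow_mem hsy i
    have hwN : s * s ∈ N := by
      have h3 : s * s = (u⁻¹ * n * u⁻¹⁻¹) * (u * u)⁻¹ * n := by rw [hs]; group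
      rw [h3]
      exact mul_mem (mul_mem (hNn.conj_mem n hn' u⁻¹) (inv_mem hu2)) hn'
    have hwy : (s * s) * y * (s * s)⁻¹ ∈ K := by
      have h3 : (s * s) * y * (s * s)⁻¹ = s * (s * y * s⁻¹) * s⁻¹ := by group
      rw [h3]
      exact hsK _ hsy
    have hcm : (s * s) * y * (s * s)⁻¹ * y⁻¹ ∈ N ⊓ K := by
      refine Subgroup.mem_inf.2 ⟨?_, K.mul_mem hwy (K.inv_mem (Subgroup.mem_zpowers y))⟩
      have h3 : (s * s) * y * (s * s)⁻¹ * y⁻¹ = (s * s) * (y * (s * s)⁻¹ * y⁻¹) := by group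
      rw [h3]
      exact mul_mem hwN (hNn.conj_mem _ (inv_mem hwN) y)
    rw [hinf, Subgroup.mem_bot] at hcm
    have hcomm : y * (s * s) = (s * s) * y := by
      have h3 : (s * s) * y = ((s * s) * y * (s * s)⁻¹ * y⁻¹) * (y * (s * s)) := by group
      rw [h3, hcm, one_mul]
    exact hfpf y hy1 hyodd (s * s) hwN hcomm

end Cfsg.Agent.Lib.Helper16.Gag
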