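import Cfsg.Agent.Lib.Helper16.ClassTwo

set_option autoImplicit false

namespace Cfsg.Agent.Lib.Helper16

open scoped commutatorElement

namespace GR

variable {S : Type*} [Group S]

/-- conjugate of `A` by `b` : `b⁻¹ A b` -/
abbrev Ab (A : Subgroup S) (b : S) : Subgroup S := A.map (MulAut.conj (b⁻¹)).toMonoidHom

abbrev DD (A : Subgroup S) (b : S) : Subgroup S := A ⊓ Ab A b

abbrev KK (A : Subgroup S) (b : S) : Subgroup S :=
  Subgroup.closure {g : S | ∃ a ∈ A, g = a * b⁻¹ * a⁻¹ * b}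

abbrev Astar (A : Subgroup S) (b : S) : Subgroup S := DD A b ⊔ KK A b

abbrev HH (A : Subgroup S) (b : S) : Subgroup S := A ⊔ Ab A b

/-- the generator `[a, b⁻¹]` -/
def g (b a : S) : S := a * b⁻¹ * a⁻¹ * b

theorem g_eq (b a : S) : g b a = a * (b⁻¹ * a * b)⁻¹ := by unfold g; group

theorem g_one (b : S) : g b 1 = 1 := by unfold g; group

theorem g_mul (b a₁ a₂ : S) : g b (a₁ * a₂) = ⁅a₁, g b a₂⁆ * g b a₂ * g b a₁ := by
  unfold g; simp only [commutatorElement_def]; group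

theorem g_inv (b a : S) : g b a⁻¹ = ⁅a⁻¹, (g b a)⁻¹⁆ * (g b a)⁻¹ := by
  unfold g; simp only [commutatorElement_def]; group

theorem conj_g (b a : S) : b⁻¹ * g b a * b = (b⁻¹ * a * b) * (b⁻¹ * (b⁻¹ * a * b) * b)⁻¹ := by
  unfold g; simp [mul_assoc]

theorem mem_Ab {A : Subgroup S} {b x : S} : x ∈ Ab A b ↔ ∃ a ∈ A, b⁻¹ * a * b = x := by
  simp [Ab, Subgroup.mem_map]

theorem conj_mem_Ab {A : Subgroup S} {b a : S} (ha : a ∈ A) : b⁻¹ * a * b ∈ Ab A b :=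
  mem_Ab.mpr ⟨a, ha, rfl⟩

/-- hypotheses of the replacement theorem -/
structure Hyp (A B : Subgroup S) (b : S) : Prop where
  Bnormal : B.Normal
  Acomm : ∀ x ∈ A, ∀ y ∈ A, x * y = y * x
  hBA : ⁅B, B⁆ ≤ A
  hb : b ∈ B
  hbN : b ∈ Subgroup.normalizer ((Subgroup.normalizer (A : Set S)) : Set S)

variable {A B : Subgroup S} {b : S}

theorem Hyp.conjN (h : Hyp A B b) {n : S} (hn : n ∈ Subgroup.normalizer (A : Set S)) :
    b⁻¹ * n * b ∈ Subgroup.normalizer (A : Set S) :=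
  (Subgroup.mem_normalizer_iff''.mp h.hbN n).mp hn

theorem Hyp.conjN' (h : Hyp A B b) {n : S} (hn : n ∈ Subgroup.normalizer (A : Set S)) :
    b * n * b⁻¹ ∈ Subgroup.normalizer (A : Set S) :=
  (Subgroup.mem_normalizer_iff.mp h.hbN n).mp hn

theorem Hyp.A_le_N (_h : Hyp A B b) : A ≤ Subgroup.normalizer (A : Set S) := Subgroup.le_normalizer

theorem Hyp.Ab_le_N (h : Hyp A B b) : Ab A b ≤ Subgroup.normalizer (A : Set S) := by
  intro x hx
  obtain ⟨a, ha, rfl⟩ := mem_Ab.mp hx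
  exact h.conjN (h.A_le_N ha)

theorem Hyp.N_conj_A (_h : Hyp A B b) {n a : S} (hn : n ∈ Subgroup.normalizer (A : Set S))
    (ha : a ∈ A) : n * a * n⁻¹ ∈ A :=
  (Subgroup.mem_normalizer_iff.mp hn a).mp ha

theorem Hyp.N_conj_A' (_h : Hyp A B b) {n a : S} (hn : n ∈ Subgroup.normalizer (A : Set S))
    (ha : a ∈ A) : n⁻¹ * a * n ∈ A :=
  (Subgroup.mem_normalizer_iff''.mp hn a).mp ha

theorem Hyp.N_conj_Ab (h : Hyp A B b) {n y : S} (hn : n ∈ Subgroup.normalizer (A : Set S))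
    (hy : y ∈ Ab A b) : n * y * n⁻¹ ∈ Ab A b := by
  obtain ⟨a, ha, rfl⟩ := mem_Ab.mp hy
  have hm : b * n * b⁻¹ ∈ Subgroup.normalizer (A : Set S) := h.conjN' hn
  have : n * (b⁻¹ * a * b) * n⁻¹ = b⁻¹ * ((b * n * b⁻¹) * a * (b * n * b⁻¹)⁻¹) * b := by group
  rw [this]
  exact conj_mem_Ab (h.N_conj_A hm ha)

theorem Hyp.Ab_comm (h : Hyp A B b) : ∀ x ∈ Ab A b, ∀ y ∈ Ab A b, x * y = y * x := by
  intro x hx y hy
  obtain ⟨a, ha, rfl⟩ := mem_Ab.mp hx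
  obtain ⟨a', ha', rfl⟩ := mem_Ab.mp hy
  have := h.Acomm a ha a' ha'
  calc b⁻¹ * a * b * (b⁻¹ * a' * b) = b⁻¹ * (a * a') * b := by group
    _ = b⁻¹ * (a' * a) * b := by rw [this]
    _ = b⁻¹ * a' * b * (b⁻¹ * a * b) := by group

theorem Hyp.comm_mem_D (h : Hyp A B b) {x y : S} (hx : x ∈ A) (hy : y ∈ Ab A b) :
    ⁅x, y⁆ ∈ DD A b := by
  refine Subgroup.mem_inf.mpr ⟨?_, ?_⟩
  · have : ⁅x, y⁆ = x * (y * x⁻¹ * y⁻¹) := by simp only [commutatorElement_def]; group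
    rw [this]
    exact A.mul_mem hx (h.N_conj_A (h.Ab_le_N hy) (A.inv_mem hx))
  · have : ⁅x, y⁆ = (x * y * x⁻¹) * y⁻¹ := by simp only [commutatorElement_def]
    rw [this]
    exact (Ab A b).mul_mem (h.N_conj_Ab (h.A_le_N hx) hy) ((Ab A b).inv_mem hy)

theorem Hyp.comm_mem_D' (h : Hyp A B b) {x y : S} (hx : x ∈ A) (hy : y ∈ Ab A b) :
    ⁅y, x⁆ ∈ DD A b := by
  rw [← commutatorElement_inv]
  exact (DD A b).inv_mem (h.comm_mem_D hx hy)

theorem Hyp.HH_eq (_h : Hyp A B b) :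
    HH A b = Subgroup.closure ((A : Set S) ∪ (Ab A b : Set S)) := by
  rw [Subgroup.closure_union, Subgroup.closure_eq, Subgroup.closure_eq]

theorem Hyp.cl2 (h : Hyp A B b) : Cl2 (HH A b) (DD A b) := by
  rw [h.HH_eq]
  apply cl2_closure
  · rw [← h.HH_eq]
    exact inf_le_left.trans le_sup_left
  · rintro d ⟨hdA, hdAb⟩ x (hx | hx)
    · exact h.Acomm d hdA x hx
    · exact h.Ab_comm d hdAb x hx
  · rintro x (hx | hx) y (hy | hy)
    · have : ⁅x, y⁆ = 1 := by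
        rw [commutatorElement_eq_one_iff_mul_comm]; exact h.Acomm x hx y hy
      rw [this]; exact one_mem _
    · exact h.comm_mem_D hx hy
    · exact h.comm_mem_D' hy hx
    · have : ⁅x, y⁆ = 1 := by
        rw [commutatorElement_eq_one_iff_mul_comm]; exact h.Ab_comm x hx y hy
      rw [this]; exact one_mem _

theorem Hyp.B'_le_D (h : Hyp A B b) {x y : S} (hx : x ∈ B) (hy : y ∈ B) : ⁅x, y⁆ ∈ DD A b := by
  have := h.Bnormal
  refine Subgroup.mem_inf.mpr ⟨h.hBA (Subgroup.commutator_mem_commutator hx hy), ?_⟩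
  rw [mem_Ab]
  refine ⟨⁅b * x * b⁻¹, b * y * b⁻¹⁆, h.hBA (Subgroup.commutator_mem_commutator
    (h.Bnormal.conj_mem x hx b) (h.Bnormal.conj_mem y hy b)), ?_⟩
  simp only [commutatorElement_def]; group

theorem Hyp.g_mem_B (h : Hyp A B b) (a : S) : g b a ∈ B := by
  unfold g
  exact B.mul_mem (h.Bnormal.conj_mem _ (B.inv_mem h.hb) a) h.hb

theorem Hyp.g_mem_H (_h : Hyp A B b) {a : S} (ha : a ∈ A) : g b a ∈ HH A b := by
  rw [g_eq]
  exact (HH A b).mul_mem (Subgroup.mem_sup_left ha)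
    ((HH A b).inv_mem (Subgroup.mem_sup_right (conj_mem_Ab ha)))

theorem Hyp.A_le_H (_h : Hyp A B b) : A ≤ HH A b := le_sup_left
theorem Hyp.Ab_le_H (_h : Hyp A B b) : Ab A b ≤ HH A b := le_sup_right
theorem Hyp.D_le_A (_h : Hyp A B b) : DD A b ≤ A := inf_le_left
theorem Hyp.D_le_Ab (_h : Hyp A B b) : DD A b ≤ Ab A b := inf_le_right

/-- (E3): `a'' = ζ a' a⁻¹ a'` with `ζ ∈ D`. -/
theorem Hyp.double_conj (h : Hyp A B b) {a : S} (ha : a ∈ A) :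
    ∃ ζ ∈ DD A b, b⁻¹ * (b⁻¹ * a * b) * b = ζ * (b⁻¹ * a * b) * a⁻¹ * (b⁻¹ * a * b) := by
  have hz : ⁅b⁻¹, g b a⁆ ∈ DD A b := h.B'_le_D (B.inv_mem h.hb) (h.g_mem_B a)
  refine ⟨⁅b⁻¹, g b a⁆⁻¹, (DD A b).inv_mem hz, ?_⟩
  have ha' : b⁻¹ * a * b ∈ HH A b := h.Ab_le_H (conj_mem_Ab ha)
  have hmem : (b⁻¹ * a * b) * a⁻¹ ∈ HH A b := (HH A b).mul_mem ha' ((HH A b).inv_mem (h.A_le_H ha))
  have e1 : b⁻¹ * (b⁻¹ * a * b) * b = (b⁻¹ * a * b) * a⁻¹ * ⁅b⁻¹, g b a⁆⁻¹ * (b⁻¹ * a * b) := by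
    unfold g; simp only [commutatorElement_def]; group
  rw [e1, mul_assoc ⁅b⁻¹, g b a⁆⁻¹, h.cl2.central _ ((DD A b).inv_mem hz) _ hmem]

theorem Hyp.conj_D (h : Hyp A B b) {d : S} (hd : d ∈ DD A b) : b⁻¹ * d * b ∈ DD A b := by
  obtain ⟨hdA, hdAb⟩ := Subgroup.mem_inf.mp hd
  obtain ⟨e, he, rfl⟩ := mem_Ab.mp hdAb
  obtain ⟨ζ, hζ, heq⟩ := h.double_conj he
  refine Subgroup.mem_inf.mpr ⟨?_, conj_mem_Ab hdA⟩
  rw [heq]
  exact A.mul_mem (A.mul_mem (A.mul_mem (h.D_le_A hζ) hdA) (A.inv_mem he)) hdA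

theorem conj_mem_of_finite [Finite S] (K : Subgroup S) (x : S)
    (hx : ∀ k ∈ K, x⁻¹ * k * x ∈ K) : ∀ k ∈ K, x * k * x⁻¹ ∈ K := by
  have hpow : ∀ n : ℕ, ∀ k ∈ K, (x ^ n)⁻¹ * k * x ^ n ∈ K := by
    intro n
    induction n with
    | zero => intro k hk; simpa using hk
    | succ n ih =>
      intro k hk
      have : (x ^ (n + 1))⁻¹ * k * x ^ (n + 1) = x⁻¹ * ((x ^ n)⁻¹ * k * x ^ n) * x := by
        rw [pow_succ]; group
      rw [this]
      exact hx _ (ih k hk)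
  intro k hk
  have hinv : x⁻¹ = x ^ (orderOf x - 1) := by
    rw [eq_comm, ← mul_eq_one_iff_eq_inv, ← pow_succ,
      Nat.sub_add_cancel (orderOf_pos x), pow_orderOf_eq_one]
  have := hpow (orderOf x - 1) k hk
  rw [← hinv, inv_inv] at this
  exact this

theorem Hyp.conj_D' [Finite S] (h : Hyp A B b) {d : S} (hd : d ∈ DD A b) :
    b * d * b⁻¹ ∈ DD A b :=
  conj_mem_of_finite (DD A b) b (fun _ hk => h.conj_D hk) d hd

/-- the set `{d * g a}` as a subgroup -/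
def TT (h : Hyp A B b) : Subgroup S where
  carrier := {x | ∃ d ∈ DD A b, ∃ a ∈ A, x = d * g b a}
  one_mem' := ⟨1, one_mem _, 1, one_mem _, by rw [g_one, one_mul]⟩
  mul_mem' := by
    rintro _ _ ⟨d₁, hd₁, a₁, ha₁, rfl⟩ ⟨d₂, hd₂, a₂, ha₂, rfl⟩
    have hc : ⁅a₂, g b a₁⁆ ∈ DD A b := h.cl2.comm _ (h.A_le_H ha₂) _ (h.g_mem_H ha₁)
    refine ⟨d₁ * d₂ * ⁅a₂, g b a₁⁆⁻¹, (DD A b).mul_mem ((DD A b).mul_mem hd₁ hd₂)
      ((DD A b).inv_mem hc), a₂ * a₁, A.mul_mem ha₂ ha₁, ?_⟩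
    rw [g_mul]
    have e1 : d₁ * g b a₁ * (d₂ * g b a₂) = d₁ * (g b a₁ * d₂) * g b a₂ := by group
    rw [e1, ← h.cl2.central d₂ hd₂ _ (h.g_mem_H ha₁)]
    group
  inv_mem' := by
    rintro _ ⟨d, hd, a, ha, rfl⟩
    have hgi : (g b a)⁻¹ ∈ HH A b := (HH A b).inv_mem (h.g_mem_H ha)
    have hc : ⁅a⁻¹, (g b a)⁻¹⁆ ∈ DD A b := h.cl2.comm _ (h.A_le_H (A.inv_mem ha)) _ hgi
    refine ⟨d⁻¹ * ⁅a⁻¹, (g b a)⁻¹⁆⁻¹, (DD A b).mul_mem ((DD A b).inv_mem hd)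
      ((DD A b).inv_mem hc), a⁻¹, A.inv_mem ha, ?_⟩
    rw [g_inv, mul_inv_rev, ← h.cl2.central _ ((DD A b).inv_mem hd) _ hgi]
    group

theorem Hyp.mem_TT (h : Hyp A B b) {x : S} :
    x ∈ TT h ↔ ∃ d ∈ DD A b, ∃ a ∈ A, x = d * g b a := Iff.rfl

theorem Hyp.Astar_eq (h : Hyp A B b) : Astar A b = TT h := by
  apply le_antisymm
  · apply sup_le
    · intro d hd
      exact ⟨d, hd, 1, one_mem _, by rw [g_one, mul_one]⟩
    · rw [Subgroup.closure_le]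
      rintro x ⟨a, ha, rfl⟩
      exact ⟨1, one_mem _, a, ha, by rw [one_mul]; rfl⟩
  · rintro x ⟨d, hd, a, ha, rfl⟩
    exact (Astar A b).mul_mem (Subgroup.mem_sup_left hd)
      (Subgroup.mem_sup_right (Subgroup.subset_closure ⟨a, ha, rfl⟩))

theorem Hyp.mem_Astar (h : Hyp A B b) {x : S} :
    x ∈ Astar A b ↔ ∃ d ∈ DD A b, ∃ a ∈ A, x = d * g b a := by
  rw [h.Astar_eq]; exact Iff.rfl

theorem Hyp.Astar_le_H (h : Hyp A B b) : Astar A b ≤ HH A b := by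
  apply sup_le (h.D_le_A.trans h.A_le_H)
  rw [Subgroup.closure_le]
  rintro x ⟨a, ha, rfl⟩
  exact h.g_mem_H ha

/-- sub-lemma (ii) -/
theorem Hyp.conj_comm (h : Hyp A B b) {x y : S} (hx : x ∈ A) (hy : y ∈ A) :
    b⁻¹ * ⁅x, b⁻¹ * y * b⁆ * b = ⁅b⁻¹ * x * b, y⁆⁻¹ := by
  obtain ⟨ζ, hζ, heq⟩ := h.double_conj hy
  have hx' : b⁻¹ * x * b ∈ HH A b := h.Ab_le_H (conj_mem_Ab hx)
  have hy' : b⁻¹ * y * b ∈ HH A b := h.Ab_le_H (conj_mem_Ab hy)
  have hyH : y ∈ HH A b := h.A_le_H hy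
  have e1 : b⁻¹ * ⁅x, b⁻¹ * y * b⁆ * b = ⁅b⁻¹ * x * b, b⁻¹ * (b⁻¹ * y * b) * b⁆ := by
    simp [commutatorElement_def, mul_assoc]
  have hcomm : ⁅b⁻¹ * x * b, b⁻¹ * y * b⁆ = 1 := by
    rw [commutatorElement_eq_one_iff_mul_comm]
    exact h.Ab_comm _ (conj_mem_Ab hx) _ (conj_mem_Ab hy)
  rw [e1, heq, h.cl2.mul_right hx' ((HH A b).mul_mem ((HH A b).mul_mem (h.cl2.le hζ) hy')
      ((HH A b).inv_mem hyH)) hy',
    h.cl2.mul_right hx' ((HH A b).mul_mem (h.cl2.le hζ) hy') ((HH A b).inv_mem hyH),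
    h.cl2.central_right hζ hx' hy', hcomm, h.cl2.inv_right hx' hyH, one_mul, mul_one]

/-- claim (i) -/
theorem Hyp.comm_g_g (h : Hyp A B b) {x y : S} (hx : x ∈ A) (hy : y ∈ A) :
    ⁅g b x, g b y⁆ = ⁅x, b⁻¹ * y * b⁆⁻¹ * ⁅b⁻¹ * x * b, y⁆⁻¹ := by
  have hx' : b⁻¹ * x * b ∈ HH A b := h.Ab_le_H (conj_mem_Ab hx)
  have hy' : b⁻¹ * y * b ∈ HH A b := h.Ab_le_H (conj_mem_Ab hy)
  have hxH : x ∈ HH A b := h.A_le_H hx
  have hyH : y ∈ HH A b := h.A_le_H hy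
  have hx'i := (HH A b).inv_mem hx'
  have hy'i := (HH A b).inv_mem hy'
  have c1 : ⁅x, y⁆ = 1 := by
    rw [commutatorElement_eq_one_iff_mul_comm]; exact h.Acomm x hx y hy
  have c2 : ⁅b⁻¹ * x * b, b⁻¹ * y * b⁆ = 1 := by
    rw [commutatorElement_eq_one_iff_mul_comm]
    exact h.Ab_comm _ (conj_mem_Ab hx) _ (conj_mem_Ab hy)
  rw [g_eq, g_eq, h.cl2.mul_left hxH hx'i ((HH A b).mul_mem hyH hy'i),
    h.cl2.mul_right hxH hyH hy'i, h.cl2.mul_right hx'i hyH hy'i,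
    h.cl2.inv_right hxH hy', h.cl2.inv_left hx' hyH, h.cl2.inv_left hx' hy'i,
    h.cl2.inv_right hx' hy', c1, c2]
  simp

theorem Hyp.conj_comm_g_g (h : Hyp A B b) {x y : S} (hx : x ∈ A) (hy : y ∈ A) :
    b⁻¹ * ⁅g b x, g b y⁆ * b = ⁅g b x, g b y⁆⁻¹ := by
  have hw : ⁅x, b⁻¹ * y * b⁆ ∈ DD A b := h.comm_mem_D hx (conj_mem_Ab hy)
  have hv : ⁅b⁻¹ * x * b, y⁆ ∈ DD A b := h.comm_mem_D' hy (conj_mem_Ab hx)
  have e1 := h.conj_comm hx hy
  have e2 := h.conj_comm hy hx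
  -- e2 : b⁻¹ * ⁅y, b⁻¹ x b⁆ * b = ⁅b⁻¹ y b, x⁆⁻¹
  rw [← commutatorElement_inv (b⁻¹ * x * b) y, commutatorElement_inv (b⁻¹ * y * b) x] at e2
  -- e2 : b⁻¹ * ⁅b⁻¹ x b, y⁆⁻¹ * b = ⁅x, b⁻¹ y b⁆
  rw [h.comm_g_g hx hy]
  have e3 : b⁻¹ * (⁅x, b⁻¹ * y * b⁆⁻¹ * ⁅b⁻¹ * x * b, y⁆⁻¹) * b =
      (b⁻¹ * ⁅x, b⁻¹ * y * b⁆ * b)⁻¹ * (b⁻¹ * ⁅b⁻¹ * x * b, y⁆⁻¹ * b) := by group
  rw [e3, e1, e2, mul_inv_rev, inv_inv, inv_inv]

theorem eq_one_of_conj_eq_inv [Finite S] {p : ℕ} [Fact p.Prime] (hS : IsPGroup p S) (hp : p ≠ 2)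
    {b c : S} (h : b⁻¹ * c * b = c⁻¹) : c = 1 := by
  have h2 : ∀ n : ℕ, (b ^ (2 * n))⁻¹ * c * b ^ (2 * n) = c := by
    intro n
    induction n with
    | zero => simp
    | succ n ih =>
      have : (b ^ (2 * (n + 1)))⁻¹ * c * b ^ (2 * (n + 1)) =
          b⁻¹ * (b⁻¹ * ((b ^ (2 * n))⁻¹ * c * b ^ (2 * n)) * b) * b := by
        rw [show 2 * (n + 1) = 2 * n + 1 + 1 by ring, pow_succ, pow_succ]; group
      rw [this, ih, h]
      have : b⁻¹ * c⁻¹ * b = (b⁻¹ * c * b)⁻¹ := by group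
      rw [this, h, inv_inv]
  obtain ⟨k, hk⟩ := (IsPGroup.iff_orderOf.mp hS) b
  have hodd : Odd (orderOf b) := by
    rw [hk]
    exact ((Fact.out : p.Prime).odd_of_ne_two hp).pow
  obtain ⟨m, hm⟩ := hodd
  have hb : b ^ (2 * m) = b⁻¹ := by
    rw [eq_inv_iff_mul_eq_one, ← pow_succ, ← hm, pow_orderOf_eq_one]
  have h3 := h2 m
  rw [hb, inv_inv] at h3
  have h4 : c = c⁻¹ := by
    have e : c = b⁻¹ * (b * c * b⁻¹) * b := by group
    rw [h3, h] at e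
    exact e
  have h5 : c ^ 2 = 1 := by
    rw [pow_two]
    nth_rewrite 1 [h4]
    exact inv_mul_cancel c
  obtain ⟨j, hj⟩ := (IsPGroup.iff_orderOf.mp hS) c
  have hdvd : orderOf c ∣ 2 := orderOf_dvd_of_pow_eq_one h5
  have hoddc : Odd (orderOf c) := by
    rw [hj]
    exact ((Fact.out : p.Prime).odd_of_ne_two hp).pow
  have : orderOf c = 1 := by
    rcases (Nat.dvd_prime Nat.prime_two).mp hdvd with h1 | h1
    · exact h1
    · rw [h1] at hoddc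
      exact absurd hoddc (by decide)
  exact orderOf_eq_one_iff.mp this

theorem Hyp.g_comm [Finite S] {p : ℕ} [Fact p.Prime] (h : Hyp A B b) (hS : IsPGroup p S)
    (hB2 : p = 2 → IsMulCommutative B) {x y : S} (hx : x ∈ A) (hy : y ∈ A) :
    g b x * g b y = g b y * g b x := by
  by_cases hp : p = 2
  · have := hB2 hp
    have := mul_comm' (⟨g b x, h.g_mem_B x⟩ : B) ⟨g b y, h.g_mem_B y⟩
    exact congrArg Subtype.val this
  · rw [← commutatorElement_eq_one_iff_mul_comm]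
    exact eq_one_of_conj_eq_inv hS hp (h.conj_comm_g_g hx hy)

theorem Hyp.Astar_comm [Finite S] {p : ℕ} [Fact p.Prime] (h : Hyp A B b) (hS : IsPGroup p S)
    (hB2 : p = 2 → IsMulCommutative B) :
    ∀ x ∈ Astar A b, ∀ y ∈ Astar A b, x * y = y * x := by
  intro x hx y hy
  obtain ⟨d₁, hd₁, a₁, ha₁, rfl⟩ := h.mem_Astar.mp hx
  obtain ⟨d₂, hd₂, a₂, ha₂, rfl⟩ := h.mem_Astar.mp hy
  have hg₁ := h.g_mem_H ha₁
  have hg₂ := h.g_mem_H ha₂
  calc d₁ * g b a₁ * (d₂ * g b a₂) = d₁ * (g b a₁ * d₂) * g b a₂ := by group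
    _ = d₁ * (d₂ * g b a₁) * g b a₂ := by rw [h.cl2.central d₂ hd₂ _ hg₁]
    _ = d₁ * d₂ * (g b a₁ * g b a₂) := by group
    _ = d₂ * d₁ * (g b a₂ * g b a₁) := by
      rw [h.g_comm hS hB2 ha₁ ha₂, h.cl2.central d₁ hd₁ d₂ (h.cl2.le hd₂)]
    _ = d₂ * (d₁ * g b a₂) * g b a₁ := by group
    _ = d₂ * (g b a₂ * d₁) * g b a₁ := by rw [h.cl2.central d₁ hd₁ _ hg₂]
    _ = d₂ * g b a₂ * (d₁ * g b a₁) := by group

/-- `g a ∈ D ↔ a ∈ D` for `a ∈ A` -/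
theorem Hyp.g_mem_D_iff [Finite S] (h : Hyp A B b) {a : S} (ha : a ∈ A) :
    g b a ∈ DD A b ↔ a ∈ DD A b := by
  constructor
  · intro hg
    have h1 : (b⁻¹ * a * b)⁻¹ = a⁻¹ * g b a := by rw [g_eq]; group
    have h2 : (b⁻¹ * a * b)⁻¹ ∈ A := by
      rw [h1]; exact A.mul_mem (A.inv_mem ha) (h.D_le_A hg)
    have h3 : b⁻¹ * a * b ∈ DD A b :=
      Subgroup.mem_inf.mpr ⟨by simpa using A.inv_mem h2, conj_mem_Ab ha⟩
    have := h.conj_D' h3
    simpa [mul_assoc] using this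
  · intro haD
    rw [g_eq]
    exact (DD A b).mul_mem haD ((DD A b).inv_mem (h.conj_D haD))

theorem Hyp.D_le_Astar (_h : Hyp A B b) : DD A b ≤ Astar A b := le_sup_left

theorem Hyp.g_mem_Astar (_h : Hyp A B b) {a : S} (ha : a ∈ A) : g b a ∈ Astar A b :=
  Subgroup.mem_sup_right (Subgroup.subset_closure ⟨a, ha, rfl⟩)

theorem Hyp.card_Astar [Finite S] {p : ℕ} [Fact p.Prime] (h : Hyp A B b) (hS : IsPGroup p S)
    (hB2 : p = 2 → IsMulCommutative B) : Nat.card (Astar A b) = Nat.card A := by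
  haveI hc : IsMulCommutative ↥(Astar A b) :=
    ⟨⟨fun x y => Subtype.ext (h.Astar_comm hS hB2 x x.2 y y.2)⟩⟩
  let F : ↥A →* (↥(Astar A b) ⧸ (DD A b).subgroupOf (Astar A b)) :=
    MonoidHom.mk' (fun a => QuotientGroup.mk ⟨g b a, h.g_mem_Astar a.2⟩) (by
      intro a₁ a₂
      rw [← QuotientGroup.mk_mul, QuotientGroup.eq, Subgroup.mem_subgroupOf]
      have hc' : ⁅(a₁ : S), g b a₂⁆ ∈ DD A b :=
        h.cl2.comm _ (h.A_le_H a₁.2) _ (h.g_mem_H a₂.2)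
      have ht : g b a₁ * g b a₂ ∈ HH A b := (HH A b).mul_mem (h.g_mem_H a₁.2) (h.g_mem_H a₂.2)
      have e : g b ((a₁ : S) * a₂) = ⁅(a₁ : S), g b a₂⁆ * (g b a₁ * g b a₂) := by
        rw [g_mul, mul_assoc, h.g_comm hS hB2 a₂.2 a₁.2]
      change (g b ((a₁ : S) * a₂))⁻¹ * (g b a₁ * g b a₂) ∈ DD A b
      rw [e, mul_inv_rev, mul_assoc, h.cl2.central _ ((DD A b).inv_mem hc') _ ht,
        inv_mul_cancel_left]
      exact (DD A b).inv_mem hc')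
  have hF : ∀ a : ↥A, F a = QuotientGroup.mk ⟨g b a, h.g_mem_Astar a.2⟩ := fun a => rfl
  have hker : F.ker = (DD A b).subgroupOf A := by
    ext a
    rw [MonoidHom.mem_ker, hF, QuotientGroup.eq_one_iff, Subgroup.mem_subgroupOf,
      Subgroup.mem_subgroupOf]
    exact h.g_mem_D_iff a.2
  have hsurj : Function.Surjective F := by
    intro q
    induction q using QuotientGroup.induction_on with
    | H x =>
      obtain ⟨x, hx⟩ := x
      obtain ⟨d, hd, a, ha, rfl⟩ := h.mem_Astar.mp hx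
      refine ⟨⟨a, ha⟩, ?_⟩
      rw [hF, QuotientGroup.eq, Subgroup.mem_subgroupOf]
      change (g b a)⁻¹ * (d * g b a) ∈ DD A b
      rw [h.cl2.central d hd _ (h.g_mem_H ha), inv_mul_cancel_left]
      exact hd
  have e1 := Nat.card_congr (QuotientGroup.quotientKerEquivOfSurjective F hsurj).toEquiv
  have e2 := Subgroup.card_eq_card_quotient_mul_card_subgroup F.ker
  have e3 := Subgroup.card_eq_card_quotient_mul_card_subgroup
    ((DD A b).subgroupOf (Astar A b))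
  have e4 : Nat.card ((DD A b).subgroupOf A) = Nat.card (DD A b) :=
    Nat.card_congr (Subgroup.subgroupOfEquivOfLe h.D_le_A).toEquiv
  have e5 : Nat.card ((DD A b).subgroupOf (Astar A b)) = Nat.card (DD A b) :=
    Nat.card_congr (Subgroup.subgroupOfEquivOfLe h.D_le_Astar).toEquiv
  rw [e3, e2, e1, hker, e4, e5]

theorem Hyp.AB_le_D (h : Hyp A B b) : A ⊓ B ≤ DD A b := by
  intro x hx
  obtain ⟨hxA, hxB⟩ := Subgroup.mem_inf.mp hx
  refine Subgroup.mem_inf.mpr ⟨hxA, ?_⟩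
  rw [mem_Ab]
  refine ⟨⁅b, x⁆ * x, A.mul_mem (h.hBA (Subgroup.commutator_mem_commutator h.hb hxB)) hxA, ?_⟩
  simp only [commutatorElement_def]; group

theorem Hyp.H_le_N (h : Hyp A B b) : HH A b ≤ Subgroup.normalizer (A : Set S) :=
  sup_le h.A_le_N h.Ab_le_N

theorem mem_normalizer_of_conj_mem [Finite S] (K : Subgroup S) (x : S)
    (hx : ∀ k ∈ K, x⁻¹ * k * x ∈ K) : x ∈ Subgroup.normalizer (K : Set S) := by
  rw [Subgroup.mem_normalizer_iff]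
  intro k
  constructor
  · exact conj_mem_of_finite K x hx k
  · intro hk
    have := hx _ hk
    simpa [mul_assoc] using this

theorem Hyp.exists_g_not_mem [Finite S] (_h : Hyp A B b)
    (hbA : b ∉ Subgroup.normalizer (A : Set S)) : ∃ a ∈ A, g b a ∉ A := by
  by_contra hcon
  push Not at hcon
  apply hbA
  apply mem_normalizer_of_conj_mem
  intro a ha
  have : b⁻¹ * a * b = (a⁻¹ * g b a)⁻¹ := by rw [g_eq]; group
  rw [this]
  exact A.inv_mem (A.mul_mem (A.inv_mem ha) (hcon a ha))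

theorem Hyp.b_mem_normalizer_Astar [Finite S] (h : Hyp A B b) :
    b ∈ Subgroup.normalizer (Astar A b : Set S) := by
  apply mem_normalizer_of_conj_mem
  intro t ht
  obtain ⟨d, hd, a, ha, rfl⟩ := h.mem_Astar.mp ht
  have e : b⁻¹ * (d * g b a) * b = (b⁻¹ * d * b) * (⁅b⁻¹, g b a⁆ * g b a) := by
    simp only [commutatorElement_def]; group
  rw [e]
  exact (Astar A b).mul_mem (h.D_le_Astar (h.conj_D hd))
    ((Astar A b).mul_mem (h.D_le_Astar (h.B'_le_D (B.inv_mem h.hb) (h.g_mem_B a)))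
      (h.g_mem_Astar ha))

theorem Hyp.H_le_normalizer_Astar (h : Hyp A B b) :
    HH A b ≤ Subgroup.normalizer (Astar A b : Set S) := by
  intro x hx
  rw [Subgroup.mem_normalizer_iff]
  intro t
  constructor
  · intro ht
    exact h.cl2.conj_mem h.D_le_Astar h.Astar_le_H hx ht
  · intro ht
    have := h.cl2.conj_mem h.D_le_Astar h.Astar_le_H ((HH A b).inv_mem hx) ht
    simpa [mul_assoc] using this

theorem Hyp.N_conj_D (h : Hyp A B b) {n d : S} (hn : n ∈ Subgroup.normalizer (A : Set S))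
    (hd : d ∈ DD A b) : n * d * n⁻¹ ∈ DD A b := by
  obtain ⟨hdA, hdAb⟩ := Subgroup.mem_inf.mp hd
  exact Subgroup.mem_inf.mpr ⟨h.N_conj_A hn hdA, h.N_conj_Ab hn hdAb⟩

theorem Hyp.N_conj_Astar (h : Hyp A B b) {n t : S} (hn : n ∈ Subgroup.normalizer (A : Set S))
    (ht : t ∈ Astar A b) : n * t * n⁻¹ ∈ Astar A b := by
  obtain ⟨d, hd, a, ha, rfl⟩ := h.mem_Astar.mp ht
  have hm : b * n * b⁻¹ ∈ Subgroup.normalizer (A : Set S) := h.conjN' hn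
  set a₂ := (b * n * b⁻¹) * a * (b * n * b⁻¹)⁻¹ with ha₂
  have ha₂A : a₂ ∈ A := h.N_conj_A hm ha
  set k := n⁻¹ * b * n * b⁻¹ with hk
  have hkB : k ∈ B := by
    have : k = (n⁻¹ * b * n⁻¹⁻¹) * b⁻¹ := by rw [hk]; group
    rw [this]
    exact B.mul_mem (h.Bnormal.conj_mem b h.hb n⁻¹) (B.inv_mem h.hb)
  have hkN : k ∈ Subgroup.normalizer (A : Set S) := by
    have : k = n⁻¹ * (b * n * b⁻¹) := by rw [hk]; group
    rw [this]
    exact (Subgroup.normalizer (A : Set S)).mul_mem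
      ((Subgroup.normalizer (A : Set S)).inv_mem hn) hm
  have hak : ⁅a, k⁆ ∈ DD A b := by
    apply h.AB_le_D
    refine Subgroup.mem_inf.mpr ⟨?_, ?_⟩
    · have : ⁅a, k⁆ = a * (k * a⁻¹ * k⁻¹) := by simp only [commutatorElement_def]; group
      rw [this]
      exact A.mul_mem ha (h.N_conj_A hkN (A.inv_mem ha))
    · have : ⁅a, k⁆ = (a * k * a⁻¹) * k⁻¹ := by simp only [commutatorElement_def]
      rw [this]
      exact B.mul_mem (h.Bnormal.conj_mem k hkB a) (B.inv_mem hkB)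
  have e : n * (d * g b a) * n⁻¹ = (n * d * n⁻¹) * (n * ⁅a, k⁆ * n⁻¹) * g b a₂ := by
    rw [ha₂, hk]; unfold g; simp only [commutatorElement_def]; group
  rw [e]
  exact (Astar A b).mul_mem ((Astar A b).mul_mem (h.D_le_Astar (h.N_conj_D hn hd))
    (h.D_le_Astar (h.N_conj_D hn hak))) (h.g_mem_Astar ha₂A)

theorem Hyp.N_le_normalizer_Astar (h : Hyp A B b) :
    Subgroup.normalizer (A : Set S) ≤ Subgroup.normalizer (Astar A b : Set S) := by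
  intro n hn
  rw [Subgroup.mem_normalizer_iff]
  intro t
  constructor
  · exact h.N_conj_Astar hn
  · intro ht
    have := h.N_conj_Astar ((Subgroup.normalizer (A : Set S)).inv_mem hn) ht
    simpa [mul_assoc] using this

theorem Hyp.pow_eq_one (h : Hyp A B b) (e : ℕ) (he : ∀ a ∈ A, a ^ e = 1) (hodd : Odd e) :
    ∀ t ∈ Astar A b, t ^ e = 1 := by
  intro t ht
  obtain ⟨d, hd, a, ha, rfl⟩ := h.mem_Astar.mp ht
  have hcomm : Commute d (g b a) := h.cl2.central d hd _ (h.g_mem_H ha)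
  rw [hcomm.mul_pow, he d (h.D_le_A hd), one_mul, g_eq]
  set y := (b⁻¹ * a * b)⁻¹ with hy
  have hyH : y ∈ HH A b := (HH A b).inv_mem (h.Ab_le_H (conj_mem_Ab ha))
  have hye : y ^ e = 1 := by
    have : y = b⁻¹ * a⁻¹ * b⁻¹⁻¹ := by rw [hy]; group
    rw [this, conj_pow, inv_pow, he a ha]; group
  have hce : ⁅y, a⁆ ^ e = 1 := by
    rw [← h.cl2.pow_left hyH (h.A_le_H ha), hye]
    simp
  have hdvd : e ∣ Cl2.tri e := by
    have h2 := Cl2.two_mul_tri e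
    have h3 : e ∣ 2 * Cl2.tri e := by
      have : e ∣ 2 * Cl2.tri e + e := by rw [h2]; exact dvd_mul_right e e
      exact (Nat.dvd_add_left (dvd_refl e)).mp this
    have hcop : Nat.Coprime e 2 := Nat.coprime_two_right.mpr hodd
    exact hcop.dvd_of_dvd_mul_left h3
  obtain ⟨k, hk⟩ := hdvd
  rw [h.cl2.mul_pow_formula (h.A_le_H ha) hyH, he a ha, hye, hk, pow_mul, hce]
  simp

/-- The Glauberman replacement theorem, in the form of statement S0650. -/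
theorem glauberman_replacement [Finite S] {p : ℕ} [Fact p.Prime] (hS : IsPGroup p S)
    (B : Subgroup S) [B.Normal] (hB2 : p = 2 → IsMulCommutative B) (A : Subgroup S)
    (hA : IsMulCommutative A) (hBA : ⁅B, B⁆ ≤ A)
    (b : S) (hb : b ∈ B)
    (hbN : b ∈ Subgroup.normalizer ((Subgroup.normalizer (A : Set S)) : Set S))
    (hbA : b ∉ Subgroup.normalizer (A : Set S)) :
    Nat.card ↥(Astar A b) = Nat.card A ∧ IsMulCommutative ↥(Astar A b) ∧ ⁅B, B⁆ ≤ Astar A b ∧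
    A ⊓ B < Astar A b ⊓ B ∧ Astar A b ⊓ B < B ∧
    A ≤ Subgroup.normalizer ((Astar A b : Subgroup S) : Set S) ∧
    Astar A b ≤ Subgroup.normalizer (A : Set S) ∧
    b ∈ Subgroup.normalizer ((Astar A b : Subgroup S) : Set S) ∧
    Subgroup.normalizer (A : Set S) < Subgroup.normalizer ((Astar A b : Subgroup S) : Set S) ∧
    (p ≠ 2 → Monoid.exponent ↥(Astar A b) ∣ Monoid.exponent A) := by
  have h : Hyp A B b :=
    { Bnormal := inferInstance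
      Acomm := fun x hx y hy => congrArg Subtype.val (mul_comm' (⟨x, hx⟩ : A) ⟨y, hy⟩)
      hBA := hBA
      hb := hb
      hbN := hbN }
  refine ⟨h.card_Astar hS hB2,
    ⟨⟨fun x y => Subtype.ext (h.Astar_comm hS hB2 x x.2 y y.2)⟩⟩, ?_, ?_, ?_, ?_, ?_, ?_, ?_, ?_⟩
  · rw [Subgroup.commutator_le]
    intro x hx y hy
    exact h.D_le_Astar (h.B'_le_D hx hy)
  · obtain ⟨a, ha, hga⟩ := h.exists_g_not_mem hbA
    rw [SetLike.lt_iff_le_and_exists]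
    refine ⟨le_inf (h.AB_le_D.trans h.D_le_Astar) inf_le_right,
      g b a, Subgroup.mem_inf.mpr ⟨h.g_mem_Astar ha, h.g_mem_B a⟩, ?_⟩
    intro hmem
    exact hga (Subgroup.mem_inf.mp hmem).1
  · rw [SetLike.lt_iff_le_and_exists]
    refine ⟨inf_le_right, b, hb, ?_⟩
    intro hmem
    exact hbA (h.H_le_N (h.Astar_le_H (Subgroup.mem_inf.mp hmem).1))
  · exact h.A_le_H.trans h.H_le_normalizer_Astar
  · exact h.Astar_le_H.trans h.H_le_N
  · exact h.b_mem_normalizer_Astar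
  · rw [SetLike.lt_iff_le_and_exists]
    exact ⟨h.N_le_normalizer_Astar, b, h.b_mem_normalizer_Astar, hbA⟩
  · intro hp
    apply Monoid.exponent_dvd_of_forall_pow_eq_one
    intro t
    apply Subtype.ext
    rw [Subgroup.coe_pow, Subgroup.coe_one]
    apply h.pow_eq_one (Monoid.exponent ↥A) _ _ t t.2
    · intro a ha
      have := Monoid.pow_exponent_eq_one (⟨a, ha⟩ : ↥A)
      exact congrArg Subtype.val this
    · have h1 : Monoid.exponent ↥A ∣ Nat.card ↥A := Group.exponent_dvd_nat_card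
      obtain ⟨k, hk⟩ := IsPGroup.iff_card.mp (hS.to_subgroup A)
      rw [hk] at h1
      obtain ⟨j, -, hj⟩ := (Nat.dvd_prime_pow (Fact.out : p.Prime)).mp h1
      rw [hj]
      exact ((Fact.out : p.Prime).odd_of_ne_two hp).pow

end GR

end Cfsg.Agent.Lib.Helper16
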