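import Mathlib
import Cfsg.Prelude.Def_HallClasses
import Cfsg.Agent.Lib.Helper06.HallSym.Defs
import Cfsg.Agent.Lib.Helper38.HallAlt.Defs

/-!
# K-HB-T3 (keystone 253819): in the trivial case Hall subgroups of the alternating group are conjugate in it
-/

set_option autoImplicit false
open Cfsg
open scoped Pointwise

namespace Cfsg.Agent.Lib.Helper16.HallAlt
open Cfsg.Agent.Lib.Helper06.HallSym Cfsg.Agent.Lib.Helper38.HallAlt

theorem card_altSub_dvd (α : Type) [Finite α] : Nat.card (altSub α) ∣ (Nat.card α).factorial := by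
  have h := Subgroup.card_subgroup_dvd_card (altSub α)
  rwa [Nat.card_perm] at h

/-- a prime dividing the order of the alternating group is at most the degree -/
theorem prime_le_of_dvd_card_altSub {α : Type} [Finite α] {p : ℕ} (hp : p.Prime)
    (h : p ∣ Nat.card (altSub α)) : p ≤ Nat.card α :=
  (Nat.Prime.dvd_factorial hp).1 (h.trans (card_altSub_dvd α))

/-- Sylow conjugacy inside a subgroup `A`, written in the ambient group. -/
theorem conj_in_of_pGroup {G : Type*} [Group G] [Finite G] (A H K : Subgroup G) (p : ℕ) (hp : p.Prime)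
    (hHA : H ≤ A) (hKA : K ≤ A) (hH : IsPGroup p H) (hK : IsPGroup p K)
    (hHi : ¬ p ∣ H.relIndex A) (hKi : ¬ p ∣ K.relIndex A) :
    ∃ g ∈ A, K = H.map (MulAut.conj g).toMonoidHom := by
  have : Fact p.Prime := ⟨hp⟩
  have hH' : IsPGroup p (H.subgroupOf A) :=
    hH.of_equiv (Subgroup.subgroupOfEquivOfLe hHA).symm
  have hK' : IsPGroup p (K.subgroupOf A) :=
    hK.of_equiv (Subgroup.subgroupOfEquivOfLe hKA).symm
  let P : Sylow p A := hH'.toSylow hHi
  let Q : Sylow p A := hK'.toSylow hKi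
  obtain ⟨g, hg⟩ := MulAction.exists_smul_eq A P Q
  refine ⟨g, g.2, ?_⟩
  have h1 : ∀ x : A, x ∈ (Q : Subgroup A) ↔ g⁻¹ * x * g ∈ (P : Subgroup A) := by
    intro x
    rw [← hg, Sylow.smul_def, Sylow.pointwise_smul_def, Subgroup.mem_pointwise_smul_iff_inv_smul_mem,
      MulAut.smul_def, ← map_inv, MulAut.conj_apply, inv_inv]
  have hP : ∀ x : A, x ∈ (P : Subgroup A) ↔ (x : G) ∈ H := fun x => Iff.rfl
  have hQ : ∀ x : A, x ∈ (Q : Subgroup A) ↔ (x : G) ∈ K := fun x => Iff.rfl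
  ext x
  rw [Subgroup.mem_map]
  constructor
  · intro hx
    have h2 := (h1 ⟨x, hKA hx⟩).1 ((hQ ⟨x, hKA hx⟩).2 hx)
    rw [hP] at h2
    refine ⟨_, h2, ?_⟩
    simp [MulAut.conj_apply, mul_assoc]
  · rintro ⟨y, hy, rfl⟩
    have h2 := (h1 (g * ⟨y, hHA hy⟩ * g⁻¹)).2 (by
      rw [hP]; simpa [mul_assoc] using hy)
    rw [hQ] at h2
    simpa [MulAut.conj_apply] using h2

/-- **K-HB-T3** (253819). -/
theorem alt_conj_of_triv (π : Set ℕ) {α : Type} [Finite α] (hT : Triv π (Nat.card α))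
    (H K : Subgroup (Equiv.Perm α)) (hH : AltHall π H) (hK : AltHall π K) :
    ∃ g ∈ altSub α, K = H.map (MulAut.conj g).toMonoidHom := by
  obtain ⟨hHA, hHπ, hHi⟩ := hH
  obtain ⟨hKA, hKπ, hKi⟩ := hK
  have hle : ∀ (L : Subgroup (Equiv.Perm α)), L ≤ altSub α → ∀ p : ℕ, p.Prime → p ∣ Nat.card L →
      p ≤ Nat.card α := fun L hL p hp h =>
    prime_le_of_dvd_card_altSub hp (h.trans (Subgroup.card_dvd_of_le hL))
  rcases hT with hT | hT
  · by_cases hex : ∃ p : ℕ, p.Prime ∧ p ≤ Nat.card α ∧ p ∈ π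
    · obtain ⟨p, hp, hpn, hpπ⟩ := hex
      have hpg : ∀ (L : Subgroup (Equiv.Perm α)), L ≤ altSub α →
          (∀ q : ℕ, q.Prime → q ∣ Nat.card L → q ∈ π) → IsPGroup p L := by
        intro L hL hLπ
        have h0 : Nat.card L ≠ 0 := Nat.card_pos.ne'
        have := Nat.eq_prime_pow_of_unique_prime_dvd h0 (p := p) (fun {d} hd hdL =>
          hT d p hd hp (hle L hL d hd hdL) hpn (hLπ d hd hdL) hpπ)
        exact IsPGroup.of_card this
      exact conj_in_of_pGroup (altSub α) H K p hp hHA hKA (hpg H hHA hHπ) (hpg K hKA hKπ)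
        (hHi p hp hpπ) (hKi p hp hpπ)
    · have hbot : ∀ (L : Subgroup (Equiv.Perm α)), L ≤ altSub α →
          (∀ q : ℕ, q.Prime → q ∣ Nat.card L → q ∈ π) → L = ⊥ := by
        intro L hL hLπ
        rw [← Subgroup.card_eq_one, Nat.eq_one_iff_not_exists_prime_dvd]
        intro q hq hqL
        exact hex ⟨q, hq, hle L hL q hq hqL, hLπ q hq hqL⟩
      refine ⟨1, one_mem _, ?_⟩
      rw [hbot H hHA hHπ, hbot K hKA hKπ, Subgroup.map_bot]
  · have htop : ∀ (L : Subgroup (Equiv.Perm α)), L ≤ altSub α →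
        (∀ p : ℕ, p.Prime → p ∈ π → ¬ p ∣ L.relIndex (altSub α)) → L = altSub α := by
      intro L hL hLi
      refine le_antisymm hL ?_
      rw [← Subgroup.relIndex_eq_one, Nat.eq_one_iff_not_exists_prime_dvd]
      intro q hq hqL
      have hqA : q ∣ Nat.card (altSub α) := hqL.trans (Subgroup.relIndex_dvd_card _ _)
      exact hLi q hq (hT q hq (prime_le_of_dvd_card_altSub hq hqA)) hqL
    refine ⟨1, one_mem _, ?_⟩
    rw [htop H hHA hHi, htop K hKA hKi]
    ext x
    simp
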