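import Mathlib
import Cfsg.Prelude.Def_Blocks
import Cfsg.Agent.Lib.Helper70.IPDefs
import Cfsg.Agent.Lib.Helper04.IndFun
import Cfsg.Agent.Lib.Helper83.Decompose
import Cfsg.Agent.Lib.Helper83.Linear
import Cfsg.Agent.Lib.Helper34.GenChar
import Cfsg.Agent.Lib.Helper85.CliffordCorr
import Cfsg.Agent.Lib.Helper80.IndDegree

set_option autoImplicit false
set_option linter.style.haveILetI false

namespace Cfsg.Agent.Lib.Helper16.IP

open Cfsg Cfsg.Agent.Lib.Helper70.IP
open scoped ComplexConjugate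

universe u

/-- Pure analysis: the total squared variation of `F` under conjugation. -/
theorem sum_normSq_sub_conj {G : Type u} [Group G] [Fintype G] (F : G → ℂ) :
    ∑ x : G, ∑ g : G, Complex.normSq (F g - F (x⁻¹ * g * x)) =
      2 * (Fintype.card G : ℝ) * ∑ g : G, Complex.normSq (F g) -
        2 * (∑ x : G, ∑ g : G, F g * conj (F (x⁻¹ * g * x))).re := by
  have h1 : ∀ x : G, ∑ g : G, Complex.normSq (F g - F (x⁻¹ * g * x)) =
      2 * ∑ g : G, Complex.normSq (F g) - 2 * (∑ g : G, F g * conj (F (x⁻¹ * g * x))).re := by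
    intro x
    have h2 : ∑ g : G, Complex.normSq (F (x⁻¹ * g * x)) = ∑ g : G, Complex.normSq (F g) := by
      apply Fintype.sum_equiv (MulAut.conj x⁻¹).toEquiv
      intro g
      simp
    simp only [Complex.normSq_sub, Finset.sum_sub_distrib, Finset.sum_add_distrib, h2,
      Complex.re_sum, ← Finset.mul_sum]
    ring
  simp only [h1, Finset.sum_sub_distrib, Finset.sum_const, Finset.card_univ, Complex.re_sum,
    ← Finset.mul_sum, nsmul_eq_mul]
  ring


open Cfsg.Agent.Lib.Helper83 Cfsg.Agent.Lib.Helper04 in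
/-- 446309 IP-L2 (K-IP pack, S4463). -/
theorem core_index_le {G : Type u} [Group G] [Finite G] (b : ℕ) (hb : DegLE G b)
    (H : Subgroup G) (ψ : IrrCharacter H) (hψ : charDegree (ψ : H → ℂ) = b) :
    Nat.card H ≤ b ^ 2 * Nat.card H.normalCore := by
  classical
  haveI : Fintype G := Fintype.ofFinite G
  haveI : Fintype H := Fintype.ofFinite H
  haveI : Fintype (IrrCharacter G) := Fintype.ofFinite _
  set F : G → ℂ := extendByZero H (ψ : H → ℂ) with hF
  set Ψ : G → ℂ := indFun H (ψ : H → ℂ) with hΨ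
  have hψc : IsCharacter H (ψ : H → ℂ) := IrrCharacter_isCharacter ψ
  have hΨc : IsCharacter G Ψ := Cfsg.Agent.Lib.Helper34.isCharacter_indFun H hψc
  have hHne : (Nat.card H : ℂ) ≠ 0 := by
    have : Nat.card H ≠ 0 := Nat.card_pos.ne'
    exact_mod_cast this
  have hbpos : 0 < b := by
    rw [← hψ]
    apply Nat.pos_of_ne_zero
    intro h0
    have h1 := charDegree_cast hψc
    rw [h0, Nat.cast_zero] at h1
    exact irr_degree_ne_zero ψ h1.symm
  -- decomposition of the induced character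
  have hdec := char_eq_sum_irrMult hΨc
  -- degrees
  have hdeg : H.index * b = ∑ φ : IrrCharacter G, irrMult Ψ φ * charDegree (φ : G → ℂ) := by
    have h1 := congrFun hdec 1
    rw [hΨ, Cfsg.Agent.Lib.Helper85.indFun_apply_one, ← charDegree_cast hψc, hψ] at h1
    rw [← hΨ] at h1
    simp only [Finset.sum_apply, Pi.smul_apply, smul_eq_mul] at h1
    have h2 : ∀ φ : IrrCharacter G, (φ : G → ℂ) 1 = (charDegree (φ : G → ℂ) : ℂ) :=
      fun φ => (charDegree_cast (IrrCharacter_isCharacter φ)).symm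
    simp only [h2] at h1
    exact_mod_cast h1
  have hidx : H.index ≤ ∑ φ : IrrCharacter G, irrMult Ψ φ ^ 2 := by
    have h1 : H.index * b ≤ (∑ φ : IrrCharacter G, irrMult Ψ φ ^ 2) * b := by
      rw [hdeg, Finset.sum_mul]
      apply Finset.sum_le_sum
      intro φ _
      have h3 : irrMult Ψ φ ≤ irrMult Ψ φ ^ 2 := by
        rcases Nat.eq_zero_or_pos (irrMult Ψ φ) with h0 | hpos
        · rw [h0]; norm_num
        · nlinarith
      exact Nat.mul_le_mul h3 (hb φ)
    exact Nat.le_of_mul_le_mul_right h1 hbpos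
  -- the norm of the induced character
  have hnorm : classInner Ψ Ψ = ((∑ φ : IrrCharacter G, irrMult Ψ φ ^ 2 : ℕ) : ℂ) := by
    have h1 : classInner Ψ Ψ = classInner (∑ φ : IrrCharacter G, (irrMult Ψ φ : ℂ) • (φ : G → ℂ))
        (∑ φ : IrrCharacter G, (irrMult Ψ φ : ℂ) • (φ : G → ℂ)) := by
      rw [← hdec]
    rw [h1, classInner_sum_irr_self]
    push_cast
    apply Finset.sum_congr rfl
    intro φ _
    rw [Complex.conj_natCast, sq]
  -- Frobenius reciprocity, unfolded
  set S : ℂ := ∑ x : G, ∑ g : G, F g * conj (F (x⁻¹ * g * x)) with hS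
  have hfrob : (Nat.card H : ℂ) ^ 2 * classInner Ψ Ψ = S := by
    have h1 := frobenius_reciprocity H (ψ : H → ℂ) Ψ (char_isClassFunction hΨc)
    rw [← hΨ] at h1
    rw [h1, classInner_def]
    have h2 : ∑ h : H, (ψ : H → ℂ) h * conj (Ψ h) = ∑ g : G, F g * conj (Ψ g) :=
      (sum_extendByZero_mul H (ψ : H → ℂ) (fun g => conj (Ψ g))).symm
    rw [h2]
    have h3 : ∀ g : G, conj (Ψ g) = (Nat.card H : ℂ)⁻¹ * ∑ x : G, conj (F (x⁻¹ * g * x)) := by
      intro g
      rw [hΨ, indFun_apply, map_mul, map_inv₀, Complex.conj_natCast, map_sum]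
    have h4 : ∑ g : G, F g * conj (Ψ g) = (Nat.card H : ℂ)⁻¹ * S := by
      rw [hS, Finset.sum_comm, Finset.mul_sum]
      apply Finset.sum_congr rfl
      intro g _
      rw [h3 g, Finset.mul_sum, Finset.mul_sum, Finset.mul_sum]
      apply Finset.sum_congr rfl
      intro x _
      ring
    rw [h4]
    field_simp
  -- the norm of `ψ`
  have hTH : ∑ h : H, Complex.normSq ((ψ : H → ℂ) h) = (Nat.card H : ℝ) := by
    have h2 := irr_inner_self ψ
    rw [classInner_def] at h2
    have h1 : ∑ h : H, (ψ : H → ℂ) h * conj ((ψ : H → ℂ) h) = (Nat.card H : ℂ) := by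
      field_simp at h2
      exact h2
    have h4 : ∀ h : H, (ψ : H → ℂ) h * conj ((ψ : H → ℂ) h) =
        ((Complex.normSq ((ψ : H → ℂ) h) : ℝ) : ℂ) := fun h => Complex.mul_conj _
    simp only [h4] at h1
    exact_mod_cast h1
  have hT : ∑ g : G, Complex.normSq (F g) = (Nat.card H : ℝ) := by
    have h1 : ∑ g : G, F g * conj (F g) = ∑ h : H, (ψ : H → ℂ) h * conj ((ψ : H → ℂ) h) := by
      rw [sum_extendByZero_mul H (ψ : H → ℂ) (fun g => conj (F g))]
      apply Finset.sum_congr rfl
      intro h _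
      rw [hF, extendByZero_apply_mem]
    have h4 : ∀ g : G, F g * conj (F g) = ((Complex.normSq (F g) : ℝ) : ℂ) :=
      fun g => Complex.mul_conj _
    have h5 : ∀ h : H, (ψ : H → ℂ) h * conj ((ψ : H → ℂ) h) =
        ((Complex.normSq ((ψ : H → ℂ) h) : ℝ) : ℂ) := fun h => Complex.mul_conj _
    simp only [h4, h5] at h1
    rw [← hTH]
    exact_mod_cast h1
  -- the variation vanishes
  have hvar := sum_normSq_sub_conj F
  have hSre : S.re = (Nat.card H : ℝ) ^ 2 * ((∑ φ : IrrCharacter G, irrMult Ψ φ ^ 2 : ℕ) : ℝ) := by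
    rw [← hfrob, hnorm]
    norm_cast
  have hcard : (Fintype.card G : ℝ) = (Nat.card H : ℝ) * (H.index : ℝ) := by
    rw [← Nat.card_eq_fintype_card, ← Subgroup.card_mul_index H]
    push_cast
    ring
  have hle : ∑ x : G, ∑ g : G, Complex.normSq (F g - F (x⁻¹ * g * x)) ≤ 0 := by
    rw [hvar, hT, hSre, hcard]
    have h1 : (H.index : ℝ) ≤ ((∑ φ : IrrCharacter G, irrMult Ψ φ ^ 2 : ℕ) : ℝ) := by
      exact_mod_cast hidx
    have hpos : (0 : ℝ) ≤ Nat.card H := Nat.cast_nonneg _
    nlinarith [mul_nonneg (mul_nonneg hpos hpos) (sub_nonneg.mpr h1)]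
  have hzero : ∀ x g : G, F g = F (x⁻¹ * g * x) := by
    intro x g
    have h1 : ∑ x : G, ∑ g : G, Complex.normSq (F g - F (x⁻¹ * g * x)) = 0 :=
      le_antisymm hle (Finset.sum_nonneg (fun x _ => Finset.sum_nonneg
        (fun g _ => Complex.normSq_nonneg _)))
    have h2 := (Finset.sum_eq_zero_iff_of_nonneg (fun x _ => Finset.sum_nonneg
      (fun g _ => Complex.normSq_nonneg _))).mp h1 x (Finset.mem_univ x)
    have h3 := (Finset.sum_eq_zero_iff_of_nonneg
      (fun g _ => Complex.normSq_nonneg _)).mp h2 g (Finset.mem_univ g)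
    exact sub_eq_zero.mp (Complex.normSq_eq_zero.mp h3)
  -- `ψ` vanishes off the core
  have hsupp : ∀ h : H, (ψ : H → ℂ) h ≠ 0 → (h : G) ∈ H.normalCore := by
    intro h hne
    show ∀ y : G, y * (h : G) * y⁻¹ ∈ H
    intro y
    by_contra hnot
    have h1 := hzero y⁻¹ (h : G)
    rw [inv_inv] at h1
    rw [hF, extendByZero_apply_mem, extendByZero_apply_not_mem H _ _ hnot] at h1
    exact hne h1
  have hbound : ∀ h : H, Complex.normSq ((ψ : H → ℂ) h) ≤
      if (h : G) ∈ H.normalCore then (b : ℝ) ^ 2 else 0 := by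
    intro h
    split_ifs with hc
    · have h1 := Cfsg.Agent.Lib.Helper80.char_norm_le_re hψc h
      have h2 : ((ψ : H → ℂ) 1).re = b := by
        rw [← charDegree_cast hψc, hψ]
        simp
      rw [h2] at h1
      rw [Complex.normSq_eq_norm_sq]
      exact pow_le_pow_left₀ (norm_nonneg _) h1 2
    · have h0 : (ψ : H → ℂ) h = 0 := by
        by_contra hne
        exact hc (hsupp h hne)
      rw [h0, map_zero]
  have hcount : (Finset.univ.filter (fun h : H => (h : G) ∈ H.normalCore)).card =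
      Nat.card H.normalCore := by
    rw [← Fintype.card_subtype, ← Nat.card_eq_fintype_card]
    exact Nat.card_congr
      { toFun := fun h => ⟨h.1.1, h.2⟩
        invFun := fun c => ⟨⟨c.1, Subgroup.normalCore_le H c.2⟩, c.2⟩
        left_inv := fun h => rfl
        right_inv := fun c => rfl }
  have hsum : (Nat.card H : ℝ) ≤ (b : ℝ) ^ 2 * (Nat.card H.normalCore : ℝ) := by
    rw [← hTH]
    calc ∑ h : H, Complex.normSq ((ψ : H → ℂ) h)
        ≤ ∑ h : H, (if (h : G) ∈ H.normalCore then (b : ℝ) ^ 2 else 0) :=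
          Finset.sum_le_sum (fun h _ => hbound h)
      _ = (b : ℝ) ^ 2 * (Nat.card H.normalCore : ℝ) := by
          rw [← Finset.sum_filter, Finset.sum_const, nsmul_eq_mul, hcount, mul_comm]
  exact_mod_cast hsum

end Cfsg.Agent.Lib.Helper16.IP
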