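import Mathlib
import Cfsg.Agent.S0040

set_option autoImplicit false

namespace Cfsg.Agent.Lib.Helper16.K1542

/-- **Leaf E** of pack K-1542: in a Frobenius group of odd order the index of the kernel divides
the exponent of the quotient. -/
theorem index_dvd_exponent {N : Type*} [Group N] [Finite N] (K U : Subgroup N) [K.Normal]
    (hodd : Odd (Nat.card N)) (hK1 : K ≠ ⊥) (hc : Subgroup.IsComplement' K U)
    (hC : ∀ k ∈ K, k ≠ 1 → Subgroup.centralizer ({k} : Set N) ≤ K) :
    K.index ∣ Monoid.exponent (N ⧸ K) := by
  classical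
  have hdisj : K ⊓ U = ⊥ := hc.disjoint.eq_bot
  -- fixed-point-freeness
  have hfpf : ∀ h ∈ U, h ≠ 1 → K ⊓ Subgroup.centralizer {h} = ⊥ := by
    intro h hhU hh1
    rw [eq_bot_iff]
    intro x hx
    rw [Subgroup.mem_bot]
    by_contra hx1
    have hxK : x ∈ K := hx.1
    have hxc : x ∈ Subgroup.centralizer ({h} : Set N) := hx.2
    have hcomm : h * x = x * h := by
      have := Subgroup.mem_centralizer_iff.mp hxc h (Set.mem_singleton h)
      exact this
    have hhc : h ∈ Subgroup.centralizer ({x} : Set N) := by
      rw [Subgroup.mem_centralizer_iff]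
      intro y hy
      rw [Set.mem_singleton_iff] at hy
      subst hy
      exact hcomm.symm
    have hhK : h ∈ K := hC x hxK hx1 hhc
    have : h ∈ K ⊓ U := ⟨hhK, hhU⟩
    rw [hdisj, Subgroup.mem_bot] at this
    exact hh1 this
  -- cardinalities
  have hcard : Nat.card K * Nat.card U = Nat.card N := hc.card_mul_card
  have hindex : K.index = Nat.card U := by
    have h1 : Nat.card K * K.index = Nat.card N := K.card_mul_index
    have hKpos : 0 < Nat.card K := Nat.card_pos
    have : Nat.card K * K.index = Nat.card K * Nat.card U := by rw [h1, hcard]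
    exact Nat.eq_of_mul_eq_mul_left hKpos this
  have hUodd : Odd (Nat.card U) := by
    have : Nat.card U ∣ Nat.card N := Subgroup.card_subgroup_dvd_card U
    exact Odd.of_dvd_nat hodd this
  -- the map U → N ⧸ K is injective
  let φ : U →* N ⧸ K := (QuotientGroup.mk' K).comp U.subtype
  have hφinj : Function.Injective φ := by
    rw [injective_iff_map_eq_one]
    intro u hu
    have : (u : N) ∈ K := by
      have : (QuotientGroup.mk' K) (u : N) = 1 := hu
      exact (QuotientGroup.eq_one_iff (u : N)).mp this
    have hmem : (u : N) ∈ K ⊓ U := ⟨this, u.2⟩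
    rw [hdisj, Subgroup.mem_bot] at hmem
    exact Subtype.ext hmem
  rw [hindex]
  have hUpos : Nat.card U ≠ 0 := Nat.card_pos.ne'
  have hexp_pos : Monoid.exponent (N ⧸ K) ≠ 0 := by
    have : Monoid.ExponentExists (N ⧸ K) := Monoid.ExponentExists.of_finite
    exact Monoid.exponent_ne_zero.mpr this
  rw [← Nat.factorization_le_iff_dvd hUpos hexp_pos]
  intro p
  by_cases hp : p.Prime
  · have : Fact p.Prime := ⟨hp⟩
    obtain ⟨P⟩ : Nonempty (Sylow p U) := inferInstance
    have hPcard : Nat.card P = p ^ (Nat.card U).factorization p := Sylow.card_eq_multiplicity P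
    have hPcyc : IsCyclic P := by
      rcases Cfsg.Agent.S0040.result K U hc hK1 hfpf p P with h | ⟨n, ⟨e⟩⟩
      · exact h
      · exfalso
        have h1 : Nat.card P = Nat.card (QuaternionGroup (2 ^ n)) := Nat.card_congr e.toEquiv
        have hne : NeZero (2 ^ n) := ⟨pow_ne_zero n two_ne_zero⟩
        have hq : Nat.card (QuaternionGroup (2 ^ n)) = 4 * 2 ^ n := by
          rw [Nat.card_eq_fintype_card, QuaternionGroup.card]
        rw [hq] at h1
        have h2 : Nat.card (P : Subgroup U) ∣ Nat.card U := Subgroup.card_subgroup_dvd_card _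
        have h3 : 2 ∣ Nat.card U := by
          have : (2:ℕ) ∣ 4 * 2 ^ n := ⟨2 * 2 ^ n, by ring⟩
          have h4 : Nat.card (P : Subgroup U) = 4 * 2 ^ n := h1
          rw [h4] at h2
          exact this.trans h2
        exact (Nat.not_even_iff_odd.mpr hUodd) (even_iff_two_dvd.mpr h3)
    obtain ⟨g, hg⟩ := hPcyc.exists_generator
    have hord : orderOf g = Nat.card P := orderOf_eq_card_of_forall_mem_zpowers hg
    -- order of the image in N ⧸ K
    have hord2 : orderOf (φ ((g : U))) = p ^ (Nat.card U).factorization p := by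
      rw [orderOf_injective φ hφinj, ← hPcard, ← hord]
      exact (Subgroup.orderOf_coe g)
    have hdvd : p ^ (Nat.card U).factorization p ∣ Monoid.exponent (N ⧸ K) := by
      rw [← hord2]
      exact Monoid.order_dvd_exponent _
    exact (hp.pow_dvd_iff_le_factorization hexp_pos).mp hdvd
  · rw [Nat.factorization_eq_zero_of_not_prime _ hp]
    exact Nat.zero_le _

end Cfsg.Agent.Lib.Helper16.K1542
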