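import Cfsg.Agent.Lib.Helper16.KComm

/-!
Three subgroups lemma modulo a subgroup that is only normalized, and the bilinear nilpotency lemma:
if `⁅E, X⁆ ≤ F`, `E` and `X` act trivially on `F / F'`, `⁅E, H; a⁆ = 1` and `⁅F, H; b⁆ ≤ F'` then
`⁅E, ⁅X, H; a + b - 1⁆⁆ ≤ F'`.
-/

set_option autoImplicit false

namespace Cfsg.Agent.Lib.Helper16.KComm

open Cfsg
open scoped commutatorElement

variable {L : Type*} [Group L]

/-- three subgroups lemma modulo a normal subgroup -/
theorem three_subgroups_mod (N : Subgroup L) [N.Normal] {H₁ H₂ H₃ : Subgroup L}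
    (h1 : ⁅⁅H₂, H₃⁆, H₁⁆ ≤ N) (h2 : ⁅⁅H₃, H₁⁆, H₂⁆ ≤ N) : ⁅⁅H₁, H₂⁆, H₃⁆ ≤ N := by
  have key : ∀ X : Subgroup L, X ≤ N ↔ X.map (QuotientGroup.mk' N) = ⊥ := by
    intro X
    rw [← le_bot_iff, Subgroup.map_le_iff_le_comap, MonoidHom.comap_bot, QuotientGroup.ker_mk']
  rw [key, Subgroup.map_commutator, Subgroup.map_commutator] at h1 h2 ⊢
  exact Subgroup.commutator_commutator_eq_bot_of_rotate h1 h2

/-- three subgroups lemma modulo a subgroup normalized by the three subgroups -/
theorem tsl {N H₁ H₂ H₃ : Subgroup L}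
    (n1 : H₁ ≤ Subgroup.normalizer (N : Set L)) (n2 : H₂ ≤ Subgroup.normalizer (N : Set L))
    (n3 : H₃ ≤ Subgroup.normalizer (N : Set L))
    (h1 : ⁅⁅H₂, H₃⁆, H₁⁆ ≤ N) (h2 : ⁅⁅H₃, H₁⁆, H₂⁆ ≤ N) : ⁅⁅H₁, H₂⁆, H₃⁆ ≤ N := by
  set K := Subgroup.normalizer (N : Set L) with hK
  haveI : (N.subgroupOf K).Normal := Subgroup.normal_in_normalizer
  have e : ∀ X Y Z : Subgroup L, X ≤ K → Y ≤ K → Z ≤ K →
      (⁅⁅X.subgroupOf K, Y.subgroupOf K⁆, Z.subgroupOf K⁆ ≤ N.subgroupOf K ↔ ⁅⁅X, Y⁆, Z⁆ ≤ N) := by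
    intro X Y Z hX hY hZ
    show _ ≤ N.comap K.subtype ↔ _
    rw [← Subgroup.map_le_iff_le_comap, Subgroup.map_commutator, Subgroup.map_commutator,
      Subgroup.map_subgroupOf_eq_of_le hX, Subgroup.map_subgroupOf_eq_of_le hY,
      Subgroup.map_subgroupOf_eq_of_le hZ]
  rw [← e H₁ H₂ H₃ n1 n2 n3]
  apply three_subgroups_mod
  · rw [e H₂ H₃ H₁ n2 n3 n1]; exact h1
  · rw [e H₃ H₁ H₂ n3 n1 n2]; exact h2

section bilinear

variable (E X F F' H : Subgroup L)

/-- the target filtration -/
def wSeries (m : ℕ) : Subgroup L := iterCommutator F H m ⊔ F'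

variable {E X F F' H}

theorem wSeries_le [F'.Normal] (hF'F : F' ≤ F) (hHF : H ≤ Subgroup.normalizer (F : Set L)) (m : ℕ) :
    wSeries F F' H m ≤ F :=
  sup_le (iter_le hHF m) hF'F

theorem le_wSeries [F'.Normal] (m : ℕ) : F' ≤ wSeries F F' H m := le_sup_right

theorem wSeries_succ_le [F'.Normal] (hHF : H ≤ Subgroup.normalizer (F : Set L)) (m : ℕ) :
    wSeries F F' H (m + 1) ≤ wSeries F F' H m :=
  sup_le_sup_right (iter_succ_le hHF m) F'

theorem commutator_wSeries_le [F'.Normal] (m : ℕ) :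
    ⁅wSeries F F' H m, H⁆ ≤ wSeries F F' H (m + 1) := by
  unfold wSeries
  rw [sup_comm, sup_comm (iterCommutator F H (m + 1))]
  exact commutator_sup_le

/-- a subgroup acting trivially on `F / F'` normalizes every subgroup between `F'` and `F` -/
theorem le_normalizer_of_between {Y W : Subgroup L} (hFY : ⁅F, Y⁆ ≤ F') (hW1 : F' ≤ W) (hW2 : W ≤ F) :
    Y ≤ Subgroup.normalizer (W : Set L) := by
  apply le_normalizer_of_conj_mem
  intro y hy w hw
  have h1 : ⁅w, y⁆ ∈ F' := hFY (Subgroup.commutator_mem_commutator (hW2 hw) hy)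
  have e : y * w * y⁻¹ = (⁅w, y⁆)⁻¹ * w := by
    rw [commutatorElement_def]; group
  rw [e]
  exact W.mul_mem (W.inv_mem (hW1 h1)) hw

theorem le_normalizer_wSeries [F'.Normal] (hHF : H ≤ Subgroup.normalizer (F : Set L)) (m : ℕ) :
    H ≤ Subgroup.normalizer ((wSeries F F' H m : Subgroup L) : Set L) := by
  apply le_normalizer_of_conj_mem
  intro h hh w hw
  obtain ⟨v, hv, x, hx, rfl⟩ := mem_sup_normal_left (V := F') (X := iterCommutator F H m)
    (by rw [sup_comm]; exact hw)
  have e : h * (v * x) * h⁻¹ = (h * v * h⁻¹) * (h * x * h⁻¹) := by group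
  rw [e]
  exact Subgroup.mul_mem _ (Subgroup.mem_sup_right (Subgroup.Normal.conj_mem inferInstance v hv h))
    (Subgroup.mem_sup_left (conj_mem_of_le_normalizer (iter_normalizer hHF m) hh hx))

/-- **bilinear nilpotency** -/
theorem bilinear_nilpotent [F'.Normal] (hF'F : F' ≤ F)
    (hHE : H ≤ Subgroup.normalizer (E : Set L)) (hHX : H ≤ Subgroup.normalizer (X : Set L))
    (hHF : H ≤ Subgroup.normalizer (F : Set L))
    (hEX : ⁅E, X⁆ ≤ F) (hFX : ⁅F, X⁆ ≤ F') (hFE : ⁅F, E⁆ ≤ F')
    (a b : ℕ) (ha : iterCommutator E H a = ⊥) (hb : iterCommutator F H b ≤ F') :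
    ⁅E, iterCommutator X H (a + b - 1)⁆ ≤ F' := by
  have claim : ∀ n r : ℕ, ⁅iterCommutator E H r, iterCommutator X H n⁆ ≤
      wSeries F F' H ((n + r + 1) - a) := by
    intro n
    induction n with
    | zero =>
      intro r
      rcases Nat.lt_or_ge r a with hr | hr
      · have e : (0 + r + 1) - a = 0 := by omega
        rw [e]
        refine (Subgroup.commutator_mono (iter_le hHE r) le_rfl).trans ?_
        exact hEX.trans le_sup_left
      · rw [iter_eq_bot_of_le ha hr, Subgroup.commutator_bot_left]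
        exact bot_le
    | succ n ih =>
      intro r
      set N := wSeries F F' H ((n + 1 + r + 1) - a) with hN
      have hN1 : F' ≤ N := le_wSeries _
      have hN2 : N ≤ F := wSeries_le hF'F hHF _
      have hXN : iterCommutator X H n ≤ Subgroup.normalizer (N : Set L) :=
        (iter_le hHX n).trans (le_normalizer_of_between hFX hN1 hN2)
      have hEN : iterCommutator E H r ≤ Subgroup.normalizer (N : Set L) :=
        (iter_le hHE r).trans (le_normalizer_of_between hFE hN1 hN2)
      have hHN : H ≤ Subgroup.normalizer (N : Set L) := le_normalizer_wSeries hHF _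
      have goal : ⁅⁅iterCommutator X H n, H⁆, iterCommutator E H r⁆ ≤ N := by
        apply tsl hXN hHN hEN
        · -- ⁅⁅H, E_r⁆, X_n⁆
          rw [Subgroup.commutator_comm H]
          have := ih (r + 1)
          have e : n + (r + 1) + 1 - a = n + 1 + r + 1 - a := by omega
          rw [e] at this
          exact this
        · -- ⁅⁅E_r, X_n⁆, H⁆
          refine (Subgroup.commutator_mono (ih r) le_rfl).trans ?_
          refine (commutator_wSeries_le _).trans ?_
          rcases Nat.lt_or_ge (n + r + 1) a with h | h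
          · have e1 : n + r + 1 - a + 1 = 1 := by omega
            have e2 : n + 1 + r + 1 - a = 0 := by omega
            rw [hN, e1, e2]
            exact wSeries_succ_le hHF 0
          · have e1 : n + r + 1 - a + 1 = n + 1 + r + 1 - a := by omega
            rw [hN, e1]
      rw [Subgroup.commutator_comm]
      exact goal
  rcases Nat.eq_zero_or_pos a with h0 | hpos
  · subst h0
    have : E = ⊥ := ha
    rw [this, Subgroup.commutator_bot_left]
    exact bot_le
  · have := claim (a + b - 1) 0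
    have e : a + b - 1 + 0 + 1 - a = b := by omega
    rw [e] at this
    refine this.trans ?_
    exact sup_le hb le_rfl

end bilinear

end Cfsg.Agent.Lib.Helper16.KComm
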