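import Cfsg.Agent.Lib.Helper16.KCrit

/-!
The bilinear nilpotency lemma relative to a subgroup `E' ≤ E`, and the fact that a normal
`p`-subgroup acts trivially on the chief factors it contains.
-/

set_option autoImplicit false

namespace Cfsg.Agent.Lib.Helper16.KComm

open Cfsg
open scoped commutatorElement

variable {L : Type*} [Group L]

/-- **bilinear nilpotency**, relative version: `⁅E, H; a⁆ ≤ E'` with `⁅E', X⁆ ≤ F'`. -/
theorem bilinear_nilpotent_rel {E E' X F F' H : Subgroup L} [F'.Normal] (hF'F : F' ≤ F)
    (hHE : H ≤ Subgroup.normalizer (E : Set L)) (hHE' : H ≤ Subgroup.normalizer (E' : Set L))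
    (hHX : H ≤ Subgroup.normalizer (X : Set L))
    (hHF : H ≤ Subgroup.normalizer (F : Set L))
    (hEX : ⁅E, X⁆ ≤ F) (hE'X : ⁅E', X⁆ ≤ F') (hFX : ⁅F, X⁆ ≤ F') (hFE : ⁅F, E⁆ ≤ F')
    (a b : ℕ) (ha : iterCommutator E H a ≤ E') (hb : iterCommutator F H b ≤ F') :
    ⁅E, iterCommutator X H (a + b - 1)⁆ ≤ F' := by
  have claim : ∀ n r : ℕ, ⁅iterCommutator E H r, iterCommutator X H n⁆ ≤
      wSeries F F' H ((n + r + 1) - a) := by
    intro n
    induction n with
    | zero =>
      intro r
      rcases Nat.lt_or_ge r a with hr | hr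
      · have e : (0 + r + 1) - a = 0 := by omega
        rw [e]
        refine (Subgroup.commutator_mono (iter_le hHE r) le_rfl).trans ?_
        exact hEX.trans le_sup_left
      · refine (Subgroup.commutator_mono (iter_le_of_le hHE' ha hr) le_rfl).trans ?_
        exact hE'X.trans (le_wSeries _)
    | succ n ih =>
      intro r
      set N := wSeries F F' H ((n + 1 + r + 1) - a) with hN
      have hN1 : F' ≤ N := le_wSeries _
      have hN2 : N ≤ F := wSeries_le hF'F hHF _
      have hXN : iterCommutator X H n ≤ Subgroup.normalizer (N : Set L) :=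
        (iter_le hHX n).trans (le_normalizer_of_between hFX hN1 hN2)
      have hEN : iterCommutator E H r ≤ Subgroup.normalizer (N : Set L) :=
        (iter_le hHE r).trans (le_normalizer_of_between hFE hN1 hN2)
      have hHN : H ≤ Subgroup.normalizer (N : Set L) := le_normalizer_wSeries hHF _
      have goal : ⁅⁅iterCommutator X H n, H⁆, iterCommutator E H r⁆ ≤ N := by
        apply tsl hXN hHN hEN
        · rw [Subgroup.commutator_comm H]
          have := ih (r + 1)
          have e : n + (r + 1) + 1 - a = n + 1 + r + 1 - a := by omega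
          rw [e] at this
          exact this
        · refine (Subgroup.commutator_mono (ih r) le_rfl).trans ?_
          refine (commutator_wSeries_le _).trans ?_
          rcases Nat.lt_or_ge (n + r + 1) a with h | h
          · have e1 : n + r + 1 - a + 1 = 1 := by omega
            have e2 : n + 1 + r + 1 - a = 0 := by omega
            rw [hN, e1, e2]
            exact wSeries_succ_le hHF 0
          · have e1 : n + r + 1 - a + 1 = n + 1 + r + 1 - a := by omega
            rw [hN, e1]
      rw [Subgroup.commutator_comm]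
      exact goal
  rcases Nat.eq_zero_or_pos a with h0 | hpos
  · subst h0
    have h1 : E ≤ E' := ha
    refine (Subgroup.commutator_mono h1 (iter_le hHX _)).trans hE'X
  · have := claim (a + b - 1) 0
    have e : a + b - 1 + 0 + 1 - a = b := by omega
    rw [e] at this
    refine this.trans ?_
    exact sup_le hb le_rfl

/-- a normal `p`-subgroup acts trivially on every chief factor inside it -/
theorem commutator_le_of_chief [Finite L] {p : ℕ} [Fact p.Prime] {P F F' : Subgroup L} [P.Normal]
    (hP : IsPGroup p P) (hFF' : IsChiefFactor F F') (hFP : F ≤ P) : ⁅F, P⁆ ≤ F' := by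
  obtain ⟨hlt, hFn, hF'n, hmin⟩ := hFF'
  have := hFn
  have := hF'n
  have hN : (F' ⊔ ⁅F, P⁆).Normal := inferInstance
  rcases hmin (F' ⊔ ⁅F, P⁆) hN le_sup_left (sup_le hlt.le (Subgroup.commutator_le_left F P))
    with h | h
  · rw [← h]
    exact le_sup_right
  · exfalso
    have key : ∀ n, F ≤ F' ⊔ iterCommutator F P n := by
      intro n
      induction n with
      | zero => exact le_sup_right
      | succ n ih =>
        calc F = F' ⊔ ⁅F, P⁆ := h.symm
          _ ≤ F' ⊔ ⁅F' ⊔ iterCommutator F P n, P⁆ :=
            sup_le_sup_left (Subgroup.commutator_mono ih le_rfl) F'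
          _ ≤ F' ⊔ (F' ⊔ ⁅iterCommutator F P n, P⁆) := sup_le_sup_left commutator_sup_le F'
          _ = F' ⊔ iterCommutator F P (n + 1) := by
            rw [← sup_assoc, sup_idem]
            rfl
    obtain ⟨c, hc⟩ := iter_eq_bot_of_pgroup (K := F) (U := P) hP hFP le_rfl
    have h1 := key c
    rw [hc, sup_bot_eq] at h1
    exact lt_irrefl _ (lt_of_lt_of_le hlt h1)

end Cfsg.Agent.Lib.Helper16.KComm
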