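import Mathlib
import Cfsg.Prelude.Def_PLocal
import Cfsg.Prelude.Def_LocalEven

/-!
Commutator calculus for iterated commutators `Cfsg.iterCommutator` : normalizers, three subgroups
lemma modulo a subgroup that is only normalized, and a "bilinear nilpotency" lemma.
-/

set_option autoImplicit false

namespace Cfsg.Agent.Lib.Helper16.KComm

open Cfsg
open scoped commutatorElement

variable {L : Type*} [Group L]

theorem le_normalizer_of_conj_mem {K N : Subgroup L}
    (h : ∀ x ∈ K, ∀ n ∈ N, x * n * x⁻¹ ∈ N) : K ≤ Subgroup.normalizer (N : Set L) := by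
  intro x hx
  rw [Subgroup.mem_normalizer_iff]
  intro n
  constructor
  · exact h x hx n
  · intro hn
    have := h x⁻¹ (K.inv_mem hx) _ hn
    simpa [mul_assoc] using this

theorem conj_mem_of_le_normalizer {K N : Subgroup L} (h : K ≤ Subgroup.normalizer (N : Set L))
    {x n : L} (hx : x ∈ K) (hn : n ∈ N) : x * n * x⁻¹ ∈ N :=
  (Subgroup.mem_normalizer_iff.mp (h hx) n).mp hn

theorem map_conj_eq {K : Subgroup L} {x : L} (hx : x ∈ Subgroup.normalizer (K : Set L)) :
    K.map (MulAut.conj x).toMonoidHom = K := by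
  ext y
  constructor
  · rintro ⟨k, hk, rfl⟩
    exact (Subgroup.mem_normalizer_iff.mp hx k).mp hk
  · intro hy
    refine ⟨x⁻¹ * y * x, ?_, by simp [mul_assoc]⟩
    have := (Subgroup.mem_normalizer_iff.mp (Subgroup.inv_mem _ hx) y).mp hy
    simpa using this

theorem le_normalizer_of_normal (K N : Subgroup L) [N.Normal] :
    K ≤ Subgroup.normalizer (N : Set L) := by
  rw [Subgroup.normalizer_eq_top N]; exact le_top

/-- `⁅K, H⁆ ≤ K` when `H` normalizes `K` -/
theorem commutator_le_left_of_normalizer {K H : Subgroup L}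
    (h : H ≤ Subgroup.normalizer (K : Set L)) : ⁅K, H⁆ ≤ K := by
  rw [Subgroup.commutator_le]
  intro k hk x hx
  have h1 : x * k⁻¹ * x⁻¹ ∈ K := conj_mem_of_le_normalizer h hx (K.inv_mem hk)
  have e : ⁅k, x⁆ = k * (x * k⁻¹ * x⁻¹) := by
    rw [commutatorElement_def]; group
  rw [e]
  exact K.mul_mem hk h1

/-- `H` normalizes `⁅K, H⁆` when it normalizes `K` -/
theorem le_normalizer_commutator {K H : Subgroup L}
    (h : H ≤ Subgroup.normalizer (K : Set L)) : H ≤ Subgroup.normalizer ((⁅K, H⁆ : Subgroup L) : Set L) := by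
  apply le_normalizer_of_conj_mem
  intro x hx n hn
  have h1 : (MulAut.conj x).toMonoidHom n ∈ (⁅K, H⁆).map (MulAut.conj x).toMonoidHom :=
    Subgroup.mem_map_of_mem _ hn
  rw [Subgroup.map_commutator, map_conj_eq (h hx),
    map_conj_eq (Subgroup.le_normalizer hx)] at h1
  simpa using h1

theorem iter_le_and_normalizer {K H : Subgroup L} (h : H ≤ Subgroup.normalizer (K : Set L)) :
    ∀ n, iterCommutator K H n ≤ K ∧
      H ≤ Subgroup.normalizer ((iterCommutator K H n : Subgroup L) : Set L)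
  | 0 => ⟨le_rfl, h⟩
  | n + 1 => by
    obtain ⟨h1, h2⟩ := iter_le_and_normalizer h n
    refine ⟨?_, ?_⟩
    · exact (commutator_le_left_of_normalizer h2).trans h1
    · exact le_normalizer_commutator h2

theorem iter_le {K H : Subgroup L} (h : H ≤ Subgroup.normalizer (K : Set L)) (n : ℕ) :
    iterCommutator K H n ≤ K := (iter_le_and_normalizer h n).1

theorem iter_normalizer {K H : Subgroup L} (h : H ≤ Subgroup.normalizer (K : Set L)) (n : ℕ) :
    H ≤ Subgroup.normalizer ((iterCommutator K H n : Subgroup L) : Set L) :=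
  (iter_le_and_normalizer h n).2

theorem iter_succ_le {K H : Subgroup L} (h : H ≤ Subgroup.normalizer (K : Set L)) (n : ℕ) :
    iterCommutator K H (n + 1) ≤ iterCommutator K H n :=
  commutator_le_left_of_normalizer (iter_normalizer h n)

theorem iter_anti {K H : Subgroup L} (h : H ≤ Subgroup.normalizer (K : Set L)) {m n : ℕ}
    (hmn : m ≤ n) : iterCommutator K H n ≤ iterCommutator K H m := by
  induction n, hmn using Nat.le_induction with
  | base => exact le_rfl
  | succ n _ ih => exact (iter_succ_le h n).trans ih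

theorem iter_mono {K K' : Subgroup L} (H : Subgroup L) (h : K ≤ K') :
    ∀ n, iterCommutator K H n ≤ iterCommutator K' H n
  | 0 => h
  | n + 1 => Subgroup.commutator_mono (iter_mono H h n) le_rfl

theorem iter_mono_right {H H' : Subgroup L} (K : Subgroup L) (h : H ≤ H') :
    ∀ n, iterCommutator K H n ≤ iterCommutator K H' n
  | 0 => le_rfl
  | n + 1 => Subgroup.commutator_mono (iter_mono_right K h n) h

theorem iter_bot (H : Subgroup L) : ∀ n, iterCommutator (⊥ : Subgroup L) H n = ⊥
  | 0 => rfl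
  | n + 1 => by
    show ⁅iterCommutator (⊥ : Subgroup L) H n, H⁆ = ⊥
    rw [iter_bot H n, Subgroup.commutator_bot_left]

theorem iter_add (K H : Subgroup L) (m : ℕ) :
    ∀ n, iterCommutator (iterCommutator K H m) H n = iterCommutator K H (m + n)
  | 0 => rfl
  | n + 1 => by
    show ⁅iterCommutator (iterCommutator K H m) H n, H⁆ = ⁅iterCommutator K H (m + n), H⁆
    rw [iter_add K H m n]

theorem iter_eq_bot_of_le {K H : Subgroup L} {a r : ℕ} (ha : iterCommutator K H a = ⊥)
    (har : a ≤ r) : iterCommutator K H r = ⊥ := by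
  obtain ⟨k, rfl⟩ := Nat.exists_eq_add_of_le har
  rw [← iter_add, ha, iter_bot]

theorem iter_le_of_le {K H V : Subgroup L} (hV : H ≤ Subgroup.normalizer (V : Set L)) {a r : ℕ}
    (ha : iterCommutator K H a ≤ V) (har : a ≤ r) : iterCommutator K H r ≤ V := by
  obtain ⟨k, rfl⟩ := Nat.exists_eq_add_of_le har
  rw [← iter_add]
  exact (iter_mono H ha k).trans (iter_le hV k)

theorem iter_normal (K H : Subgroup L) [hK : K.Normal] [hH : H.Normal] :
    ∀ n, (iterCommutator K H n).Normal
  | 0 => hK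
  | n + 1 => by
    have := iter_normal K H n
    show (⁅iterCommutator K H n, H⁆).Normal
    infer_instance

/-- elements of `V ⊔ X` for `V` normal -/
theorem mem_sup_normal_left {V X : Subgroup L} [V.Normal] {w : L} (hw : w ∈ V ⊔ X) :
    ∃ v ∈ V, ∃ x ∈ X, w = v * x := by
  have : w ∈ ((V ⊔ X : Subgroup L) : Set L) := hw
  rw [Subgroup.normal_mul] at this
  obtain ⟨v, hv, x, hx, rfl⟩ := Set.mem_mul.mp this
  exact ⟨v, hv, x, hx, rfl⟩

theorem commutator_sup_le {V X H : Subgroup L} [V.Normal] : ⁅V ⊔ X, H⁆ ≤ V ⊔ ⁅X, H⁆ := by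
  rw [Subgroup.commutator_le]
  intro w hw h hh
  obtain ⟨v, hv, x, hx, rfl⟩ := mem_sup_normal_left hw
  have e : ⁅v * x, h⁆ = v * ⁅x, h⁆ * (h * v⁻¹ * h⁻¹) := by
    simp only [commutatorElement_def]; group
  rw [e]
  refine Subgroup.mul_mem _ (Subgroup.mul_mem _ (Subgroup.mem_sup_left hv)
    (Subgroup.mem_sup_right (Subgroup.commutator_mem_commutator hx hh))) (Subgroup.mem_sup_left ?_)
  exact Subgroup.Normal.conj_mem inferInstance _ (V.inv_mem hv) h

theorem iter_sup_le {V X H : Subgroup L} [V.Normal] :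
    ∀ n, iterCommutator (V ⊔ X) H n ≤ V ⊔ iterCommutator X H n
  | 0 => le_rfl
  | n + 1 => by
    show ⁅iterCommutator (V ⊔ X) H n, H⁆ ≤ V ⊔ ⁅iterCommutator X H n, H⁆
    exact (Subgroup.commutator_mono (iter_sup_le n) le_rfl).trans commutator_sup_le

end Cfsg.Agent.Lib.Helper16.KComm
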