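import Cfsg.Agent.Lib.Helper16.KFour

/-!
Existence of a critical-type subgroup of a normal `p`-subgroup `T` of a finite group: a normal
subgroup `A ≤ T` with `⁅T, A⁆ ≤ Z(A)` and `C_T(A) ≤ A`.
-/

set_option autoImplicit false

namespace Cfsg.Agent.Lib.Helper16.KComm

open Cfsg
open scoped commutatorElement

variable {L : Type*} [Group L]

/-- inside a `p`-group `T`, a `T`-invariant subgroup `N ≰ M` contains a subgroup `Y ≰ M` that is
central modulo `M` -/
theorem exists_central_mod [Finite L] {p : ℕ} [Fact p.Prime] {T M N : Subgroup L}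
    (hT : IsPGroup p T) (hNT : N ≤ T) (hTN : T ≤ Subgroup.normalizer (N : Set L))
    (hNM : ¬ N ≤ M) : ∃ Y : Subgroup L, Y ≤ N ∧ ¬ Y ≤ M ∧ ⁅Y, T⁆ ≤ M := by
  obtain ⟨c, hc⟩ := iter_eq_bot_of_pgroup (K := N) (U := T) hT hNT le_rfl
  obtain ⟨d, hd1, hd2⟩ := exists_last (P := fun k => ¬ iterCommutator N T k ≤ M) (a := 0) (b := c)
    hNM (by rw [hc]; simp) (Nat.zero_le _)
  push Not at hd2
  exact ⟨iterCommutator N T d, iter_le hTN d, hd1, hd2⟩

/-- existence of a critical-type subgroup -/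
theorem exists_critical [Finite L] {p : ℕ} [Fact p.Prime] (T : Subgroup L) [T.Normal]
    (hT : IsPGroup p T) :
    ∃ A : Subgroup L, A.Normal ∧ A ≤ T ∧ ⁅T, A⁆ ≤ A ⊓ Subgroup.centralizer (A : Set L) ∧
      T ⊓ Subgroup.centralizer (A : Set L) ≤ A := by
  obtain ⟨M, -, hM, hmax⟩ := Finite.exists_le_maximal
    (p := fun M : Subgroup L => M.Normal ∧ M ≤ T ∧ ⁅M, M⁆ = ⊥) (a := ⊥)
    ⟨inferInstance, bot_le, by simp⟩
  obtain ⟨hMn, hMT, hMab⟩ := hM
  have := hMn
  have hMcM : M ≤ Subgroup.centralizer (M : Set L) :=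
    Subgroup.commutator_eq_bot_iff_le_centralizer.mp hMab
  set C := (T ⊓ Subgroup.centralizer (M : Set L)) ⊓ cmod T M with hC
  have hCn : C.Normal := inferInstance
  have hMC : M ≤ C := le_inf (le_inf hMT hMcM)
    ((le_cmod_iff T M M).mpr (commutator_le_left_of_normalizer (le_normalizer_of_normal T M)))
  have hCM : C ≤ Subgroup.centralizer (M : Set L) := inf_le_left.trans inf_le_right
  have hMcC : M ≤ Subgroup.centralizer (C : Set L) := Subgroup.le_centralizer_iff.mp hCM
  have hTC : ⁅T, C⁆ ≤ M := by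
    rw [Subgroup.commutator_comm]
    exact (le_cmod_iff T M C).mp inf_le_right
  have hZle : C ⊓ Subgroup.centralizer (C : Set L) ≤ M := by
    have hZn : (C ⊓ Subgroup.centralizer (C : Set L)).Normal := inferInstance
    refine hmax ⟨hZn, inf_le_left.trans (inf_le_left.trans inf_le_left), ?_⟩ (le_inf hMC hMcC)
    rw [Subgroup.commutator_eq_bot_iff_le_centralizer]
    exact inf_le_right.trans (Subgroup.centralizer_le inf_le_left)
  refine ⟨C, hCn, inf_le_left.trans inf_le_left, hTC.trans (le_inf hMC hMcC), ?_⟩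
  by_contra hQ
  have hQn : (T ⊓ Subgroup.centralizer (C : Set L)).Normal := inferInstance
  have hQMn : ¬ (T ⊓ Subgroup.centralizer (C : Set L)) ⊔ M ≤ M :=
    fun h => hQ ((le_sup_left.trans h).trans hMC)
  obtain ⟨Y, hYN, hYM, hYT⟩ := exists_central_mod hT
    (N := (T ⊓ Subgroup.centralizer (C : Set L)) ⊔ M) (sup_le inf_le_left hMT)
    (le_normalizer_of_normal T _) hQMn
  apply hYM
  refine le_trans (le_inf (le_inf (le_inf ?_ ?_) ?_) ?_) hZle
  · exact hYN.trans (sup_le inf_le_left hMT)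
  · exact hYN.trans (sup_le (inf_le_right.trans (Subgroup.centralizer_le hMC)) hMcM)
  · exact (le_cmod_iff T M Y).mpr hYT
  · exact hYN.trans (sup_le inf_le_right hMcC)

end Cfsg.Agent.Lib.Helper16.KComm
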