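import Cfsg.Agent.Lib.Helper16.KCrit
import Cfsg.Agent.Lib.Helper16.KSub
import Cfsg.Agent.Lib.Helper41.Sections

/-!
Glauberman's `K_∞`: it is a characteristic `p`-functor, and if `K_∞(S)` is not normal in `G` then
some `g ∈ S \ O_p(G)` satisfies `⁅U, g; 4⁆ ≤ V` on every chief factor `U / V` inside `O_p(G)`.
-/

set_option autoImplicit false

universe u

namespace Cfsg.Agent.Lib.Helper16.KComm

open Cfsg Cfsg.Agent.Lib.Helper41 Cfsg.Agent.Lib.Helper16.KSub
open scoped commutatorElement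

section charFunctor

variable {Q R : Type*} [Group Q] [Group R]

theorem map_lower_equiv (φ : Q ≃* R) (X : Subgroup Q) :
    (sSup (kLowerStarFamily X)).map φ.toMonoidHom =
      sSup (kLowerStarFamily (X.map φ.toMonoidHom)) := by
  have hinj : Function.Injective φ.toMonoidHom := φ.injective
  rw [map_lower hinj]
  congr 1
  ext B
  simp

theorem map_upper_equiv (φ : Q ≃* R) (X : Subgroup Q) :
    (sSup (kUpperStarFamily X)).map φ.toMonoidHom =
      sSup (kUpperStarFamily (X.map φ.toMonoidHom)) := by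
  have hinj : Function.Injective φ.toMonoidHom := φ.injective
  rw [map_upper hinj]
  congr 1
  ext B
  simp

theorem map_kSeqOdd_equiv (φ : Q ≃* R) :
    ∀ n, (kSeqOdd Q n).map φ.toMonoidHom = kSeqOdd R n
  | 0 => by
    show (⊤ : Subgroup Q).map φ.toMonoidHom = ⊤
    exact Subgroup.map_top_of_surjective _ φ.surjective
  | n + 1 => by
    show (sSup (kUpperStarFamily (sSup (kLowerStarFamily (kSeqOdd Q n))))).map φ.toMonoidHom =
      sSup (kUpperStarFamily (sSup (kLowerStarFamily (kSeqOdd R n))))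
    rw [map_upper_equiv, map_lower_equiv, map_kSeqOdd_equiv φ n]

theorem map_kSeqEven_equiv (φ : Q ≃* R) (n : ℕ) :
    (kSeqEven Q n).map φ.toMonoidHom = kSeqEven R n := by
  show (sSup (kLowerStarFamily (kSeqOdd Q n))).map φ.toMonoidHom =
    sSup (kLowerStarFamily (kSeqOdd R n))
  rw [map_lower_equiv, map_kSeqOdd_equiv φ n]

end charFunctor

theorem map_kInfLower_equiv {Q R : Type u} [Group Q] [Group R] (φ : Q ≃* R) :
    (kInfLower Q).map φ.toMonoidHom = kInfLower R := by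
  show (⨆ n, kSeqEven Q n).map φ.toMonoidHom = ⨆ n, kSeqEven R n
  rw [Subgroup.map_iSup]
  simp only [map_kSeqEven_equiv]

theorem isCharPFunctor_kInfLower (p : ℕ) [Fact p.Prime] : IsCharPFunctor.{u} p kInfLower := by
  refine ⟨?_, ?_⟩
  · intro Q _ _ hQ hnt hbot
    have hc : IsMulCommutative ↥(Subgroup.center Q) := inferInstance
    have h1 : Subgroup.center Q ≤ kInfLower Q :=
      (normal_abelian_le_kSeqEven (Subgroup.center Q) hc 0).trans
        (le_iSup (fun n => kSeqEven Q n) 0)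
    rw [hbot, le_bot_iff] at h1
    have h2 : Nontrivial ↥(Subgroup.center Q) := hQ.center_nontrivial
    rw [h1] at h2
    exact not_nontrivial _ h2
  · intro Q R _ _ _ _ φ
    exact map_kInfLower_equiv φ

theorem map_kInfUpper_equiv {Q R : Type u} [Group Q] [Group R] (φ : Q ≃* R) :
    (kInfUpper Q).map φ.toMonoidHom = kInfUpper R := by
  show (⨅ n, kSeqOdd Q n).map φ.toMonoidHom = ⨅ n, kSeqOdd R n
  have hinj : Function.Injective φ.toMonoidHom := φ.injective
  rw [Subgroup.map_iInf _ hinj]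
  simp only [map_kSeqOdd_equiv]

theorem isCharPFunctor_kInfUpper (p : ℕ) [Fact p.Prime] : IsCharPFunctor.{u} p kInfUpper := by
  refine ⟨?_, ?_⟩
  · intro Q _ _ hQ hnt hbot
    have hc : IsMulCommutative ↥(Subgroup.center Q) := inferInstance
    have h1 : Subgroup.center Q ≤ kInfUpper Q :=
      le_iInf fun n => normal_abelian_le_kSeqOdd (Subgroup.center Q) hc n
    rw [hbot, le_bot_iff] at h1
    have h2 : Nontrivial ↥(Subgroup.center Q) := hQ.center_nontrivial
    rw [h1] at h2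
    exact not_nontrivial _ h2
  · intro Q R _ _ _ _ φ
    exact map_kInfUpper_equiv φ

section family

variable {G : Type*} [Group G]

theorem oSeq_le (S : Subgroup G) : ∀ n, oSeq S n ≤ S
  | 0 => le_rfl
  | _ + 1 => sSup_le fun _ hB => hB.2

theorem iter3_of_classTwo {X B : Subgroup G} (hB : B ∈ classTwoSubgroups G)
    (hX : X ≤ Subgroup.normalizer (B : Set G)) : iterCommutator X B 3 = ⊥ := by
  have h1 : ⁅X, B⁆ ≤ B := by
    rw [Subgroup.commutator_comm]
    exact commutator_le_left_of_normalizer hX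
  have h2 : ⁅⁅X, B⁆, B⁆ ≤ ⁅B, B⁆ := Subgroup.commutator_mono h1 le_rfl
  have h3 : ⁅⁅B, B⁆, B⁆ = ⊥ := Subgroup.commutator_eq_bot_iff_le_centralizer.mpr hB
  rw [eq_bot_iff, ← h3]
  exact Subgroup.commutator_mono h2 le_rfl

theorem iter2_of_le_center {X B : Subgroup G}
    (h : ⁅B, X⁆ ≤ B ⊓ Subgroup.centralizer (B : Set G)) : iterCommutator X B 2 = ⊥ := by
  show ⁅⁅X, B⁆, B⁆ = ⊥
  rw [Subgroup.commutator_eq_bot_iff_le_centralizer, Subgroup.commutator_comm]
  exact h.trans inf_le_right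

/-- the family analysis: a member of one of the families outside `T` acts on the critical subgroup
`A` with `⁅A, B; 3⁆ = 1` and `⁅Z(A), B; 2⁆ = 1` -/
theorem exists_bad_subgroup (S T A : Subgroup G) [T.Normal] [A.Normal] (hTS : T ≤ S) (hAT : A ≤ T)
    (hA3 : ⁅T, A⁆ ≤ A ⊓ Subgroup.centralizer (A : Set G))
    (hfail : ¬ ∀ n, lowerIn S (oSeq S n) ≤ T ∧ oSeq S (n + 1) ≤ T) :
    ∃ B : Subgroup G, B ≤ S ∧ ¬ B ≤ T ∧ iterCommutator A B 3 = ⊥ ∧
      iterCommutator (A ⊓ Subgroup.centralizer (A : Set G)) B 2 = ⊥ := by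
  classical
  have hex : ∃ n, ¬ (lowerIn S (oSeq S n) ≤ T ∧ oSeq S (n + 1) ≤ T) := not_forall.mp hfail
  have hn := Nat.find_spec hex
  have hmin : ∀ m < Nat.find hex, lowerIn S (oSeq S m) ≤ T ∧ oSeq S (m + 1) ≤ T :=
    fun m hm => not_not.mp (Nat.find_min hex hm)
  generalize Nat.find hex = n at hn hmin
  have hZn : (A ⊓ Subgroup.centralizer (A : Set G)).Normal := inferInstance
  set Z := A ⊓ Subgroup.centralizer (A : Set G) with hZ
  have hZab : ⁅Z, Z⁆ = ⊥ := by
    rw [Subgroup.commutator_eq_bot_iff_le_centralizer]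
    exact inf_le_right.trans (Subgroup.centralizer_le inf_le_left)
  have hZc : IsMulCommutative ↥Z := Subgroup.commutator_self_eq_bot_iff.mp hZab
  have key0 : ∀ X : Subgroup G, X ≤ T → ⁅A, X⁆ ≤ Z := by
    intro X hX
    rw [Subgroup.commutator_comm]
    exact (Subgroup.commutator_mono hX le_rfl).trans hA3
  have hAcl : A ∈ classTwoSubgroups G := (key0 A hAT).trans inf_le_right
  have hZcl : Z ∈ classTwoSubgroups G := by
    show ⁅Z, Z⁆ ≤ _
    rw [hZab]
    exact bot_le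
  have hAS : A ≤ S := hAT.trans hTS
  by_cases hE : lowerIn S (oSeq S n) ≤ T
  · -- upper case
    have hO : ¬ upperIn S (lowerIn S (oSeq S n)) ≤ T := fun h => hn ⟨hE, h⟩
    unfold upperIn at hO
    rw [sSup_le_iff] at hO
    push Not at hO
    obtain ⟨B, ⟨⟨hBcl, hBE⟩, hBS⟩, hBT⟩ := hO
    have hZE : Z ≤ lowerIn S (oSeq S n) :=
      le_sSup ⟨normal_abelian_mem_lower Z hZc (oSeq S n), inf_le_left.trans hAS⟩
    have hZ2 : iterCommutator Z B 2 = ⊥ :=
      iter2_of_le_center ((Subgroup.commutator_mono le_rfl hZE).trans hBE)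
    by_cases hAl : A ∈ kLowerStarFamily (oSeq S n)
    · have hAE : A ≤ lowerIn S (oSeq S n) := le_sSup ⟨hAl, hAS⟩
      have hA2 : iterCommutator A B 2 = ⊥ :=
        iter2_of_le_center ((Subgroup.commutator_mono le_rfl hAE).trans hBE)
      exact ⟨B, hBS, hBT, iter_eq_bot_of_le hA2 (by norm_num), hZ2⟩
    · have hAl' : ¬ (A ∈ classTwoSubgroups G ∧ oSeq S n ≤ Subgroup.normalizer (A : Set G) ∧
          ∀ A₁ ∈ classTwoSubgroups G, A₁ ≤ oSeq S n → A ≤ Subgroup.normalizer (A₁ : Set G) →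
            ⁅A, ⁅A₁, A₁⁆⁆ = ⊥ → ⁅⁅Z, A₁⁆, A₁⁆ = ⊥ → ⁅A, A₁⁆ ≤ Z) := hAl
      push Not at hAl'
      obtain ⟨A₁, hA₁cl, hA₁O, hAA₁, -, hZA₁, hnot⟩ :=
        hAl' hAcl (le_normalizer_of_normal _ A)
      refine ⟨A₁, hA₁O.trans (oSeq_le S n), fun h => hnot (key0 A₁ h),
        iter3_of_classTwo hA₁cl hAA₁, hZA₁⟩
  · -- lower case
    unfold lowerIn at hE
    rw [sSup_le_iff] at hE
    push Not at hE
    obtain ⟨B, ⟨⟨hBcl, hBnorm, hBcond⟩, hBS⟩, hBT⟩ := hE
    have hAO : A ≤ oSeq S n := by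
      cases n with
      | zero => exact hAS
      | succ m =>
        exact le_sSup ⟨⟨hAcl, key0 _ (hmin m (Nat.lt_succ_self m)).1⟩, hAS⟩
    refine ⟨B, hBS, hBT, iter3_of_classTwo hBcl (hAO.trans hBnorm), iter2_of_le_center ?_⟩
    apply hBcond Z hZcl (inf_le_left.trans hAO) (le_normalizer_of_normal B Z)
    · rw [hZab]
      exact Subgroup.commutator_bot_right B
    · rw [eq_bot_iff, ← hZab]
      exact Subgroup.commutator_mono (Subgroup.commutator_le_right _ Z) le_rfl

end family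

end Cfsg.Agent.Lib.Helper16.KComm
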