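import Cfsg.Agent.Lib.Helper16.KBil

/-!
Step 3 of Glauberman's `K_∞` argument: if `A` is a critical-type normal subgroup of the normal
`p`-subgroup `T` with `⁅A, H; 3⁆ = 1` and `⁅Z(A), H; 2⁆ = 1`, then `⁅U, H; 4⁆ ≤ V` for every chief
factor `U / V` inside `T`.
-/

set_option autoImplicit false

namespace Cfsg.Agent.Lib.Helper16.KComm

open Cfsg
open scoped commutatorElement

variable {L : Type*} [Group L]

/-- the "centralizer modulo `M`" of `K` -/
def cmod (K M : Subgroup L) [M.Normal] : Subgroup L :=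
  (Subgroup.centralizer ((K.map (QuotientGroup.mk' M) : Subgroup (L ⧸ M)) : Set (L ⧸ M))).comap
    (QuotientGroup.mk' M)

theorem le_iff_map_mk_eq_bot (N : Subgroup L) [N.Normal] (X : Subgroup L) :
    X ≤ N ↔ X.map (QuotientGroup.mk' N) = ⊥ := by
  rw [← le_bot_iff, Subgroup.map_le_iff_le_comap, MonoidHom.comap_bot, QuotientGroup.ker_mk']

theorem le_cmod_iff (K M Y : Subgroup L) [M.Normal] : Y ≤ cmod K M ↔ ⁅Y, K⁆ ≤ M := by
  unfold cmod
  rw [← Subgroup.map_le_iff_le_comap, ← Subgroup.commutator_eq_bot_iff_le_centralizer,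
    ← Subgroup.map_commutator, ← le_iff_map_mk_eq_bot]

instance cmod_normal (K M : Subgroup L) [K.Normal] [M.Normal] : (cmod K M).Normal := by
  unfold cmod
  have h1 : (K.map (QuotientGroup.mk' M)).Normal :=
    Subgroup.Normal.map inferInstance _ (QuotientGroup.mk'_surjective M)
  have h2 : (Subgroup.centralizer ((K.map (QuotientGroup.mk' M) : Subgroup (L ⧸ M)) :
      Set (L ⧸ M))).Normal := inferInstance
  exact Subgroup.Normal.comap h2 _

theorem exists_last {P : ℕ → Prop} {a b : ℕ} (ha : P a) (hb : ¬ P b) (hab : a ≤ b) :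
    ∃ d, P d ∧ ¬ P (d + 1) := by
  by_contra h
  push Not at h
  exact hb (Nat.le_induction ha (fun n _ hn => h n hn) b hab)

theorem chief_dichotomy {U V : Subgroup L} (hUV : IsChiefFactor U V) (N : Subgroup L) [N.Normal] :
    U ⊓ N ≤ V ∨ U ≤ V ⊔ (U ⊓ N) := by
  obtain ⟨hlt, hU, hV, hmin⟩ := hUV
  have hn : (V ⊔ (U ⊓ N)).Normal := inferInstance
  rcases hmin (V ⊔ (U ⊓ N)) hn le_sup_left (sup_le hlt.le inf_le_left) with h | h
  · left
    rw [← h]
    exact le_sup_right
  · right
    rw [h]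

theorem iter_self_eq_lcs (T : Subgroup L) :
    ∀ n, iterCommutator T T n = T.lowerCentralSeries n
  | 0 => rfl
  | n + 1 => by
    show ⁅iterCommutator T T n, T⁆ = ⁅T.lowerCentralSeries n, T⁆
    rw [iter_self_eq_lcs T n]

theorem iter_eq_bot_of_pgroup [Finite L] {p : ℕ} [Fact p.Prime] {T K U : Subgroup L}
    (hT : IsPGroup p T) (hK : K ≤ T) (hU : U ≤ T) : ∃ c, iterCommutator K U c = ⊥ := by
  have hnil : Group.IsNilpotent ↥T := hT.isNilpotent
  obtain ⟨n, hn⟩ := (Subgroup.isNilpotent_iff_lowerCentralSeries T).mp hnil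
  refine ⟨n, ?_⟩
  rw [eq_bot_iff]
  calc iterCommutator K U n ≤ iterCommutator T U n := iter_mono U hK n
    _ ≤ iterCommutator T T n := iter_mono_right T hU n
    _ = ⊥ := by rw [iter_self_eq_lcs, hn]

theorem iter_succ_le_of_le {U V H : Subgroup L} [V.Normal] {n : ℕ}
    (h : iterCommutator U H n ≤ V) : iterCommutator U H (n + 1) ≤ V :=
  iter_le_of_le (le_normalizer_of_normal H V) h (Nat.le_succ n)

/-- if `U ≤ V ⊔ X` and `⁅X, H; n⁆ ≤ V` then `⁅U, H; n⁆ ≤ V` -/
theorem iter_le_of_le_sup {U V X H : Subgroup L} [V.Normal] {n : ℕ} (hU : U ≤ V ⊔ X)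
    (hX : iterCommutator X H n ≤ V) : iterCommutator U H n ≤ V :=
  calc iterCommutator U H n ≤ iterCommutator (V ⊔ X) H n := iter_mono H hU n
    _ ≤ V ⊔ iterCommutator X H n := iter_sup_le n
    _ ≤ V := sup_le le_rfl hX

instance iter_normal_inst (K H : Subgroup L) [K.Normal] [H.Normal] (n : ℕ) :
    (iterCommutator K H n).Normal := iter_normal K H n

/-- `D d`: the elements of `U` sending `⁅Z, U; k⁆` into `⁅Z, U; k + d⁆` for all `k` -/
def dSer (Z U : Subgroup L) [Z.Normal] [U.Normal] (d : ℕ) : Subgroup L :=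
  U ⊓ ⨅ k, cmod (iterCommutator Z U k) (iterCommutator Z U (k + d))

instance dSer_normal (Z U : Subgroup L) [Z.Normal] [U.Normal] (d : ℕ) : (dSer Z U d).Normal := by
  unfold dSer
  have : (⨅ k, cmod (iterCommutator Z U k) (iterCommutator Z U (k + d))).Normal :=
    Subgroup.normal_iInf_normal (fun k => inferInstance)
  infer_instance

theorem le_dSer_iff (Z U : Subgroup L) [Z.Normal] [U.Normal] (d : ℕ) (Y : Subgroup L) :
    Y ≤ dSer Z U d ↔
      Y ≤ U ∧ ∀ k, ⁅Y, iterCommutator Z U k⁆ ≤ iterCommutator Z U (k + d) := by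
  unfold dSer
  rw [le_inf_iff, le_iInf_iff]
  simp only [le_cmod_iff]

theorem dSer_le (Z U : Subgroup L) [Z.Normal] [U.Normal] (d : ℕ) : dSer Z U d ≤ U :=
  ((le_dSer_iff Z U d _).mp le_rfl).1

theorem dSer_comm (Z U : Subgroup L) [Z.Normal] [U.Normal] (d k : ℕ) :
    ⁅dSer Z U d, iterCommutator Z U k⁆ ≤ iterCommutator Z U (k + d) :=
  ((le_dSer_iff Z U d _).mp le_rfl).2 k

theorem four_case_beta {A H U V : Subgroup L} [V.Normal] (hUA : U ≤ V ⊔ (U ⊓ A))
    (h3 : iterCommutator A H 3 = ⊥) : iterCommutator U H 3 ≤ V := by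
  apply iter_le_of_le_sup hUA
  calc iterCommutator (U ⊓ A) H 3 ≤ iterCommutator A H 3 := iter_mono H inf_le_right 3
    _ = ⊥ := h3
    _ ≤ V := bot_le

theorem four_case_gamma {T A H U V : Subgroup L} [A.Normal] [U.Normal] [V.Normal]
    (hA3 : ⁅T, A⁆ ≤ A ⊓ Subgroup.centralizer (A : Set L))
    (hA4 : T ⊓ Subgroup.centralizer (A : Set L) ≤ A)
    (h3 : iterCommutator A H 3 = ⊥)
    (h2 : iterCommutator (A ⊓ Subgroup.centralizer (A : Set L)) H 2 = ⊥)
    (hUT : U ≤ T) (hUAV : U ⊓ A ≤ V)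
    (hUX : U ≤ V ⊔ (U ⊓ Subgroup.centralizer
      ((A ⊓ Subgroup.centralizer (A : Set L) : Subgroup L) : Set L))) :
    iterCommutator U H 4 ≤ V := by
  have hZn : (A ⊓ Subgroup.centralizer (A : Set L)).Normal := inferInstance
  have hXn : (U ⊓ Subgroup.centralizer
      ((A ⊓ Subgroup.centralizer (A : Set L) : Subgroup L) : Set L)).Normal := inferInstance
  apply iter_le_of_le_sup hUX
  set Z := A ⊓ Subgroup.centralizer (A : Set L) with hZ
  set X := U ⊓ Subgroup.centralizer (Z : Set L) with hX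
  have hb := bilinear_nilpotent (E := A) (X := X) (F := Z) (F' := ⊥) (H := H) bot_le
    (le_normalizer_of_normal H A) (le_normalizer_of_normal H X) (le_normalizer_of_normal H Z)
    (by
      calc ⁅A, X⁆ = ⁅X, A⁆ := Subgroup.commutator_comm _ _
        _ ≤ ⁅T, A⁆ := Subgroup.commutator_mono (inf_le_left.trans hUT) le_rfl
        _ ≤ Z := hA3)
    (by
      rw [le_bot_iff, Subgroup.commutator_comm, Subgroup.commutator_eq_bot_iff_le_centralizer]
      exact inf_le_right)
    (by
      rw [le_bot_iff, Subgroup.commutator_eq_bot_iff_le_centralizer]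
      exact inf_le_right)
    3 2 h3 (le_of_eq h2)
  have h4 : iterCommutator X H 4 ≤ Subgroup.centralizer (A : Set L) := by
    rw [← Subgroup.commutator_eq_bot_iff_le_centralizer, Subgroup.commutator_comm, eq_bot_iff]
    exact hb
  have h5 : iterCommutator X H 4 ≤ X := iter_le (le_normalizer_of_normal H X) 4
  have h6 : iterCommutator X H 4 ≤ A :=
    le_trans (le_inf (h5.trans (inf_le_left.trans hUT)) h4) hA4
  exact (le_inf (h5.trans inf_le_left) h6).trans hUAV

theorem four_case_delta [Finite L] {p : ℕ} [Fact p.Prime] {T Z H : Subgroup L} [Z.Normal]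
    (hT : IsPGroup p T) (hZT : Z ≤ T) (hZZ : ⁅Z, Z⁆ = ⊥) (h2 : iterCommutator Z H 2 = ⊥)
    {U V : Subgroup L} (hUV : IsChiefFactor U V) (hUT : U ≤ T)
    (hUZ : U ⊓ Subgroup.centralizer (Z : Set L) ≤ V) : iterCommutator U H 3 ≤ V := by
  obtain ⟨hlt, hUn, hVn, hmin⟩ := id hUV
  have := hUn
  have := hVn
  obtain ⟨c, hc⟩ := iter_eq_bot_of_pgroup (K := Z) (U := U) hT hZT hUT
  have hEZ : ∀ k, iterCommutator Z U k ≤ Z := fun k => iter_le (le_normalizer_of_normal U Z) k
  have hP1 : U ≤ V ⊔ dSer Z U 1 := by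
    refine le_trans ?_ le_sup_right
    rw [le_dSer_iff]
    refine ⟨le_rfl, fun k => ?_⟩
    rw [Subgroup.commutator_comm]
    exact le_rfl
  have hPc : ¬ U ≤ V ⊔ dSer Z U (c + 1) := by
    intro h
    have h1 : dSer Z U (c + 1) ≤ V := by
      refine le_trans (le_inf (dSer_le Z U (c + 1)) ?_) hUZ
      have h0 := dSer_comm Z U (c + 1) 0
      rw [← Subgroup.commutator_eq_bot_iff_le_centralizer, eq_bot_iff]
      refine h0.trans ?_
      rw [iter_eq_bot_of_le hc (by omega)]
    exact lt_irrefl _ (lt_of_lt_of_le hlt (h.trans (sup_le le_rfl h1)))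
  obtain ⟨d, hd1, hd2⟩ := exists_last (P := fun d => U ≤ V ⊔ dSer Z U d) hP1 hPc (by omega)
  have hD : dSer Z U (d + 1) ≤ V := by
    rcases chief_dichotomy hUV (dSer Z U (d + 1)) with h | h
    · exact (le_inf (dSer_le Z U (d + 1)) le_rfl).trans h
    · exact absurd (h.trans (sup_le_sup_left inf_le_right V)) hd2
  apply iter_le_of_le_sup hd1
  refine le_trans ?_ hD
  rw [le_dSer_iff]
  refine ⟨(iter_le (le_normalizer_of_normal H _) 3).trans (dSer_le Z U d), fun k => ?_⟩
  rw [Subgroup.commutator_comm]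
  have hbot : ∀ k, iterCommutator (iterCommutator Z U k) H 2 = ⊥ := by
    intro k
    rw [eq_bot_iff, ← h2]
    exact iter_mono H (hEZ k) 2
  have hb := bilinear_nilpotent (E := iterCommutator Z U k) (X := dSer Z U d)
    (F := iterCommutator Z U (k + d)) (F' := iterCommutator Z U (k + d + 1)) (H := H)
    (iter_succ_le (le_normalizer_of_normal U Z) (k + d))
    (le_normalizer_of_normal H _) (le_normalizer_of_normal H _) (le_normalizer_of_normal H _)
    (by rw [Subgroup.commutator_comm]; exact dSer_comm Z U d k)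
    (Subgroup.commutator_mono le_rfl (dSer_le Z U d))
    (by
      refine le_trans (Subgroup.commutator_mono (hEZ _) (hEZ _)) ?_
      rw [hZZ]
      exact bot_le)
    2 2 (hbot k) (by rw [hbot]; exact bot_le)
  exact hb

/-- **Step 3**: the fourth iterated commutator with `H` kills every chief factor inside `T`. -/
theorem four_of_critical [Finite L] {p : ℕ} [Fact p.Prime] (T A H : Subgroup L) [T.Normal]
    [A.Normal] (hT : IsPGroup p T) (hAT : A ≤ T)
    (hA3 : ⁅T, A⁆ ≤ A ⊓ Subgroup.centralizer (A : Set L))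
    (hA4 : T ⊓ Subgroup.centralizer (A : Set L) ≤ A)
    (h3 : iterCommutator A H 3 = ⊥)
    (h2 : iterCommutator (A ⊓ Subgroup.centralizer (A : Set L)) H 2 = ⊥) :
    ∀ U V : Subgroup L, IsChiefFactor U V → U ≤ T → iterCommutator U H 4 ≤ V := by
  intro U V hUV hUT
  obtain ⟨hlt, hUn, hVn, hmin⟩ := id hUV
  have := hUn
  have := hVn
  have hZn : (A ⊓ Subgroup.centralizer (A : Set L)).Normal := inferInstance
  rcases chief_dichotomy hUV A with hA | hA
  · rcases chief_dichotomy hUV (Subgroup.centralizer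
      ((A ⊓ Subgroup.centralizer (A : Set L) : Subgroup L) : Set L)) with hX | hX
    · apply iter_succ_le_of_le
      refine four_case_delta (T := T) (Z := A ⊓ Subgroup.centralizer (A : Set L)) hT
        (inf_le_left.trans hAT) ?_ h2 hUV hUT hX
      rw [Subgroup.commutator_eq_bot_iff_le_centralizer]
      exact inf_le_right.trans (Subgroup.centralizer_le inf_le_left)
    · exact four_case_gamma hA3 hA4 h3 h2 hUT hA hX
  · exact iter_succ_le_of_le (four_case_beta hA h3)

end Cfsg.Agent.Lib.Helper16.KComm
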