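import Cfsg.Agent.Lib.Helper16.KBil2

/-!
Engel conditions on the chief factors inside a critical-type subgroup `Q` of a normal `p`-subgroup
`P` and inside `Z(Q)` give an Engel condition on all chief factors inside `P`.
-/

set_option autoImplicit false

namespace Cfsg.Agent.Lib.Helper16.KComm

open Cfsg
open scoped commutatorElement

variable {L : Type*} [Group L]

/-- a minimal normal subgroup `E ≤ D` not inside `V` gives a chief factor `E / (E ⊓ V)` -/
theorem exists_chief_in [Finite L] {D V : Subgroup L} [D.Normal] [V.Normal] (hD : ¬ D ≤ V) :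
    ∃ E : Subgroup L, E ≤ D ∧ ¬ E ≤ V ∧ IsChiefFactor E (E ⊓ V) := by
  obtain ⟨E, hED, hE⟩ := Finite.exists_le_minimal
    (p := fun E : Subgroup L => E.Normal ∧ ¬ E ≤ V) (a := D) ⟨inferInstance, hD⟩
  obtain ⟨⟨hEn, hEV⟩, hmin⟩ := hE
  have := hEn
  refine ⟨E, hED, hEV, ?_, hEn, inferInstance, ?_⟩
  · exact lt_of_le_of_ne inf_le_left (fun h => hEV (by rw [← h]; exact inf_le_right))
  · intro N hN hN1 hN2
    by_cases hNV : N ≤ V
    · left
      exact le_antisymm (le_inf hN2 hNV) hN1
    · right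
      exact le_antisymm hN2 (hmin ⟨hN, hNV⟩ hN2)

/-- a maximal normal subgroup strictly below `E` -/
theorem exists_chief_below [Finite L] {E : Subgroup L} [E.Normal] (hE : E ≠ ⊥) :
    ∃ E' : Subgroup L, IsChiefFactor E E' := by
  obtain ⟨E', -, hE'⟩ := Finite.exists_le_maximal
    (p := fun N : Subgroup L => N.Normal ∧ N < E) (a := ⊥) ⟨inferInstance, bot_lt_iff_ne_bot.mpr hE⟩
  obtain ⟨⟨hE'n, hlt⟩, hmax⟩ := hE'
  refine ⟨E', hlt, inferInstance, hE'n, ?_⟩
  intro N hN hN1 hN2
  rcases eq_or_lt_of_le hN2 with h | h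
  · right; exact h
  · left
    exact le_antisymm (hmax ⟨hN, h⟩ hN1) hN1

/-- a minimal normal subgroup strictly above `F'` inside `Z` -/
theorem exists_chief_above [Finite L] {F' Z : Subgroup L} [F'.Normal] [Z.Normal] (h : F' < Z) :
    ∃ F : Subgroup L, F ≤ Z ∧ IsChiefFactor F F' := by
  obtain ⟨F, hFZ, hF⟩ := Finite.exists_le_minimal
    (p := fun N : Subgroup L => N.Normal ∧ F' < N) (a := Z) ⟨inferInstance, h⟩
  obtain ⟨⟨hFn, hlt⟩, hmin⟩ := hF
  refine ⟨F, hFZ, hlt, hFn, inferInstance, ?_⟩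
  intro N hN hN1 hN2
  rcases eq_or_lt_of_le hN1 with h | h
  · left; exact h.symm
  · right
    exact le_antisymm hN2 (hmin ⟨hN, h⟩ hN2)

theorem chief_engel_of_critical [Finite L] {p : ℕ} [Fact p.Prime] (P Q H : Subgroup L) [P.Normal]
    [Q.Normal] (hP : IsPGroup p P) (hQP : Q ≤ P)
    (hQ3 : ⁅P, Q⁆ ≤ Q ⊓ Subgroup.centralizer (Q : Set L))
    (hQ4 : P ⊓ Subgroup.centralizer (Q : Set L) ≤ Q) (i j : ℕ) (hj : 1 ≤ j)
    (hQi : ∀ U V : Subgroup L, IsChiefFactor U V → U ≤ Q → iterCommutator U H i ≤ V)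
    (hZj : ∀ U V : Subgroup L, IsChiefFactor U V → U ≤ Q ⊓ Subgroup.centralizer (Q : Set L) →
      iterCommutator U H j ≤ V) :
    ∀ U V : Subgroup L, IsChiefFactor U V → U ≤ P → iterCommutator U H (i + j - 1) ≤ V := by
  intro U V hUV hUP
  obtain ⟨hlt, hUn, hVn, hmin⟩ := id hUV
  have := hUn
  have := hVn
  have hUV' : ¬ U ≤ V := fun h => lt_irrefl _ (lt_of_lt_of_le hlt h)
  have hnorm : ∀ K : Subgroup L, K.Normal → H ≤ Subgroup.normalizer (K : Set L) :=
    fun K hK => by have := hK; exact le_normalizer_of_normal H K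
  by_cases hUQ : U ⊓ Q ≤ V
  · -- main case
    have hZn : (Q ⊓ Subgroup.centralizer (Q : Set L)).Normal := inferInstance
    set Z := Q ⊓ Subgroup.centralizer (Q : Set L) with hZ
    -- step 1: minimal `E`
    obtain ⟨E, -, hE⟩ := Finite.exists_le_minimal
      (p := fun E : Subgroup L => E.Normal ∧ E ≤ Q ∧ U ⊓ Subgroup.centralizer (E : Set L) ≤ V)
      (a := Q) ⟨inferInstance, le_rfl, by
        refine le_trans ?_ hUQ
        exact le_inf inf_le_left (le_trans (inf_le_inf_right _ hUP) hQ4)⟩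
    obtain ⟨⟨hEn, hEQ, hEV⟩, hEmin⟩ := hE
    have := hEn
    have hEne : E ≠ ⊥ := by
      rintro rfl
      apply hUV'
      refine le_trans (le_inf le_rfl ?_) hEV
      intro x _
      rw [Subgroup.mem_centralizer_iff]
      intro y hy
      have hy1 : y = 1 := hy
      rw [hy1, one_mul, mul_one]
    -- step 2: `E'`
    obtain ⟨E', hEE'⟩ := exists_chief_below hEne
    have hE'n : E'.Normal := hEE'.2.2.1
    have := hE'n
    have hE'lt : E' < E := hEE'.1
    have hX0 : U ≤ V ⊔ (U ⊓ Subgroup.centralizer (E' : Set L)) := by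
      rcases chief_dichotomy hUV (Subgroup.centralizer (E' : Set L)) with h | h
      · exfalso
        have := hEmin ⟨hE'n, hE'lt.le.trans hEQ, h⟩ hE'lt.le
        exact lt_irrefl _ (lt_of_lt_of_le hE'lt this)
      · exact h
    -- step 3: maximal `F'`
    obtain ⟨F', -, hF'⟩ := Finite.exists_le_maximal
      (p := fun F' : Subgroup L => ∃ _ : F'.Normal, F' ≤ Z ∧
        U ⊓ (Subgroup.centralizer (E' : Set L) ⊓ cmod E F') ≤ V) (a := ⊥)
      ⟨inferInstance, bot_le, by
        refine le_trans ?_ hEV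
        refine le_inf inf_le_left ?_
        refine le_trans inf_le_right (le_trans inf_le_right ?_)
        rw [← Subgroup.commutator_eq_bot_iff_le_centralizer, eq_bot_iff]
        exact (le_cmod_iff E ⊥ _).mp le_rfl⟩
    obtain ⟨⟨hF'n, hF'Z, hF'V⟩, hF'max⟩ := hF'
    have := hF'n
    have hUcmodZ : U ≤ cmod E Z := by
      rw [le_cmod_iff]
      exact (Subgroup.commutator_mono hUP hEQ).trans hQ3
    have hF'ne : F' ≠ Z := by
      rintro rfl
      apply hUV'
      refine hX0.trans (sup_le le_rfl (le_trans ?_ hF'V))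
      exact le_inf inf_le_left (le_inf inf_le_right (inf_le_left.trans hUcmodZ))
    -- step 4: `F`
    obtain ⟨F, hFZ, hFF'⟩ := exists_chief_above (lt_of_le_of_ne hF'Z hF'ne)
    have hFn : F.Normal := hFF'.2.1
    have := hFn
    have hF'lt : F' < F := hFF'.1
    have hNn : (Subgroup.centralizer (E' : Set L) ⊓ cmod E F).Normal := inferInstance
    have hX : U ≤ V ⊔ (U ⊓ (Subgroup.centralizer (E' : Set L) ⊓ cmod E F)) := by
      rcases chief_dichotomy hUV (Subgroup.centralizer (E' : Set L) ⊓ cmod E F) with h | h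
      · exfalso
        have := hF'max ⟨hFn, hFZ, h⟩ hF'lt.le
        exact lt_irrefl _ (lt_of_lt_of_le hF'lt this)
      · exact h
    -- step 5
    have hXn : (U ⊓ (Subgroup.centralizer (E' : Set L) ⊓ cmod E F)).Normal := inferInstance
    set X := U ⊓ (Subgroup.centralizer (E' : Set L) ⊓ cmod E F) with hXdef
    have hZP : Z ≤ P := inf_le_left.trans hQP
    have hb := bilinear_nilpotent_rel (E := E) (E' := E') (X := X) (F := F) (F' := F') (H := H)
      hF'lt.le (hnorm E hEn) (hnorm E' hE'n) (hnorm X hXn) (hnorm F hFn)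
      (by
        rw [Subgroup.commutator_comm]
        exact (le_cmod_iff E F X).mp (inf_le_right.trans inf_le_right))
      (by
        rw [Subgroup.commutator_comm]
        have h1 : X ≤ Subgroup.centralizer (E' : Set L) := inf_le_right.trans inf_le_left
        rw [Subgroup.commutator_eq_bot_iff_le_centralizer.mpr h1]
        exact bot_le)
      ((Subgroup.commutator_mono le_rfl (inf_le_left.trans hUP)).trans
        (commutator_le_of_chief hP hFF' (hFZ.trans hZP)))
      (by
        have h1 : F ≤ Subgroup.centralizer (E : Set L) :=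
          (hFZ.trans inf_le_right).trans (Subgroup.centralizer_le hEQ)
        rw [Subgroup.commutator_eq_bot_iff_le_centralizer.mpr h1]
        exact bot_le)
      i j (hQi E E' hEE' hEQ) (hZj F F' hFF' hFZ)
    apply iter_le_of_le_sup hX
    refine le_trans ?_ hF'V
    have h1 : iterCommutator X H (i + j - 1) ≤ X := iter_le (hnorm X hXn) _
    refine le_inf (h1.trans inf_le_left) (le_inf (h1.trans (inf_le_right.trans inf_le_left)) ?_)
    rw [le_cmod_iff, Subgroup.commutator_comm]
    exact hb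
  · -- `U ⊓ Q ≰ V`
    have hDn : (U ⊓ Q).Normal := inferInstance
    obtain ⟨E, hED, hEV, hEch⟩ := exists_chief_in hUQ
    have hEn : E.Normal := hEch.2.1
    have := hEn
    have hUE : U ≤ V ⊔ E := by
      have hn : (V ⊔ E).Normal := inferInstance
      rcases hmin (V ⊔ E) hn le_sup_left (sup_le hlt.le (hED.trans inf_le_left)) with h | h
      · exact absurd (by rw [← h]; exact le_sup_right) hEV
      · rw [h]
    have h1 : iterCommutator U H i ≤ V :=
      iter_le_of_le_sup hUE ((hQi E (E ⊓ V) hEch (hED.trans inf_le_right)).trans inf_le_right)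
    exact iter_le_of_le (hnorm V hVn) h1 (by omega)

end Cfsg.Agent.Lib.Helper16.KComm
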