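import Mathlib

set_option autoImplicit false

namespace Cfsg.Agent.Lib.Helper16.MC3806

open Finset

/-- polynomial hockey stick in a ring -/
theorem b_hockey {R : Type*} [Ring R] (x : R) (n : ℕ) :
    ∑ i ∈ range n, (1 + x) ^ i = ∑ j ∈ range n, ((n.choose (j + 1) : ℕ) : R) * x ^ j := by
  induction n with
  | zero => simp
  | succ n ih =>
    rw [sum_range_succ, ih]
    have h1 : (1 + x) ^ n = ∑ m ∈ range (n + 1), ((n.choose m : ℕ) : R) * x ^ m := by
      rw [add_comm, (Commute.one_right x).add_pow]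
      refine sum_congr rfl (fun m _ => ?_)
      rw [one_pow, mul_one, (Nat.cast_commute (n.choose m) (x ^ m)).eq]
    have h2 : ∑ j ∈ range (n + 1), (((n + 1).choose (j + 1) : ℕ) : R) * x ^ j
        = ∑ j ∈ range (n + 1), ((n.choose j : ℕ) : R) * x ^ j
          + ∑ j ∈ range (n + 1), ((n.choose (j + 1) : ℕ) : R) * x ^ j := by
      rw [← sum_add_distrib]
      refine sum_congr rfl (fun j _ => ?_)
      rw [Nat.choose_succ_succ, Nat.cast_add, add_mul]
    rw [h2, h1, sum_range_succ (fun j => ((n.choose (j + 1) : ℕ) : R) * x ^ j) n,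
      Nat.choose_succ_self, Nat.cast_zero, zero_mul, add_zero, add_comm]

/-- the algebraic core -/
theorem b_alg {A : Type*} [AddCommGroup A] (p : ℕ) (hp : p.Prime) (δ : AddMonoid.End A)
    (hδ : ∀ b : A, (δ ^ (p - 1)) b = 0) (a : A)
    (hN : (∑ i ∈ range p, (1 + δ) ^ i) a = 0) : p • a = 0 := by
  have hp1 : 1 ≤ p := hp.one_lt.le
  let ev : AddMonoid.End A →+ A :=
    { toFun := fun f => f a, map_zero' := rfl, map_add' := fun _ _ => rfl }
  have hev : ∀ f : AddMonoid.End A, ev f = f a := fun _ => rfl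
  have hmulapp : ∀ (f g : AddMonoid.End A) (b : A), (f * g) b = f (g b) := fun _ _ _ => rfl
  -- vanishing of high powers
  have hz : ∀ j, p - 1 ≤ j → ∀ b : A, (δ ^ j) b = 0 := by
    intro j hj b
    have : δ ^ j = δ ^ (j - (p - 1)) * δ ^ (p - 1) := by
      rw [← pow_add]; congr 1; omega
    rw [this, hmulapp, hδ, map_zero]
  -- expanded relation
  have hN' : ∑ m ∈ range p, (p.choose (m + 1)) • ((δ ^ m) a) = 0 := by
    rw [b_hockey] at hN
    have h1 : ev (∑ j ∈ range p, ((p.choose (j + 1) : ℕ) : AddMonoid.End A) * δ ^ j) = 0 := hN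
    rw [map_sum] at h1
    rw [← h1]
    refine sum_congr rfl (fun m _ => ?_)
    rw [hev, hmulapp, AddMonoid.End.natCast_apply]
  have key : ∀ k j, p - 1 ≤ j + k → p • ((δ ^ j) a) = 0 := by
    intro k
    induction k with
    | zero =>
      intro j hj
      rw [hz j (by omega), smul_zero]
    | succ k ih =>
      intro j hj
      by_cases hjk : p - 1 ≤ j + k
      · exact ih j hjk
      · -- apply δ^j to hN'
        have h1 : (δ ^ j) (∑ m ∈ range p, (p.choose (m + 1)) • ((δ ^ m) a)) = 0 := by
          rw [hN', map_zero]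
        rw [map_sum] at h1
        have h2 : ∀ m ∈ range p, (δ ^ j) ((p.choose (m + 1)) • ((δ ^ m) a))
            = (p.choose (m + 1)) • ((δ ^ (j + m)) a) := by
          intro m _
          rw [map_nsmul, pow_add, hmulapp]
        rw [sum_congr rfl h2] at h1
        obtain ⟨q, rfl⟩ : ∃ q, p = q + 1 := ⟨p - 1, by omega⟩
        rw [sum_range_succ'] at h1
        have h3 : ∑ m ∈ range q, ((q + 1).choose (m + 1 + 1)) • ((δ ^ (j + (m + 1))) a) = 0 := by
          refine sum_eq_zero (fun m hm => ?_)
          rw [mem_range] at hm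
          by_cases hbig : q ≤ j + (m + 1)
          · rw [hz (j + (m + 1)) (by simpa using hbig), smul_zero]
          · have hdvd : (q + 1) ∣ (q + 1).choose (m + 1 + 1) :=
              hp.dvd_choose_self (by omega) (by omega)
            obtain ⟨c, hc⟩ := hdvd
            rw [hc, mul_nsmul, ih (j + (m + 1)) (by omega), smul_zero]
        rw [h3, zero_add, Nat.choose_one_right, add_zero] at h1
        exact h1
  have := key (p - 1) 0 (by omega)
  simpa using this

/-- **Leaf B** of pack K-3806 (norm identity). -/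
theorem pow_eq_one_of_mul_pow_eq {G : Type*} [Group G] (p : ℕ) (hp : p.Prime) (T : Subgroup G) [T.Normal]
    (hT : ∀ a ∈ T, ∀ b ∈ T, a * b = b * a) (s : G)
    (hd : ∀ x ∈ T, (fun y : G => s⁻¹ * y * s * y⁻¹)^[p - 1] x = 1)
    (x : G) (hx : x ∈ T) (h : (s * x) ^ p = s ^ p) : x ^ p = 1 := by
  classical
  let _ : CommGroup T :=
    { (inferInstance : Group T) with mul_comm := fun a b => Subtype.ext (hT a a.2 b b.2) }
  -- conjugation by s⁻¹ on T
  have hconj : ∀ y : G, y ∈ T → s⁻¹ * y * s ∈ T := by
    intro y hy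
    have := (inferInstance : T.Normal).conj_mem y hy s⁻¹
    simpa using this
  let σ : T →* T :=
    { toFun := fun y => ⟨s⁻¹ * y.1 * s, hconj y.1 y.2⟩
      map_one' := by ext; simp
      map_mul' := fun a b => by ext; simp [mul_assoc] }
  let σa : AddMonoid.End (Additive T) := MonoidHom.toAdditive σ
  let δ : AddMonoid.End (Additive T) := σa - 1
  have hσδ : (1 : AddMonoid.End (Additive T)) + δ = σa := by
    show 1 + (σa - 1) = σa
    abel
  have hσa : ∀ z : T, σa (Additive.ofMul z) = Additive.ofMul (σ z) := fun _ => rfl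
  have hmulapp : ∀ (f g : AddMonoid.End (Additive T)) (b : Additive T), (f * g) b = f (g b) :=
    fun _ _ _ => rfl
  let f : G → G := fun y => s⁻¹ * y * s * y⁻¹
  -- δ in multiplicative terms
  have hδ1 : ∀ z : T, ((δ (Additive.ofMul z)).toMul : T).1 = f z.1 := by
    intro z
    have : δ (Additive.ofMul z) = Additive.ofMul (σ z * z⁻¹) := by
      show σa (Additive.ofMul z) - Additive.ofMul z = _
      rw [hσa, ← ofMul_div, div_eq_mul_inv]
    rw [this]
    rfl
  have hδk : ∀ (k : ℕ) (z : T), (((δ ^ k) (Additive.ofMul z)).toMul : T).1 = f^[k] z.1 := by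
    intro k
    induction k with
    | zero => intro z; rfl
    | succ k ih =>
      intro z
      rw [Function.iterate_succ_apply', pow_succ', hmulapp, ← ih z]
      exact hδ1 ((δ ^ k) (Additive.ofMul z)).toMul
  have hδzero : ∀ b : Additive T, (δ ^ (p - 1)) b = 0 := by
    intro b
    have h1 := hδk (p - 1) b.toMul
    have h2 : f^[p - 1] (b.toMul : T).1 = 1 := hd _ (b.toMul : T).2
    rw [h2] at h1
    have h3 : ((δ ^ (p - 1)) (Additive.ofMul b.toMul)).toMul = (1 : T) := Subtype.ext h1
    have h4 : (δ ^ (p - 1)) (Additive.ofMul b.toMul) = Additive.ofMul (1 : T) := by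
      rw [← h3]; rfl
    exact h4
  -- the norm
  let a : Additive T := Additive.ofMul ⟨x, hx⟩
  have hpow : ∀ n : ℕ, (s * x) ^ n = s ^ n * (((∑ i ∈ range n, σa ^ i) a).toMul : T).1 := by
    intro n
    induction n with
    | zero => simp
    | succ n ih =>
      have hsum : ∑ i ∈ range (n + 1), σa ^ i = σa * (∑ i ∈ range n, σa ^ i) + 1 := by
        rw [sum_range_succ', mul_sum, pow_zero]
        congr 1
        refine sum_congr rfl (fun i _ => ?_)
        rw [pow_succ']
      have hval : (((∑ i ∈ range (n + 1), σa ^ i) a).toMul : T).1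
          = s⁻¹ * (((∑ i ∈ range n, σa ^ i) a).toMul : T).1 * s * x := by
        rw [hsum]
        rfl
      rw [pow_succ, ih, hval, pow_succ]
      group
  have hNa : (∑ i ∈ range p, (1 + δ) ^ i) a = 0 := by
    rw [hσδ]
    have h1 := hpow p
    rw [h] at h1
    have h2 : (((∑ i ∈ range p, σa ^ i) a).toMul : T).1 = 1 := by
      have h1' : s ^ p * (((∑ i ∈ range p, σa ^ i) a).toMul : T).1 = s ^ p * 1 := by
        rw [mul_one]; exact h1.symm
      exact mul_left_cancel h1'
    have h3 : ((∑ i ∈ range p, σa ^ i) a).toMul = (1 : T) := Subtype.ext h2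
    have h4 : (∑ i ∈ range p, σa ^ i) a = Additive.ofMul (1 : T) := by
      rw [← h3]; rfl
    exact h4
  have hfinal : p • a = 0 := b_alg p hp δ hδzero a hNa
  have h5 : (p • a).toMul = (1 : T) := by rw [hfinal]; rfl
  have h6 : ((⟨x, hx⟩ : T) ^ p) = 1 := h5
  have := congrArg Subtype.val h6
  simpa using this

end Cfsg.Agent.Lib.Helper16.MC3806
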