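import Mathlib

/-! K-N3-C4c (S4004): norm trick 2, `N(<c>) <= <c>`. -/

set_option autoImplicit false

namespace Cfsg.Agent.Lib.Helper16.N3

open scoped IsMulCommutative
open Finset

section
variable {G : Type*} [Group G]

theorem mul_pow_eq (V : Subgroup G) [V.Normal] [IsMulCommutative V] (x : G) (v : V) (n : ℕ) :
    ((v : G) * x) ^ n = ((∏ i ∈ range n, MulAut.conjNormal (x ^ i) v : V) : G) * x ^ n := by
  induction n with
  | zero => simp
  | succ n ih =>
    rw [pow_succ, ih, Finset.prod_range_succ, Subgroup.coe_mul, MulAut.conjNormal_apply]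
    group

theorem no_comm (r r' : ℕ) (hr : r.Prime) (hr' : r'.Prime) (hrr : r ≠ r')
    (hord : ∀ g : G, orderOf g = 1 ∨ orderOf g = r ∨ orderOf g = r')
    (a b : G) (ha : orderOf a = r') (hb : orderOf b = r) (hcomm : Commute a b) : False := by
  have hcop : (orderOf a).Coprime (orderOf b) := by
    rw [ha, hb]; exact (Nat.coprime_primes hr' hr).2 (Ne.symm hrr)
  have h := hcomm.orderOf_mul_eq_mul_orderOf_of_coprime hcop
  rw [ha, hb] at h
  have h2 := hr.two_le
  have h2' := hr'.two_le
  rcases hord (a * b) with h1 | h1 | h1 <;> rw [h] at h1 <;> nlinarith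

theorem orderOf_of_mem (r r' : ℕ) (hr : r.Prime) (hr' : r'.Prime) (hrr : r ≠ r')
    (hord : ∀ g : G, orderOf g = 1 ∨ orderOf g = r ∨ orderOf g = r')
    (V : Subgroup G) (hVr : IsPGroup r V) (w : V) (hw : w ≠ 1) : orderOf (w : G) = r := by
  obtain ⟨k, hk⟩ := hVr w
  have hk' : (w : G) ^ r ^ k = 1 := by
    have := congrArg Subtype.val hk
    simpa using this
  rcases hord (w : G) with h | h | h
  · exact absurd (Subtype.ext (orderOf_eq_one_iff.1 h)) hw
  · exact h
  · exfalso
    have hd : r' ∣ r ^ k := h ▸ orderOf_dvd_of_pow_eq_one hk'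
    have := (Nat.prime_dvd_prime_iff_eq hr' hr).1 (hr'.dvd_of_dvd_pow hd)
    exact hrr this.symm

theorem norm_x_eq_one (r r' : ℕ) (hr : r.Prime) (hr' : r'.Prime) (hrr : r ≠ r')
    (hord : ∀ g : G, orderOf g = 1 ∨ orderOf g = r ∨ orderOf g = r')
    (V : Subgroup G) [V.Normal] [IsMulCommutative V] (hVr : IsPGroup r V)
    (x : G) (hx : orderOf x = r) (v : V) :
    ∏ i ∈ range r, MulAut.conjNormal (x ^ i) v = 1 := by
  set w : V := ∏ i ∈ range r, MulAut.conjNormal (x ^ i) v with hw
  have hxr : x ^ r = 1 := by rw [← hx]; exact pow_orderOf_eq_one x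
  have h1 : ((v : G) * x) ^ r = (w : G) := by
    rw [mul_pow_eq, hxr, mul_one]
  have h2 : (w : G) ^ r' = 1 := by
    rw [← h1, ← pow_mul]
    apply orderOf_dvd_iff_pow_eq_one.1
    rcases hord ((v : G) * x) with h | h | h <;> rw [h]
    · exact one_dvd _
    · exact dvd_mul_right _ _
    · exact dvd_mul_left _ _
  by_contra hne
  have h3 := orderOf_of_mem r r' hr hr' hrr hord V hVr w hne
  have h4 : r ∣ r' := h3 ▸ orderOf_dvd_of_pow_eq_one h2
  exact hrr ((Nat.prime_dvd_prime_iff_eq hr hr').1 h4)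

theorem norm_c_eq_one (r r' : ℕ) (hr : r.Prime) (hr' : r'.Prime) (hrr : r ≠ r')
    (hord : ∀ g : G, orderOf g = 1 ∨ orderOf g = r ∨ orderOf g = r')
    (V : Subgroup G) [V.Normal] [IsMulCommutative V] (hVr : IsPGroup r V)
    (c : G) (hc : orderOf c = r') [Fintype (Subgroup.zpowers c)] (v : V) :
    ∏ e : Subgroup.zpowers c, MulAut.conjNormal (e : G) v = 1 := by
  set w : V := ∏ e : Subgroup.zpowers c, MulAut.conjNormal (e : G) v with hw
  have hfix : MulAut.conjNormal c w = w := by
    rw [hw, map_prod]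
    have hstep : ∀ e : Subgroup.zpowers c,
        MulAut.conjNormal c (MulAut.conjNormal (e : G) v) =
          MulAut.conjNormal (((⟨c, Subgroup.mem_zpowers c⟩ : Subgroup.zpowers c) * e :
            Subgroup.zpowers c) : G) v := by
      intro e
      rw [Subgroup.coe_mul, map_mul]
      rfl
    simp_rw [hstep]
    exact Fintype.prod_equiv (Equiv.mulLeft (⟨c, Subgroup.mem_zpowers c⟩ : Subgroup.zpowers c))
      _ _ (fun e => rfl)
  have hcomm : Commute c (w : G) := by
    have h := congrArg Subtype.val hfix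
    rw [MulAut.conjNormal_apply] at h
    show c * (w : G) = (w : G) * c
    calc c * (w : G) = c * (w : G) * c⁻¹ * c := by group
      _ = (w : G) * c := by rw [h]
  by_contra hne
  have h3 := orderOf_of_mem r r' hr hr' hrr hord V hVr w hne
  exact no_comm r r' hr hr' hrr hord c (w : G) hc h3 hcomm

theorem conj_prod_eq_one (r r' : ℕ) (hr : r.Prime) (hr' : r'.Prime) (hrr : r ≠ r')
    (hord : ∀ g : G, orderOf g = 1 ∨ orderOf g = r ∨ orderOf g = r')
    (V : Subgroup G) [V.Normal] [IsMulCommutative V] (hVr : IsPGroup r V)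
    (c : G) (hc : orderOf c = r') [Fintype (Subgroup.zpowers c)]
    (y : G) (hyN : y ∈ Subgroup.normalizer ((Subgroup.zpowers c : Subgroup G) : Set G))
    (hy : orderOf y = r) (v : V) :
    ∏ e : Subgroup.zpowers c, MulAut.conjNormal ((e : G) * y * (e : G)⁻¹) v = 1 := by
  have hmem : ∀ e : Subgroup.zpowers c, (e : G) * y * (e : G)⁻¹ * y⁻¹ ∈ Subgroup.zpowers c := by
    intro e
    have h1 : y * (e : G)⁻¹ * y⁻¹ ∈ Subgroup.zpowers c := by
      have := (Subgroup.mem_set_normalizer_iff.1 hyN ((e : G)⁻¹)).1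
        (by simpa using (inv_mem e.2))
      simpa using this
    have h2 := mul_mem e.2 h1
    have : (e : G) * y * (e : G)⁻¹ * y⁻¹ = (e : G) * (y * (e : G)⁻¹ * y⁻¹) := by group
    rw [this]; exact h2
  let σ : Subgroup.zpowers c → Subgroup.zpowers c := fun e =>
    ⟨(e : G) * y * (e : G)⁻¹ * y⁻¹, hmem e⟩
  have hσ : Function.Injective σ := by
    intro e e' hee
    have h1 : (e : G) * y * (e : G)⁻¹ * y⁻¹ = (e' : G) * y * (e' : G)⁻¹ * y⁻¹ :=
      congrArg Subtype.val hee
    have h2 : (e : G) * y * (e : G)⁻¹ = (e' : G) * y * (e' : G)⁻¹ := mul_right_cancel h1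
    by_contra hne
    set d : G := (e' : G)⁻¹ * (e : G) with hd
    have hdmem : d ∈ Subgroup.zpowers c := mul_mem (inv_mem e'.2) e.2
    have hd1 : d ≠ 1 := by
      intro h
      apply hne
      apply Subtype.ext
      have : (e : G) = (e' : G) * d := by rw [hd]; group
      rw [this, h, mul_one]
    have hdo : orderOf d = r' := by
      have hdvd : orderOf d ∣ r' := hc ▸ orderOf_dvd_of_mem_zpowers hdmem
      rcases (Nat.dvd_prime hr').1 hdvd with h | h
      · exact absurd (orderOf_eq_one_iff.1 h) hd1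
      · exact h
    have hcomm : Commute d y := by
      show d * y = y * d
      have : d * y = (e' : G)⁻¹ * ((e : G) * y * (e : G)⁻¹) * (e : G) := by rw [hd]; group
      rw [this, h2, hd]; group
    exact no_comm r r' hr hr' hrr hord d y hdo hy hcomm
  have hbij : Function.Bijective σ := Finite.injective_iff_bijective.1 hσ
  have hN := norm_c_eq_one r r' hr hr' hrr hord V hVr c hc (MulAut.conjNormal y v)
  rw [← hN]
  refine Fintype.prod_bijective σ hbij _ _ (fun e => ?_)
  apply Subtype.ext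
  rw [MulAut.conjNormal_apply, MulAut.conjNormal_apply, MulAut.conjNormal_apply]
  show (e : G) * y * (e : G)⁻¹ * (v : G) * ((e : G) * y * (e : G)⁻¹)⁻¹ =
    ((e : G) * y * (e : G)⁻¹ * y⁻¹) * (y * (v : G) * y⁻¹) * ((e : G) * y * (e : G)⁻¹ * y⁻¹)⁻¹
  group

theorem all_pow_eq_one (r r' : ℕ) (hr : r.Prime) (hr' : r'.Prime) (hrr : r ≠ r')
    (hord : ∀ g : G, orderOf g = 1 ∨ orderOf g = r ∨ orderOf g = r')
    (V : Subgroup G) [V.Normal] [IsMulCommutative V] (hVr : IsPGroup r V)
    (c : G) (hc : orderOf c = r') [Fintype (Subgroup.zpowers c)]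
    (x : G) (hxN : x ∈ Subgroup.normalizer ((Subgroup.zpowers c : Subgroup G) : Set G))
    (hx : orderOf x = r) (v : V) : v ^ r' = 1 := by
  have h1 : ∏ e : Subgroup.zpowers c, ∏ i ∈ range r,
      MulAut.conjNormal ((e : G) * x ^ i * (e : G)⁻¹) v = 1 := by
    apply Finset.prod_eq_one
    intro e _
    have hN := norm_x_eq_one r r' hr hr' hrr hord V hVr x hx (MulAut.conjNormal ((e : G)⁻¹) v)
    calc ∏ i ∈ range r, MulAut.conjNormal ((e : G) * x ^ i * (e : G)⁻¹) v
        = ∏ i ∈ range r, MulAut.conjNormal (e : G)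
            (MulAut.conjNormal (x ^ i) (MulAut.conjNormal ((e : G)⁻¹) v)) := by
          refine Finset.prod_congr rfl (fun i _ => ?_)
          rw [map_mul, map_mul]; rfl
      _ = MulAut.conjNormal (e : G)
            (∏ i ∈ range r, MulAut.conjNormal (x ^ i) (MulAut.conjNormal ((e : G)⁻¹) v)) :=
          (map_prod _ _ _).symm
      _ = 1 := by rw [hN, map_one]
  rw [Finset.prod_comm] at h1
  obtain ⟨n, rfl⟩ : ∃ n, r = n + 1 := ⟨r - 1, by have := hr.one_lt; omega⟩
  rw [Finset.prod_range_succ'] at h1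
  have h2 : ∏ i ∈ range n, ∏ e : Subgroup.zpowers c,
      MulAut.conjNormal ((e : G) * x ^ (i + 1) * (e : G)⁻¹) v = 1 := by
    apply Finset.prod_eq_one
    intro i hi
    have hi' : i < n := Finset.mem_range.1 hi
    have hcop : (orderOf x).Coprime (i + 1) := by
      rw [hx]
      exact (Nat.Prime.coprime_iff_not_dvd hr).2
        (Nat.not_dvd_of_pos_of_lt (Nat.succ_pos i) (by omega))
    have hyo : orderOf (x ^ (i + 1)) = n + 1 := by rw [hcop.orderOf_pow, hx]
    exact conj_prod_eq_one (n + 1) r' hr hr' hrr hord V hVr c hc (x ^ (i + 1))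
      (pow_mem hxN _) hyo v
  have h3 : ∏ e : Subgroup.zpowers c,
      MulAut.conjNormal ((e : G) * x ^ 0 * (e : G)⁻¹) v = v ^ r' := by
    have : ∀ e : Subgroup.zpowers c,
        MulAut.conjNormal ((e : G) * x ^ 0 * (e : G)⁻¹) v = v := by
      intro e
      rw [pow_zero, mul_one, mul_inv_cancel, map_one]; rfl
    simp_rw [this]
    rw [Finset.prod_const, Finset.card_univ, ← Nat.card_eq_fintype_card, Nat.card_zpowers, hc]
  rw [h2, h3, one_mul] at h1
  exact h1

end

theorem normalizer_zpowers_le {G : Type*} [Group G] [Finite G] (r r' : ℕ) (hr : r.Prime) [Fact r'.Prime] (hrr : r ≠ r')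
    (hord : ∀ g : G, orderOf g = 1 ∨ orderOf g = r ∨ orderOf g = r')
    (V : Subgroup G) (hVn : V.Normal) (hV : V ≠ ⊥) (hVr : IsPGroup r V) (hVc : ∀ a ∈ V, ∀ b ∈ V, a * b = b * a)
    (hQ : ∀ Q : Sylow r' G, Nat.card Q = r') (c : G) (hc : orderOf c = r') :
    Subgroup.normalizer ((Subgroup.zpowers c : Subgroup G) : Set G) ≤ Subgroup.zpowers c := by
  classical
  intro x hxN
  by_contra hx
  haveI := hVn
  haveI : IsMulCommutative V := ⟨⟨fun a b => Subtype.ext (hVc a a.2 b b.2)⟩⟩
  haveI : Fintype (Subgroup.zpowers c) := Fintype.ofFinite _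
  have hr' : r'.Prime := Fact.out
  rcases hord x with h | h | h
  · exact hx (by rw [orderOf_eq_one_iff.1 h]; exact one_mem _)
  · apply hV
    rw [Subgroup.eq_bot_iff_forall]
    intro v hv
    have h1 := all_pow_eq_one r r' hr hr' hrr hord V hVr c hc x hxN h ⟨v, hv⟩
    by_contra hne
    have hne' : (⟨v, hv⟩ : V) ≠ 1 := fun hh => hne (congrArg Subtype.val hh)
    have h3 := orderOf_of_mem r r' hr hr' hrr hord V hVr ⟨v, hv⟩ hne'
    have h2 : v ^ r' = 1 := by
      have := congrArg Subtype.val h1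
      simpa using this
    have h4 : r ∣ r' := by
      have := orderOf_dvd_of_pow_eq_one h2
      rwa [show orderOf v = r from h3] at this
    exact hrr ((Nat.prime_dvd_prime_iff_eq hr hr').1 h4)
  · -- order r': Sylow argument
    have hPx : IsPGroup r' (Subgroup.zpowers x) := by
      apply IsPGroup.of_card (n := 1)
      rw [Nat.card_zpowers, h, pow_one]
    have hPc : IsPGroup r' (Subgroup.zpowers c) := by
      apply IsPGroup.of_card (n := 1)
      rw [Nat.card_zpowers, hc, pow_one]
    have hle : Subgroup.zpowers x ≤ Subgroup.normalizer (Subgroup.zpowers c : Subgroup G) := by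
      rw [Subgroup.zpowers_le]; exact hxN
    have hsup := IsPGroup.to_sup_of_normal_right' hPx hPc hle
    obtain ⟨Q, hQle⟩ := hsup.exists_le_sylow
    have hcQ : Subgroup.zpowers c ≤ (Q : Subgroup G) := le_trans le_sup_right hQle
    have heq : Subgroup.zpowers c = (Q : Subgroup G) := by
      apply Subgroup.eq_of_le_of_card_ge hcQ
      rw [Nat.card_zpowers, hc]
      exact le_of_eq (hQ Q)
    apply hx
    rw [heq]
    exact hQle (Subgroup.mem_sup_left (Subgroup.mem_zpowers x))

end Cfsg.Agent.Lib.Helper16.N3
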