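import Cfsg.Prelude.Def_Perm
import Mathlib.GroupTheory.GroupAction.MultipleTransitivity

set_option autoImplicit false

namespace Cfsg.Agent.Lib.Helper16

namespace NF

variable {F : Type*} [Cfsg.NearField F]

theorem zero_mul' (c : F) : (0 : F) * c = 0 := by
  have h := Cfsg.NearField.right_distrib (0 : F) 0 c
  rw [add_zero] at h
  have h2 : (0 : F) * c + 0 = 0 * c + 0 * c := by rw [add_zero]; exact h
  exact (add_left_cancel h2).symm

theorem neg_mul' (a c : F) : (-a) * c = -(a * c) := by
  have h := Cfsg.NearField.right_distrib a (-a) c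
  rw [add_neg_cancel, zero_mul'] at h
  exact (neg_eq_of_add_eq_zero_right h.symm).symm

theorem sub_mul' (a b c : F) : (a - b) * c = a * c - b * c := by
  rw [sub_eq_add_neg, Cfsg.NearField.right_distrib, neg_mul', ← sub_eq_add_neg]

theorem eq_zero_of_mul_eq_zero {a b : F} (hb : b ≠ 0) (h : a * b = 0) : a = 0 := by
  obtain ⟨b', hb1, _⟩ := Cfsg.NearField.exists_inv b hb
  have : a = a * b * b' := by rw [mul_assoc, hb1, mul_one]
  rw [this, h, zero_mul']

theorem mul_ne_zero' {a b : F} (ha : a ≠ 0) (hb : b ≠ 0) : a * b ≠ 0 :=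
  fun h => ha (eq_zero_of_mul_eq_zero hb h)

theorem mul_right_cancel' {a b c : F} (hc : c ≠ 0) (h : a * c = b * c) : a = b := by
  have h2 : (a - b) * c = 0 := by rw [sub_mul', h, sub_self]
  exact sub_eq_zero.mp (eq_zero_of_mul_eq_zero hc h2)

theorem inv_ne_zero' {a b : F} (h : a * b = 1) : b ≠ 0 := by
  intro hb
  rw [hb, Cfsg.NearField.mul_zero] at h
  exact Cfsg.NearField.zero_ne_one h

end NF

end Cfsg.Agent.Lib.Helper16
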