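import Mathlib
import Cfsg.Agent.Lib.Helper22.NseDefs

/-!
# K-NSE-C5a (keystone 343107): first consequences of `nse = {1,15,20,24}`
-/

set_option autoImplicit false

namespace Cfsg.Agent.Lib.Helper16.Nse

open Cfsg.Agent.Lib.Helper22.Nse

/-- values at `m ≥ 3` are even (or zero), hence in `{0,20,24}` -/
theorem c5a_val {N : ℕ} {S : ℕ → ℕ} (H : NseHyp N S {1, 15, 20, 24}) (m : ℕ) (hm : 3 ≤ m) :
    S m = 0 ∨ S m = 20 ∨ S m = 24 := by
  by_cases h0 : S m = 0
  · exact Or.inl h0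
  · right
    have hmem := H.mem m h0
    have hev : Even (Nat.totient m) := Nat.totient_even (by omega)
    have h2 : 2 ∣ S m := (even_iff_two_dvd.mp hev).trans (H.phi m)
    simp only [Finset.mem_insert, Finset.mem_singleton] at hmem
    rcases hmem with h | h | h | h
    · rw [h] at h2; omega
    · rw [h] at h2; omega
    · exact Or.inl h
    · exact Or.inr h

/-- for a prime `p ∣ N`: `S p ≠ 0`, `p ∣ 1 + S p`, `(p - 1) ∣ S p` -/
theorem c5a_prime {N : ℕ} {S : ℕ → ℕ} (H : NseHyp N S {1, 15, 20, 24}) (p : ℕ) (hp : p.Prime)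
    (hpN : p ∣ N) : S p ≠ 0 ∧ p ∣ 1 + S p ∧ (p - 1) ∣ S p := by
  refine ⟨H.cauchy p hp hpN, ?_, ?_⟩
  · have := H.frob p hpN
    rw [hp.sum_divisors, H.one, add_comm] at this
    exact this
  · have := H.phi p
    rwa [Nat.totient_prime hp] at this

theorem c5a_odd_prime {N : ℕ} {S : ℕ → ℕ} (H : NseHyp N S {1, 15, 20, 24}) (p : ℕ) (hp : p.Prime)
    (hpN : p ∣ N) (hp3 : 3 ≤ p) :
    (p = 3 ∧ S p = 20) ∨ (p = 5 ∧ S p = 24) := by
  obtain ⟨h0, hd, hphi⟩ := c5a_prime H p hp hpN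
  rcases c5a_val H p hp3 with h | h | h
  · exact absurd h h0
  · left
    rw [h] at hd hphi
    have h21 : p ∣ 3 * 7 := by norm_num; exact hd
    rcases (hp.dvd_mul).mp h21 with h3 | h7
    · exact ⟨(Nat.prime_dvd_prime_iff_eq hp Nat.prime_three).mp h3, h⟩
    · have : p = 7 := (Nat.prime_dvd_prime_iff_eq hp (by norm_num)).mp h7
      rw [this] at hphi
      omega
  · right
    rw [h] at hd
    have h25 : p ∣ 5 ^ 2 := by norm_num; exact hd
    have := (Nat.prime_dvd_prime_iff_eq hp (by norm_num)).mp (hp.dvd_of_dvd_pow h25)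
    exact ⟨this, h⟩

/-- C5a -/
theorem a5_basic {N : ℕ} {S : ℕ → ℕ} (H : NseHyp N S {1, 15, 20, 24}) : A5Basic N S := by
  refine ⟨?_, c5a_val H, ?_, ?_, ?_⟩
  · -- S 2 = 15
    obtain ⟨m, hm⟩ := H.attained 15 (by simp)
    have h0 : S m ≠ 0 := by rw [hm]; norm_num
    have hmN : m ∣ N := H.dvd m h0
    have hm0 : m ≠ 0 := by
      rintro rfl
      have := Nat.eq_zero_of_zero_dvd hmN
      have := H.pos
      omega
    have hm1 : m ≠ 1 := by
      rintro rfl
      rw [H.one] at hm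
      omega
    by_cases hm3 : 3 ≤ m
    · rcases c5a_val H m hm3 with h | h | h <;> omega
    · have : m = 2 := by omega
      rw [← this]; exact hm
  · intro h3
    rcases c5a_odd_prime H 3 Nat.prime_three h3 le_rfl with ⟨-, h⟩ | ⟨h, -⟩
    · exact h
    · omega
  · intro h5
    rcases c5a_odd_prime H 5 (by norm_num) h5 (by norm_num) with ⟨h, -⟩ | ⟨-, h⟩
    · omega
    · exact h
  · intro p hp hpN
    by_cases hp3 : 3 ≤ p
    · rcases c5a_odd_prime H p hp hpN hp3 with ⟨h, -⟩ | ⟨h, -⟩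
      · exact Or.inr (Or.inl h)
      · exact Or.inr (Or.inr h)
    · left
      have := hp.two_le
      omega

end Cfsg.Agent.Lib.Helper16.Nse
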