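import Cfsg.Agent.Lib.Helper16.OhG0
import Cfsg.Agent.Lib.Helper63.OhA

set_option autoImplicit false
set_option linter.unusedSimpArgs false
set_option linter.unusedSectionVars false
set_option linter.unusedVariables false
set_option linter.style.haveILetI false
set_option maxHeartbeats 800000

namespace Cfsg.Agent.Lib.Helper16.Oh

open Module Cfsg.Agent.Lib.Helper98.Sy Cfsg.Agent.Lib.Helper98.Ti Cfsg.Agent.Lib.Helper72.Nd
  Cfsg.Agent.Lib.Helper80.Oh Cfsg.Agent.Lib.Helper98.Oh

universe u
variable {F : Type u} [Field F] {V : Type u} [AddCommGroup V] [Module F V]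
variable {B : LinearMap.BilinForm F V}

theorem ep_quad (hS : ∀ u v, B u v = B v u) {u w : V} (h : EP B u w) (a b : F) :
    B (a • u + b • w) (a • u + b • w) = a * a * B u u + b * b * B w w := by
  have h1 : B w u = 0 := by rw [hS]; exact h.1
  simp only [map_add, map_smul, LinearMap.add_apply, LinearMap.smul_apply, smul_eq_mul, h.1, h1]
  ring

theorem ep_aniso {u w : V} (h : EP B u w) (a b : F) (hab : a * a * B u u + b * b * B w w = 0) :
    a = 0 ∧ b = 0 := by
  by_cases hb : b = 0
  · subst hb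
    simp only [mul_zero, zero_mul, add_zero] at hab
    rcases mul_eq_zero.mp hab with h1 | h1
    · exact ⟨by simpa using h1, rfl⟩
    · exact absurd h1 h.2.1
  · exfalso
    apply h.2.2 (a / b)
    field_simp
    linear_combination hab

theorem mem_span_pair_iff' (u w x : V) :
    x ∈ Submodule.span F (Set.range ![u, w]) ↔ ∃ a b : F, x = a • u + b • w := by
  rw [Submodule.mem_span_range_iff_exists_fun]
  constructor
  · rintro ⟨c, rfl⟩
    exact ⟨c 0, c 1, by simp [Fin.sum_univ_two]⟩
  · rintro ⟨a, b, rfl⟩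
    exact ⟨![a, b], by simp [Fin.sum_univ_two]⟩

/-- the plane spanned by an elliptic pair -/
theorem ep_plane_props [FiniteDimensional F V] (hS : ∀ u v, B u v = B v u) {u w : V}
    (h : EP B u w) :
    finrank F (Submodule.span F (Set.range ![u, w])) = 2 ∧
      NonDeg B (Submodule.span F (Set.range ![u, w])) ∧
      ¬ Plus B (Submodule.span F (Set.range ![u, w])) := by
  have hww : B w w ≠ 0 := by
    have := h.2.2 0
    simpa using this
  have hwu : B w u = 0 := by rw [hS]; exact h.1
  have hdim : finrank F (Submodule.span F (Set.range ![u, w])) = 2 := by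
    rw [finrank_span_eq_card, Fintype.card_fin]
    rw [LinearIndependent.pair_iff]
    intro a b hab
    apply ep_aniso h a b
    rw [← ep_quad hS h, hab]
    simp
  refine ⟨hdim, ?_, ?_⟩
  · intro x hx hx0
    obtain ⟨a, b, rfl⟩ := (mem_span_pair_iff' u w _).mp hx
    have hu : u ∈ Submodule.span F (Set.range ![u, w]) :=
      (mem_span_pair_iff' u w _).mpr ⟨1, 0, by simp⟩
    have hw : w ∈ Submodule.span F (Set.range ![u, w]) :=
      (mem_span_pair_iff' u w _).mpr ⟨0, 1, by simp⟩
    have h1 := hx0 u hu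
    have h3 := hx0 w hw
    simp only [map_add, map_smul, LinearMap.add_apply, LinearMap.smul_apply, smul_eq_mul, h.1, hwu,
      mul_zero, add_zero, zero_add] at h1 h3
    have ha : a = 0 := by
      rcases mul_eq_zero.mp h1 with h4 | h4
      · exact h4
      · exact absurd h4 h.2.1
    have hb : b = 0 := by
      rcases mul_eq_zero.mp h3 with h4 | h4
      · exact h4
      · exact absurd h4 hww
    simp [ha, hb]
  · rintro ⟨X, hXW, hX0, hXd⟩
    rw [hdim] at hXd
    have hX1 : finrank F X = 1 := by omega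
    have hXne : X ≠ ⊥ := by
      intro hbot
      rw [hbot, finrank_bot] at hX1
      omega
    obtain ⟨x, hx, hx0⟩ := Submodule.exists_mem_ne_zero_of_ne_bot hXne
    obtain ⟨a, b, rfl⟩ := (mem_span_pair_iff' u w _).mp (hXW hx)
    have h1 := hX0 _ hx
    rw [ep_quad hS h] at h1
    obtain ⟨ha, hb⟩ := ep_aniso h a b h1
    apply hx0
    simp [ha, hb]

theorem spanHF_eq_sup {k : ℕ} (s : Fin (k + 1) → V × V) :
    spanHF F s = spanHF F (Fin.tail s) ⊔ Submodule.span F (Set.range ![(s 0).1, (s 0).2]) := by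
  apply le_antisymm
  · apply Submodule.span_le.mpr
    rintro _ ⟨i, rfl⟩
    rcases i with a | a
    · cases a using Fin.cases with
      | zero =>
        exact Submodule.mem_sup_right ((mem_span_pair_iff' _ _ _).mpr ⟨1, 0, by simp [flat]⟩)
      | succ a =>
        exact Submodule.mem_sup_left (mem_spanHF (Fin.tail s) a).1
    · cases a using Fin.cases with
      | zero =>
        exact Submodule.mem_sup_right ((mem_span_pair_iff' _ _ _).mpr ⟨0, 1, by simp [flat]⟩)
      | succ a =>
        exact Submodule.mem_sup_left (mem_spanHF (Fin.tail s) a).2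
  · apply sup_le
    · exact spanHF_le (Fin.tail s) (spanHF F s) (fun a => mem_spanHF s a.succ)
    · apply Submodule.span_le.mpr
      rintro _ ⟨i, rfl⟩
      fin_cases i
      · exact (mem_spanHF s 0).1
      · exact (mem_spanHF s 0).2

/-- the span of an elliptic frame: dimension, nondegeneracy, type -/
theorem span_eframe_abs [Fintype F] [FiniteDimensional F V] (h2 : (2 : F) ≠ 0)
    (hS : ∀ u v, B u v = B v u) {k : ℕ} (s : Fin (k + 1) → V × V) (hs : IsEF B s) :
    finrank F (spanHF F s) = 2 * (k + 1) ∧ NonDeg B (spanHF F s) ∧ ¬ Plus B (spanHF F s) := by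
  have hR := Cfsg.Agent.Lib.Helper98.Os.isRefl_of_symm hS
  obtain ⟨h1, hep, ho1, ho2⟩ := hs
  obtain ⟨hd2, hn2, hp2⟩ := ep_plane_props hS hep
  have hn1 := nonDeg_spanSF hS (Fin.tail s) h1
  have hd1 := finrank_spanSF hS (Fin.tail s) h1
  have hort : Ort B (spanHF F (Fin.tail s)) (Submodule.span F (Set.range ![(s 0).1, (s 0).2])) := by
    intro x hx y hy
    obtain ⟨a, b, rfl⟩ := (mem_span_pair_iff' _ _ _).mp hy
    have e1 := LinearMap.BilinForm.mem_orthogonal_iff.mp ho1 x hx
    have e2 := LinearMap.BilinForm.mem_orthogonal_iff.mp ho2 x hx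
    simp only [map_add, map_smul, smul_eq_mul, e1, e2, mul_zero, add_zero]
  have hp1 : Plus B (spanHF F (Fin.tail s)) := by
    obtain ⟨g1, g2, g3⟩ := half_frame hS (Fin.tail s) h1
    exact ⟨_, g1, g2, by rw [g3, hd1]⟩
  rw [spanHF_eq_sup]
  refine ⟨?_, (Cfsg.Agent.Lib.Helper98.Os.nonDeg_sup hR _ _ hn1 hn2 hort).1, ?_⟩
  · rw [Cfsg.Agent.Lib.Helper98.Os.finrank_sup_of_ort hR _ _ hn1 hn2 hort, hd1, hd2]
    ring
  · rw [Cfsg.Agent.Lib.Helper63.Oh.plus_sup_iff h2 B hS _ _ hn1 hn2 hort
      (by rw [hd1]; exact even_two_mul k) (by rw [hd2]; exact even_two)]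
    intro hiff
    exact hp2 (hiff.mp hp1)

end Cfsg.Agent.Lib.Helper16.Oh
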