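/-
K-Oh-G (keystone 599208, architect helper98, pack S5992/S5993): definitions for the count of elliptic
`2e`-subspaces of `quadFormOdd d`: elliptic pairs and elliptic frames.
-/
import Cfsg.Agent.Lib.Helper80.OhE

set_option autoImplicit false

namespace Cfsg.Agent.Lib.Helper16.Oh

open Module Cfsg.Agent.Lib.Helper98.Sy Cfsg.Agent.Lib.Helper98.Ti Cfsg.Agent.Lib.Helper72.Nd
  Cfsg.Agent.Lib.Helper80.Oh

universe u
variable {F : Type u} [Field F] {V : Type u} [AddCommGroup V] [Module F V]

/-- an elliptic pair for a symmetric form: two orthogonal vectors spanning an anisotropic plane -/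
def EP (B : LinearMap.BilinForm F V) (u w : V) : Prop :=
  B u w = 0 ∧ B u u ≠ 0 ∧ ∀ t : F, B w w + t * t * B u u ≠ 0

/-- an elliptic frame: a singular hyperbolic `k`-frame (the tail) and an elliptic pair (the head)
orthogonal to it -/
def IsEF (B : LinearMap.BilinForm F V) {k : ℕ} (s : Fin (k + 1) → V × V) : Prop :=
  IsSF B (Fin.tail s) ∧ EP B (s 0).1 (s 0).2 ∧
    (s 0).1 ∈ B.orthogonal (spanHF F (Fin.tail s)) ∧ (s 0).2 ∈ B.orthogonal (spanHF F (Fin.tail s))

end Cfsg.Agent.Lib.Helper16.Oh
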