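import Cfsg.Agent.Lib.Helper16.OhG2
import Cfsg.Agent.Lib.Helper80.OhG4

set_option autoImplicit false
set_option linter.unusedSimpArgs false
set_option linter.unusedSectionVars false
set_option linter.unusedVariables false
set_option linter.style.haveILetI false
set_option maxHeartbeats 800000

namespace Cfsg.Agent.Lib.Helper16.Oh

open Module Cfsg.Agent.Lib.Helper98.Sy Cfsg.Agent.Lib.Helper98.Ti Cfsg.Agent.Lib.Helper72.Nd
  Cfsg.Agent.Lib.Helper80.Oh

universe u
variable {F : Type u} [Field F]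

/-- the assembly of K-Oh-G, relative to the properties of the span of an elliptic frame -/
theorem exists_of_dvd_card_ell_aux [Fintype F] (h2 : (2 : F) ≠ 0) (d k : ℕ) (hkd : k + 1 ≤ d)
    (hspan : ∀ s : Fin (k + 1) → (Unit ⊕ (Fin d ⊕ Fin d) → F) × (Unit ⊕ (Fin d ⊕ Fin d) → F),
      IsEF (QuadraticMap.polarBilin (Cfsg.Agent.Lib.Helper50.QOdd d F)) s →
      finrank F (spanHF F s) = 2 * (k + 1) ∧
      Cfsg.Geo.IsNondegenerateOn (QuadraticMap.polar (Cfsg.quadFormOdd d F)) (spanHF F s) ∧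
      ¬ Cfsg.Geo.IsPlusTypeOn (Cfsg.quadFormOdd d F) (spanHF F s))
    (r : ℕ) [Fact r.Prime] (hrF : (r : F) ≠ 0)
    (hr : r ∣ Nat.card {W : Submodule F (Unit ⊕ (Fin d ⊕ Fin d) → F) //
      Module.finrank F ↥W = 2 * (k + 1) ∧
      Cfsg.Geo.IsNondegenerateOn (QuadraticMap.polar (Cfsg.quadFormOdd d F)) W ∧
      ¬ Cfsg.Geo.IsPlusTypeOn (Cfsg.quadFormOdd d F) W}) :
    ∃ j : ℕ, d - (k + 1) < j ∧ j ≤ d ∧ r ∣ Fintype.card F ^ (2 * j) - 1 := by
  classical
  have hrp : r.Prime := Fact.out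
  obtain ⟨c, hc⟩ := exists_card_eframes_in d h2 k
  have h1 := card_eframes_eq_mul (B := QuadraticMap.polarBilin (Cfsg.Agent.Lib.Helper50.QOdd d F)) k
    (fun s hs => (hspan s hs).1)
    (fun W => Cfsg.Geo.IsNondegenerateOn (QuadraticMap.polar (Cfsg.quadFormOdd d F)) W ∧
      ¬ Cfsg.Geo.IsPlusTypeOn (Cfsg.quadFormOdd d F) W) c
    (fun s hs => (hspan s hs).2)
    (fun W hW hP => hc W hW hP.1 hP.2)
  have h3 := card_eframes (Cfsg.Agent.Lib.Helper50.QOdd d F) h2 (nonDeg_top_QOdd d h2) d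
    (finrank_top_odd d) k (by omega)
  rw [h1] at h3
  have h4 : r ∣ (∏ j ∈ Finset.range k, ((Fintype.card F ^ (2 * (d - j)) - 1) *
        Fintype.card F ^ (2 * (d - j) - 1))) *
      ((Fintype.card F ^ (2 * (d - k)) - 1) * Fintype.card F ^ (2 * (d - k) - 1) *
        ((Fintype.card F - 1) * (Fintype.card F - 1))) := by
    rw [← h3]
    exact Dvd.dvd.mul_left (Dvd.dvd.mul_right hr _) _
  have hnq : ∀ m : ℕ, ¬ r ∣ Fintype.card F ^ m := fun m h =>
    absurd (hrp.dvd_of_dvd_pow h) (not_dvd_card_of_ne_zero r hrF)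
  rcases (Nat.Prime.dvd_mul hrp).1 h4 with h | h
  · obtain ⟨j, hj, hjr⟩ := (Prime.dvd_finsetProd_iff (Nat.Prime.prime hrp) _).1 h
    rw [Finset.mem_range] at hj
    rcases (Nat.Prime.dvd_mul hrp).1 hjr with h | h
    · exact ⟨d - j, by omega, by omega, h⟩
    · exact absurd h (hnq _)
  · rcases (Nat.Prime.dvd_mul hrp).1 h with h | h
    · rcases (Nat.Prime.dvd_mul hrp).1 h with h | h
      · exact ⟨d - k, by omega, by omega, h⟩
      · exact absurd h (hnq _)
    · have h5 : r ∣ Fintype.card F - 1 := by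
        rcases (Nat.Prime.dvd_mul hrp).1 h with h | h <;> exact h
      refine ⟨d, by omega, le_rfl, dvd_trans h5 ?_⟩
      exact Nat.sub_one_dvd_pow_sub_one _ _

end Cfsg.Agent.Lib.Helper16.Oh
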