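/-
K-Oh-G (keystone 599208, architect helper98, pack S5992/S5993): a prime `r ≠ char` dividing the number of
elliptic `2e`-subspaces of the odd-dimensional standard quadratic space `quadFormOdd d` divides some
`q^(2j) - 1`, `d - e < j ≤ d`.  Route: elliptic frames = singular hyperbolic `(e-1)`-frame + an orthogonal
anisotropic pair in its complement (OhG0); the pairs are counted by a direct double count against the
singular vectors (OhG1); frames in `V` (OhG2); the span of a frame (OhG3); constant fibres (helper80, OhG4).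
-/
import Cfsg.Agent.Lib.Helper16.OhGa
import Cfsg.Agent.Lib.Helper16.OhG3

set_option autoImplicit false
set_option linter.unusedSimpArgs false
set_option linter.unusedSectionVars false
set_option linter.unusedVariables false
set_option linter.style.haveILetI false
set_option maxHeartbeats 800000

namespace Cfsg.Agent.Lib.Helper16.Oh

open Module Cfsg.Agent.Lib.Helper98.Sy Cfsg.Agent.Lib.Helper98.Ti Cfsg.Agent.Lib.Helper72.Nd
  Cfsg.Agent.Lib.Helper80.Oh Cfsg.Agent.Lib.Helper98.Oh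

universe u
variable {F : Type u} [Field F]

/-- the span of an elliptic frame of `quadFormOdd d` -/
theorem span_eframe_props [Fintype F] (d : ℕ) (h2 : (2 : F) ≠ 0) {k : ℕ}
    (s : Fin (k + 1) → (Unit ⊕ (Fin d ⊕ Fin d) → F) × (Unit ⊕ (Fin d ⊕ Fin d) → F))
    (hs : IsEF (QuadraticMap.polarBilin (Cfsg.Agent.Lib.Helper50.QOdd d F)) s) :
    finrank F (spanHF F s) = 2 * (k + 1) ∧
      Cfsg.Geo.IsNondegenerateOn (QuadraticMap.polar (Cfsg.quadFormOdd d F)) (spanHF F s) ∧
      ¬ Cfsg.Geo.IsPlusTypeOn (Cfsg.quadFormOdd d F) (spanHF F s) := by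
  obtain ⟨hd, hND, hnp⟩ := span_eframe_abs h2 (pB_symm (Cfsg.Agent.Lib.Helper50.QOdd d F)) s hs
  refine ⟨hd, ?_, ?_⟩
  · intro w hw hw0
    have h1 : ∃ x ∈ spanHF F s,
        QuadraticMap.polarBilin (Cfsg.Agent.Lib.Helper50.QOdd d F) w x ≠ 0 := by
      by_contra hcon
      push Not at hcon
      exact hw0 (hND w hw hcon)
    obtain ⟨x, hx, hx0⟩ := h1
    rw [pB_QOdd] at hx0
    refine ⟨⟨x, hx, ?_⟩, ⟨x, hx, hx0⟩⟩
    rw [QuadraticMap.polar_comm]
    exact hx0
  · rintro ⟨U, hUW, hU0, hUd⟩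
    apply hnp
    exact ⟨U, hUW, fun u hu => (pB_self (Cfsg.Agent.Lib.Helper50.QOdd d F) h2 u).2 (hU0 u hu), hUd⟩

/-- **K-Oh-G.** A prime `r ≠ char` dividing the number of nondegenerate non-plus-type (elliptic)
`2e`-subspaces of the odd-dimensional standard quadratic space divides some `q^(2j) - 1` with
`d - e < j ≤ d`. -/
theorem exists_of_dvd_card_ell [Fintype F] (h2 : (2 : F) ≠ 0) (d e : ℕ) (he : 1 ≤ e) (hed : e ≤ d)
    (r : ℕ) [Fact r.Prime] (hrF : (r : F) ≠ 0)
    (hr : r ∣ Nat.card {W : Submodule F (Unit ⊕ (Fin d ⊕ Fin d) → F) //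
      Module.finrank F ↥W = 2 * e ∧
      Cfsg.Geo.IsNondegenerateOn (QuadraticMap.polar (Cfsg.quadFormOdd d F)) W ∧
      ¬ Cfsg.Geo.IsPlusTypeOn (Cfsg.quadFormOdd d F) W}) :
    ∃ j : ℕ, d - e < j ∧ j ≤ d ∧ r ∣ Fintype.card F ^ (2 * j) - 1 := by
  obtain ⟨k, rfl⟩ : ∃ k, e = k + 1 := ⟨e - 1, by omega⟩
  exact exists_of_dvd_card_ell_aux h2 d k hed (fun s hs => span_eframe_props d h2 s hs) r hrF hr

end Cfsg.Agent.Lib.Helper16.Oh
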