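import Cfsg.Agent.Lib.Helper16.OhG0

set_option autoImplicit false
set_option linter.unusedSimpArgs false
set_option linter.unusedSectionVars false
set_option linter.unusedVariables false
set_option linter.style.haveILetI false
set_option maxHeartbeats 800000

namespace Cfsg.Agent.Lib.Helper16.Oh

open Module Cfsg.Agent.Lib.Helper98.Sy Cfsg.Agent.Lib.Helper98.Ti Cfsg.Agent.Lib.Helper72.Nd
  Cfsg.Agent.Lib.Helper80.Oh

universe u
variable {F : Type u} [Field F] {V : Type u} [AddCommGroup V] [Module F V]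
variable {B : LinearMap.BilinForm F V}

/-! ### generic counting -/

theorem card_subtype_prod_eq_sum {α β : Type*} [Finite α] [Finite β] (P : α → Prop)
    (R : α → β → Prop) [Fintype {a // P a}] :
    Nat.card {p : α × β // P p.1 ∧ R p.1 p.2} = ∑ a : {a // P a}, Nat.card {b : β // R a.1 b} := by
  rw [← Nat.card_sigma]
  apply Nat.card_congr
  exact
    { toFun := fun p => ⟨⟨p.1.1, p.2.1⟩, ⟨p.1.2, p.2.2⟩⟩
      invFun := fun s => ⟨(s.1.1, s.2.1), s.1.2, s.2.2⟩
      left_inv := fun p => rfl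
      right_inv := fun s => rfl }

theorem card_eq_sum_fiber {α β : Type*} [Finite α] [Fintype β] (g : α → β) :
    Nat.card α = ∑ b, Nat.card {a // g a = b} := by
  rw [← Nat.card_sigma]
  exact Nat.card_congr (Equiv.sigmaFiberEquiv g).symm

theorem card_subtype_eq_sum_ite {α : Type*} [Fintype α] (P : α → Prop) [DecidablePred P] :
    Nat.card {a // P a} = ∑ a, if P a then 1 else 0 := by
  rw [Nat.card_eq_fintype_card, Fintype.card_subtype, Finset.card_filter]

/-- the number of square roots -/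
theorem card_sqrt_add [DecidableEq F] (h2 : (2 : F) ≠ 0) (c : F) [Decidable (∀ t : F, t * t ≠ c)] :
    Nat.card {t : F // t * t = c} + 2 * (if ∀ t : F, t * t ≠ c then 1 else 0) +
      (if c = 0 then 1 else 0) = 2 := by
  by_cases hc : c = 0
  · subst hc
    haveI : Unique {t : F // t * t = 0} :=
      { default := ⟨0, by simp⟩
        uniq := fun t => Subtype.ext (by simpa using t.2) }
    rw [Nat.card_unique, if_neg (by push Not; exact ⟨0, by simp⟩), if_pos rfl]
  · by_cases hs : ∃ s : F, s * s = c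
    · obtain ⟨s, rfl⟩ := hs
      have hs0 : s ≠ 0 := fun h => hc (by rw [h, mul_zero])
      have h2card : Nat.card {t : F // t * t = s * s} = 2 := by
        rw [Nat.card_eq_two_iff]
        refine ⟨⟨s, rfl⟩, ⟨-s, by ring⟩, ?_, ?_⟩
        · intro h
          have h' : s = -s := congrArg Subtype.val h
          have h3 : (2 : F) * s = 0 := by linear_combination h'
          rcases mul_eq_zero.mp h3 with h4 | h4
          · exact h2 h4
          · exact hs0 h4
        · ext t
          simp only [Set.mem_insert_iff, Set.mem_singleton_iff, Set.mem_univ, iff_true]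
          have h3 : (t.1 - s) * (t.1 + s) = 0 := by linear_combination t.2
          rcases mul_eq_zero.mp h3 with h4 | h4
          · left; exact Subtype.ext (by linear_combination h4)
          · right; exact Subtype.ext (by linear_combination h4)
      rw [h2card, if_neg (by push Not; exact ⟨s, rfl⟩), if_neg hc]
    · push Not at hs
      haveI : IsEmpty {t : F // t * t = c} := ⟨fun t => hs t.1 t.2⟩
      rw [Nat.card_of_isEmpty, if_pos hs, if_neg hc]

section Count

variable [Fintype F] [FiniteDimensional F V]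

/-- the number of singular vectors (zero included) of a nondegenerate odd-dimensional subspace -/
theorem card_zeros_odd (Q : QuadraticForm F V) (h2 : (2 : F) ≠ 0) (U : Submodule F V)
    (hU : NonDeg (QuadraticMap.polarBilin Q) U) (D : ℕ) (hD : finrank F U = 2 * D + 1) :
    Nat.card {z : V // z ∈ U ∧ QuadraticMap.polarBilin Q z z = 0} = Fintype.card F ^ (2 * D) := by
  classical
  haveI : Finite V := Module.finite_of_finite F
  have h := card_sing_vectors Q h2 U hU D hD
  have h1 : Nat.card {x : V // x ∈ U ∧ x ≠ 0 ∧ QuadraticMap.polarBilin Q x x = 0} =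
      Nat.card ↥(({z : V | z ∈ U ∧ QuadraticMap.polarBilin Q z z = 0} : Set V) \ {0}) := by
    apply Nat.card_congr
    apply Equiv.subtypeEquivRight
    intro x
    simp only [Set.mem_sdiff, Set.mem_ofPred_eq, Set.mem_singleton_iff]
    tauto
  have h0 : (0 : V) ∈ ({z : V | z ∈ U ∧ QuadraticMap.polarBilin Q z z = 0} : Set V) := by
    simp
  have h3 := Set.ncard_sdiff_singleton_add_one h0 (Set.toFinite _)
  have hq : 1 ≤ Fintype.card F ^ (2 * D) := Nat.one_le_pow _ _ Fintype.card_pos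
  rw [h1, Nat.card_coe_set_eq] at h
  change Nat.card ↥({z : V | z ∈ U ∧ QuadraticMap.polarBilin Q z z = 0} : Set V) = _
  rw [Nat.card_coe_set_eq]
  omega

/-- the hyperplane of a nondegenerate subspace orthogonal to a nonzero vector -/
theorem card_orth_fiber (O : Submodule F V) (hO : NonDeg B O) (x : V) (hx : x ∈ O) (hx0 : x ≠ 0) :
    Nat.card {y : V // y ∈ O ∧ B x y = 0} = Fintype.card F ^ (finrank F O - 1) := by
  classical
  haveI : Finite V := Module.finite_of_finite F
  have h1 := card_pair_fiber O hO x hx hx0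
  have hpos : 0 < Nat.card {y : V // B x y = 1 ∧ y ∈ O} := by
    rw [h1]; exact Nat.pow_pos Fintype.card_pos
  obtain ⟨⟨y0, hy1, hy0⟩⟩ := (Nat.card_pos_iff.mp hpos).1
  rw [← h1]
  apply Nat.card_congr
  exact
    { toFun := fun y => ⟨y.1 + y0, by rw [map_add, y.2.2, hy1, zero_add], O.add_mem y.2.1 hy0⟩
      invFun := fun y => ⟨y.1 - y0, O.sub_mem y.2.2 hy0, by rw [map_sub, y.2.1, hy1, sub_self]⟩
      left_inv := fun y => Subtype.ext (by simp)
      right_inv := fun y => Subtype.ext (by simp) }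

/-- elliptic partners of a nonsingular vector: the fibre identity -/
theorem ep_fiber (hS : ∀ u v, B u v = B v u) (h2 : (2 : F) ≠ 0) (U : Submodule F V) (N : ℕ)
    (hZ : Nat.card {z : V // z ∈ U ∧ B z z = 0} = N) (u : V) (hu : u ∈ U) (huu : B u u ≠ 0)
    (hE : Nat.card {w : V // w ∈ U ∧ B u w = 0} = N) :
    2 * Nat.card {w : V // w ∈ U ∧ EP B u w} +
      Nat.card {x : V // x ∈ U ∧ B u x = 0 ∧ B x x = 0} = N := by
  classical
  haveI : Finite V := Module.finite_of_finite F
  haveI : Fintype {w : V // w ∈ U ∧ B u w = 0} := Fintype.ofFinite _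
  -- zeros of `U` as pairs
  have hΦ : Nat.card {z : V // z ∈ U ∧ B z z = 0} =
      Nat.card {p : V × F // (p.1 ∈ U ∧ B u p.1 = 0) ∧ p.2 * p.2 = -(B p.1 p.1) / B u u} := by
    apply Nat.card_congr
    refine
      { toFun := fun z => ⟨(z.1 - (B u z.1 / B u u) • u, B u z.1 / B u u),
          ⟨U.sub_mem z.2.1 (U.smul_mem _ hu), ?_⟩, ?_⟩
        invFun := fun p => ⟨p.1.1 + p.1.2 • u, U.add_mem p.2.1.1 (U.smul_mem _ hu), ?_⟩
        left_inv := ?_
        right_inv := ?_ }
    · simp only [map_sub, map_smul, smul_eq_mul]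
      field_simp
      ring
    · have hz := z.2.2
      have hzu : B z.1 u = B u z.1 := hS _ _
      simp only [map_sub, map_smul, smul_eq_mul, LinearMap.sub_apply, LinearMap.smul_apply, hzu, hz]
      field_simp
      ring
    · have hp := p.2.2
      have hpu : B p.1.1 u = 0 := by rw [hS]; exact p.2.1.2
      simp only [map_add, map_smul, smul_eq_mul, LinearMap.add_apply, LinearMap.smul_apply, hpu,
        p.2.1.2]
      have : p.1.2 * p.1.2 * B u u = -(B p.1.1 p.1.1) := by
        rw [hp]; field_simp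
      linear_combination this
    · intro z
      apply Subtype.ext
      simp
    · rintro ⟨⟨w, t⟩, ⟨hw1, hw2⟩, ht⟩
      apply Subtype.ext
      have h1 : B u (w + t • u) / B u u = t := by
        rw [map_add, map_smul, hw2, smul_eq_mul, zero_add]
        field_simp
      apply Prod.ext
      · simp only [h1]
        simp
      · simp only [h1]
  have h1 : N = ∑ w : {w : V // w ∈ U ∧ B u w = 0},
      Nat.card {t : F // t * t = -(B w.1 w.1) / B u u} := by
    rw [← hZ, hΦ]
    exact card_subtype_prod_eq_sum (fun w : V => w ∈ U ∧ B u w = 0)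
      (fun (w : V) (t : F) => t * t = -(B w w) / B u u)
  have h2' : Nat.card {w : V // w ∈ U ∧ EP B u w} =
      ∑ w : {w : V // w ∈ U ∧ B u w = 0},
        if (∀ t : F, t * t ≠ -(B w.1 w.1) / B u u) then 1 else 0 := by
    rw [← card_subtype_eq_sum_ite]
    apply Nat.card_congr
    refine
      { toFun := fun w => ⟨⟨w.1, w.2.1, w.2.2.1⟩, fun t ht => w.2.2.2.2 t ?_⟩
        invFun := fun w => ⟨w.1.1, w.1.2.1, w.1.2.2, huu, fun t ht => w.2 t ?_⟩
        left_inv := fun w => rfl
        right_inv := fun w => rfl }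
    · rw [ht]; field_simp; ring
    · field_simp
      linear_combination ht
  have h3 : Nat.card {x : V // x ∈ U ∧ B u x = 0 ∧ B x x = 0} =
      ∑ w : {w : V // w ∈ U ∧ B u w = 0}, if -(B w.1 w.1) / B u u = 0 then 1 else 0 := by
    rw [← card_subtype_eq_sum_ite]
    apply Nat.card_congr
    refine
      { toFun := fun x => ⟨⟨x.1, x.2.1, x.2.2.1⟩, by simp [x.2.2.2]⟩
        invFun := fun w => ⟨w.1.1, w.1.2.1, w.1.2.2, ?_⟩
        left_inv := fun w => rfl
        right_inv := fun w => rfl }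
    have := w.2
    rw [div_eq_zero_iff] at this
    rcases this with h | h
    · exact neg_eq_zero.mp h
    · exact absurd h huu
  have h4 : ∑ w : {w : V // w ∈ U ∧ B u w = 0},
      (Nat.card {t : F // t * t = -(B w.1 w.1) / B u u} +
        2 * (if (∀ t : F, t * t ≠ -(B w.1 w.1) / B u u) then 1 else 0) +
        (if -(B w.1 w.1) / B u u = 0 then 1 else 0)) =
      ∑ w : {w : V // w ∈ U ∧ B u w = 0}, 2 :=
    Finset.sum_congr rfl (fun w _ => card_sqrt_add h2 _)
  rw [Finset.sum_add_distrib, Finset.sum_add_distrib, ← Finset.mul_sum, ← h1, ← h2', ← h3,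
    Finset.sum_const, Finset.card_univ, ← Nat.card_eq_fintype_card, hE, smul_eq_mul] at h4
  omega

theorem card_split {α : Type*} [Finite α] (P R : α → Prop) :
    Nat.card {a // P a} = Nat.card {a // P a ∧ R a} + Nat.card {a // P a ∧ ¬ R a} := by
  classical
  haveI : Fintype α := Fintype.ofFinite α
  rw [Nat.card_eq_fintype_card, Nat.card_eq_fintype_card, Nat.card_eq_fintype_card,
    Fintype.card_subtype, Fintype.card_subtype, Fintype.card_subtype,
    ← Finset.filter_filter, ← Finset.filter_filter,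
    Finset.card_filter_add_card_filter_not]

/-- singular vectors orthogonal to a nonzero singular vector -/
theorem card_sing_orth (hS : ∀ u v, B u v = B v u) (h2 : (2 : F) ≠ 0) (O : Submodule F V)
    (hO : NonDeg B O) (N : ℕ) (hZ : Nat.card {z : V // z ∈ O ∧ B z z = 0} = N)
    (hN : N = Fintype.card F ^ (finrank F O - 1))
    (x : V) (hx : x ∈ O) (hx0 : x ≠ 0) (hxx : B x x = 0) :
    Nat.card {z : V // z ∈ O ∧ B x z = 0 ∧ B z z = 0} * Fintype.card F = N := by
  classical
  haveI : Finite V := Module.finite_of_finite F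
  have hK := card_sing_fiber hS h2 O hO x hx hx0 hxx
  rw [← hN] at hK
  have h1 := card_eq_sum_fiber (fun z : {z : V // z ∈ O ∧ B z z = 0} => B x z.1)
  rw [hZ] at h1
  have hb : ∀ b : F, b ≠ 0 →
      Nat.card {a : {z : V // z ∈ O ∧ B z z = 0} // B x a.1 = b} =
        Nat.card {y : V // B x y = 1 ∧ y ∈ O ∧ B y y = 0} := by
    intro b hb
    apply Nat.card_congr
    refine
      { toFun := fun a => ⟨b⁻¹ • a.1.1, ?_, O.smul_mem _ a.1.2.1, ?_⟩
        invFun := fun y => ⟨⟨b • y.1, O.smul_mem _ y.2.2.1, ?_⟩, ?_⟩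
        left_inv := ?_
        right_inv := ?_ }
    · rw [map_smul, a.2, smul_eq_mul, inv_mul_cancel₀ hb]
    · simp only [map_smul, LinearMap.smul_apply, a.1.2.2, smul_zero]
    · simp only [map_smul, LinearMap.smul_apply, y.2.2.2, smul_zero]
    · simp only [map_smul, y.2.1, smul_eq_mul, mul_one]
    · intro a
      apply Subtype.ext
      apply Subtype.ext
      simp [smul_smul, mul_inv_cancel₀ hb]
    · intro y
      apply Subtype.ext
      simp [smul_smul, inv_mul_cancel₀ hb]
  have h0 : Nat.card {a : {z : V // z ∈ O ∧ B z z = 0} // B x a.1 = 0} =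
      Nat.card {z : V // z ∈ O ∧ B x z = 0 ∧ B z z = 0} := by
    apply Nat.card_congr
    exact
      { toFun := fun a => ⟨a.1.1, a.1.2.1, a.2, a.1.2.2⟩
        invFun := fun z => ⟨⟨z.1, z.2.1, z.2.2.2⟩, z.2.2.1⟩
        left_inv := fun a => rfl
        right_inv := fun z => rfl }
  rw [← Finset.add_sum_erase Finset.univ _ (Finset.mem_univ (0 : F)), h0,
    Finset.sum_congr rfl (fun b hb' => hb b (Finset.ne_of_mem_erase hb')), Finset.sum_const,
    Finset.card_erase_of_mem (Finset.mem_univ _), Finset.card_univ, smul_eq_mul] at h1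
  have hq : 1 ≤ Fintype.card F := Fintype.card_pos
  obtain ⟨q', hq'⟩ : ∃ q', Fintype.card F = q' + 1 := ⟨Fintype.card F - 1, by omega⟩
  rw [hq'] at h1 hK ⊢
  rw [Nat.add_sub_cancel] at h1
  have : Nat.card {z : V // z ∈ O ∧ B x z = 0 ∧ B z z = 0} =
      Nat.card {y : V // B x y = 1 ∧ y ∈ O ∧ B y y = 0} := by
    have e1 : Nat.card {y : V // B x y = 1 ∧ y ∈ O ∧ B y y = 0} * (q' + 1) =
        q' * Nat.card {y : V // B x y = 1 ∧ y ∈ O ∧ B y y = 0} +
          Nat.card {y : V // B x y = 1 ∧ y ∈ O ∧ B y y = 0} := by ring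
    omega
  rw [this, hK]

/-- the number of elliptic pairs of a nondegenerate odd-dimensional subspace -/
theorem card_ep_pairs (Q : QuadraticForm F V) (h2 : (2 : F) ≠ 0) (U : Submodule F V)
    (hU : NonDeg (QuadraticMap.polarBilin Q) U) (D : ℕ) (hD1 : 1 ≤ D)
    (hD : finrank F U = 2 * D + 1) :
    2 * Nat.card {p : V × V // p.1 ∈ U ∧ p.2 ∈ U ∧ EP (QuadraticMap.polarBilin Q) p.1 p.2} =
      (Fintype.card F ^ (2 * D) - 1) * Fintype.card F ^ (2 * D - 1) *
        ((Fintype.card F - 1) * (Fintype.card F - 1)) := by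
  classical
  haveI : Finite V := Module.finite_of_finite F
  have hS := pB_symm Q
  have hZ := card_zeros_odd Q h2 U hU D hD
  have hfin : finrank F U - 1 = 2 * D := by omega
  -- abbreviations
  set B := QuadraticMap.polarBilin Q with hB
  haveI : Fintype {u : V // u ∈ U ∧ B u u ≠ 0} := Fintype.ofFinite _
  haveI : Fintype {x : V // x ∈ U ∧ B x x = 0} := Fintype.ofFinite _
  -- the number of nonsingular vectors
  have hNS : Nat.card {u : V // u ∈ U ∧ B u u ≠ 0} + Fintype.card F ^ (2 * D) =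
      Fintype.card F ^ (2 * D + 1) := by
    have h1 := card_split (fun u : V => u ∈ U) (fun u : V => B u u = 0)
    have h3 : Nat.card {u : V // u ∈ U} = Fintype.card F ^ (2 * D + 1) := by
      change Nat.card ↥U = _
      rw [natCard_submodule, hD]
    rw [h3, hZ] at h1
    have h7 : Nat.card {a : V // a ∈ U ∧ ¬ B a a = 0} = Nat.card {u : V // u ∈ U ∧ B u u ≠ 0} :=
      rfl
    omega
  -- elliptic pairs, fibred over the first vector
  have hP : Nat.card {p : V × V // p.1 ∈ U ∧ p.2 ∈ U ∧ EP B p.1 p.2} =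
      ∑ u : {u : V // u ∈ U ∧ B u u ≠ 0}, Nat.card {w : V // w ∈ U ∧ EP B u.1 w} := by
    rw [← card_subtype_prod_eq_sum (fun u : V => u ∈ U ∧ B u u ≠ 0)
      (fun (u : V) (w : V) => w ∈ U ∧ EP B u w)]
    apply Nat.card_congr
    apply Equiv.subtypeEquivRight
    intro p
    constructor
    · rintro ⟨h1, h3, h4⟩
      exact ⟨⟨h1, h4.2.1⟩, h3, h4⟩
    · rintro ⟨⟨h1, -⟩, h3, h4⟩
      exact ⟨h1, h3, h4⟩
  -- the orthogonal pairs (nonsingular, singular)
  have hT1 : Nat.card {p : V × V // (p.1 ∈ U ∧ B p.1 p.1 ≠ 0) ∧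
      (p.2 ∈ U ∧ B p.1 p.2 = 0 ∧ B p.2 p.2 = 0)} =
      ∑ u : {u : V // u ∈ U ∧ B u u ≠ 0}, Nat.card {x : V // x ∈ U ∧ B u.1 x = 0 ∧ B x x = 0} :=
    card_subtype_prod_eq_sum (fun u : V => u ∈ U ∧ B u u ≠ 0)
      (fun (u : V) (x : V) => x ∈ U ∧ B u x = 0 ∧ B x x = 0)
  have hT2 : Nat.card {p : V × V // (p.1 ∈ U ∧ B p.1 p.1 ≠ 0) ∧
      (p.2 ∈ U ∧ B p.1 p.2 = 0 ∧ B p.2 p.2 = 0)} =
      ∑ x : {x : V // x ∈ U ∧ B x x = 0}, Nat.card {u : V // u ∈ U ∧ B u u ≠ 0 ∧ B u x.1 = 0} := by
    rw [← card_subtype_prod_eq_sum (fun x : V => x ∈ U ∧ B x x = 0)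
      (fun (x : V) (u : V) => u ∈ U ∧ B u u ≠ 0 ∧ B u x = 0)]
    apply Nat.card_congr
    exact
      { toFun := fun p => ⟨(p.1.2, p.1.1), ⟨p.2.2.1, p.2.2.2.2⟩, p.2.1.1, p.2.1.2, p.2.2.2.1⟩
        invFun := fun p => ⟨(p.1.2, p.1.1), ⟨p.2.2.1, p.2.2.2.1⟩, p.2.1.1, p.2.2.2.2, p.2.1.2⟩
        left_inv := fun p => rfl
        right_inv := fun p => rfl }
  -- the fibre identity summed
  have hsum : 2 * Nat.card {p : V × V // p.1 ∈ U ∧ p.2 ∈ U ∧ EP B p.1 p.2} +
      Nat.card {p : V × V // (p.1 ∈ U ∧ B p.1 p.1 ≠ 0) ∧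
        (p.2 ∈ U ∧ B p.1 p.2 = 0 ∧ B p.2 p.2 = 0)} =
      Nat.card {u : V // u ∈ U ∧ B u u ≠ 0} * Fintype.card F ^ (2 * D) := by
    rw [hP, hT1, Finset.mul_sum, ← Finset.sum_add_distrib]
    rw [Finset.sum_congr rfl (fun u _ => ep_fiber hS h2 U _ hZ u.1 u.2.1 u.2.2 (by
      rw [card_orth_fiber U hU u.1 u.2.1 (fun h => u.2.2 (by rw [h]; simp)), hfin]))]
    rw [Finset.sum_const, Finset.card_univ, ← Nat.card_eq_fintype_card, smul_eq_mul]
  -- the fibres over singular vectors
  have hb : Fintype.card F ^ (2 * D) = Fintype.card F ^ (2 * D - 1) * Fintype.card F := by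
    rw [← pow_succ]
    congr 1
    omega
  have hM : ∀ x : {x : V // x ∈ U ∧ B x x = 0}, x.1 ≠ 0 →
      Nat.card {u : V // u ∈ U ∧ B u u ≠ 0 ∧ B u x.1 = 0} + Fintype.card F ^ (2 * D - 1) =
        Fintype.card F ^ (2 * D) := by
    intro x hx0
    have h1 := card_split (fun u : V => u ∈ U ∧ B x.1 u = 0) (fun u : V => B u u = 0)
    rw [card_orth_fiber U hU x.1 x.2.1 hx0, hfin] at h1
    have h3 := card_sing_orth hS h2 U hU _ hZ (by rw [hfin]) x.1 x.2.1 hx0 x.2.2
    rw [hb] at h3
    have h4 : Nat.card {z : V // z ∈ U ∧ B x.1 z = 0 ∧ B z z = 0} =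
        Fintype.card F ^ (2 * D - 1) :=
      Nat.eq_of_mul_eq_mul_right Fintype.card_pos h3
    have h5 : Nat.card {a : V // (a ∈ U ∧ B x.1 a = 0) ∧ B a a = 0} =
        Nat.card {z : V // z ∈ U ∧ B x.1 z = 0 ∧ B z z = 0} :=
      Nat.card_congr (Equiv.subtypeEquivRight (fun a => by tauto))
    have h6 : Nat.card {a : V // (a ∈ U ∧ B x.1 a = 0) ∧ ¬ B a a = 0} =
        Nat.card {u : V // u ∈ U ∧ B u u ≠ 0 ∧ B u x.1 = 0} :=
      Nat.card_congr (Equiv.subtypeEquivRight (fun a => by
        rw [hS a x.1]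
        tauto))
    omega
  have hM0 : ∀ x : {x : V // x ∈ U ∧ B x x = 0}, x.1 = 0 →
      Nat.card {u : V // u ∈ U ∧ B u u ≠ 0 ∧ B u x.1 = 0} =
        Nat.card {u : V // u ∈ U ∧ B u u ≠ 0} := by
    intro x hx0
    apply Nat.card_congr
    apply Equiv.subtypeEquivRight
    intro a
    rw [hx0]
    simp
  -- the sum over singular vectors
  have hzero : (0 : V) ∈ U ∧ B (0 : V) (0 : V) = 0 := ⟨U.zero_mem, by simp⟩
  have hcardZ : (Finset.univ : Finset {x : V // x ∈ U ∧ B x x = 0}).card =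
      Fintype.card F ^ (2 * D) := by
    rw [Finset.card_univ, ← Nat.card_eq_fintype_card, hZ]
  have hT3 : ∑ x : {x : V // x ∈ U ∧ B x x = 0},
      Nat.card {u : V // u ∈ U ∧ B u u ≠ 0 ∧ B u x.1 = 0} =
      Nat.card {u : V // u ∈ U ∧ B u u ≠ 0} +
        (Fintype.card F ^ (2 * D) - 1) *
          (Fintype.card F ^ (2 * D) - Fintype.card F ^ (2 * D - 1)) := by
    rw [← Finset.add_sum_erase Finset.univ _ (Finset.mem_univ (⟨0, hzero⟩ :
      {x : V // x ∈ U ∧ B x x = 0})), hM0 ⟨0, hzero⟩ rfl]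
    congr 1
    rw [Finset.sum_congr rfl (fun x hx => show
      Nat.card {u : V // u ∈ U ∧ B u u ≠ 0 ∧ B u x.1 = 0} =
        Fintype.card F ^ (2 * D) - Fintype.card F ^ (2 * D - 1) from by
      have hx0 : x.1 ≠ 0 := fun h => (Finset.ne_of_mem_erase hx) (Subtype.ext h)
      have := hM x hx0
      omega), Finset.sum_const, Finset.card_erase_of_mem (Finset.mem_univ _), hcardZ, smul_eq_mul]
  rw [hT2, hT3] at hsum
  -- arithmetic
  obtain ⟨q', hq'⟩ : ∃ q', Fintype.card F = q' + 1 :=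
    ⟨Fintype.card F - 1, by have : 0 < Fintype.card F := Fintype.card_pos; omega⟩
  have hbpos : 1 ≤ Fintype.card F ^ (2 * D - 1) := Nat.one_le_pow _ _ Fintype.card_pos
  generalize Fintype.card F ^ (2 * D - 1) = b at *
  generalize Nat.card {p : V × V // p.1 ∈ U ∧ p.2 ∈ U ∧ EP B p.1 p.2} = P at *
  generalize Nat.card {u : V // u ∈ U ∧ B u u ≠ 0} = n at *
  rw [pow_succ] at hNS
  rw [hb] at hNS hsum ⊢
  rw [hq'] at hNS hsum ⊢
  rw [Nat.add_sub_cancel]
  have e1 : b * (q' + 1) - b = b * q' := by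
    rw [Nat.mul_succ, Nat.add_sub_cancel]
  rw [e1] at hsum
  have hn : n = b * (q' + 1) * q' := by
    have : b * (q' + 1) * (q' + 1) = b * (q' + 1) * q' + b * (q' + 1) := by ring
    omega
  obtain ⟨a', ha'⟩ : ∃ a', b * (q' + 1) = a' + 1 := ⟨b * (q' + 1) - 1, by
    have : 1 ≤ b * (q' + 1) := Nat.mul_pos hbpos (Nat.succ_pos _)
    omega⟩
  rw [ha'] at hsum hn ⊢
  rw [Nat.add_sub_cancel] at hsum ⊢
  subst hn
  have e2 : (a' + 1) * q' * (a' + 1) = (a' + 1) * q' + a' * ((a' + 1) * q') := by ring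
  have e3 : a' * ((a' + 1) * q') = a' * (b * q') + a' * b * (q' * q') := by
    rw [← ha']; ring
  omega

end Count

end Cfsg.Agent.Lib.Helper16.Oh
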