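import Cfsg.Agent.Lib.Helper16.OhG1

set_option autoImplicit false
set_option linter.unusedSimpArgs false
set_option linter.unusedSectionVars false
set_option linter.unusedVariables false
set_option linter.style.haveILetI false
set_option maxHeartbeats 800000

namespace Cfsg.Agent.Lib.Helper16.Oh

open Module Cfsg.Agent.Lib.Helper98.Sy Cfsg.Agent.Lib.Helper98.Ti Cfsg.Agent.Lib.Helper72.Nd
  Cfsg.Agent.Lib.Helper80.Oh

universe u
variable {F : Type u} [Field F] {V : Type u} [AddCommGroup V] [Module F V]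
variable {B : LinearMap.BilinForm F V}

theorem isEF_cons_iff {k : ℕ} (t : Fin k → V × V) (p : V × V) :
    IsEF B (Fin.cons p t : Fin (k + 1) → V × V) ↔
      IsSF B t ∧ EP B p.1 p.2 ∧ p.1 ∈ B.orthogonal (spanHF F t) ∧ p.2 ∈ B.orthogonal (spanHF F t) := by
  unfold IsEF
  rw [Fin.tail_cons, Fin.cons_zero]

section Count

variable [Fintype F] [FiniteDimensional F V]

/-- the number of elliptic frames of a nondegenerate odd-dimensional space -/
theorem card_eframes (Q : QuadraticForm F V) (h2 : (2 : F) ≠ 0)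
    (hV : NonDeg (QuadraticMap.polarBilin Q) (⊤ : Submodule F V)) (d : ℕ)
    (hd : finrank F (⊤ : Submodule F V) = 2 * d + 1) (k : ℕ) (hk : k < d) :
    2 * Nat.card {s : Fin (k + 1) → V × V // IsEF (QuadraticMap.polarBilin Q) s ∧
        InU (⊤ : Submodule F V) s} =
      (∏ j ∈ Finset.range k, ((Fintype.card F ^ (2 * (d - j)) - 1) *
        Fintype.card F ^ (2 * (d - j) - 1))) *
      ((Fintype.card F ^ (2 * (d - k)) - 1) * Fintype.card F ^ (2 * (d - k) - 1) *
        ((Fintype.card F - 1) * (Fintype.card F - 1))) := by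
  classical
  haveI : Finite V := Module.finite_of_finite F
  have hS := pB_symm Q
  have hR : (QuadraticMap.polarBilin Q).IsRefl := by
    intro x y h
    rw [hS]; exact h
  let e : {s : Fin (k + 1) → V × V // IsEF (QuadraticMap.polarBilin Q) s ∧
        InU (⊤ : Submodule F V) s} ≃
      Σ t : {t : Fin k → V × V // IsSF (QuadraticMap.polarBilin Q) t ∧ InU (⊤ : Submodule F V) t},
        {p : V × V //
          p.1 ∈ LinearMap.BilinForm.orthogonal (QuadraticMap.polarBilin Q) (spanHF F t.1) ⊓ ⊤ ∧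
          p.2 ∈ LinearMap.BilinForm.orthogonal (QuadraticMap.polarBilin Q) (spanHF F t.1) ⊓ ⊤ ∧
          EP (QuadraticMap.polarBilin Q) p.1 p.2} :=
    { toFun := fun s => ⟨⟨Fin.tail s.1, s.2.1.1, fun a => ⟨Submodule.mem_top, Submodule.mem_top⟩⟩,
        ⟨s.1 0, ⟨s.2.1.2.2.1, Submodule.mem_top⟩, ⟨s.2.1.2.2.2, Submodule.mem_top⟩, s.2.1.2.1⟩⟩
      invFun := fun x => ⟨Fin.cons x.2.1 x.1.1,
        (isEF_cons_iff x.1.1 x.2.1).mpr ⟨x.1.2.1, x.2.2.2.2, x.2.2.1.1, x.2.2.2.1.1⟩,
        fun a => ⟨Submodule.mem_top, Submodule.mem_top⟩⟩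
      left_inv := fun s => by simp only [Fin.cons_self_tail, Subtype.coe_eta]
      right_inv := fun ⟨⟨t, ht⟩, ⟨x, hx⟩⟩ =>
        sigma_subtype_ext
          (P := fun (t : Fin k → V × V) => IsSF (QuadraticMap.polarBilin Q) t ∧
            InU (⊤ : Submodule F V) t)
          (Q := fun (t : Fin k → V × V) (p : V × V) =>
            p.1 ∈ LinearMap.BilinForm.orthogonal (QuadraticMap.polarBilin Q) (spanHF F t) ⊓ ⊤ ∧
            p.2 ∈ LinearMap.BilinForm.orthogonal (QuadraticMap.polarBilin Q) (spanHF F t) ⊓ ⊤ ∧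
            EP (QuadraticMap.polarBilin Q) p.1 p.2) _ _ _ _ _ _ _ _
          (show Fin.tail (Fin.cons x t : Fin (k + 1) → V × V) = t from Fin.tail_cons _ _)
          (show (Fin.cons x t : Fin (k + 1) → V × V) 0 = x from Fin.cons_zero _ _) }
  rw [Nat.card_congr e]
  haveI : Fintype {t : Fin k → V × V // IsSF (QuadraticMap.polarBilin Q) t ∧
      InU (⊤ : Submodule F V) t} := Fintype.ofFinite _
  rw [Nat.card_sigma, Finset.mul_sum]
  have hfib : ∀ t : {t : Fin k → V × V // IsSF (QuadraticMap.polarBilin Q) t ∧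
      InU (⊤ : Submodule F V) t},
      2 * Nat.card {p : V × V //
          p.1 ∈ LinearMap.BilinForm.orthogonal (QuadraticMap.polarBilin Q) (spanHF F t.1) ⊓ ⊤ ∧
          p.2 ∈ LinearMap.BilinForm.orthogonal (QuadraticMap.polarBilin Q) (spanHF F t.1) ⊓ ⊤ ∧
          EP (QuadraticMap.polarBilin Q) p.1 p.2} =
        (Fintype.card F ^ (2 * (d - k)) - 1) * Fintype.card F ^ (2 * (d - k) - 1) *
          ((Fintype.card F - 1) * (Fintype.card F - 1)) := by
    intro t
    obtain ⟨-, -, h3, h4⟩ := Cfsg.Agent.Lib.Helper98.Os.compl_props hR (spanHF F t.1) ⊤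
      (nonDeg_spanSF hS t.1 t.2.1) (spanHF_le t.1 ⊤ t.2.2) hV
    have h5 := finrank_spanSF hS t.1 t.2.1
    exact card_ep_pairs Q h2 _ h3 (d - k) (by omega) (by omega)
  rw [Finset.sum_congr rfl (fun t _ => hfib t), Finset.sum_const, Finset.card_univ,
    ← Nat.card_eq_fintype_card, card_framesS Q h2 ⊤ hV d hd k, smul_eq_mul]

/-- elliptic frames versus subspaces: the generic fibre count -/
theorem card_eframes_eq_mul (k : ℕ)
    (hfr : ∀ s : Fin (k + 1) → V × V, IsEF B s → finrank F (spanHF F s) = 2 * (k + 1))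
    (P : Submodule F V → Prop) (c : ℕ)
    (hP : ∀ s : Fin (k + 1) → V × V, IsEF B s → P (spanHF F s))
    (hc : ∀ W : Submodule F V, finrank F W = 2 * (k + 1) → P W →
      Nat.card {t : Fin (k + 1) → V × V // IsEF B t ∧ InU W t} = c) :
    Nat.card {s : Fin (k + 1) → V × V // IsEF B s ∧ InU (⊤ : Submodule F V) s} =
      Nat.card {W : Submodule F V // finrank F W = 2 * (k + 1) ∧ P W} * c := by
  classical
  haveI : Finite V := Module.finite_of_finite F
  let fmap : {s : Fin (k + 1) → V × V // IsEF B s ∧ InU (⊤ : Submodule F V) s} →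
      {W : Submodule F V // finrank F W = 2 * (k + 1) ∧ P W} :=
    fun s => ⟨spanHF F s.1, hfr s.1 s.2.1, hP s.1 s.2.1⟩
  rw [← Nat.card_congr (Equiv.sigmaFiberEquiv fmap)]
  haveI : Fintype {W : Submodule F V // finrank F W = 2 * (k + 1) ∧ P W} := Fintype.ofFinite _
  rw [Nat.card_sigma]
  have hfib : ∀ W : {W : Submodule F V // finrank F W = 2 * (k + 1) ∧ P W},
      Nat.card {s : {s : Fin (k + 1) → V × V // IsEF B s ∧ InU (⊤ : Submodule F V) s} //
        fmap s = W} = c := by
    intro W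
    let eq : {s : {s : Fin (k + 1) → V × V // IsEF B s ∧ InU (⊤ : Submodule F V) s} //
        fmap s = W} ≃ {t : Fin (k + 1) → V × V // IsEF B t ∧ InU W.1 t} :=
      { toFun := fun s => ⟨s.1.1, s.1.2.1, fun a => by
            have h1 : spanHF F s.1.1 = W.1 := congrArg Subtype.val s.2
            rw [← h1]
            exact mem_spanHF s.1.1 a⟩
        invFun := fun t => ⟨⟨t.1, t.2.1, fun a => ⟨Submodule.mem_top, Submodule.mem_top⟩⟩, by
            apply Subtype.ext
            show spanHF F t.1 = W.1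
            exact Submodule.eq_of_le_of_finrank_eq (spanHF_le t.1 W.1 t.2.2)
              (by rw [hfr t.1 t.2.1, W.2.1])⟩
        left_inv := fun s => by
          apply Subtype.ext
          apply Subtype.ext
          rfl
        right_inv := fun t => by
          apply Subtype.ext
          rfl }
    rw [Nat.card_congr eq, hc W.1 W.2.1 W.2.2]
  rw [Finset.sum_congr rfl (fun W _ => hfib W), Finset.sum_const, Finset.card_univ,
    ← Nat.card_eq_fintype_card, smul_eq_mul]

end Count

end Cfsg.Agent.Lib.Helper16.Oh
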