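import Mathlib
import Cfsg.Agent.Lib.Helper98.Sy1
import Cfsg.Agent.Lib.Helper98.Elus2

/-!
# LEAF OmP (keystone 599404): a square-zero unipotent isometry with half-dimensional fixed space on `W`
-/

set_option autoImplicit false

namespace Cfsg.Agent.Lib.Helper16.Om

open Module Cfsg.Agent.Lib.Helper98.Elus Cfsg.Agent.Lib.Helper98.Sy

universe u
variable {F : Type u} [Field F]

theorem exists_ts_of_sq_zero {V : Type u} [AddCommGroup V] [Module F V] [FiniteDimensional F V]
    (B : LinearMap.BilinForm F V) (u : V →ₗ[F] V) (hiso : Iso B u) (hN2 : (u - 1) ^ 2 = 0)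
    (W : Submodule F V) (hW : Inv u W)
    (hk : 2 * finrank F ↥(W ⊓ LinearMap.ker (u - 1)) = finrank F W) :
    ∃ X : Submodule F V, X ≤ W ∧ (∀ x ∈ X, B x x = 0) ∧ 2 * finrank F X = finrank F W := by
  set N : V →ₗ[F] V := u - 1 with hN
  have hNN : ∀ x, N (N x) = 0 := by
    intro x
    have := congrArg (fun f : V →ₗ[F] V => f x) hN2
    simpa [pow_two, Module.End.mul_apply] using this
  have hu : ∀ x, u x = x + N x := by
    intro x
    simp [hN]
  have hB : ∀ a b, B (N a) (N b) = 0 := by
    intro a b
    have h1 := hiso a (N b)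
    rw [hu a, hu (N b), hNN b, add_zero] at h1
    -- B (a + N a) (N b) = B a (N b)
    rw [map_add, LinearMap.add_apply] at h1
    have : B (N a) (N b) = B a (N b) + B (N a) (N b) - B a (N b) := by ring
    rw [this, h1]; ring
  refine ⟨W.map N, ?_, ?_, ?_⟩
  · rintro _ ⟨w, hw, rfl⟩
    have : N w = u w - w := by simp [hN]
    rw [this]
    exact W.sub_mem (hW w hw) hw
  · rintro _ ⟨w, _, rfl⟩
    exact hB w w
  · let f : W →ₗ[F] V := N.comp W.subtype
    have hr : LinearMap.range f = W.map N := by
      rw [LinearMap.range_comp, Submodule.range_subtype]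
    have hkf : finrank F (LinearMap.ker f) = finrank F ↥(W ⊓ LinearMap.ker N) := by
      rw [LinearMap.ker_comp, ← Submodule.finrank_map_subtype_eq W, Submodule.map_comap_subtype]
    have hrn := LinearMap.finrank_range_add_finrank_ker f
    rw [hr, hkf] at hrn
    omega

end Cfsg.Agent.Lib.Helper16.Om
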