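import Mathlib
import Cfsg.Agent.Lib.Helper16.SL2Dickson9
import Cfsg.Agent.Lib.Helper52.QuadBridge
import Cfsg.Agent.S0199

set_option autoImplicit false

/-!
# Quadratic action forces a section `SL₂(p)`
-/

namespace Cfsg.Agent.Lib.Helper16.QuadSL2

/-- transport of a section along an injective homomorphism -/
theorem section_map_injective {A B : Type*} [Group A] [Group B] (f : A →* B)
    (hf : Function.Injective f) (K N : Subgroup A) (hN : (N.subgroupOf K).Normal) :
    ∃ (_ : ((N.map f).subgroupOf (K.map f)).Normal),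
      Nonempty ((K.map f ⧸ (N.map f).subgroupOf (K.map f)) ≃* (K ⧸ N.subgroupOf K)) := by
  set e := K.equivMapOfInjective f hf with he
  have hmap : (N.subgroupOf K).map e.toMonoidHom = (N.map f).subgroupOf (K.map f) := by
    ext ⟨b, hb⟩
    rw [Subgroup.mem_map, Subgroup.mem_subgroupOf]
    constructor
    · rintro ⟨k, hk, hkb⟩
      have h1 : f (k : A) = b := by
        have := congrArg Subtype.val hkb
        simpa [he] using this
      rw [Subgroup.mem_subgroupOf] at hk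
      exact ⟨k, hk, h1⟩
    · rintro ⟨n, hn, hnb⟩
      obtain ⟨k, hk, hkb⟩ := hb
      have hnk : n = k := hf (hnb.trans hkb.symm)
      subst hnk
      refine ⟨⟨n, hk⟩, Subgroup.mem_subgroupOf.mpr hn, ?_⟩
      apply Subtype.ext
      simpa [he] using hnb
  have hnorm : ((N.map f).subgroupOf (K.map f)).Normal := by
    rw [← hmap]
    exact Subgroup.Normal.map hN e.toMonoidHom e.surjective
  exact ⟨hnorm, ⟨(QuotientGroup.congr _ _ e hmap).symm⟩⟩

variable {G : Type*} [Group G] {p : ℕ} [Fact p.Prime]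

/-- two quadratic `p`-elements generating a non-`p`-group acting faithfully on an elementary
abelian `p`-group give a section `SL₂(p)` -/
theorem section_of_quadratic_pair [Finite G] (hp : p ≠ 2) (V H : Subgroup G)
    (hV : Cfsg.IsElementaryAbelian p V) (hHV : H ≤ Subgroup.normalizer (V : Set G))
    (hf : H ⊓ Subgroup.centralizer (V : Set G) = ⊥) (a b : G)
    (hab : H = Subgroup.closure {a, b})
    (ha : ⁅⁅V, Subgroup.zpowers a⁆, Subgroup.zpowers a⁆ = ⊥)
    (hb : ⁅⁅V, Subgroup.zpowers b⁆, Subgroup.zpowers b⁆ = ⊥)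
    (hap : ∃ k : ℕ, a ^ p ^ k = 1) (hbp : ∃ k : ℕ, b ^ p ^ k = 1) (hnp : ¬ IsPGroup p H) :
    ∃ (K L : Subgroup G) (_ : (L.subgroupOf K).Normal), K ≤ H ∧
      Nonempty ((K ⧸ L.subgroupOf K) ≃* Matrix.SpecialLinearGroup (Fin 2) (ZMod p)) := by
  obtain ⟨E, hE1, hE2, hE3, φ, hφ⟩ :=
    Cfsg.Agent.Lib.Helper52.exists_hom_SL2_of_quadratic_pair V H hV hHV hf a b hab ha hb hnp
  have haH : a ∈ H := hab ▸ Subgroup.subset_closure (by simp)
  have hbH : b ∈ H := hab ▸ Subgroup.subset_closure (by simp)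
  have hgen := Cfsg.Agent.Lib.Helper52.closure_pair_subtype_eq_top a b H hab haH hbH
  obtain ⟨ka, hka⟩ := hap
  obtain ⟨kb, hkb⟩ := hbp
  obtain ⟨K, N, hN, ⟨e⟩⟩ := Cfsg.Agent.Lib.Helper16.SL2Q.exists_section_sl2p (p := p) hp φ
    (⟨a, haH⟩ : H) ⟨b, hbH⟩ ⟨ka, Subtype.ext (by simpa using hka)⟩
    ⟨kb, Subtype.ext (by simpa using hkb)⟩ hgen hφ
  obtain ⟨hnorm, ⟨e'⟩⟩ := section_map_injective H.subtype H.subtype_injective K N hN
  exact ⟨K.map H.subtype, N.map H.subtype, hnorm, Subgroup.map_subtype_le K, ⟨e'.trans e⟩⟩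

end Cfsg.Agent.Lib.Helper16.QuadSL2
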