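import Mathlib

set_option autoImplicit false

namespace Cfsg.Agent.Lib.Helper16.RSU3

/-- arithmetic core of L15, bounded range -/
theorem l15_arith_bounded : ∀ r ∈ Finset.range 9, ∀ q ∈ Finset.range 21, ∀ m ∈ Finset.range 9,
    2 ≤ r → 3 ≤ q → 3 ≤ m → r ^ m = q ^ 2 → (q + 1) ∣ 3 * (r - 1) → q = 8 := by
  decide

/-- arithmetic core of L15 -/
theorem l15_arith (q r m : ℕ) (hq : 3 ≤ q) (hq5 : q ≠ 5) (hq8 : q ≠ 8) (hr : 2 ≤ r)
    (hpow : r ^ m = q ^ 2) (hdvd : (q + 1) ∣ 3 * (r - 1)) : m = 1 := by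
  have hm0 : m ≠ 0 := by
    rintro rfl
    rw [pow_zero] at hpow
    nlinarith
  by_contra hm1
  have hm2 : 2 ≤ m := by omega
  have hpos : 0 < 3 * (r - 1) := by omega
  have hle : q + 1 ≤ 3 * (r - 1) := Nat.le_of_dvd hpos hdvd
  rcases Nat.eq_or_lt_of_le hm2 with hm | hm3
  · -- m = 2
    subst hm
    have hrq : r = q := Nat.pow_left_injective (by norm_num : 2 ≠ 0) hpow
    subst hrq
    have h1 : (r + 1) ∣ 3 * (r + 1) := Dvd.intro_left 3 rfl
    have h2 : (r + 1) ∣ 3 * (r + 1) - 3 * (r - 1) := Nat.dvd_sub h1 hdvd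
    have h3 : 3 * (r + 1) - 3 * (r - 1) = 6 := by omega
    rw [h3] at h2
    have h4 : r + 1 ≤ 6 := Nat.le_of_dvd (by norm_num) h2
    have h5 : r ≤ 5 := by omega
    interval_cases r
    · omega
    · omega
    · exact hq5 rfl
  · -- m ≥ 3
    have hm3' : 3 ≤ m := hm3
    have h1 : r ^ 3 ≤ r ^ m := Nat.pow_le_pow_right (by omega) hm3'
    have hq3r : q ≤ 3 * r := by omega
    have hr8 : r < 9 := by
      by_contra h
      rw [not_lt] at h
      have h2 : q ^ 2 ≤ (3 * r) ^ 2 := Nat.pow_le_pow_left hq3r 2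
      have h3 : q + 4 ≤ 3 * r := by omega
      nlinarith
    have hq20 : q < 21 := by omega
    have hm9 : m < 9 := by
      by_contra h
      rw [not_lt] at h
      have h2 : 2 ^ 9 ≤ 2 ^ m := Nat.pow_le_pow_right (by norm_num) h
      have h3 : 2 ^ m ≤ r ^ m := Nat.pow_le_pow_left hr m
      have h4 : q ^ 2 ≤ 20 ^ 2 := Nat.pow_le_pow_left (by omega) 2
      rw [hpow] at h3
      omega
    exact hq8 (l15_arith_bounded r (Finset.mem_range.mpr hr8) q (Finset.mem_range.mpr hq20) m
      (Finset.mem_range.mpr hm9) hr hq hm3' hpow hdvd)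

variable {F : Type*} [Field F] [Fintype F] {q : ℕ}

/-- L15 -/
theorem span_generic (hq : 3 ≤ q) (hq5 : q ≠ 5) (hq8 : q ≠ 8) (hF : Fintype.card F = q ^ 2)
    (μ : F) (hμ : orderOf μ = q + 1) (S : Set F) (h1 : (1 : F) ∈ S)
    (hadd : ∀ a ∈ S, ∀ b ∈ S, a + b ∈ S) (hmul : ∀ a ∈ S, μ ^ 3 * a ∈ S) : ∀ c : F, c ∈ S := by
  classical
  -- characteristic
  obtain ⟨p, hchar⟩ := CharP.exists F
  have := hchar
  have hp : p.Prime := by
    rcases CharP.char_is_prime_or_zero F p with h | h
    · exact h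
    · exfalso
      subst h
      have : CharZero F := CharP.charP_to_charZero F
      exact not_finite F
  -- S closed under positive multiples
  have hnsmul : ∀ s ∈ S, ∀ n : ℕ, (n + 1) • s ∈ S := by
    intro s hs n
    induction n with
    | zero => simpa using hs
    | succ k ih =>
      rw [succ_nsmul]
      exact hadd _ ih _ hs
  have hneg : ∀ s ∈ S, -s ∈ S := by
    intro s hs
    have h2 : (p - 2 + 1) • s ∈ S := hnsmul s hs (p - 2)
    have hp2 : 2 ≤ p := hp.two_le
    have h3 : (p - 2 + 1) • s + s = 0 := by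
      rw [← succ_nsmul]
      have : p - 2 + 1 + 1 = p := by omega
      rw [this, nsmul_eq_mul, CharP.cast_eq_zero, zero_mul]
    have h4 : (p - 2 + 1) • s = -s := eq_neg_of_add_eq_zero_left h3
    rw [← h4]
    exact h2
  have h0 : (0 : F) ∈ S := by
    have := hadd 1 h1 (-1) (hneg 1 h1)
    simpa using this
  -- the multiplier field
  let T : Set F := {x | ∀ a ∈ S, x * a ∈ S}
  have hT1 : (1 : F) ∈ T := fun a ha => by simpa using ha
  have hT0 : (0 : F) ∈ T := fun a _ => by simpa using h0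
  have hTadd : ∀ x ∈ T, ∀ y ∈ T, x + y ∈ T := by
    intro x hx y hy a ha
    rw [add_mul]
    exact hadd _ (hx a ha) _ (hy a ha)
  have hTmul : ∀ x ∈ T, ∀ y ∈ T, x * y ∈ T := by
    intro x hx y hy a ha
    rw [mul_assoc]
    exact hx _ (hy a ha)
  have hTneg : ∀ x ∈ T, -x ∈ T := by
    intro x hx a ha
    rw [neg_mul]
    exact hneg _ (hx a ha)
  have hTpow : ∀ x ∈ T, ∀ n : ℕ, x ^ n ∈ T := by
    intro x hx n
    induction n with
    | zero => simpa using hT1
    | succ k ih =>
      rw [pow_succ]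
      exact hTmul _ ih _ hx
  have hTinv : ∀ x ∈ T, x⁻¹ ∈ T := by
    intro x hx
    by_cases hx0 : x = 0
    · subst hx0
      simpa using hT0
    · have hcard2 : 2 ≤ Fintype.card F := by
        rw [hF]; nlinarith
      have h2 : x ^ (Fintype.card F - 1) = 1 := FiniteField.pow_card_sub_one_eq_one x hx0
      have h3 : x * x ^ (Fintype.card F - 2) = 1 := by
        rw [← pow_succ']
        have : Fintype.card F - 2 + 1 = Fintype.card F - 1 := by omega
        rw [this, h2]
      have h4 : x⁻¹ = x ^ (Fintype.card F - 2) := by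
        rw [inv_eq_iff_eq_inv]
        exact (eq_inv_of_mul_eq_one_left h3)
      rw [h4]
      exact hTpow x hx _
  let K : Subfield F :=
    { carrier := T
      mul_mem' := fun {x y} hx hy => hTmul x hx y hy
      one_mem' := hT1
      add_mem' := fun {x y} hx hy => hTadd x hx y hy
      zero_mem' := hT0
      neg_mem' := fun {x} hx => hTneg x hx
      inv_mem' := fun x hx => hTinv x hx }
  have hcK : μ ^ 3 ∈ K := fun a ha => hmul a ha
  -- μ ≠ 0
  have hμ0 : μ ≠ 0 := by
    rintro rfl
    rw [orderOf_zero] at hμ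
    omega
  -- cardinalities
  have hcardFK : Fintype.card F = Fintype.card K ^ Module.finrank K F :=
    Module.card_eq_pow_finrank (K := K) (V := F)
  have hr2 : 2 ≤ Fintype.card K := Fintype.one_lt_card
  -- order
  have hpowK : (⟨μ ^ 3, hcK⟩ : K) ^ (Fintype.card K - 1) = 1 := by
    apply FiniteField.pow_card_sub_one_eq_one
    intro h
    have : (μ ^ 3 : F) = 0 := congrArg Subtype.val h
    exact hμ0 (pow_eq_zero_iff (by norm_num) |>.mp this)
  have hpowF : μ ^ (3 * (Fintype.card K - 1)) = 1 := by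
    have := congrArg Subtype.val hpowK
    rw [pow_mul]
    simpa using this
  have hdvd : (q + 1) ∣ 3 * (Fintype.card K - 1) := by
    rw [← hμ]
    exact orderOf_dvd_of_pow_eq_one hpowF
  have hm1 : Module.finrank K F = 1 :=
    l15_arith q (Fintype.card K) (Module.finrank K F) hq hq5 hq8 hr2 (by rw [← hcardFK, hF]) hdvd
  have hcardeq : Fintype.card K = Fintype.card F := by
    rw [hcardFK, hm1, pow_one]
  -- K is everything
  have hKtop : ∀ x : F, x ∈ T := by
    intro x
    have hadd_top : K.toSubring.toAddSubgroup = ⊤ := by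
      apply AddSubgroup.eq_top_of_card_eq
      rw [Nat.card_eq_fintype_card, Nat.card_eq_fintype_card]
      exact hcardeq
    have : x ∈ K.toSubring.toAddSubgroup := by
      rw [hadd_top]; trivial
    exact this
  intro c
  have := hKtop c 1 h1
  simpa using this

end Cfsg.Agent.Lib.Helper16.RSU3
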