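import Mathlib.LinearAlgebra.Matrix.GeneralLinearGroup.Defs
import Mathlib.LinearAlgebra.Matrix.Nondegenerate
import Mathlib.Data.ZMod.Basic
import Mathlib.GroupTheory.OrderOfElement
import Mathlib.SetTheory.Cardinal.Finite
import Mathlib.Algebra.Field.ZMod

set_option autoImplicit false

namespace Cfsg.Agent.Lib.Helper16

open Matrix

/-- A subgroup of `GL(2, q)` generated by a set `S`, given with a table `f` of matrices which
contains the identity, is stable under left multiplication by the generators, consists of elements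
of the closure, is injective and has `q ^ 2 - 1` entries all of which (except the identity) have no
eigenvalue one: then the closure has order `q ^ 2 - 1` and acts regularly on non-zero vectors. -/
theorem closure_card_and_regular {q : ℕ} [Fact q.Prime] {ι : Type} [Fintype ι]
    (S : Set (GL (Fin 2) (ZMod q))) (f : ι → Matrix (Fin 2) (Fin 2) (ZMod q)) (i₀ : ι)
    (h1 : f i₀ = 1)
    (hclosed : ∀ g ∈ S, ∀ i, ∃ j, (g : Matrix (Fin 2) (Fin 2) (ZMod q)) * f i = f j)
    (hmem : ∀ i, ∃ h ∈ Subgroup.closure S, (h : Matrix (Fin 2) (Fin 2) (ZMod q)) = f i)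
    (hinj : Function.Injective f)
    (hfree : ∀ i, i ≠ i₀ → (f i - 1).det ≠ 0)
    (hcard : Fintype.card ι = q ^ 2 - 1) :
    Nat.card (Subgroup.closure S) = q ^ 2 - 1 ∧
    ∀ v w : Fin 2 → ZMod q, v ≠ 0 → w ≠ 0 →
      ∃! h : Subgroup.closure S,
        Matrix.mulVec ((h : GL (Fin 2) (ZMod q)) : Matrix (Fin 2) (Fin 2) (ZMod q)) v = w := by
  classical
  have hq : q ≠ 0 := (Fact.out : q.Prime).ne_zero
  haveI : NeZero q := ⟨hq⟩
  -- Step A
  have hP : ∀ h ∈ Subgroup.closure S, ∀ i, ∃ j,
      (h : Matrix (Fin 2) (Fin 2) (ZMod q)) * f i = f j := by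
    intro h hh
    induction hh using Subgroup.closure_induction with
    | mem x hx => exact hclosed x hx
    | one => intro i; exact ⟨i, by simp⟩
    | mul x y _ _ hx hy =>
      intro i
      obtain ⟨j, hj⟩ := hy i
      obtain ⟨k, hk⟩ := hx j
      exact ⟨k, by rw [Units.val_mul, Matrix.mul_assoc, hj, hk]⟩
    | inv x _ hx =>
      intro i
      have hpow : ∀ n : ℕ, ∀ i, ∃ j, ((x ^ n : GL (Fin 2) (ZMod q)) :
          Matrix (Fin 2) (Fin 2) (ZMod q)) * f i = f j := by
        intro n
        induction n with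
        | zero => intro i; exact ⟨i, by simp⟩
        | succ n ih =>
          intro i
          obtain ⟨j, hj⟩ := hx i
          obtain ⟨k, hk⟩ := ih j
          exact ⟨k, by rw [pow_succ, Units.val_mul, Matrix.mul_assoc, hj, hk]⟩
      have hinv : x⁻¹ = x ^ (orderOf x - 1) := by
        rw [eq_comm, ← mul_eq_one_iff_eq_inv, ← pow_succ,
          Nat.sub_add_cancel (orderOf_pos x), pow_orderOf_eq_one]
      rw [hinv]
      exact hpow _ i
  have hA : ∀ h ∈ Subgroup.closure S, ∃ i, (h : Matrix (Fin 2) (Fin 2) (ZMod q)) = f i := by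
    intro h hh
    obtain ⟨j, hj⟩ := hP h hh i₀
    exact ⟨j, by rw [← hj, h1, Matrix.mul_one]⟩
  -- Step B
  choose φ hφ using fun h : Subgroup.closure S => hA h.1 h.2
  have hφinj : Function.Injective φ := by
    intro h h' e
    apply Subtype.ext
    apply Units.ext
    rw [hφ h, hφ h', e]
  have hφsurj : Function.Surjective φ := by
    intro i
    obtain ⟨h, hh, hi⟩ := hmem i
    refine ⟨⟨h, hh⟩, ?_⟩
    apply hinj
    rw [← hφ ⟨h, hh⟩, hi]
  have hcardH : Nat.card (Subgroup.closure S) = q ^ 2 - 1 := by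
    rw [Nat.card_congr (Equiv.ofBijective φ ⟨hφinj, hφsurj⟩), Nat.card_eq_fintype_card, hcard]
  refine ⟨hcardH, ?_⟩
  -- Step C
  have hC : ∀ h ∈ Subgroup.closure S, h ≠ 1 →
      ((h : Matrix (Fin 2) (Fin 2) (ZMod q)) - 1).det ≠ 0 := by
    intro h hh hne
    obtain ⟨i, hi⟩ := hA h hh
    rw [hi]
    apply hfree
    rintro rfl
    apply hne
    apply Units.ext
    rw [hi, h1]
    rfl
  -- Step D
  intro v w hv hw
  let ψ : Subgroup.closure S → {u : Fin 2 → ZMod q // u ≠ 0} := fun h =>
    ⟨Matrix.mulVec ((h : GL (Fin 2) (ZMod q)) : Matrix (Fin 2) (Fin 2) (ZMod q)) v, by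
      intro h0
      apply hv
      have := congrArg (Matrix.mulVec (((h : GL (Fin 2) (ZMod q))⁻¹ : GL (Fin 2) (ZMod q)) :
        Matrix (Fin 2) (Fin 2) (ZMod q))) h0
      rw [Matrix.mulVec_mulVec, ← Units.val_mul, inv_mul_cancel, Units.val_one, Matrix.one_mulVec,
        Matrix.mulVec_zero] at this
      exact this⟩
  have hψinj : Function.Injective ψ := by
    intro h h' e
    have e' : Matrix.mulVec ((h : GL (Fin 2) (ZMod q)) : Matrix (Fin 2) (Fin 2) (ZMod q)) v =
        Matrix.mulVec ((h' : GL (Fin 2) (ZMod q)) : Matrix (Fin 2) (Fin 2) (ZMod q)) v :=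
      congrArg Subtype.val e
    set k : GL (Fin 2) (ZMod q) := (h' : GL (Fin 2) (ZMod q))⁻¹ * h with hk
    have hkmem : k ∈ Subgroup.closure S :=
      (Subgroup.closure S).mul_mem ((Subgroup.closure S).inv_mem h'.2) h.2
    have hkv : Matrix.mulVec ((k : Matrix (Fin 2) (Fin 2) (ZMod q)) - 1) v = 0 := by
      rw [Matrix.sub_mulVec, Matrix.one_mulVec, hk, Units.val_mul, ← Matrix.mulVec_mulVec, e',
        Matrix.mulVec_mulVec, ← Units.val_mul, inv_mul_cancel, Units.val_one, Matrix.one_mulVec,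
        sub_self]
    by_contra hne
    have hk1 : k ≠ 1 := by
      intro hk1
      apply hne
      apply Subtype.ext
      have : (h' : GL (Fin 2) (ZMod q))⁻¹ * h = 1 := hk1
      rw [inv_mul_eq_one] at this
      exact this.symm
    exact hv (Matrix.eq_zero_of_mulVec_eq_zero (hC k hkmem hk1) hkv)
  have hcardV : Nat.card {u : Fin 2 → ZMod q // u ≠ 0} = q ^ 2 - 1 := by
    rw [Nat.card_eq_fintype_card, Fintype.card_subtype_compl, Fintype.card_subtype_eq,
      Fintype.card_fun, ZMod.card, Fintype.card_fin]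
  have hbij : Function.Bijective ψ := by
    apply hψinj.bijective_of_nat_card_le
    rw [hcardV, hcardH]
  obtain ⟨h, hh, huniq⟩ := hbij.existsUnique ⟨w, hw⟩
  refine ⟨h, congrArg Subtype.val hh, ?_⟩
  intro h' hh'
  apply huniq
  exact Subtype.ext hh'

end Cfsg.Agent.Lib.Helper16
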