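import Cfsg.Agent.Lib.Helper16.ReplProp
import Cfsg.Prelude.Def_PLocal

set_option autoImplicit false

namespace Cfsg.Agent.Lib.Helper16

open scoped commutatorElement

namespace GR

variable {S : Type*} [Group S]

/-- the elements of order dividing `p` of a subgroup with commuting elements -/
def torsSub (p : ℕ) (X : Subgroup S) (hX : ∀ x ∈ X, ∀ y ∈ X, x * y = y * x) : Subgroup S where
  carrier := {x | x ∈ X ∧ x ^ p = 1}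
  one_mem' := ⟨X.one_mem, one_pow _⟩
  mul_mem' := by
    rintro x y ⟨hx, hxp⟩ ⟨hy, hyp⟩
    exact ⟨X.mul_mem hx hy, by
      rw [(show Commute x y from hX x hx y hy).mul_pow, hxp, hyp, one_mul]⟩
  inv_mem' := by
    rintro x ⟨hx, hxp⟩
    exact ⟨X.inv_mem hx, by rw [inv_pow, hxp, inv_one]⟩

theorem mem_torsSub {p : ℕ} {X : Subgroup S} {hX : ∀ x ∈ X, ∀ y ∈ X, x * y = y * x} {x : S} :
    x ∈ torsSub p X hX ↔ x ∈ X ∧ x ^ p = 1 := Iff.rfl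

theorem omegaOne_eq_torsSub (p : ℕ) (X : Subgroup S) (hX : ∀ x ∈ X, ∀ y ∈ X, x * y = y * x) :
    Cfsg.omegaOne p X = torsSub p X hX := by
  unfold Cfsg.omegaOne
  apply le_antisymm
  · rw [Subgroup.closure_le]
    intro x hx
    exact hx
  · intro x hx
    exact Subgroup.subset_closure hx

theorem torsSub_le_omegaOne (p : ℕ) {T X : Subgroup S} (hTX : T ≤ X) (hT : ∀ t ∈ T, t ^ p = 1) :
    T ≤ Cfsg.omegaOne p X := by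
  intro t ht
  exact Subgroup.subset_closure ⟨hTX ht, hT t ht⟩

variable {A B : Subgroup S} {b : S}

theorem Hyp.pow_eq_one' (h : Hyp A B b) (e : ℕ) (hodd : Odd e) {d a : S} (hd : d ∈ DD A b)
    (ha : a ∈ A) (hde : d ^ e = 1) (hae : a ^ e = 1) : (d * g b a) ^ e = 1 := by
  have hcomm : Commute d (g b a) := h.cl2.central d hd _ (h.g_mem_H ha)
  rw [hcomm.mul_pow, hde, one_mul, g_eq]
  set y := (b⁻¹ * a * b)⁻¹ with hy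
  have hyH : y ∈ HH A b := (HH A b).inv_mem (h.Ab_le_H (conj_mem_Ab ha))
  have hye : y ^ e = 1 := by
    have : y = b⁻¹ * a⁻¹ * b⁻¹⁻¹ := by rw [hy]; group
    rw [this, conj_pow, inv_pow, hae]; group
  have hce : ⁅y, a⁆ ^ e = 1 := by
    rw [← h.cl2.pow_left hyH (h.A_le_H ha), hye]
    simp
  have hdvd : e ∣ Cl2.tri e := by
    have h2 := Cl2.two_mul_tri e
    have h3 : e ∣ 2 * Cl2.tri e := by
      have : e ∣ 2 * Cl2.tri e + e := by rw [h2]; exact dvd_mul_right e e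
      exact (Nat.dvd_add_left (dvd_refl e)).mp this
    have hcop : Nat.Coprime e 2 := Nat.coprime_two_right.mpr hodd
    exact hcop.dvd_of_dvd_mul_left h3
  obtain ⟨k, hk⟩ := hdvd
  rw [h.cl2.mul_pow_formula (h.A_le_H ha) hyH, hae, hye, hk, pow_mul, hce]
  simp

/-- the set `{d * g a}` for `d ∈ D₀`, `a ∈ A₀`, as a subgroup -/
def TT₀ (h : Hyp A B b) (A₀ D₀ : Subgroup S) (hA₀ : A₀ ≤ A) (hD₀ : D₀ ≤ DD A b)
    (hc : ∀ a ∈ A₀, ∀ y ∈ HH A b, ⁅a, y⁆ ∈ D₀) : Subgroup S where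
  carrier := {x | ∃ d ∈ D₀, ∃ a ∈ A₀, x = d * g b a}
  one_mem' := ⟨1, one_mem _, 1, one_mem _, by rw [g_one, one_mul]⟩
  mul_mem' := by
    rintro _ _ ⟨d₁, hd₁, a₁, ha₁, rfl⟩ ⟨d₂, hd₂, a₂, ha₂, rfl⟩
    have hc' : ⁅a₂, g b a₁⁆ ∈ D₀ := hc _ ha₂ _ (h.g_mem_H (hA₀ ha₁))
    refine ⟨d₁ * d₂ * ⁅a₂, g b a₁⁆⁻¹, D₀.mul_mem (D₀.mul_mem hd₁ hd₂)
      (D₀.inv_mem hc'), a₂ * a₁, A₀.mul_mem ha₂ ha₁, ?_⟩
    rw [g_mul]
    have e1 : d₁ * g b a₁ * (d₂ * g b a₂) = d₁ * (g b a₁ * d₂) * g b a₂ := by group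
    rw [e1, ← h.cl2.central d₂ (hD₀ hd₂) _ (h.g_mem_H (hA₀ ha₁))]
    group
  inv_mem' := by
    rintro _ ⟨d, hd, a, ha, rfl⟩
    have hgi : (g b a)⁻¹ ∈ HH A b := (HH A b).inv_mem (h.g_mem_H (hA₀ ha))
    have hc' : ⁅a⁻¹, (g b a)⁻¹⁆ ∈ D₀ := hc _ (A₀.inv_mem ha) _ hgi
    refine ⟨d⁻¹ * ⁅a⁻¹, (g b a)⁻¹⁆⁻¹, D₀.mul_mem (D₀.inv_mem hd)
      (D₀.inv_mem hc'), a⁻¹, A₀.inv_mem ha, ?_⟩
    rw [g_inv, mul_inv_rev, ← h.cl2.central _ ((DD A b).inv_mem (hD₀ hd)) _ hgi]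
    group

theorem Hyp.mem_TT₀ (h : Hyp A B b) {A₀ D₀ : Subgroup S} {hA₀ : A₀ ≤ A} {hD₀ : D₀ ≤ DD A b}
    {hc : ∀ a ∈ A₀, ∀ y ∈ HH A b, ⁅a, y⁆ ∈ D₀} {x : S} :
    x ∈ TT₀ h A₀ D₀ hA₀ hD₀ hc ↔ ∃ d ∈ D₀, ∃ a ∈ A₀, x = d * g b a := Iff.rfl

theorem Hyp.TT₀_le_Astar (h : Hyp A B b) {A₀ D₀ : Subgroup S} {hA₀ : A₀ ≤ A}
    {hD₀ : D₀ ≤ DD A b} {hc : ∀ a ∈ A₀, ∀ y ∈ HH A b, ⁅a, y⁆ ∈ D₀} :
    TT₀ h A₀ D₀ hA₀ hD₀ hc ≤ Astar A b := by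
  rintro x ⟨d, hd, a, ha, rfl⟩
  exact h.mem_Astar.mpr ⟨d, hD₀ hd, a, hA₀ ha, rfl⟩

theorem Hyp.card_TT₀ [Finite S] {p : ℕ} [Fact p.Prime] (h : Hyp A B b) (hS : IsPGroup p S)
    (hB2 : p = 2 → IsMulCommutative B) (A₀ D₀ : Subgroup S) (hA₀ : A₀ ≤ A)
    (hD₀ : D₀ ≤ DD A b) (hc : ∀ a ∈ A₀, ∀ y ∈ HH A b, ⁅a, y⁆ ∈ D₀) (hDA : D₀ ≤ A₀)
    (hk : ∀ a ∈ A₀, g b a ∈ D₀ ↔ a ∈ D₀) :
    Nat.card (TT₀ h A₀ D₀ hA₀ hD₀ hc) = Nat.card A₀ := by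
  have hTA : TT₀ h A₀ D₀ hA₀ hD₀ hc ≤ Astar A b := h.TT₀_le_Astar
  have hcomm : IsMulCommutative ↥(TT₀ h A₀ D₀ hA₀ hD₀ hc) :=
    ⟨⟨fun x y => Subtype.ext (h.Astar_comm hS hB2 x (hTA x.2) y (hTA y.2))⟩⟩
  have hgT : ∀ a ∈ A₀, g b a ∈ TT₀ h A₀ D₀ hA₀ hD₀ hc := fun a ha =>
    ⟨1, D₀.one_mem, a, ha, by rw [one_mul]⟩
  have hDT : D₀ ≤ TT₀ h A₀ D₀ hA₀ hD₀ hc := fun d hd =>
    ⟨d, hd, 1, A₀.one_mem, by rw [g_one, mul_one]⟩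
  let F : ↥A₀ →* (↥(TT₀ h A₀ D₀ hA₀ hD₀ hc) ⧸ D₀.subgroupOf (TT₀ h A₀ D₀ hA₀ hD₀ hc)) :=
    MonoidHom.mk' (fun a => QuotientGroup.mk ⟨g b a, hgT a a.2⟩) (by
      intro a₁ a₂
      rw [← QuotientGroup.mk_mul, QuotientGroup.eq, Subgroup.mem_subgroupOf]
      have hc' : ⁅(a₁ : S), g b a₂⁆ ∈ D₀ := hc _ a₁.2 _ (h.g_mem_H (hA₀ a₂.2))
      have ht : g b a₁ * g b a₂ ∈ HH A b :=
        (HH A b).mul_mem (h.g_mem_H (hA₀ a₁.2)) (h.g_mem_H (hA₀ a₂.2))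
      have e : g b ((a₁ : S) * a₂) = ⁅(a₁ : S), g b a₂⁆ * (g b a₁ * g b a₂) := by
        rw [g_mul, mul_assoc, h.g_comm hS hB2 (hA₀ a₂.2) (hA₀ a₁.2)]
      change (g b ((a₁ : S) * a₂))⁻¹ * (g b a₁ * g b a₂) ∈ D₀
      rw [e, mul_inv_rev, mul_assoc,
        h.cl2.central _ ((DD A b).inv_mem (hD₀ hc')) _ ht, inv_mul_cancel_left]
      exact D₀.inv_mem hc')
  have hF : ∀ a : ↥A₀, F a = QuotientGroup.mk ⟨g b a, hgT a a.2⟩ := fun a => rfl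
  have hker : F.ker = D₀.subgroupOf A₀ := by
    ext a
    rw [MonoidHom.mem_ker, hF, QuotientGroup.eq_one_iff, Subgroup.mem_subgroupOf,
      Subgroup.mem_subgroupOf]
    exact hk a a.2
  have hsurj : Function.Surjective F := by
    intro q
    induction q using QuotientGroup.induction_on with
    | H x =>
      obtain ⟨x, hx⟩ := x
      obtain ⟨d, hd, a, ha, rfl⟩ := hx
      refine ⟨⟨a, ha⟩, ?_⟩
      rw [hF, QuotientGroup.eq, Subgroup.mem_subgroupOf]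
      change (g b a)⁻¹ * (d * g b a) ∈ D₀
      rw [h.cl2.central d (hD₀ hd) _ (h.g_mem_H (hA₀ ha)), inv_mul_cancel_left]
      exact hd
  have e1 := Nat.card_congr (QuotientGroup.quotientKerEquivOfSurjective F hsurj).toEquiv
  have e2 := Subgroup.card_eq_card_quotient_mul_card_subgroup F.ker
  have e3 := Subgroup.card_eq_card_quotient_mul_card_subgroup
    (D₀.subgroupOf (TT₀ h A₀ D₀ hA₀ hD₀ hc))
  have e4 : Nat.card (D₀.subgroupOf A₀) = Nat.card D₀ :=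
    Nat.card_congr (Subgroup.subgroupOfEquivOfLe hDA).toEquiv
  have e5 : Nat.card (D₀.subgroupOf (TT₀ h A₀ D₀ hA₀ hD₀ hc)) = Nat.card D₀ :=
    Nat.card_congr (Subgroup.subgroupOfEquivOfLe hDT).toEquiv
  rw [e3, e2, e1, hker, e4, e5]

/-- the rank statement: `|Ω₁(A)| ≤ |Ω₁(A*)|` -/
theorem Hyp.card_omegaOne_le [Finite S] {p : ℕ} [Fact p.Prime] (h : Hyp A B b)
    (hS : IsPGroup p S) (hp : p ≠ 2) :
    Nat.card (Cfsg.omegaOne p A) ≤ Nat.card (Cfsg.omegaOne p (Astar A b)) := by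
  have hodd : Odd p := (Fact.out : p.Prime).odd_of_ne_two hp
  have hB2 : p = 2 → IsMulCommutative B := fun h2 => absurd h2 hp
  have hDcomm : ∀ x ∈ DD A b, ∀ y ∈ DD A b, x * y = y * x := fun x hx y hy =>
    h.Acomm x (h.D_le_A hx) y (h.D_le_A hy)
  have hA₀ : torsSub p A h.Acomm ≤ A := fun x hx => hx.1
  have hD₀ : torsSub p (DD A b) hDcomm ≤ DD A b := fun x hx => hx.1
  have hc : ∀ a ∈ torsSub p A h.Acomm, ∀ y ∈ HH A b, ⁅a, y⁆ ∈ torsSub p (DD A b) hDcomm := by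
    intro a ha y hy
    refine ⟨h.cl2.comm _ (h.A_le_H ha.1) _ hy, ?_⟩
    rw [← h.cl2.pow_left (h.A_le_H ha.1) hy, ha.2]
    simp
  have hDA : torsSub p (DD A b) hDcomm ≤ torsSub p A h.Acomm := fun x hx =>
    ⟨h.D_le_A hx.1, hx.2⟩
  have hpow : ∀ t ∈ TT₀ h _ _ hA₀ hD₀ hc, t ^ p = 1 := by
    rintro _ ⟨d, hd, a, ha, rfl⟩
    exact h.pow_eq_one' p hodd hd.1 ha.1 hd.2 ha.2
  have hk : ∀ a ∈ torsSub p A h.Acomm,
      g b a ∈ torsSub p (DD A b) hDcomm ↔ a ∈ torsSub p (DD A b) hDcomm := by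
    intro a ha
    constructor
    · intro hg
      exact ⟨(h.g_mem_D_iff ha.1).mp hg.1, ha.2⟩
    · intro haD
      refine ⟨(h.g_mem_D_iff ha.1).mpr haD.1, ?_⟩
      have := hpow (g b a) ⟨1, Subgroup.one_mem _, a, ha, by rw [one_mul]⟩
      exact this
  have hcard := h.card_TT₀ hS hB2 _ _ hA₀ hD₀ hc hDA hk
  rw [omegaOne_eq_torsSub p A h.Acomm, ← hcard]
  exact Subgroup.card_le_of_le (torsSub_le_omegaOne p h.TT₀_le_Astar hpow)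

end GR

end Cfsg.Agent.Lib.Helper16
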