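import Cfsg.Agent.Lib.Helper16.GlaubermanRepl
import Mathlib.GroupTheory.Nilpotent

set_option autoImplicit false

namespace Cfsg.Agent.Lib.Helper16

namespace GR

variable {S : Type*} [Group S]

/-- In a finite `p`-group, a normal subgroup `B` not normalizing `A` contains an element of
`N(N(A)) \ N(A)`. -/
theorem exists_b [Finite S] {p : ℕ} [Fact p.Prime] (hS : IsPGroup p S) (A B : Subgroup S)
    [B.Normal] (hnot : ¬ B ≤ Subgroup.normalizer (A : Set S)) :
    ∃ b ∈ B, b ∈ Subgroup.normalizer ((Subgroup.normalizer (A : Set S)) : Set S) ∧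
      b ∉ Subgroup.normalizer (A : Set S) := by
  set N := Subgroup.normalizer (A : Set S) with hN
  set M := N ⊔ B with hM
  haveI : Group.IsNilpotent ↥M := (hS.to_subgroup M).isNilpotent
  have hnc := Group.normalizerCondition_of_isNilpotent (G := ↥M)
  have hlt : N.subgroupOf M < ⊤ := by
    rw [lt_top_iff_ne_top]
    intro htop
    rw [Subgroup.subgroupOf_eq_top] at htop
    exact hnot (le_sup_right.trans htop)
  obtain ⟨x, hxn, hxN⟩ := SetLike.exists_of_lt (hnc _ hlt)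
  obtain ⟨n, hn, b, hb, hm⟩ := Subgroup.mem_sup_of_normal_right.mp x.2
  have hxS : (x : S) ∈ Subgroup.normalizer (N : Set S) := by
    rw [Subgroup.mem_normalizer_iff]
    intro y
    constructor
    · intro hy
      have hyM : y ∈ M := (le_sup_left : N ≤ M) hy
      have := (Subgroup.mem_normalizer_iff.mp hxn ⟨y, hyM⟩).mp (Subgroup.mem_subgroupOf.mpr hy)
      exact Subgroup.mem_subgroupOf.mp this
    · intro hy
      have hyM : y ∈ M := by
        have : y = (x : S)⁻¹ * ((x : S) * y * (x : S)⁻¹) * (x : S) := by group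
        rw [this]
        exact M.mul_mem (M.mul_mem (M.inv_mem x.2) ((le_sup_left : N ≤ M) hy)) x.2
      have := (Subgroup.mem_normalizer_iff.mp hxn ⟨y, hyM⟩).mpr (Subgroup.mem_subgroupOf.mpr hy)
      exact Subgroup.mem_subgroupOf.mp this
  have hbx : b = n⁻¹ * (x : S) := by rw [← hm]; group
  refine ⟨b, hb, ?_, ?_⟩
  · rw [hbx]
    exact (Subgroup.normalizer (N : Set S)).mul_mem
      ((Subgroup.normalizer (N : Set S)).inv_mem (Subgroup.le_normalizer hn)) hxS
  · intro hbN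
    apply hxN
    rw [Subgroup.mem_subgroupOf, ← hm]
    exact N.mul_mem hn hbN

/-- The replacement property for a family of abelian subgroups stable under replacement. -/
theorem replacement_property [Finite S] {p : ℕ} [Fact p.Prime] (hS : IsPGroup p S) (hp : p ≠ 2)
    (F : Set (Subgroup S)) (hFc : ∀ A ∈ F, IsMulCommutative A)
    (hFr : ∀ A ∈ F, ∀ b : S, IsMulCommutative (Astar A b) →
      Nat.card (Astar A b) = Nat.card A →
      Monoid.exponent (Astar A b) ∣ Monoid.exponent A → Astar A b ∈ F)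
    (B : Subgroup S) [B.Normal] (hU : ∃ U ∈ F, ⁅B, B⁆ ≤ U ∧ ¬ B ≤ U) :
    ∃ A ∈ F, ⁅B, B⁆ ≤ A ∧ ¬ B ≤ A ∧ B ≤ Subgroup.normalizer (A : Set S) := by
  classical
  obtain ⟨U, hUF, hU1, hU2⟩ := hU
  have hne : ({U ∈ F | ⁅B, B⁆ ≤ U ∧ ¬ B ≤ U}).Nonempty := ⟨U, hUF, hU1, hU2⟩
  obtain ⟨A, ⟨hAF, hA1, hA2⟩, hmax⟩ := Set.exists_max_image _
    (fun U : Subgroup S => Nat.card ↥(U ⊓ B)) (Set.toFinite _) hne
  refine ⟨A, hAF, hA1, hA2, ?_⟩
  by_contra hnot
  obtain ⟨b, hb, hbN, hbA⟩ := exists_b hS A B hnot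
  obtain ⟨hcard, hcomm, hB', hlt, hlt2, -, -, -, -, hexp⟩ :=
    glauberman_replacement hS B (fun h2 => absurd h2 hp) A (hFc A hAF) hA1 b hb hbN hbA
  have hmem : Astar A b ∈ {U ∈ F | ⁅B, B⁆ ≤ U ∧ ¬ B ≤ U} := by
    refine ⟨hFr A hAF b hcomm hcard (hexp hp), hB', ?_⟩
    intro hle
    exact (ne_of_lt hlt2) (inf_eq_right.mpr hle)
  have h1 := hmax _ hmem
  have h2 : A ⊓ B = Astar A b ⊓ B := Subgroup.eq_of_le_of_card_ge (le_of_lt hlt) h1
  exact (ne_of_lt hlt) h2

theorem Astar_le {A D : Subgroup S} [D.Normal] (hAD : A ≤ D) (b : S) : Astar A b ≤ D := by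
  apply sup_le (inf_le_left.trans hAD)
  rw [Subgroup.closure_le]
  rintro x ⟨a, ha, rfl⟩
  have h1 : a ∈ D := hAD ha
  have h2 : b⁻¹ * a⁻¹ * b⁻¹⁻¹ ∈ D := ‹D.Normal›.conj_mem _ (D.inv_mem h1) _
  have : a * b⁻¹ * a⁻¹ * b = a * (b⁻¹ * a⁻¹ * b⁻¹⁻¹) := by group
  rw [this]
  exact D.mul_mem h1 h2

/-- membership in the image of a family of maximal-order subgroups of `D` -/
theorem mem_image_max_iff (D : Subgroup S) (P : Subgroup ↥D → Prop) (Q : Subgroup S → Prop)
    (hPQ : ∀ A' : Subgroup ↥D, P A' ↔ Q (A'.map D.subtype)) (U : Subgroup S) :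
    U ∈ Set.image (fun A : Subgroup ↥D => A.map D.subtype)
      {A | P A ∧ ∀ B : Subgroup ↥D, P B → Nat.card B ≤ Nat.card A} ↔
    U ≤ D ∧ Q U ∧ ∀ V : Subgroup S, V ≤ D → Q V → Nat.card V ≤ Nat.card U := by
  have hcm : ∀ A' : Subgroup ↥D, Nat.card (A'.map D.subtype) = Nat.card A' := fun A' =>
    Subgroup.card_map_of_injective D.subtype_injective
  have hcs : ∀ V : Subgroup S, V ≤ D → Nat.card (V.subgroupOf D) = Nat.card V := fun V hV =>
    Nat.card_congr (Subgroup.subgroupOfEquivOfLe hV).toEquiv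
  constructor
  · rintro ⟨A', ⟨hP, hmax⟩, rfl⟩
    refine ⟨Subgroup.map_subtype_le _, (hPQ A').mp hP, fun V hV hQ => ?_⟩
    have hPV : P (V.subgroupOf D) := (hPQ _).mpr (by
      rw [Subgroup.map_subgroupOf_eq_of_le hV]; exact hQ)
    have := hmax _ hPV
    rw [hcs V hV] at this
    change Nat.card V ≤ Nat.card (A'.map D.subtype)
    rw [hcm]
    exact this
  · rintro ⟨hUD, hQ, hmax⟩
    refine ⟨U.subgroupOf D, ⟨(hPQ _).mpr (by
      rw [Subgroup.map_subgroupOf_eq_of_le hUD]; exact hQ), fun B' hB' => ?_⟩,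
      Subgroup.map_subgroupOf_eq_of_le hUD⟩
    have := hmax (B'.map D.subtype) (Subgroup.map_subtype_le _) ((hPQ B').mp hB')
    rw [hcm] at this
    rw [hcs U hUD]
    exact this

theorem isMulCommutative_map_subtype_iff (D : Subgroup S) (A' : Subgroup ↥D) :
    IsMulCommutative ↥A' ↔ IsMulCommutative ↥(A'.map D.subtype) := by
  constructor
  · intro h
    exact Subgroup.map_isMulCommutative A' D.subtype
  · intro h
    refine ⟨⟨fun x y => ?_⟩⟩
    apply Subtype.ext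
    apply Subtype.ext
    have := mul_comm' (⟨x.1.1, Subgroup.mem_map_of_mem D.subtype x.2⟩ : ↥(A'.map D.subtype))
      ⟨y.1.1, Subgroup.mem_map_of_mem D.subtype y.2⟩
    have h2 : (x.1.1 : S) * y.1.1 = y.1.1 * x.1.1 := congrArg Subtype.val this
    exact h2

end GR

end Cfsg.Agent.Lib.Helper16
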