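import Mathlib
import Cfsg.Prelude.Def_Classical
import Cfsg.Prelude.Def_LieClassical
import Cfsg.Prelude.Def_GeometricClasses
import Cfsg.Agent.Lib.Helper49.SLUDefs
import Cfsg.Agent.Lib.Helper49.SubfieldInvol

/-!
# K-SLU-3 (keystone 598203): odd characteristic, `x² = l²` scalar: `x` is `GL`-conjugate into `CU(h)`
-/

set_option autoImplicit false

namespace Cfsg.Agent.Lib.Helper16.SLU

open Matrix Cfsg.Agent.Lib.Helper49.SLU

variable {F : Type*} [Field F] [Fintype F]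

theorem odd_of_card_sq (h2 : (2 : F) ≠ 0) {q₀ : ℕ} (hF : Fintype.card F = q₀ ^ 2) : Odd q₀ := by
  have hchar : ringChar F ≠ 2 := by
    intro h
    have : CharP F 2 := by rw [← h]; exact ringChar.charP F
    exact h2 (CharTwo.two_eq_zero)
  have hodd := FiniteField.odd_card_of_char_ne_two hchar
  rw [hF] at hodd
  rcases Nat.even_or_odd q₀ with he | ho
  · exfalso
    have : Even (q₀ ^ 2) := (Nat.even_pow.2 ⟨he, by norm_num⟩)
    rw [Nat.even_iff] at this
    omega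
  · exact ho

theorem invol_sq_u (h2 : (2 : F) ≠ 0) {q₀ : ℕ} (hF : Fintype.card F = q₀ ^ 2) (n : ℕ)
    (x : GL (Fin n) F) (l : F)
    (hx : ((x ^ 2 : GL (Fin n) F) : Matrix (Fin n) (Fin n) F) =
      (l ^ 2) • (1 : Matrix (Fin n) (Fin n) F)) :
    ∃ g : GL (Fin n) F, g⁻¹ * x * g ∈ CUh n F q₀ := by
  classical
  have hq : Odd q₀ := odd_of_card_sq h2 hF
  rcases Nat.eq_zero_or_pos n with rfl | hn0
  · refine ⟨1, 1, fun u v => ?_⟩
    simp [Cfsg.hermForm]
  have : Nonempty (Fin n) := ⟨⟨0, hn0⟩⟩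
  have hl0 : l ≠ 0 := by
    rintro rfl
    have h1 : ((x ^ 2 : GL (Fin n) F) : Matrix (Fin n) (Fin n) F).det = 0 := by
      rw [hx]; simp
    have h3 := (Matrix.GeneralLinearGroup.det (x ^ 2)).ne_zero
    rw [Matrix.GeneralLinearGroup.val_det_apply] at h3
    exact h3 h1
  set s : Matrix (Fin n) (Fin n) F := l⁻¹ • (x : Matrix (Fin n) (Fin n) F) with hs_def
  have hxs : (x : Matrix (Fin n) (Fin n) F) = l • s := by
    rw [hs_def, smul_smul, mul_inv_cancel₀ hl0, one_smul]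
  have hs : s * s = 1 := by
    have hxx : (x : Matrix (Fin n) (Fin n) F) * (x : Matrix (Fin n) (Fin n) F) =
        (l ^ 2) • (1 : Matrix (Fin n) (Fin n) F) := by
      rw [← pow_two, ← Units.val_pow_eq_pow_val]; exact hx
    rw [hs_def, Matrix.smul_mul, Matrix.mul_smul, smul_smul, hxx, smul_smul]
    have : l⁻¹ * l⁻¹ * l ^ 2 = 1 := by field_simp
    rw [this, one_smul]
  obtain ⟨P, ε, hPdet, hε, hsP⟩ := Cfsg.Agent.Lib.Helper49.exists_sl_conj_diag h2 hn0 s hs
  set g : GL (Fin n) F := Matrix.GeneralLinearGroup.mkOfDetNeZero P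
    (by rw [hPdet]; exact one_ne_zero) with hg
  have hgP : (g : Matrix (Fin n) (Fin n) F) = P := rfl
  have hconj : ((g⁻¹ * x * g : GL (Fin n) F) : Matrix (Fin n) (Fin n) F) =
      l • Matrix.diagonal ε := by
    have h1 : (x : Matrix (Fin n) (Fin n) F) * (g : Matrix (Fin n) (Fin n) F) =
        (g : Matrix (Fin n) (Fin n) F) * (l • Matrix.diagonal ε) := by
      rw [hgP, hxs, Matrix.smul_mul, hsP, Matrix.mul_smul]
    have h2' : ((g⁻¹ : GL (Fin n) F) : Matrix (Fin n) (Fin n) F) *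
        (g : Matrix (Fin n) (Fin n) F) = 1 := by
      rw [← Units.val_mul, inv_mul_cancel, Units.val_one]
    rw [Units.val_mul, Units.val_mul, mul_assoc, h1, ← mul_assoc, h2', one_mul]
  refine ⟨g, Units.mk0 (l ^ (q₀ + 1)) (pow_ne_zero _ hl0), fun u v => ?_⟩
  rw [hconj, Units.val_mk0]
  unfold Cfsg.hermForm
  rw [Finset.mul_sum]
  refine Finset.sum_congr rfl (fun j _ => ?_)
  rw [Matrix.smul_mulVec, Matrix.smul_mulVec, Pi.smul_apply, Pi.smul_apply, Matrix.mulVec_diagonal,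
    Matrix.mulVec_diagonal, smul_eq_mul, smul_eq_mul]
  rcases hε j with h | h
  · rw [h]; ring
  · rw [h, mul_pow, mul_pow, Odd.neg_one_pow hq]; ring

end Cfsg.Agent.Lib.Helper16.SLU
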