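import Mathlib
import Cfsg.Agent.S0810
import Cfsg.Agent.Lib.Helper48.Dickson.Packages
import Cfsg.Agent.Lib.Helper62.PG7920_GEN

/-!
K-SN (S4073), the converse half: in `PSL₂(2ⁿ)` with `2ⁿ - 1` prime every non-abelian subgroup is
self-normalizing.  Route: S0810 (the group is minimal simple, so a proper normalizer is solvable),
helper48's abstract Dickson structure (partition into maximal abelian components), a commutator
injection on `M ⊓ T`, and a Burnside count for the unipotent normalizer.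
-/

set_option autoImplicit false

namespace Cfsg.Agent.Lib.Helper16.SN

open Subgroup Cfsg.Agent.Lib.Helper48.Dickson

/-- a nontrivial solvable group has an element `a ≠ 1` all of whose conjugates commute with it -/
theorem exists_ne_one_conj_commute {M : Type*} [Group M] [Group.IsSolvable M] [Nontrivial M] :
    ∃ a : M, a ≠ 1 ∧ ∀ m : M, (m * a * m⁻¹) * a = a * (m * a * m⁻¹) := by
  classical
  obtain ⟨n, hn⟩ := (Group.IsSolvable.solvable : ∃ n, derivedSeries M n = ⊥)
  have hex : ∃ k, derivedSeries M k = ⊥ := ⟨n, hn⟩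
  set k := Nat.find hex with hk
  have hk1 : derivedSeries M k = ⊥ := Nat.find_spec hex
  have hk0 : k ≠ 0 := by
    intro h0
    rw [h0, derivedSeries_zero] at hk1
    exact top_ne_bot hk1
  obtain ⟨j, hj⟩ := Nat.exists_eq_succ_of_ne_zero hk0
  have hjne : derivedSeries M j ≠ ⊥ := by
    intro h
    have := Nat.find_min' hex h
    omega
  have hcomm : ⁅derivedSeries M j, derivedSeries M j⁆ = ⊥ := by
    rw [← derivedSeries_succ, ← Nat.succ_eq_add_one, ← hj]; exact hk1
  rw [commutator_eq_bot_iff_le_centralizer] at hcomm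
  obtain ⟨⟨a, ha⟩, ha0⟩ := (Subgroup.ne_bot_iff_exists_ne_one).1 hjne
  have ha1 : a ≠ 1 := fun h1 => ha0 (Subtype.ext h1)
  refine ⟨a, ha1, fun m => ?_⟩
  have hN : (derivedSeries M j).Normal := derivedSeries_normal M j
  have hc : m * a * m⁻¹ ∈ derivedSeries M j := hN.conj_mem a ha m
  have := hcomm hc
  rw [mem_centralizer_iff] at this
  exact (this a ha).symm

/-- the core: if `h ∈ H` acts freely on `T`, `M ≤ N(H) ∩ N(T)` and `M` is covered by `T`-cosets of
elements of `H`, then `M ≤ H` -/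
theorem le_of_free {G : Type*} [Group G] [Finite G] (T H M : Subgroup G) (hHM : H ≤ M)
    (hMN : M ≤ normalizer (H : Set G)) (hMT : M ≤ normalizer (T : Set G)) (h : G) (hh : h ∈ H)
    (hfree : ∀ d ∈ T, h * d * h⁻¹ = d → d = 1)
    (hcov : ∀ m ∈ M, m ∉ T → ∃ h' ∈ H, m * h' ∈ T) : M ≤ H := by
  have hhM : h ∈ M := hHM hh
  have hhT : h ∈ normalizer (T : Set G) := hMT hhM
  -- the commutator map on `M ⊓ T`
  let φ : ↥(M ⊓ T) → ↥(M ⊓ T) := fun c => ⟨c.1 * (h * c.1⁻¹ * h⁻¹), by
    refine ⟨M.mul_mem c.2.1 (M.mul_mem (M.mul_mem hhM (M.inv_mem c.2.1)) (M.inv_mem hhM)), ?_⟩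
    refine T.mul_mem c.2.2 ?_
    exact (mem_normalizer_iff.1 hhT _).1 (T.inv_mem c.2.2)⟩
  have hinj : Function.Injective φ := by
    intro c c' hcc
    have h1 : c.1 * (h * c.1⁻¹ * h⁻¹) = c'.1 * (h * c'.1⁻¹ * h⁻¹) := congrArg (fun x : ↥(M ⊓ T) => x.1) hcc
    have h2 : h * (c'.1⁻¹ * c.1) * h⁻¹ = c'.1⁻¹ * c.1 := by
      have h0 : c'.1⁻¹ * c.1 = (h * c'.1⁻¹ * h⁻¹) * (h * c.1⁻¹ * h⁻¹)⁻¹ := by
        rw [eq_mul_inv_iff_mul_eq, mul_assoc, h1]; group
      have e : (h * c'.1⁻¹ * h⁻¹) * (h * c.1⁻¹ * h⁻¹)⁻¹ = h * (c'.1⁻¹ * c.1) * h⁻¹ := by group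
      rw [← e]; exact h0.symm
    have h3 := hfree _ (T.mul_mem (T.inv_mem c'.2.2) c.2.2) h2
    apply Subtype.ext
    exact (inv_mul_eq_one.1 h3).symm
  have hsurj : Function.Surjective φ := Finite.injective_iff_surjective.1 hinj
  have hMTH : ∀ c ∈ M, c ∈ T → c ∈ H := by
    intro c hcM hcT
    obtain ⟨c', hc'⟩ := hsurj ⟨c, hcM, hcT⟩
    have h1 : c = c'.1 * (h * c'.1⁻¹ * h⁻¹) := (congrArg (fun x : ↥(M ⊓ T) => x.1) hc').symm
    have h2 : c'.1 * h * c'.1⁻¹ ∈ H := (mem_normalizer_iff.1 (hMN c'.2.1) h).1 hh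
    have h3 : c = (c'.1 * h * c'.1⁻¹) * h⁻¹ := by rw [h1]; group
    rw [h3]
    exact H.mul_mem h2 (H.inv_mem hh)
  intro m hm
  by_cases hmT : m ∈ T
  · exact hMTH m hm hmT
  · obtain ⟨h', hh', hmh⟩ := hcov m hm hmT
    have h1 : m * h' ∈ H := hMTH _ (M.mul_mem hm (hHM hh')) hmh
    have : m = (m * h') * h'⁻¹ := by group
    rw [this]
    exact H.mul_mem h1 (H.inv_mem hh')


/-- abstract theorem: a Dickson structure for `p = 2` in which components are full centralizers and
unipotent components have order `q` with `q - 1` prime: a solvable `M` between a non-abelian `H` and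
its normalizer equals `H` -/
theorem le_of_dstruct {G : Type*} [Group G] [Finite G] (D : DStruct G 2) (q : ℕ) (hq : (q - 1).Prime)
    (hcent : ∀ a b : G, a ≠ 1 → a * b = b * a → b ∈ D.comp a)
    (hcard : ∀ g, g ≠ 1 → IsPGroup 2 (D.comp g) → Nat.card (D.comp g) = q)
    (H M : Subgroup G) (hHM : H ≤ M) (hMN : M ≤ normalizer (H : Set G))
    (hsolv : Group.IsSolvable M) (hH : ¬ IsMulCommutative H) : M ≤ H := by
  classical
  haveI : Nontrivial M := by
    by_contra hnt
    rw [not_nontrivial_iff_subsingleton] at hnt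
    apply hH
    refine ⟨⟨fun x y => ?_⟩⟩
    have hx : (⟨x.1, hHM x.2⟩ : M) = ⟨y.1, hHM y.2⟩ := Subsingleton.elim _ _
    have hxy : x.1 = y.1 := congrArg (fun z : M => z.1) hx
    have : x = y := Subtype.ext hxy
    rw [this]
  obtain ⟨a0, ha0, hconj⟩ := exists_ne_one_conj_commute (M := M)
  set a : G := a0.1 with ha
  have ha1 : a ≠ 1 := fun h => ha0 (Subtype.ext h)
  set T := D.comp a with hT
  have hMT : M ≤ normalizer (T : Set G) := by
    intro m hm
    have h1 := hconj ⟨m, hm⟩
    have h2 : (m * a * m⁻¹) * a = a * (m * a * m⁻¹) := by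
      have := congrArg Subtype.val h1
      simpa using this
    have h3 : m * a * m⁻¹ ∈ D.comp a := hcent a _ ha1 h2.symm
    have h4 : D.comp (m * a * m⁻¹) = D.comp a :=
      D.comp_eq_of_mem ha1 (DStruct.conj_ne_one ha1) h3
    exact (D.mem_nrm_comp_iff ha1).2 h4
  obtain ⟨h, hh, hhT⟩ : ∃ h ∈ H, h ∉ T := by
    by_contra hcon
    push Not at hcon
    apply hH
    refine ⟨⟨fun x y => Subtype.ext ?_⟩⟩
    exact D.comp_comm a ha1 x.1 (hcon x.1 x.2) y.1 (hcon y.1 y.2)
  have hhN : h ∈ normalizer (T : Set G) := hMT (hHM hh)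
  rcases D.dich a ha1 with hU | hC
  · -- unipotent type
    have hcardT : Nat.card T = q := hcard a ha1 hU
    haveI : Fact (q - 1).Prime := ⟨hq⟩
    have hord : ∀ n ∈ normalizer (T : Set G), n ∉ T → orderOf n = q - 1 := by
      intro n hn hnT
      have hodd : ¬ 2 ∣ orderOf n := D.u_not_dvd a ha1 hU n hn hnT
      have hzN : ∀ x ∈ zpowers n, x ∈ normalizer (T : Set G) := fun x hx => (zpowers_le.2 hn) hx
      letI : MulAction (zpowers n) T :=
        { smul := fun x t => ⟨x.1 * t.1 * x.1⁻¹, (mem_normalizer_iff.1 (hzN x.1 x.2) t.1).1 t.2⟩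
          one_smul := fun t => Subtype.ext (by
            show (1 : G) * t.1 * (1 : G)⁻¹ = t.1
            group)
          mul_smul := fun x y t => Subtype.ext (by
            show (x.1 * y.1) * t.1 * (x.1 * y.1)⁻¹ = x.1 * (y.1 * t.1 * y.1⁻¹) * x.1⁻¹
            group) }
      have hfix : ∀ x : zpowers n, x ≠ 1 → Nat.card (MulAction.fixedBy T x) = 1 := by
        intro x hx
        have hx1 : x.1 ≠ 1 := fun h => hx (Subtype.ext h)
        have hxT : x.1 ∉ T := by
          intro hxT
          obtain ⟨k, hk⟩ := hU ⟨x.1, hxT⟩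
          have hk' : x.1 ^ (2 ^ k) = 1 := by simpa using congrArg Subtype.val hk
          have h1 : orderOf x.1 ∣ 2 ^ k := orderOf_dvd_of_pow_eq_one hk'
          have h2 : orderOf x.1 ∣ orderOf n := orderOf_dvd_of_mem_zpowers x.2
          have hcop : Nat.Coprime (2 ^ k) (orderOf n) :=
            Nat.Coprime.pow_left k ((Nat.Prime.coprime_iff_not_dvd Nat.prime_two).2 hodd)
          have h3 : orderOf x.1 ∣ 1 := by
            have := Nat.dvd_gcd h1 h2
            rwa [hcop] at this
          exact hx1 (orderOf_eq_one_iff.1 (Nat.dvd_one.1 h3))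
        have huniq : ∀ t : T, t ∈ MulAction.fixedBy T x → t = 1 := by
          intro t ht
          by_contra ht1
          have ht1' : t.1 ≠ 1 := fun h => ht1 (Subtype.ext h)
          apply D.u_free a ha1 hU x.1 (hzN x.1 x.2) hxT t.1 t.2 ht1'
          have h5 : x • t = t := ht
          exact congrArg Subtype.val h5
        rw [Nat.card_eq_one_iff_unique]
        refine ⟨⟨fun s t => Subtype.ext ((huniq s.1 s.2).trans (huniq t.1 t.2).symm)⟩,
          ⟨⟨1, ?_⟩⟩⟩
        show x • (1 : T) = 1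
        exact Subtype.ext (by
          show x.1 * (1 : G) * x.1⁻¹ = 1
          group)
      have hdvd := Cfsg.Agent.Lib.Helper62.PG7920.card_dvd_card_sub_one_of_unique_fixed
        (S := zpowers n) (X := T) hfix
      rw [Nat.card_zpowers, hcardT] at hdvd
      rcases (Nat.dvd_prime hq).1 hdvd with h1 | h1
      · exfalso
        apply hnT
        rw [orderOf_eq_one_iff.1 h1]
        exact T.one_mem
      · exact h1
    obtain ⟨n0, hn0, hgen⟩ := D.u_cyc a ha1 hU
    haveI hnorm : (T.subgroupOf (normalizer (T : Set G))).Normal := Subgroup.normal_in_normalizer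
    haveI hcyc : IsCyclic (↥(normalizer (T : Set G)) ⧸ T.subgroupOf (normalizer (T : Set G))) := by
      rw [isCyclic_iff_exists_zpowers_eq_top]
      refine ⟨QuotientGroup.mk ⟨n0, hn0⟩, ?_⟩
      rw [eq_top_iff]
      intro x _
      obtain ⟨n, rfl⟩ := QuotientGroup.mk_surjective x
      obtain ⟨i, hi⟩ := hgen n.1 n.2
      rw [Subgroup.mem_zpowers_iff]
      refine ⟨-(i : ℤ), ?_⟩
      have h1 : (QuotientGroup.mk n : ↥(normalizer (T : Set G)) ⧸ T.subgroupOf (normalizer (T : Set G))) *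
          (QuotientGroup.mk ⟨n0, hn0⟩) ^ i = 1 := by
        rw [← QuotientGroup.mk_pow, ← QuotientGroup.mk_mul, QuotientGroup.eq_one_iff,
          mem_subgroupOf]
        simpa using hi
      rw [zpow_neg, zpow_natCast]
      exact (eq_inv_of_mul_eq_one_left h1).symm
    have hexp : ∀ x : ↥(normalizer (T : Set G)) ⧸ T.subgroupOf (normalizer (T : Set G)),
        x ^ (q - 1) = 1 := by
      intro x
      obtain ⟨n, rfl⟩ := QuotientGroup.mk_surjective x
      by_cases hnT : n.1 ∈ T
      · have : (QuotientGroup.mk n : ↥(normalizer (T : Set G)) ⧸ T.subgroupOf (normalizer (T : Set G))) = 1 :=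
          (QuotientGroup.eq_one_iff n).2 (mem_subgroupOf.2 hnT)
        rw [this, one_pow]
      · have h1 := hord n.1 n.2 hnT
        have h2 : n ^ (q - 1) = 1 := by
          apply Subtype.ext
          rw [Subgroup.coe_pow, ← h1]
          exact pow_orderOf_eq_one n.1
        rw [← QuotientGroup.mk_pow, h2]
        rfl
    have hcardQ : Nat.card (↥(normalizer (T : Set G)) ⧸ T.subgroupOf (normalizer (T : Set G))) ∣ q - 1 := by
      rw [← IsCyclic.exponent_eq_card]
      exact Monoid.exponent_dvd_of_forall_pow_eq_one hexp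
    have hhbar : (QuotientGroup.mk ⟨h, hhN⟩ :
        ↥(normalizer (T : Set G)) ⧸ T.subgroupOf (normalizer (T : Set G))) ≠ 1 := by
      intro h1
      rw [QuotientGroup.eq_one_iff] at h1
      exact hhT (mem_subgroupOf.1 h1)
    have hcardQ' : Nat.card (↥(normalizer (T : Set G)) ⧸ T.subgroupOf (normalizer (T : Set G))) = q - 1 := by
      rcases (Nat.dvd_prime hq).1 hcardQ with h1 | h1
      · exfalso
        have : Subsingleton (↥(normalizer (T : Set G)) ⧸ T.subgroupOf (normalizer (T : Set G))) :=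
          (Nat.card_eq_one_iff_unique.1 h1).1
        exact hhbar (Subsingleton.elim _ _)
      · exact h1
    refine le_of_free T H M hHM hMN hMT h hh ?_ ?_
    · intro d hd hdd
      by_contra hd1
      exact D.u_free a ha1 hU h hhN hhT d hd hd1 hdd
    · intro m hm hmT
      have hmem : (QuotientGroup.mk ⟨m, hMT hm⟩ :
          ↥(normalizer (T : Set G)) ⧸ T.subgroupOf (normalizer (T : Set G))) ∈
          zpowers (QuotientGroup.mk ⟨h, hhN⟩ :
            ↥(normalizer (T : Set G)) ⧸ T.subgroupOf (normalizer (T : Set G))) :=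
        mem_zpowers_of_prime_card hcardQ' hhbar
      obtain ⟨k, hk⟩ := Subgroup.mem_zpowers_iff.1 hmem
      refine ⟨h ^ (-k), H.zpow_mem hh _, ?_⟩
      have h1 : (QuotientGroup.mk ((⟨m, hMT hm⟩ : ↥(normalizer (T : Set G))) * ⟨h, hhN⟩ ^ (-k)) :
          ↥(normalizer (T : Set G)) ⧸ T.subgroupOf (normalizer (T : Set G))) = 1 := by
        rw [QuotientGroup.mk_mul, QuotientGroup.mk_zpow, ← hk, zpow_neg]
        exact mul_inv_cancel _
      rw [QuotientGroup.eq_one_iff, mem_subgroupOf] at h1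
      simpa using h1
  · -- torus type
    have hinv := D.t_inv a ha1 hC h hhN hhT
    refine le_of_free T H M hHM hMN hMT h hh ?_ ?_
    · intro d hd hdd
      have h1 : d⁻¹ = d := by rw [← hinv.2 d hd]; exact hdd
      have h2 : d ^ 2 = 1 := by
        rw [sq]
        nth_rewrite 1 [← h1]
        exact inv_mul_cancel d
      have h3 : orderOf d ∣ 2 := orderOf_dvd_of_pow_eq_one h2
      have h4 : orderOf d ∣ Nat.card T := by
        have := orderOf_dvd_natCard (⟨d, hd⟩ : T)
        rwa [Subgroup.orderOf_mk] at this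
      have h5 : orderOf d ∣ Nat.gcd (Nat.card T) 2 := Nat.dvd_gcd h4 h3
      have hC' : Nat.gcd (Nat.card T) 2 = 1 := hC
      rw [hC'] at h5
      exact orderOf_eq_one_iff.1 (Nat.dvd_one.1 h5)
    · intro m hm hmT
      exact ⟨h, hh, D.t_idx a ha1 hC m (hMT hm) h hhN hmT hhT⟩

section concrete

variable {F : Type*} [Field F] [Fintype F] [CharP F 2]

local notation "SL2" => Matrix.SpecialLinearGroup (Fin 2) F
local notation "PSL2" => Matrix.ProjectiveSpecialLinearGroup (Fin 2) F

omit [Fintype F] in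
theorem center_trivial_of_char_two (z : SL2) (hz : z ∈ Subgroup.center SL2) : z = 1 := by
  rw [Matrix.SpecialLinearGroup.mem_center_iff] at hz
  obtain ⟨r, hr, hz⟩ := hz
  have hr2 : r ^ 2 = 1 := by simpa using hr
  have h1 : (r + 1) ^ 2 = 0 := by
    rw [CharTwo.add_sq, hr2, one_pow, CharTwo.add_self_eq_zero]
  have h2 : r + 1 = 0 := (pow_eq_zero_iff (two_ne_zero)).1 h1
  have h3 : r = 1 := by
    have : r = -1 := eq_neg_of_add_eq_zero_left h2
    rw [this, CharTwo.neg_eq]
  apply Subtype.ext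
  rw [← hz, h3]
  simp

omit [Fintype F] in
theorem mem_comp2_of_commute (a b : PSL2) (hab : a * b = b * a) : b ∈ comp2 a := by
  obtain ⟨A, rfl⟩ := mk2_surjective a
  obtain ⟨B, rfl⟩ := mk2_surjective b
  rw [mem_comp2_iff]
  have h1 : mk2 (A * B) = mk2 (B * A) := by rw [map_mul, map_mul]; exact hab
  obtain ⟨z, hz, hzz⟩ := (mk2_eq_iff (A * B) (B * A)).1 h1
  rw [center_trivial_of_char_two z hz, mul_one] at hzz
  exact hzz

theorem card_comp_of_isPGroup (g : PSL2) (hg : g ≠ 1)
    (hU : IsPGroup 2 ((dstruct (tPack (F := F) 2) (uPack 2)).comp g)) :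
    Nat.card ((dstruct (tPack (F := F) 2) (uPack 2)).comp g) = Fintype.card F := by
  obtain ⟨P, hP⟩ := DStruct.comp_sylow (dstruct (tPack (F := F) 2) (uPack 2)) hg hU
  rw [← hP, Sylow.card_eq_multiplicity,
    ← Sylow.card_eq_multiplicity (Cfsg.Agent.Lib.Helper98.SL2Borel.sylUBar (F := F) 2)]
  exact Cfsg.Agent.Lib.Helper98.SL2Borel.card_uBar

theorem normalizer_eq_of_char_two (q : ℕ) (hF : Fintype.card F = q) (hq : (q - 1).Prime)
    (hmin : Cfsg.IsMinimalSimple PSL2) (H : Subgroup PSL2) (hH : ¬ IsMulCommutative H) :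
    Subgroup.normalizer (H : Set PSL2) = H := by
  haveI := hmin.1
  by_cases hM : normalizer (H : Set PSL2) = ⊤
  · have hn : H.Normal := normalizer_eq_top_iff.1 hM
    rcases hn.eq_bot_or_eq_top with h | h
    · exfalso
      apply hH
      refine ⟨⟨fun x y => ?_⟩⟩
      have hle : H ≤ ⊥ := h.le
      have hx : x = 1 := Subtype.ext (Subgroup.mem_bot.1 (hle x.2))
      have hy : y = 1 := Subtype.ext (Subgroup.mem_bot.1 (hle y.2))
      rw [hx, hy]
    · rw [hM, h]
  · have hs := hmin.2.2 _ hM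
    apply le_antisymm _ le_normalizer
    exact le_of_dstruct (dstruct (tPack (F := F) 2) (uPack 2)) q hq
      (fun a b _ hab => mem_comp2_of_commute a b hab)
      (fun g hg hU => (card_comp_of_isPGroup g hg hU).trans hF) H _ le_normalizer le_rfl hs hH

end concrete

/-- the converse half of S4073: in a group isomorphic to `PSL₂(2ⁿ)` with `2ⁿ - 1` prime every
non-abelian subgroup is self-normalizing -/
theorem normalizer_eq_of_psl2 (n : ℕ) (hn : 2 ≤ n) (hp : (2 ^ n - 1).Prime) {G : Type*} [Group G]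
    (e : G ≃* Matrix.ProjectiveSpecialLinearGroup (Fin 2) (GaloisField 2 n)) (H : Subgroup G)
    (hH : ¬ IsMulCommutative H) : Subgroup.normalizer (H : Set G) = H := by
  classical
  letI : Fintype (GaloisField 2 n) := Fintype.ofFinite _
  have hcard : Fintype.card (GaloisField 2 n) = 2 ^ n := by
    rw [← Nat.card_eq_fintype_card]; exact GaloisField.card 2 n (by omega)
  have hnp : n.Prime := (Nat.prime_of_pow_sub_one_prime (by omega) hp).2
  have hmin : Cfsg.IsMinimalSimple
      (Matrix.ProjectiveSpecialLinearGroup (Fin 2) (GaloisField 2 n)) :=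
    (Cfsg.Agent.S0810.result hcard).2 (Or.inl ⟨n, hnp, rfl⟩)
  have hH' : ¬ IsMulCommutative (H.map e.toMonoidHom) := by
    intro hc
    apply hH
    refine ⟨⟨fun x y => ?_⟩⟩
    have hx : e x.1 ∈ H.map e.toMonoidHom := Subgroup.mem_map_of_mem _ x.2
    have hy : e y.1 ∈ H.map e.toMonoidHom := Subgroup.mem_map_of_mem _ y.2
    have h1 := hc.is_comm.comm ⟨e x.1, hx⟩ ⟨e y.1, hy⟩
    have h2 : e x.1 * e y.1 = e y.1 * e x.1 := congrArg Subtype.val h1
    apply Subtype.ext
    apply e.injective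
    show e (x.1 * y.1) = e (y.1 * x.1)
    rw [map_mul, map_mul]
    exact h2
  have key := normalizer_eq_of_char_two (2 ^ n) hcard hp hmin (H.map e.toMonoidHom) hH'
  have h1 := Subgroup.map_equiv_normalizer_eq H e
  rw [key] at h1
  exact Subgroup.map_injective e.injective h1

end Cfsg.Agent.Lib.Helper16.SN
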