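import Mathlib
import Cfsg.Prelude.Def_GeometricClasses
import Cfsg.Agent.Lib.Helper87.SU3Defs
import Cfsg.Agent.Lib.Helper51.FieldAutU1

/-!
# S5778 leaf 577809 (K-SU3-A2): `g = c • A ∈ SU_3(5)` with `A` over the prime field preserves `InX5'`.
-/

set_option autoImplicit false

namespace Cfsg.Agent.Lib.Helper16.SU3K

open Cfsg Cfsg.Geo Matrix Cfsg.Agent.Lib.Helper87.SU3

variable {F : Type*} [Field F] [Fintype F]

local notation "M3" => Matrix (Fin 3) (Fin 3) F
local notation "G3" => GL (Fin 3) F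

/-- coordinates of `(c • A) *ᵥ v` -/
theorem smul_mulVec_apply (c : F) (A : M3) (v : Fin 3 → F) (i : Fin 3) :
    ((c • A) *ᵥ v) i = c * (A i 0 * v 0 + A i 1 * v 1 + A i 2 * v 2) := by
  simp [Matrix.mulVec, dotProduct, Fin.sum_univ_three, mul_add, mul_assoc]

/-- fifth power of a coordinate, in characteristic five -/
theorem coord_pow_five [CharP F 5] (c : F) (a0 a1 a2 x0 x1 x2 : F) (h0 : a0 ^ 5 = a0)
    (h1 : a1 ^ 5 = a1) (h2 : a2 ^ 5 = a2) :
    (c * (a0 * x0 + a1 * x1 + a2 * x2)) ^ 5 =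
      c ^ 5 * (a0 * x0 ^ 5 + a1 * x1 ^ 5 + a2 * x2 ^ 5) := by
  haveI : Fact (Nat.Prime 5) := ⟨by norm_num⟩
  rw [mul_pow, add_pow_char, add_pow_char, mul_pow, mul_pow, mul_pow, h0, h1, h2]

/-- forward invariance of the three conditions -/
theorem forward (hF : Fintype.card F = 25) (g : G3) (hg : g ∈ SU3 F 5) (c : F) (A : M3)
    (hA : ∀ i j, A i j ^ 5 = A i j) (hgA : (g : M3) = c • A) (v : Fin 3 → F) (hv : InX5' v) :
    InX5' ((g : M3) *ᵥ v) := by
  haveI : Fact (Nat.Prime 5) := ⟨by norm_num⟩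
  haveI : CharP F 5 := charP_of_card_eq_prime_pow (f := 2) (by rw [hF]; norm_num)
  obtain ⟨hn, hdis⟩ := hv
  have hGU : g ∈ GU 3 F 5 := hg.1
  have hSL : g ∈ specialLinear (Fin 3) F := hg.2
  -- the norm
  have hnrm : nrm 5 ((g : M3) *ᵥ v) = 1 := by
    rw [← hermForm_self, ← hn, ← hermForm_self]
    exact hGU v v
  refine ⟨hnrm, ?_⟩
  -- unitarity as a matrix identity
  have hU := (Cfsg.Agent.Lib.Helper51.mem_GU_iff_mul (frobenius F 5) (fun x => frobenius_def 5 x) g).mp hGU
  have hmap : (c • A).map (frobenius F 5) = c ^ 5 • A := by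
    ext i j
    simp [Matrix.map_apply, frobenius_def, mul_pow, hA i j]
  rw [hgA, hmap] at hU
  -- `c ^ 6 • (Aᵀ * A) = 1`
  have hU' : c ^ 6 • (Aᵀ * A) = 1 := by
    rw [← hU, Matrix.transpose_smul, Matrix.smul_mul, Matrix.mul_smul, smul_smul]
    congr 1
    ring
  -- `c ≠ 0`
  have hc0 : c ≠ 0 := by
    rintro rfl
    have : (1 : M3) 0 0 = 0 := by rw [← hU']; simp
    simp at this
  -- the determinant
  have hdet : c ^ 3 * A.det = 1 := by
    have h1 : (g : M3).det = 1 := by
      have := hSL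
      rw [specialLinear, MonoidHom.mem_ker] at this
      have h2 := congrArg Units.val this
      simpa using h2
    rw [hgA, Matrix.det_smul] at h1
    simpa using h1
  have hdetA5 : A.det ^ 5 = A.det := by
    have h1 : (frobenius F 5) A.det = (A.map (frobenius F 5)).det := by
      rw [RingHom.map_det]
      rfl
    have h2 : A.map (frobenius F 5) = A := by
      ext i j
      simp [Matrix.map_apply, frobenius_def, hA i j]
    rw [h2, frobenius_def] at h1
    exact h1
  have hdetA0 : A.det ≠ 0 := by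
    intro h
    rw [h, mul_zero] at hdet
    exact zero_ne_one hdet
  have hdetA4 : A.det ^ 4 = 1 := by
    have : A.det * A.det ^ 4 = A.det * 1 := by rw [← pow_succ', hdetA5, mul_one]
    exact mul_left_cancel₀ hdetA0 this
  have hc12 : c ^ 12 = 1 := by
    have h1 : (c ^ 3 * A.det) ^ 4 = 1 := by rw [hdet, one_pow]
    rw [mul_pow, hdetA4, mul_one, ← pow_mul] at h1
    exact h1
  -- `bet`
  have hbet : c ^ 4 * bet ((g : M3) *ᵥ v) = bet v := by
    have e : ∀ k l : Fin 3, c ^ 6 * (A 0 k * A 0 l + A 1 k * A 1 l + A 2 k * A 2 l) =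
        if k = l then 1 else 0 := by
      intro k l
      have := congrFun (congrFun hU' k) l
      simpa only [Matrix.smul_apply, Matrix.mul_apply, Matrix.transpose_apply, Fin.sum_univ_three,
        smul_eq_mul, Matrix.one_apply] using this
    have e00 := e 0 0
    have e01 := e 0 1
    have e02 := e 0 2
    have e11 := e 1 1
    have e12 := e 1 2
    have e22 := e 2 2
    rw [if_pos rfl] at e00 e11 e22
    rw [if_neg (by decide)] at e01 e02 e12
    have hc2 : c ^ 2 ≠ 0 := pow_ne_zero 2 hc0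
    apply mul_left_cancel₀ hc2
    rw [hgA]
    simp only [bet, smul_mulVec_apply]
    linear_combination c ^ 2 * ((v 0 ^ 2) * e00 + (2 * v 0 * v 1) * e01 + (2 * v 0 * v 2) * e02 +
      (v 1 ^ 2) * e11 + (2 * v 1 * v 2) * e12 + (v 2 ^ 2) * e22)
  rcases hdis with h | h | h
  · left
    intro i j
    rw [hgA]
    simp only [smul_mulVec_apply]
    rw [coord_pow_five c _ _ _ _ _ _ (hA j 0) (hA j 1) (hA j 2),
      coord_pow_five c _ _ _ _ _ _ (hA i 0) (hA i 1) (hA i 2)]
    have h01 := h 0 1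
    have h02 := h 0 2
    have h12 := h 1 2
    linear_combination c ^ 6 * ((A i 0 * A j 1 - A i 1 * A j 0) * h01 +
      (A i 0 * A j 2 - A i 2 * A j 0) * h02 + (A i 1 * A j 2 - A i 2 * A j 1) * h12)
  · right; left
    have h1 : c ^ 4 * bet ((g : M3) *ᵥ v) = 0 := by rw [hbet, h]
    rcases mul_eq_zero.mp h1 with h2 | h2
    · exact absurd h2 (pow_ne_zero 4 hc0)
    · exact h2
  · right; right
    have h1 : (c ^ 4 * bet ((g : M3) *ᵥ v)) ^ 3 = 2 := by rw [hbet, h]
    rw [mul_pow, ← pow_mul, hc12, one_mul] at h1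
    exact h1

/-- **577809 K-SU3-A2.** -/
theorem mem_stab_of_real (hF : Fintype.card F = 25) (g : G3) (hg : g ∈ SU3 F 5) (c : F) (A : M3)
    (hA : ∀ i j, A i j ^ 5 = A i j) (hgA : (g : M3) = c • A) : g ∈ stab InX5' := by
  classical
  have hn : 0 < Fintype.card G3 := Fintype.card_pos
  exact mem_stab_of_forall_imp hn (pow_card_eq_one) (fun v hv => forward hF g hg c A hA hgA v hv)

end Cfsg.Agent.Lib.Helper16.SU3K
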