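import Cfsg.Agent.Lib.Helper29.VLBase

/-!
# K-S3777-A : basics on `phi p G` (intersection of the index-`p` subgroups of a finite `p`-group)
-/

namespace Cfsg.Agent.Lib.Helper16.VLA
open Subgroup Cfsg.Agent.Lib.Helper29.VL
open scoped commutatorElement

variable {G : Type*} [Group G] [Finite G] {p : ℕ} [hp : Fact p.Prime]

theorem card_mult_zmod : Nat.card (Multiplicative (ZMod p)) = p := by
  rw [Nat.card_eq_fintype_card, Fintype.card_multiplicative, ZMod.card]

theorem pow_p_eq_one (a : Multiplicative (ZMod p)) : a ^ p = 1 := by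
  have h := pow_card_eq_one' (G := Multiplicative (ZMod p)) (x := a)
  rwa [card_mult_zmod] at h

theorem normal_of_index (hG : IsPGroup p G) {M : Subgroup G} (hM : M.index = p) : M.Normal := by
  apply Subgroup.normal_of_index_eq_minFac_card
  obtain ⟨n, hn⟩ := IsPGroup.iff_card.mp hG
  have hn0 : n ≠ 0 := by
    rintro rfl
    have h1 : M.index ∣ Nat.card G := Subgroup.index_dvd_card M
    rw [hn, hM, pow_zero] at h1
    exact hp.out.one_lt.ne' (Nat.dvd_one.mp h1)
  rw [hM, hn, Nat.Prime.pow_minFac hp.out hn0]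

theorem exists_hom_of_index (hG : IsPGroup p G) {M : Subgroup G} (hM : M.index = p) :
    ∃ f : G →* Multiplicative (ZMod p), f.ker = M := by
  have hn : M.Normal := normal_of_index hG hM
  have hc : Nat.card (G ⧸ M) = p := by rw [← Subgroup.index_eq_card, hM]
  let e : (G ⧸ M) ≃* Multiplicative (ZMod p) := mulEquivOfPrimeCardEq hc card_mult_zmod
  refine ⟨e.toMonoidHom.comp (QuotientGroup.mk' M), ?_⟩
  ext x
  rw [MonoidHom.mem_ker]
  simp only [MonoidHom.comp_apply, MulEquiv.coe_toMonoidHom, QuotientGroup.mk'_apply]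
  rw [MulEquiv.map_eq_one_iff, QuotientGroup.eq_one_iff]

theorem phi_normal (hG : IsPGroup p G) : (phi p G).Normal := by
  constructor
  intro n hn g
  unfold phi at hn ⊢
  rw [Subgroup.mem_sInf] at hn ⊢
  intro M hM
  have : M.Normal := normal_of_index hG hM
  exact this.conj_mem n (hn M hM) g

theorem commutator_le_phi (hG : IsPGroup p G) : commutator G ≤ phi p G := by
  unfold phi
  refine le_sInf ?_
  intro M hM
  obtain ⟨f, hf⟩ := exists_hom_of_index hG hM
  rw [← hf]
  exact Abelianization.commutator_subset_ker f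

theorem pow_mem_phi (hG : IsPGroup p G) (x : G) : x ^ p ∈ phi p G := by
  unfold phi
  rw [Subgroup.mem_sInf]
  intro M hM
  obtain ⟨f, hf⟩ := exists_hom_of_index hG hM
  rw [← hf, MonoidHom.mem_ker, map_pow, pow_p_eq_one]

theorem exists_index_le_of_ne_top (hG : IsPGroup p G) {H : Subgroup G} (hH : H ≠ ⊤) :
    ∃ M : Subgroup G, M.index = p ∧ H ≤ M := by
  obtain ⟨N, hN⟩ := IsPGroup.iff_card.mp hG
  obtain ⟨n, hn⟩ := IsPGroup.iff_card.mp (hG.to_subgroup H)
  have hlt : n < N := by
    by_contra hge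
    push Not at hge
    apply hH
    apply Subgroup.eq_top_of_card_eq
    have h1 : Nat.card H ≤ Nat.card G := Subgroup.card_le_card_group H
    have h2 : p ^ N ≤ p ^ n := Nat.pow_le_pow_right hp.out.pos hge
    rw [hN, hn] at *
    omega
  have hdvd : p ^ (N - 1) ∣ Nat.card G := by
    rw [hN]; exact pow_dvd_pow p (Nat.sub_le N 1)
  obtain ⟨K, hK, hHK⟩ := Sylow.exists_subgroup_card_pow_prime_le p hdvd H hn (by omega)
  refine ⟨K, ?_, hHK⟩
  have h3 : Nat.card K * K.index = Nat.card G := Subgroup.card_mul_index K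
  rw [hK, hN] at h3
  have h4 : p ^ N = p ^ (N - 1) * p := by
    rw [← pow_succ]; congr 1; omega
  rw [h4] at h3
  exact Nat.eq_of_mul_eq_mul_left (pow_pos hp.out.pos _) h3

theorem eq_top_of_sup_phi_eq_top (hG : IsPGroup p G) {H : Subgroup G} (h : H ⊔ phi p G = ⊤) :
    H = ⊤ := by
  by_contra hH
  obtain ⟨M, hM, hHM⟩ := exists_index_le_of_ne_top hG hH
  have h1 : H ⊔ phi p G ≤ M := sup_le hHM (phi_le_of_index hM)
  rw [h, top_le_iff] at h1
  rw [h1, Subgroup.index_top] at hM
  exact hp.out.one_lt.ne hM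

theorem index_ker_of_ne_one (f : G →* Multiplicative (ZMod p)) (hf : f ≠ 1) : f.ker.index = p := by
  rw [Subgroup.index_ker]
  have hpr : (Nat.card (Multiplicative (ZMod p))).Prime := by rw [card_mult_zmod]; exact hp.out
  have : Fact (Nat.card (Multiplicative (ZMod p))).Prime := ⟨hpr⟩
  rcases Subgroup.eq_bot_or_eq_top_of_prime_card f.range with h | h
  · exfalso
    apply hf
    ext x
    have : f x ∈ f.range := ⟨x, rfl⟩
    rw [h, Subgroup.mem_bot] at this
    rw [this]; rfl
  · rw [h, Subgroup.card_top, card_mult_zmod]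

/-- a subgroup containing `phi` is normal -/
theorem normal_of_phi_le (hG : IsPGroup p G) {S : Subgroup G} (hS : phi p G ≤ S) : S.Normal := by
  constructor
  intro n hn g
  have h1 : ⁅g, n⁆ ∈ S := hS (commutator_le_phi hG (Subgroup.commutator_mem_commutator
    (Subgroup.mem_top g) (Subgroup.mem_top n)))
  have h2 : g * n * g⁻¹ = ⁅g, n⁆ * n := by
    rw [commutatorElement_def]; group
  rw [h2]
  exact S.mul_mem h1 hn

theorem exists_index_not_mem (hG : IsPGroup p G) {H : Subgroup G} (hH : phi p G ≤ H) {g : G}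
    (hg : g ∉ H) : ∃ M : Subgroup G, M.index = p ∧ H ≤ M ∧ g ∉ M := by
  classical
  -- a maximal subgroup `S ≥ H` avoiding `g`
  have hfin : {S : Subgroup G | H ≤ S ∧ g ∉ S}.Finite := Set.toFinite _
  obtain ⟨S, ⟨hHS, hgS⟩, hmax⟩ := hfin.exists_maximal (⟨H, le_refl H, hg⟩)
  have hmax' : ∀ T : Subgroup G, S ≤ T → g ∉ T → T ≤ S := by
    intro T hST hgT
    exact hmax ⟨hHS.trans hST, hgT⟩ hST
  have hphiS : phi p G ≤ S := hH.trans hHS
  have hSn : S.Normal := normal_of_phi_le hG hphiS
  refine ⟨S, ?_, hHS, hgS⟩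
  -- the quotient is generated by the image of `g`
  let π := QuotientGroup.mk' S
  have hπg : π g ≠ 1 := by
    intro h
    exact hgS ((QuotientGroup.eq_one_iff g).mp h)
  have hpow : ∀ q : G ⧸ S, q ^ p = 1 := by
    intro q
    obtain ⟨x, rfl⟩ := QuotientGroup.mk'_surjective S q
    rw [← map_pow]
    exact (QuotientGroup.eq_one_iff _).mpr (hphiS (pow_mem_phi hG x))
  have hall : ∀ q : G ⧸ S, q ∈ Subgroup.zpowers (π g) := by
    intro q
    obtain ⟨x, rfl⟩ := QuotientGroup.mk'_surjective S q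
    by_cases hx : x ∈ S
    · have : (QuotientGroup.mk' S) x = 1 := (QuotientGroup.eq_one_iff x).mpr hx
      rw [this]; exact Subgroup.one_mem _
    · -- `g ∈ S ⊔ zpowers x`
      have hgT : g ∈ S ⊔ Subgroup.zpowers x := by
        by_contra hgT
        have := hmax' (S ⊔ Subgroup.zpowers x) le_sup_left hgT
        exact hx (this (Subgroup.mem_sup_right (Subgroup.mem_zpowers x)))
      have h1 : π g ∈ (S ⊔ Subgroup.zpowers x).map π := Subgroup.mem_map_of_mem π hgT
      rw [Subgroup.map_sup, MonoidHom.map_zpowers] at h1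
      have h2 : S.map π = ⊥ := QuotientGroup.map_mk'_self S
      rw [h2, bot_sup_eq, Subgroup.mem_zpowers_iff] at h1
      obtain ⟨k, hk⟩ := h1
      have hq : (π x) ^ p = 1 := hpow _
      have hnd : ¬ (p : ℤ) ∣ k := by
        rintro ⟨c, rfl⟩
        apply hπg
        rw [← hk, zpow_mul, zpow_natCast, hq, one_zpow]
      have hcop : Int.gcd k p = 1 := by
        have h3 : IsCoprime (p : ℤ) k := (Nat.prime_iff_prime_int.mp hp.out).coprime_iff_not_dvd.mpr hnd
        have := Int.isCoprime_iff_gcd_eq_one.mp h3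
        rwa [Int.gcd_comm] at this
      have hbez := Int.gcd_eq_gcd_ab k p
      rw [hcop] at hbez
      rw [Subgroup.mem_zpowers_iff]
      refine ⟨Int.gcdA k p, ?_⟩
      have h4 : π x = (π x) ^ (1 : ℤ) := (zpow_one _).symm
      change (π g) ^ (Int.gcdA k p) = π x
      rw [h4, ← hk]
      have h5 : ((1 : ℕ) : ℤ) = 1 := rfl
      rw [← h5, hbez, zpow_add, zpow_mul, zpow_mul (π x) (p : ℤ), zpow_natCast (π x) p, hq, one_zpow,
        mul_one]
  have htop : Subgroup.zpowers (π g) = ⊤ := by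
    rw [eq_top_iff]; intro q _; exact hall q
  have hord : orderOf (π g) = p := orderOf_eq_prime (hpow _) hπg
  rw [Subgroup.index_eq_card, ← Subgroup.card_top (G := G ⧸ S), ← htop, Nat.card_zpowers, hord]

end Cfsg.Agent.Lib.Helper16.VLA
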